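import Cfsg.Statements.S0384
import Cfsg.Agent.H13.Transfer

set_option autoImplicit false
open scoped Pointwise
open Cfsg

namespace Cfsg.Agent.S0384

open Cfsg.Agent.H13 Cfsg.Agent.H13.Data MulAction Pointwise
open Cfsg.Agent.H12 (pt)

/-- A dodecad stabiliser is sharply 5-transitive on the dodecad. -/
theorem result (d : Finset Cfsg.GolayPt) (hd : d ∈ Cfsg.dodecads) (x y : Fin 5 ↪ Cfsg.GolayPt) (hx : ∀ i, x i ∈ d) (hy : ∀ i, y i ∈ d) : ∃! g : MulAction.stabilizer Cfsg.M24 d, ∀ i, ((g : Cfsg.M24) : Equiv.Perm Cfsg.GolayPt) (x i) = y i := by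
  obtain ⟨g, hg⟩ := S0368.result _ d sq_mem hd
  have hmem : ∀ z ∈ d, g⁻¹ • z ∈ Spor.squareDodecad := fun z hz => by
    rw [← hg] at hz
    exact Finset.inv_smul_mem_iff.mpr hz
  let x' : Fin 5 ↪ GolayPt := ⟨fun i => g⁻¹ • x i, fun i j h => x.injective (smul_left_cancel g⁻¹ h)⟩
  let y' : Fin 5 ↪ GolayPt := ⟨fun i => g⁻¹ • y i, fun i j h => y.injective (smul_left_cancel g⁻¹ h)⟩
  obtain ⟨h, hh, hxy⟩ := m12_map_tuple x' y' (fun i => hmem _ (hx i)) (fun i => hmem _ (hy i))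
  let h' : M24 := ⟨h, g12_le hh⟩
  have hd' : h' ∈ stabilizer M24 Spor.squareDodecad := by rw [stab12]; exact hh
  have he : g * h' * g⁻¹ ∈ stabilizer M24 d := by
    rw [mem_stabilizer_iff, mul_smul, mul_smul, inv_smul_eq_iff.mpr hg.symm,
      mem_stabilizer_iff.mp hd', hg]
  refine ⟨⟨_, he⟩, fun i => ?_, fun e hxe => ?_⟩
  · show (g * h' * g⁻¹) • x i = y i
    rw [mul_smul, mul_smul]
    show g • h (x' i) = y i
    rw [hxy]
    exact smul_inv_smul g (y i)
  · apply Subtype.ext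
    let k : M24 := g⁻¹ * (e : M24) * g
    have hk : (k : Equiv.Perm GolayPt) ∈ grp g12 := by
      have : k ∈ stabilizer M24 Spor.squareDodecad := by
        rw [mem_stabilizer_iff, mul_smul, mul_smul, hg, mem_stabilizer_iff.mp e.2,
          inv_smul_eq_iff.mpr hg.symm]
      rw [stab12] at this
      exact this
    have hkx : ∀ i, (k : Equiv.Perm GolayPt) (x' i) = y' i := fun i => by
      show (g⁻¹ * (e : M24) * g) • (g⁻¹ • x i) = g⁻¹ • y i
      rw [mul_smul, mul_smul, smul_inv_smul]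
      exact congrArg _ (hxe i)
    let b : Fin 5 ↪ GolayPt := ⟨![pt 0, pt 1, pt 2, pt 3, pt 4], by decide +kernel⟩
    obtain ⟨a, ha, hab⟩ := m12_map_tuple b x' (fun i => by
      have : ∀ i : Fin 5, H12.idx (![pt 0, pt 1, pt 2, pt 3, pt 4] i) ∈ sqList := by decide +kernel
      exact idx_mem_sqList.mp (this i)) (fun i => hmem _ (hx i))
    have hone : a⁻¹ * h⁻¹ * k * a = 1 := by
      refine grp_eq_one_of_fix m12Levels g12_valid m12_check
        (Subgroup.mul_mem _ (Subgroup.mul_mem _ (Subgroup.mul_mem _ (Subgroup.inv_mem _ ha)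
          (Subgroup.inv_mem _ hh)) hk) ha) ?_
      have key : ∀ i, (a⁻¹ * h⁻¹ * k * a : Equiv.Perm GolayPt) (b i) = b i := fun i => by
        rw [Equiv.Perm.mul_apply, hab, Equiv.Perm.mul_apply, hkx, ← hxy, Equiv.Perm.mul_apply,
          Equiv.Perm.coe_inv h, Equiv.symm_apply_apply, ← hab, Equiv.Perm.coe_inv a,
          Equiv.symm_apply_apply]
      intro l hl
      have hmem5 : ∀ n ∈ m12Levels.map Level.base, ∃ i : Fin 5, ![pt 0, pt 1, pt 2, pt 3, pt 4] i = pt n := by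
        decide +kernel
      obtain ⟨i, hi⟩ := hmem5 _ (List.mem_map_of_mem hl)
      rw [← hi]
      exact key i
    have hkh : k = h' := by
      apply Subtype.ext
      show (k : Equiv.Perm GolayPt) = h
      have h3 : a * (a⁻¹ * h⁻¹ * k * a) * a⁻¹ = a * 1 * a⁻¹ := by rw [hone]
      simp only [mul_assoc, mul_inv_cancel_left, mul_inv_cancel, mul_one] at h3
      exact (inv_mul_eq_one.mp h3).symm
    show (e : M24) = g * h' * g⁻¹
    rw [← hkh]
    simp [k, mul_assoc]

end Cfsg.Agent.S0384
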