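import Cfsg.Statements.S0428
import Cfsg.Agent.H10.SrgWitt

set_option autoImplicit false
open Pointwise
open Cfsg

namespace Cfsg.Agent.S0428

/-- The point-block graph of an S(3, 6, 22) is strongly regular with parameters (100, 22, 0, 6). -/
theorem result {α : Type*} [Fintype α] (hα : Fintype.card α = 22) {B : Set (Finset α)} (hB : Cfsg.IsSteinerSystem 3 6 B) [Fintype B] [DecidableRel (Cfsg.pointBlockGraph B).Adj] : (Cfsg.pointBlockGraph B).IsSRGWith 100 22 0 6 := by
  classical
  have hne : ∀ (b : B) (d : B), Disjoint (d : Finset α) (b : Finset α) → d ≠ b := by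
    intro b d hd e
    rw [e, disjoint_self, Finset.bot_eq_empty, ← Finset.card_eq_zero, hB.1 _ b.2] at hd
    omega
  -- the nine kinds of pairs of vertices
  have a00 : ¬ (Cfsg.pointBlockGraph B).Adj none none := fun h => h.ne rfl
  have a0p : ∀ a : α, (Cfsg.pointBlockGraph B).Adj none (some (.inl a)) := fun a => by
    simp [H10.pointBlockGraph_adj, Cfsg.pointBlockRel]
  have a0b : ∀ b : B, ¬ (Cfsg.pointBlockGraph B).Adj none (some (.inr b)) := fun b => by
    simp [H10.pointBlockGraph_adj, Cfsg.pointBlockRel]
  have app : ∀ a a' : α, ¬ (Cfsg.pointBlockGraph B).Adj (some (.inl a)) (some (.inl a')) := fun a a' => by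
    simp [H10.pointBlockGraph_adj, Cfsg.pointBlockRel]
  have apb : ∀ (a : α) (b : B), (Cfsg.pointBlockGraph B).Adj (some (.inl a)) (some (.inr b)) ↔ a ∈ (b : Finset α) :=
    fun a b => by simp [H10.pointBlockGraph_adj, Cfsg.pointBlockRel]
  have abb : ∀ b c : B, (Cfsg.pointBlockGraph B).Adj (some (.inr b)) (some (.inr c)) ↔ Disjoint (c : Finset α) b := by
    intro b c
    simp only [H10.pointBlockGraph_adj, Cfsg.pointBlockRel, ne_eq, Option.some.injEq,
      Sum.inr.injEq, disjoint_comm (a := (c : Finset α)), or_self]
    exact ⟨fun h => h.2, fun h => ⟨(hne b c h.symm).symm, h⟩⟩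
  have ap0 : ∀ a : α, (Cfsg.pointBlockGraph B).Adj (some (.inl a)) none := fun a => (a0p a).symm
  have ab0 : ∀ b : B, ¬ (Cfsg.pointBlockGraph B).Adj (some (.inr b)) none := fun b h => a0b b h.symm
  have abp : ∀ (a : α) (b : B), (Cfsg.pointBlockGraph B).Adj (some (.inr b)) (some (.inl a)) ↔ a ∈ (b : Finset α) :=
    fun a b => by rw [(Cfsg.pointBlockGraph B).adj_comm, apb]
  -- counting a set of vertices by kind
  have hsplit : ∀ P : Option (α ⊕ B) → Prop, Nat.card {v // P v}
      = (if P none then 1 else 0) + (Finset.univ.filter fun a : α => P (some (.inl a))).card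
        + (Finset.univ.filter fun b : B => P (some (.inr b))).card := by
    intro P
    rw [Nat.card_eq_fintype_card, Fintype.card_subtype, Finset.card_filter, Fintype.sum_option, Fintype.sum_sum_type,
      ← Finset.card_filter, ← Finset.card_filter, add_assoc]
  have hdeg : ∀ v, (Cfsg.pointBlockGraph B).degree v = Nat.card {w // (Cfsg.pointBlockGraph B).Adj v w} := fun v => by
    rw [← SimpleGraph.card_neighborFinset_eq_degree, Nat.card_eq_fintype_card, Fintype.card_subtype]
    congr 1; ext; simp
  have hcn : ∀ v w, Fintype.card ((Cfsg.pointBlockGraph B).commonNeighbors v w)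
      = Nat.card {x // (Cfsg.pointBlockGraph B).Adj v x ∧ (Cfsg.pointBlockGraph B).Adj w x} := fun v w =>
    Nat.card_eq_fintype_card.symm.trans <| Nat.card_congr (Equiv.subtypeEquivRight fun x => SimpleGraph.mem_commonNeighbors _)
  have h77 : Fintype.card B = 77 := by
    rw [← H10.s22_card_blocks hα hB, ← Finset.card_univ,
      ← Finset.card_map (Function.Embedding.subtype _)]
    congr 1
    ext d
    simp
  have h21 : ∀ a : α, (Finset.univ.filter fun b : B => a ∈ (b : Finset α)).card = 21 := fun a => by
    rw [H10.card_filter_subtype (fun d => a ∈ d)]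
    simpa using H10.s22_through hα hB a a
  refine ⟨by rw [Fintype.card_option, Fintype.card_sum, hα, h77], fun v => ?_, fun v w h => ?_,
    fun v w hvw h => ?_⟩
  · rw [hdeg, hsplit]
    rcases v with _ | a | b
    · simp [a00, a0p, a0b, hα]
    · simp [ap0, app, apb, h21]
    · simp only [if_neg (ab0 b), abp, abb, H10.card_filter_subtype (fun d => Disjoint d (b : Finset α)),
        H10.s22_disjoint_count hα hB b.2, Finset.filter_univ_mem, hB.1 _ b.2]
  · rw [hcn, hsplit]
    rcases v with _ | a | b <;> rcases w with _ | a' | c
    · exact absurd h a00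
    · simp [a00, a0p, a0b, app]
    · exact absurd h (a0b c)
    · simp [a00, a0p, a0b, app]
    · exact absurd h (app a a')
    · have hm := (apb a c).1 h
      simp only [ab0 c, app, apb, abb, and_false, false_and, if_false, Finset.filter_false,
        Finset.card_empty, zero_add, Finset.card_eq_zero, Finset.filter_eq_empty_iff]
      rintro d - ⟨had, hdc⟩
      exact Finset.disjoint_left.1 hdc had hm
    · exact absurd h (ab0 b)
    · have hm := (abp a' b).1 h
      simp only [ab0 b, app, apb, abb, and_false, false_and, if_false, Finset.filter_false,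
        Finset.card_empty, zero_add, Finset.card_eq_zero, Finset.filter_eq_empty_iff]
      rintro d - ⟨hdb, had⟩
      exact Finset.disjoint_left.1 hdb had hm
    · have hd := (abb b c).1 h
      simp only [ab0, abp, abb, and_self, if_false, H10.card_filter_subtype
        (fun d => Disjoint d (b : Finset α) ∧ Disjoint d (c : Finset α))]
      rw [H10.s22_disjoint_both hα hB b.2 c.2 (fun e => hne b c hd (Subtype.ext e.symm))]
      rw [show (Finset.univ.filter fun x : α => x ∈ (b : Finset α) ∧ x ∈ (c : Finset α))
          = (b : Finset α) ∩ c by ext; simp,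
        Finset.inter_comm, Finset.disjoint_iff_inter_eq_empty.1 hd]
      rfl
  · rw [hcn, hsplit]
    rcases v with _ | a | b <;> rcases w with _ | a' | c
    · exact absurd rfl hvw
    · exact absurd (a0p a') h
    · simp [a00, a0p, a0b, abp, hB.1 _ c.2]
    · exact absurd (ap0 a) h
    · have hne' : a ≠ a' := fun e => hvw (e ▸ rfl)
      have h5 := H10.s22_through hα hB a a'
      rw [if_neg hne', ← H10.card_filter_subtype] at h5
      simp only [ap0, app, apb, and_self, if_true, Finset.filter_false, Finset.card_empty, add_zero]
      simp only [Finset.insert_subset_iff, Finset.singleton_subset_iff] at h5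
      rw [h5]
    · have hm : a ∉ (c : Finset α) := fun e => h ((apb a c).2 e)
      simp only [ab0 c, app, apb, abb, and_false, false_and, if_false, Finset.filter_false,
        Finset.card_empty, zero_add, H10.card_filter_subtype
          (fun d => a ∈ d ∧ Disjoint d (c : Finset α))]
      exact H10.s22_point_disjoint hα hB c.2 hm
    · simp [a00, a0p, a0b, abp, hB.1 _ b.2]
    · have hm : a' ∉ (b : Finset α) := fun e => h ((abp a' b).2 e)
      simp only [ab0 b, app, apb, abb, and_false, false_and, if_false, Finset.filter_false,
        Finset.card_empty, zero_add]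
      rw [H10.card_filter_subtype (fun d => Disjoint d (b : Finset α) ∧ a' ∈ d),
        ← H10.s22_point_disjoint hα hB b.2 hm]
      exact congrArg Finset.card (Finset.filter_congr fun d _ => and_comm)
    · have hnd : ¬ Disjoint (c : Finset α) b := fun e => h ((abb b c).2 e)
      have hbc : (b : Finset α) ≠ c := fun e => hvw (by rw [Subtype.ext e])
      simp only [ab0, abp, abb, and_self, if_false, H10.card_filter_subtype
        (fun d => Disjoint d (b : Finset α) ∧ Disjoint d (c : Finset α))]
      rw [H10.s22_disjoint_both hα hB b.2 c.2 hbc,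
        show (Finset.univ.filter fun x : α => x ∈ (b : Finset α) ∧ x ∈ (c : Finset α))
          = (b : Finset α) ∩ c by ext; simp]
      rcases H10.s22_inter hα hB b.2 c.2 hbc with e | e
      · exact absurd (Finset.disjoint_iff_inter_eq_empty.2 (Finset.card_eq_zero.1 e)).symm hnd
      · rw [e]

end Cfsg.Agent.S0428
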