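import Cfsg.Statements.S3863
import Mathlib

set_option autoImplicit false
open Cfsg

namespace Cfsg.Agent.S3863

/-- Let x be an element of the finite group G that is conjugate to its inverse. Then some 2-element conjugates x to its inverse; if the conjugacy class of x has odd size then x ^ 2 = 1; and x lies in, and is conjugate to its inverse inside, every normal subgroup of odd index. -/
theorem result {G : Type*} [Group G] [Finite G] (x : G) (hx : IsConj x x⁻¹) : (∃ t : G, (∃ j : ℕ, orderOf t = 2 ^ j) ∧ t * x * t⁻¹ = x⁻¹) ∧ (Odd (Subgroup.centralizer ({x} : Set G)).index → x ^ 2 = 1) ∧ ∀ (N : Subgroup G) [N.Normal], Odd N.index → ∃ hxN : x ∈ N, IsConj (⟨x, hxN⟩ : N) (⟨x, hxN⟩ : N)⁻¹ := by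
  obtain ⟨g, hg⟩ := isConj_iff.1 hx
  obtain ⟨k, m, hm, hgk⟩ := Nat.exists_eq_two_pow_mul_odd (orderOf_pos g).ne'
  have hpow : ∀ i : ℕ, g ^ i * x * (g ^ i)⁻¹ = if Even i then x else x⁻¹ := by
    intro i
    induction i with
    | zero => simp
    | succ i ih =>
      have : g ^ (i + 1) * x * (g ^ (i + 1))⁻¹ = g * (g ^ i * x * (g ^ i)⁻¹) * g⁻¹ := by
        rw [pow_succ']; group
      rw [this, ih]
      by_cases hi : Even i
      · simp [hi, Nat.even_add_one, hg]
      · simp only [hi, Nat.even_add_one, not_false_eq_true, if_true, if_false]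
        rw [← inv_inj]
        simp only [mul_inv_rev, inv_inv]
        rw [← mul_assoc, hg]
  have hodd : ¬ Even m := Nat.not_even_iff_odd.2 hm
  refine ⟨⟨g ^ m, ⟨k, ?_⟩, by simpa [hodd] using hpow m⟩, ?_, ?_⟩
  · rw [orderOf_pow' g (by rintro rfl; simp at hodd), hgk]
    rw [Nat.gcd_eq_right (Dvd.intro_left _ rfl), Nat.mul_div_cancel]
    exact hm.pos
  · intro hci
    classical
    set S := {y : G | IsConj x y} with hS
    have horb : Nat.card S = (Subgroup.centralizer ({x} : Set G)).index := by
      have h1 : MulAction.orbit (ConjAct G) x = S := by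
        ext y
        rw [ConjAct.mem_orbit_conjAct, hS]
        exact isConj_comm
      have h2 : (Subgroup.centralizer ({x} : Set G)).index = (MulAction.stabilizer (ConjAct G) x).index := by
        rw [ConjAct.stabilizer_eq_centralizer x]
        rfl
      rw [h2, MulAction.index_stabilizer, h1, Nat.card_coe_set_eq]
    let f : S → S := fun y => ⟨y.1⁻¹, by
      have h1 : IsConj x y.1 := y.2
      obtain ⟨c, hc⟩ := isConj_iff.1 h1
      refine isConj_iff.2 ⟨c * g, ?_⟩
      rw [← hc, conj_inv, ← hg]
      group⟩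
    have hf : Function.Involutive f := fun y => Subtype.ext (inv_inv y.1)
    have : Fintype S := Fintype.ofFinite S
    by_contra hne
    have h2 : Function.fixedPoints f = (∅ : Set S) := by
      ext y
      simp only [Function.mem_fixedPoints, Function.IsFixedPt, Set.mem_empty_iff_false, iff_false]
      intro hy
      have hy' : y.1⁻¹ = y.1 := congrArg Subtype.val hy
      have h1 : IsConj x y.1 := y.2
      obtain ⟨c, hc⟩ := isConj_iff.1 h1
      apply hne
      rw [← hc, conj_inv] at hy'
      have hxx : x⁻¹ = x := mul_left_cancel (mul_right_cancel hy')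
      rw [sq]
      nth_rewrite 1 [← hxx]
      exact inv_mul_cancel x
    have h3 : Fintype.card S % 2 = 0 := by
      have := Equiv.Perm.card_fixedPoints_modEq (p := 2) (n := 1) (f := f) (by
        funext y; exact hf y)
      simpa [Nat.ModEq, h2] using this
    rw [← Nat.card_eq_fintype_card, horb] at h3
    have := hci
    rw [Nat.odd_iff] at this
    omega
  · intro N _ hN
    have key : ∀ q : G ⧸ N, (∃ j : ℕ, q ^ (2 ^ j) = 1) → q = 1 := by
      rintro q ⟨j, hj⟩
      rw [← orderOf_eq_one_iff]
      refine Nat.eq_one_of_dvd_coprimes (a := 2 ^ j) (b := N.index) ?_ (orderOf_dvd_of_pow_eq_one hj) ?_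
      · exact Nat.Coprime.pow_left _ (Nat.coprime_two_left.2 hN)
      · rw [Subgroup.index_eq_card]; exact orderOf_dvd_natCard q
    have ht : g ^ m ∈ N := by
      rw [← QuotientGroup.eq_one_iff]
      apply key
      refine ⟨k, ?_⟩
      rw [← QuotientGroup.mk_pow, ← pow_mul, mul_comm m, ← hgk, pow_orderOf_eq_one]
      rfl
    have htx : g ^ m * x * (g ^ m)⁻¹ = x⁻¹ := by simpa [hodd] using hpow m
    have hxN : x ∈ N := by
      rw [← QuotientGroup.eq_one_iff]
      apply key
      refine ⟨1, ?_⟩
      have h1 := congrArg (QuotientGroup.mk (s := N)) htx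
      simp only [QuotientGroup.mk_mul, QuotientGroup.mk_inv, (QuotientGroup.eq_one_iff _).2 ht,
        one_mul, inv_one, mul_one] at h1
      rw [pow_one, sq]
      nth_rewrite 1 [h1]
      exact inv_mul_cancel _
    refine ⟨hxN, isConj_iff.2 ⟨⟨g ^ m, ht⟩, ?_⟩⟩
    ext
    simpa using htx

end Cfsg.Agent.S3863
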