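import Cfsg.Statements.S3861
import Mathlib
import Cfsg.Agent.H19.Cores
import Cfsg.Agent.H28.BaerSuzuki
import Cfsg.Agent.H28.Dihedral
import Cfsg.Agent.H56.Coprime
import Cfsg.Agent.S3863

set_option autoImplicit false
open Cfsg

namespace Cfsg.Agent.S3861


/-- An involution outside `O_2(X)` inverts a non-trivial element of odd order. -/
theorem exists_real_of_involution {X : Type*} [Group X] [Finite X] {z : X} (hz : z * z = 1)
    (hzO : z ∉ Cfsg.pCore 2 X) : ∃ w : X, w ≠ 1 ∧ Odd (orderOf w) ∧ IsConj w w⁻¹ := by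
  by_contra hno
  push Not at hno
  apply hzO
  obtain ⟨N, hN, hNp, hzN⟩ := H28.baer_suzuki_element (p := 2) z (fun g => by
    have hz1 : z ≠ 1 := fun h => hzO (h ▸ one_mem _)
    set z' := g * z * g⁻¹ with hz'
    have hz'2 : z' * z' = 1 := by
      rw [hz']
      calc g * z * g⁻¹ * (g * z * g⁻¹) = g * (z * z) * g⁻¹ := by group
        _ = 1 := by rw [hz]; group
    have hz'1 : z' ≠ 1 := by rw [hz']; simpa using hz1
    obtain ⟨e⟩ := H28.closure_pair_dihedral hz hz'2 hz1 hz'1
    obtain ⟨k, m, hm, hkm⟩ := Nat.exists_eq_two_pow_mul_odd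
      (isOfFinOrder_of_finite (z * z')).orderOf_pos.ne'
    -- the odd part of `z z'` is real
    have hm1 : m = 1 := by
      by_contra hm1
      set w := (z * z') ^ (2 ^ k) with hw
      have hwo : orderOf w = m := by
        rw [hw, orderOf_pow' _ (by positivity), hkm,
          Nat.gcd_eq_right (Dvd.intro _ rfl), Nat.mul_div_cancel_left _ (by positivity)]
      have hinv : z * (z * z') * z⁻¹ = (z * z')⁻¹ := by
        rw [mul_inv_rev, inv_eq_of_mul_eq_one_right hz'2, inv_eq_of_mul_eq_one_right hz]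
        rw [← mul_assoc, hz, one_mul]
      refine hno w (fun h => hm1 (by rw [← hwo, h, orderOf_one])) (hwo ▸ hm) ?_
      refine isConj_iff.2 ⟨z, ?_⟩
      rw [hw, ← conj_pow, hinv, inv_pow]
    rw [hm1, mul_one] at hkm
    refine IsPGroup.of_card (n := k + 1) ?_
    rw [Nat.card_congr e.toEquiv, DihedralGroup.nat_card, hkm, pow_succ']) 
  exact H19.le_pCore hN hNp hzN


/-- A finite group G has no non-identity element of odd order that is conjugate to its inverse if and only if the Sylow 2-subgroups of G are normal. -/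
theorem result {G : Type*} [Group G] [Finite G] (P : Sylow 2 G) : (∀ x : G, x ≠ 1 → Odd (orderOf x) → ¬ IsConj x x⁻¹) ↔ (P : Subgroup G).Normal := by
  constructor
  · intro h
    haveI := H19.pCore_normal 2 G
    set N := Cfsg.pCore 2 G with hN
    have hNp : IsPGroup 2 N := H19.pCore_isPGroup 2
    -- no non-trivial odd element of `G ⧸ N` is conjugate to its inverse
    have hq : ∀ x : G ⧸ N, x ≠ 1 → Odd (orderOf x) → ¬ IsConj x x⁻¹ := by
      intro x hx hodd hconj
      obtain ⟨g, rfl⟩ := QuotientGroup.mk'_surjective N x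
      obtain ⟨k, m, hm, hkm⟩ := Nat.exists_eq_two_pow_mul_odd
        (isOfFinOrder_of_finite g).orderOf_pos.ne'
      set y := g ^ (2 ^ k) with hy
      have hyo : orderOf y = m := by
        rw [hy, orderOf_pow' _ (by positivity), hkm,
          Nat.gcd_eq_right (Dvd.intro _ rfl), Nat.mul_div_cancel_left _ (by positivity)]
      obtain ⟨c, hc⟩ := isConj_iff.1 hconj
      obtain ⟨t, rfl⟩ := QuotientGroup.mk'_surjective N c
      have hy1 : QuotientGroup.mk' N y ≠ 1 := by
        rw [hy, map_pow]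
        intro h1
        have hd := orderOf_dvd_of_pow_eq_one h1
        have := Nat.eq_one_of_dvd_coprimes ((Nat.coprime_two_left.2 hodd).pow_left k) hd dvd_rfl
        exact hx (orderOf_eq_one_iff.1 this)
      have hyc : (t * y * t⁻¹) * y ∈ N := by
        rw [← QuotientGroup.eq_one_iff]
        show QuotientGroup.mk' N (t * y * t⁻¹ * y) = 1
        rw [map_mul, map_mul, map_mul, map_inv, hy, map_pow, ← conj_pow, hc, inv_pow, inv_mul_cancel]
      have hmN : Nat.Coprime m (Nat.card N) := by
        obtain ⟨j, hj⟩ := IsPGroup.iff_card.1 hNp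
        rw [hj]
        exact (Nat.coprime_two_left.2 hm).symm.pow_right j
      obtain ⟨n, hn, hne⟩ := H56.exists_conj_of_coset_of_coprime m N y⁻¹ (t * y * t⁻¹)
        (by rw [Subgroup.normalizer_eq_top_iff.2 (inferInstance : N.Normal)]; trivial)
        (by rw [← hyo, inv_pow, pow_orderOf_eq_one, inv_one])
        (by rw [← hyo, conj_pow, pow_orderOf_eq_one]; group)
        (by simpa using hyc) hmN
      refine h y (fun h1 => hy1 (by rw [h1, map_one])) (hyo ▸ hm) (isConj_iff.2 ⟨n * t, ?_⟩)
      rw [← hne]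
      group
    have hnoinv : ¬ 2 ∣ Nat.card (G ⧸ N) := by
      intro hd
      obtain ⟨z, hz⟩ := exists_prime_orderOf_dvd_card' 2 hd
      have hzO : z ∉ Cfsg.pCore 2 (G ⧸ N) := by
        rw [H19.pCore_quotient_pCore, Subgroup.mem_bot]
        intro h1
        rw [h1, orderOf_one] at hz
        omega
      obtain ⟨w, hw1, hwo, hwc⟩ := exists_real_of_involution
        (by rw [← sq, ← hz, pow_orderOf_eq_one]) hzO
      exact hq w hw1 hwo hwc
    have hPN : (P : Subgroup G) = N := by
      refine le_antisymm (fun x hx => ?_) (H19.pCore_le_sylow P)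
      rw [← QuotientGroup.eq_one_iff, ← orderOf_eq_one_iff]
      obtain ⟨j, hj⟩ := IsPGroup.iff_orderOf.1 P.isPGroup' ⟨x, hx⟩
      rw [Subgroup.orderOf_mk] at hj
      refine Nat.eq_one_of_dvd_coprimes ((Nat.prime_two.coprime_iff_not_dvd.2 hnoinv).pow_left j) ?_
        (orderOf_dvd_natCard _)
      rw [← hj]
      exact orderOf_map_dvd (QuotientGroup.mk' N) x
    rw [hPN]
    infer_instance
  · intro hP x hx1 hodd hconj
    obtain ⟨⟨t, ⟨j, hj⟩, htx⟩, -, -⟩ := Cfsg.Agent.S3863.result x hconj
    obtain ⟨S, hS⟩ := (IsPGroup.of_card (p := 2) (G := Subgroup.zpowers t) (n := j)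
      (by rw [Nat.card_zpowers, hj])).exists_le_sylow
    have hSP : S = P := by
      letI := Sylow.unique_of_normal P hP
      exact Subsingleton.elim _ _
    have htP : t ∈ (P : Subgroup G) := hSP ▸ hS (Subgroup.mem_zpowers t)
    have h2 : x⁻¹ * x⁻¹ ∈ (P : Subgroup G) := by
      have := mul_mem htP (hP.conj_mem _ (inv_mem htP) x)
      rw [← htx] at *
      simpa [mul_assoc] using this
    obtain ⟨i, hi⟩ := IsPGroup.iff_orderOf.1 P.isPGroup' ⟨_, h2⟩
    rw [Subgroup.orderOf_mk] at hi
    have hd : orderOf (x⁻¹ * x⁻¹) ∣ orderOf x := by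
      refine orderOf_dvd_of_pow_eq_one ?_
      rw [(Commute.refl x⁻¹).mul_pow, inv_pow, pow_orderOf_eq_one]; simp
    have h3 : orderOf (x⁻¹ * x⁻¹) = 1 := Nat.eq_one_of_dvd_coprimes
      ((Nat.coprime_two_left.2 hodd).pow_left i) hi.dvd hd
    apply hx1
    rw [← orderOf_eq_one_iff]
    refine Nat.eq_one_of_dvd_coprimes (Nat.coprime_two_left.2 hodd) ?_ dvd_rfl
    refine orderOf_dvd_of_pow_eq_one ?_
    have h4 := congrArg Inv.inv (orderOf_eq_one_iff.1 h3)
    simpa [sq] using h4

end Cfsg.Agent.S3861
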