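import Cfsg.Statements.S0547
import Cfsg.Agent.H32.Primitive

set_option autoImplicit false
open Cfsg

namespace Cfsg.Agent.S0547

/-- Let a finite solvable group G act faithfully and primitively on a set, and let M be a minimal normal subgroup of G. Then M is transitive with trivial point stabilizers, and the number of points equals the order of M, which is a prime power p ^ d with d ≥ 1. -/
theorem result {G : Type*} [Group G] [Finite G] [Group.IsSolvable G] {Ω : Type*} [Nonempty Ω] [MulAction G Ω] [FaithfulSMul G Ω] (hprim : MulAction.IsPreprimitive G Ω) (M : Subgroup G) [M.Normal] (hM : M ≠ ⊥) (hmin : ∀ K : Subgroup G, K.Normal → K ≤ M → K = ⊥ ∨ K = M) : MulAction.IsPretransitive M Ω ∧ (∀ ω : Ω, MulAction.stabilizer M ω = ⊥) ∧ ∃ p d : ℕ, p.Prime ∧ 0 < d ∧ Nat.card Ω = p ^ d ∧ Nat.card M = p ^ d := by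
  have hq : MulAction.IsQuasiPreprimitive G Ω := inferInstance
  have hne : MulAction.fixedPoints M Ω ≠ Set.univ := by
    intro h
    apply hM
    rw [eq_bot_iff]
    intro m hm
    rw [Subgroup.mem_bot]
    apply FaithfulSMul.eq_of_smul_eq_smul (α := Ω)
    intro ω
    rw [one_smul]
    exact (Set.eq_univ_iff_forall.mp h ω) ⟨m, hm⟩
  have htr : MulAction.IsPretransitive M Ω := hq.isPretransitive_of_normal hne
  obtain ⟨hMc, p, hp, hMp, -⟩ := Cfsg.Agent.H19.minimalNormal_elementary M inferInstance hM hmin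
  have hstab : ∀ ω : Ω, MulAction.stabilizer M ω = ⊥ := by
    intro ω
    rw [eq_bot_iff]
    intro m hm
    rw [Subgroup.mem_bot]
    apply Subtype.ext
    apply FaithfulSMul.eq_of_smul_eq_smul (α := Ω)
    intro ω'
    obtain ⟨n, rfl⟩ := MulAction.exists_smul_eq M ω ω'
    show m • n • ω = (1 : G) • n • ω
    rw [one_smul, ← mul_smul, hMc.is_comm.comm m n, mul_smul, MulAction.mem_stabilizer_iff.mp hm]
  refine ⟨htr, hstab, ?_⟩
  have : Fact p.Prime := ⟨hp⟩
  obtain ⟨d, hd⟩ := IsPGroup.iff_card.mp hMp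
  obtain ⟨ω⟩ := ‹Nonempty Ω›
  have hbij : Function.Bijective (fun m : M => m • ω) := by
    refine ⟨fun a b hab => ?_, MulAction.surjective_smul M ω⟩
    have hmem : b⁻¹ * a ∈ MulAction.stabilizer M ω := by
      rw [MulAction.mem_stabilizer_iff, mul_smul]
      exact (congrArg (b⁻¹ • ·) hab).trans (inv_smul_smul b ω)
    rw [hstab ω, Subgroup.mem_bot, inv_mul_eq_one] at hmem
    exact hmem.symm
  refine ⟨p, d, hp, Nat.pos_of_ne_zero fun h => hM ?_, ?_, hd⟩
  · rw [h, pow_zero] at hd
    exact Subgroup.card_eq_one.mp hd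
  · rw [← Nat.card_eq_of_bijective _ hbij, hd]

end Cfsg.Agent.S0547
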