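import Cfsg.Statements.S0735
import Mathlib

set_option autoImplicit false
open Cfsg
open scoped Pointwise

namespace Cfsg.Agent.S0735

/-- A 2-homogeneous permutation group (transitive on 2-subsets) of even order is doubly transitive; a non-trivial 2-homogeneous group is primitive. -/
theorem result {α : Type*} [Fintype α] [DecidableEq α] (G : Subgroup (Equiv.Perm α)) (h2 : MulAction.IsPretransitive G (Set.powersetCard α 2)) (hα : 3 ≤ Fintype.card α) : (Even (Nat.card G) → MulAction.IsMultiplyPretransitive G α 2) ∧ (G ≠ ⊥ → MulAction.IsPreprimitive G α) := by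
  classical
  have h2' : ∀ a b c d : α, a ≠ b → c ≠ d → ∃ g : G, (g • a = c ∧ g • b = d) ∨ (g • a = d ∧ g • b = c) := by
    intro a b c d hab hcd
    obtain ⟨g, hg⟩ := MulAction.exists_smul_eq G (⟨{a, b}, Finset.card_pair hab⟩ : Set.powersetCard α 2) ⟨{c, d}, Finset.card_pair hcd⟩
    refine ⟨g, ?_⟩
    have h := congrArg (fun s : Set.powersetCard α 2 => (s : Finset α)) hg
    simp only [Set.powersetCard.coe_smul] at h
    have ha : g • a ∈ ({c, d} : Finset α) := h ▸ Finset.smul_mem_smul_finset (by simp)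
    have hb : g • b ∈ ({c, d} : Finset α) := h ▸ Finset.smul_mem_smul_finset (by simp)
    have hne : g • a ≠ g • b := fun e => hab (smul_left_cancel g e)
    simp only [Finset.mem_insert, Finset.mem_singleton] at ha hb
    rcases ha with ha | ha <;> rcases hb with hb | hb <;> simp_all
  constructor
  · intro hev
    obtain ⟨t, ht⟩ := exists_prime_orderOf_dvd_card' (G := G) 2 hev.two_dvd
    obtain ⟨u, hu⟩ : ∃ u : α, t • u ≠ u := by
      by_contra hall
      push Not at hall
      have : t = 1 := Subtype.ext (Equiv.ext hall)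
      rw [this, orderOf_one] at ht
      omega
    have htt : t • (t • u) = u := by
      rw [← mul_smul, ← pow_two, ← ht, pow_orderOf_eq_one, one_smul]
    rw [MulAction.is_two_pretransitive_iff]
    intro a b c d hab hcd
    obtain ⟨g, hg⟩ := h2' a b u (t • u) hab hu.symm
    obtain ⟨k, hk⟩ := h2' u (t • u) c d hu.symm hcd
    rcases hg with ⟨g1, g2⟩ | ⟨g1, g2⟩ <;> rcases hk with ⟨k1, k2⟩ | ⟨k1, k2⟩
    · exact ⟨k * g, by rw [mul_smul, g1, k1], by rw [mul_smul, g2, k2]⟩
    · refine ⟨k * t * g, ?_, ?_⟩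
      · rw [mul_smul, g1, mul_smul, k2]
      · rw [mul_smul, g2, mul_smul, htt, k1]
    · refine ⟨k * t * g, ?_, ?_⟩
      · rw [mul_smul, g1, mul_smul, htt, k1]
      · rw [mul_smul, g2, mul_smul, k2]
    · exact ⟨k * g, by rw [mul_smul, g1, k2], by rw [mul_smul, g2, k1]⟩
  · intro _
    have htrans : MulAction.IsPretransitive G α := by
      constructor
      intro x y
      by_cases hxy : x = y
      · exact ⟨1, by rw [hxy, one_smul]⟩
      by_contra hne
      push Not at hne
      obtain ⟨z, -, hz⟩ := Finset.exists_mem_notMem_of_card_lt_card (s := ({x, y} : Finset α)) (t := Finset.univ)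
        (by rw [Finset.card_univ, Finset.card_pair hxy]; omega)
      simp only [Finset.mem_insert, Finset.mem_singleton, not_or] at hz
      obtain ⟨g, hg⟩ := h2' x z y z (Ne.symm hz.1) (Ne.symm hz.2)
      rcases hg with ⟨g1, -⟩ | ⟨g1, g2⟩
      · exact hne g g1
      · exact hne (g * g) (by rw [mul_smul, g1, g2])
    refine ⟨fun {B} hB => ?_⟩
    by_cases hs : B.Subsingleton
    · exact Or.inl hs
    right
    rw [Set.not_subsingleton_iff] at hs
    obtain ⟨a, ha, b, hb, hab⟩ := hs
    refine Set.eq_univ_of_forall fun c => ?_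
    by_cases hca : c = a
    · rwa [hca]
    obtain ⟨g, hg⟩ := h2' a b a c hab (Ne.symm hca)
    have hga : a ∈ g • B := by
      rcases hg with ⟨g1, -⟩ | ⟨-, g2⟩
      · exact ⟨a, ha, g1⟩
      · exact ⟨b, hb, g2⟩
    have hgc : c ∈ g • B := by
      rcases hg with ⟨-, g2⟩ | ⟨g1, -⟩
      · exact ⟨b, hb, g2⟩
      · exact ⟨a, ha, g1⟩
    rcases (MulAction.isBlock_iff_smul_eq_or_disjoint.1 hB) g with e | e
    · rwa [e] at hgc
    · exact absurd ha (Set.disjoint_left.1 e hga)

end Cfsg.Agent.S0735
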