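import Cfsg.Statements.S5395
import Cfsg.Agent.H18.Extraspecial

set_option autoImplicit false
open Cfsg

namespace Cfsg.Agent.S5395

/-- For a finite extraspecial 2-group E, an automorphism of E that induces the identity on E modulo its centre is inner (so these automorphisms form exactly the inner automorphism group, an elementary abelian 2-group of order |E|/2). -/
theorem result {E : Type*} [Group E] [Finite E] (hE : Cfsg.IsExtraspecial 2 E) (φ : E ≃* E) (hφ : ∀ x : E, φ x * x⁻¹ ∈ Subgroup.center E) : ∃ g : E, ∀ x : E, φ x = g * x * g⁻¹ := by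
  classical
  obtain ⟨z, hz1, hzz, hmem⟩ := H18.center_eq_pair hE
  have hz : z ∈ Subgroup.center E := (hmem z).mpr (Or.inr rfl)
  let f : E →* Subgroup.center E :=
    { toFun := fun x => ⟨φ x * x⁻¹, hφ x⟩
      map_one' := Subtype.ext (by simp)
      map_mul' := fun a b => by
        apply Subtype.ext
        show φ (a * b) * (a * b)⁻¹ = φ a * a⁻¹ * (φ b * b⁻¹)
        have hb := Subgroup.mem_center_iff.mp (hφ b)
        rw [map_mul, mul_inv_rev, hb (φ a * a⁻¹)]
        calc φ a * φ b * (b⁻¹ * a⁻¹) = φ a * (φ b * b⁻¹) * a⁻¹ := by group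
          _ = φ b * b⁻¹ * φ a * a⁻¹ := by rw [hb (φ a)]
          _ = φ b * b⁻¹ * (φ a * a⁻¹) := by group }
  by_cases hf : ∀ x : E, f x = 1
  · refine ⟨1, fun x => ?_⟩
    have h := congrArg Subtype.val (hf x)
    change φ x * x⁻¹ = 1 at h
    rw [mul_inv_eq_one] at h
    rw [h]; group
  push Not at hf
  obtain ⟨x₀, hx₀⟩ := hf
  have hker : Subgroup.center E ≤ f.ker := by
    intro w hw
    have hw' : w ∈ ⁅(⊤ : Subgroup E), (⊤ : Subgroup E)⁆ := by rw [← commutator_def, hE.1.2.2]; exact hw
    refine (Subgroup.commutator_le (H₁ := (⊤ : Subgroup E)) (H₂ := ⊤) (H₃ := f.ker)).mpr ?_ hw'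
    intro a _ b _
    rw [MonoidHom.mem_ker, map_commutatorElement, commutatorElement_eq_one_iff_mul_comm]
    exact Subtype.ext ((Subgroup.mem_center_iff.mp (f b).2 (f a)))
  have hne : f.range ≠ ⊥ := fun h => hx₀ (Subgroup.mem_bot.mp (h ▸ ⟨x₀, rfl⟩ : f x₀ ∈ (⊥ : Subgroup _)))
  have hrange : 2 ≤ Nat.card f.range := by
    have := Subgroup.one_lt_card_iff_ne_bot f.range |>.mpr hne
    omega
  have hle := H18.index_centralizer_mul_le hE f.ker hker
  have hkc : Nat.card f.ker * Nat.card f.range = Nat.card E := by
    rw [← Subgroup.index_ker]; exact Subgroup.card_mul_index _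
  have hcard := Subgroup.index_mul_card (Subgroup.centralizer (f.ker : Set E))
  have hbig : ¬ Subgroup.centralizer (f.ker : Set E) ≤ Subgroup.center E := by
    intro h
    have h2 := Nat.card_le_card_of_injective _ (Subgroup.inclusion_injective h)
    rw [hE.2] at h2
    have hi : Nat.card E ≤ Nat.card f.ker := by
      calc Nat.card E = _ := hcard.symm
        _ ≤ (Subgroup.centralizer (f.ker : Set E)).index * 2 := by gcongr
        _ ≤ _ := hle
    have hk0 : 0 < Nat.card f.ker := Nat.card_pos
    nlinarith
  obtain ⟨g, hg, hgZ⟩ := SetLike.not_le_iff_exists.mp hbig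
  refine ⟨g, fun x => ?_⟩
  by_cases hx : x ∈ f.ker
  · have h := congrArg Subtype.val (MonoidHom.mem_ker.mp hx)
    change φ x * x⁻¹ = 1 at h
    rw [mul_inv_eq_one] at h
    rw [h, ← hg x hx, mul_inv_cancel_right]
  · have h1 : φ x * x⁻¹ = z := by
      rcases (hmem _).mp (hφ x) with h | h
      · exact absurd (MonoidHom.mem_ker.mpr (Subtype.ext h)) hx
      · exact h
    have h2 : g * x * g⁻¹ * x⁻¹ = z := by
      rcases (hmem _).mp (H18.commutator_mem_center hE g x) with h | h
      · exfalso
        have hgx := commutatorElement_eq_one_iff_mul_comm.mp h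
        apply hgZ
        rw [Subgroup.mem_center_iff]
        intro y
        by_cases hy : y ∈ f.ker
        · exact hg y hy
        · have hyx : y * x⁻¹ ∈ f.ker := by
            have h3 : ∀ w, w ∉ f.ker → (f w : E) = z := fun w hw =>
              ((hmem _).mp (f w).2).resolve_left fun h => hw (MonoidHom.mem_ker.mpr (Subtype.ext h))
            rw [MonoidHom.mem_ker, map_mul, map_inv, mul_inv_eq_one]
            exact Subtype.ext ((h3 y hy).trans (h3 x hx).symm)
          have h4 := hg _ hyx
          calc y * g = (y * x⁻¹) * (x * g) := by group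
            _ = (y * x⁻¹) * (g * x) := by rw [hgx]
            _ = (y * x⁻¹ * g) * x := by group
            _ = (g * (y * x⁻¹)) * x := by rw [h4]
            _ = g * y := by group
      · exact h
    exact mul_right_cancel (h1.trans h2.symm)

end Cfsg.Agent.S5395
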