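import Cfsg.Statements.S4231
import Cfsg.Agent.H62.AutAlternating
import Cfsg.Agent.H89.AutAltThree

set_option autoImplicit false
open Cfsg

namespace Cfsg.Agent.S4231
open Equiv

/-- A `p`-group of permutations of fewer than `p²` points is abelian. -/
theorem commute_of_isPGroup {α : Type*} [Finite α] {p : ℕ} [Fact p.Prime]
    (hn : Nat.card α < p ^ 2) (P : Subgroup (Perm α)) (hP : IsPGroup p P) (a b : P) :
    a * b = b * a := by
  classical
  refine Subtype.ext (Equiv.ext fun x => ?_)
  haveI : Fintype (MulAction.orbit P x) := Fintype.ofFinite _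
  have hsm : Nat.card (MulAction.orbit P x) ≤ p := by
    obtain ⟨k, hk⟩ := hP.card_orbit x
    have hle : Nat.card (MulAction.orbit P x) ≤ Nat.card α :=
      Nat.card_le_card_of_injective _ Subtype.val_injective
    rw [hk] at hle ⊢
    have hk2 : k < 2 := (Nat.pow_lt_pow_iff_right (Fact.out : p.Prime).one_lt).1 (hle.trans_lt hn)
    calc p ^ k ≤ p ^ 1 := Nat.pow_le_pow_right (Fact.out : p.Prime).pos (by omega)
      _ = p := pow_one p
  let f : P →* Perm (MulAction.orbit P x) := MulAction.toPermHom P _
  have hR : IsPGroup p f.range := hP.of_surjective f.rangeRestrict f.rangeRestrict_surjective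
  obtain ⟨k, hk⟩ := hR.exists_card_eq
  have hdvd : p ^ k ∣ (Nat.card (MulAction.orbit P x)).factorial := by
    rw [← hk, ← Nat.card_perm]; exact f.range.card_subgroup_dvd_card
  have hk1 : k ≤ 1 := by
    by_contra hlt
    have h2 : p ^ 2 ∣ p.factorial :=
      ((pow_dvd_pow p (by omega : 2 ≤ k)).trans hdvd).trans (Nat.factorial_dvd_factorial hsm)
    rw [pow_two, ← Nat.mul_factorial_pred (Fact.out : p.Prime).ne_zero,
      Nat.mul_dvd_mul_iff_left (Fact.out : p.Prime).pos,
      (Fact.out : p.Prime).dvd_factorial] at h2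
    have := (Fact.out : p.Prime).pos
    omega
  have hcyc : ∀ u v : f.range, u * v = v * u := by
    interval_cases k
    · haveI : Subsingleton f.range := Finite.card_le_one_iff_subsingleton.1 (by rw [hk]; simp)
      exact fun u v => Subsingleton.elim _ _
    · haveI := isCyclic_of_prime_card (α := f.range) (p := p) (by rw [hk, pow_one])
      exact fun u v => IsCyclic.commutative.is_comm.comm u v
  have h := congrArg (fun g : f.range => ((g : Perm (MulAction.orbit P x)) ⟨x, MulAction.mem_orbit_self x⟩ : α))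
    (hcyc (f.rangeRestrict a) (f.rangeRestrict b))
  exact h

/-- Transfer to a group of automorphisms which is the image of permutations. -/
theorem sylow_commutative {n : ℕ} (hn : 4 ≤ n) (G : Subgroup (MulAut (alternatingGroup (Fin n))))
    {p : ℕ} [Fact p.Prime] (hnp : n < p ^ 2)
    (hsurj : ∀ φ ∈ G, (∃ k : ℕ, φ ^ p ^ k = 1) →
      ∃ σ : Perm (Fin n), MulAut.conjNormal σ = φ)
    (P : Sylow p G) : IsMulCommutative (P : Subgroup G) := by
  let c : Perm (Fin n) →* MulAut (alternatingGroup (Fin n)) := MulAut.conjNormal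
  let Q : Subgroup (Perm (Fin n)) := ((P : Subgroup G).map G.subtype).comap c
  have hQ : IsPGroup p Q := (P.isPGroup'.map G.subtype).comap_of_injective c
    (H62.conjNormal_injective hn)
  refine ⟨⟨fun a b => ?_⟩⟩
  have key : ∀ u : (P : Subgroup G), ∃ σ : Q, c σ = ((u : G) : MulAut _) := by
    intro u
    obtain ⟨k, hk⟩ := P.isPGroup' u
    obtain ⟨σ, hσ⟩ := hsurj _ (u : G).2 ⟨k, by
      simpa using congrArg (fun v : (P : Subgroup G) => ((v : G) : MulAut (alternatingGroup (Fin n)))) hk⟩
    exact ⟨⟨σ, by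
      show c σ ∈ (P : Subgroup G).map G.subtype
      rw [hσ]; exact ⟨(u : G), u.2, rfl⟩⟩, hσ⟩
  obtain ⟨s, hs⟩ := key a
  obtain ⟨t, ht⟩ := key b
  have h := congrArg (fun q : Q => c q) (commute_of_isPGroup (by simpa using hnp) Q hQ s t)
  simp only [Subgroup.coe_mul, map_mul, hs, ht] at h
  exact Subtype.ext (Subtype.ext h)

/-- In `A₆` there are as many three-cycles as other elements of order three. -/
theorem three_counts :
    ((Finset.univ : Finset (Perm (Fin 6))).filter (fun x => x * x * x = 1 ∧ x.support.card = 3)).card = 40 ∧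
    ((Finset.univ : Finset (Perm (Fin 6))).filter (fun x => x * x * x = 1 ∧ x.support.card = 6)).card = 40 := by
  decide +kernel

/-- Automorphisms of odd order of `A₆` are conjugations. -/
theorem exists_conjNormal_six (φ : MulAut (alternatingGroup (Fin 6))) (r : ℕ) (hr : Odd r)
    (hφ : φ ^ r = 1) : ∃ σ : Perm (Fin 6), MulAut.conjNormal σ = φ := by
  classical
  let T : MulAut (alternatingGroup (Fin 6)) → Prop := fun ψ => ∀ x : alternatingGroup (Fin 6),
    (x : Perm (Fin 6)).IsThreeCycle → (ψ x : Perm (Fin 6)).IsThreeCycle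
  have hconj : ∀ (ψ : MulAut (alternatingGroup (Fin 6))) (x y : alternatingGroup (Fin 6)),
      (x : Perm (Fin 6)).IsThreeCycle → (y : Perm (Fin 6)).IsThreeCycle →
      (ψ x : Perm (Fin 6)).IsThreeCycle → (ψ y : Perm (Fin 6)).IsThreeCycle := by
    intro ψ x y hx hy hψ
    obtain ⟨g, hg⟩ := isConj_iff.1 (alternatingGroup.isThreeCycle_isConj (by simp) hx hy)
    rw [← hg, map_mul, map_mul, map_inv, Subgroup.coe_mul, Subgroup.coe_mul, Subgroup.coe_inv]
    exact (show ∀ (s t : Perm (Fin 6)), t.IsThreeCycle → (s * t * s⁻¹).IsThreeCycle from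
      fun s t ht => by rw [Perm.IsThreeCycle, Perm.cycleType_conj]; exact ht) _ _ hψ
  have hsq : T (φ * φ) := by
    intro x hx
    show (φ (φ x) : Perm (Fin 6)).IsThreeCycle
    by_cases h1 : (φ x : Perm (Fin 6)).IsThreeCycle
    · exact hconj φ x _ hx h1 h1
    let A := (Finset.univ : Finset (Perm (Fin 6))).filter (fun x => x * x * x = 1 ∧ x.support.card = 3)
    let B := (Finset.univ : Finset (Perm (Fin 6))).filter (fun x => x * x * x = 1 ∧ x.support.card = 6)
    have hA : ∀ z, z ∈ A ↔ z.IsThreeCycle := fun z => by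
      simp only [A, Finset.mem_filter, Finset.mem_univ, true_and, card_support_eq_three_iff]
      refine ⟨fun h => h.2, fun h => ⟨?_, h⟩⟩
      have := pow_orderOf_eq_one z
      rwa [h.orderOf, pow_succ, pow_two] at this
    have hB : ∀ z : alternatingGroup (Fin 6), orderOf z = 3 →
        ¬ (z : Perm (Fin 6)).IsThreeCycle → (z : Perm (Fin 6)) ∈ B := fun z hz hnz => by
      have ho : orderOf (z : Perm (Fin 6)) = 3 := by rw [Subgroup.orderOf_coe, hz]
      have h3 := pow_orderOf_eq_one (z : Perm (Fin 6))
      rw [ho, pow_succ, pow_two] at h3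
      refine Finset.mem_filter.2 ⟨Finset.mem_univ _, h3, ?_⟩
      obtain ⟨k, hk⟩ := Perm.cycleType_prime_order (σ := (z : Perm (Fin 6))) (by rw [ho]; norm_num)
      have hs := Perm.sum_cycleType (z : Perm (Fin 6))
      rw [hk, ho, Multiset.sum_replicate, smul_eq_mul] at hs
      have h6 : (z : Perm (Fin 6)).support.card ≤ 6 :=
        (Finset.card_le_univ _).trans (by simp)
      have h3' : (z : Perm (Fin 6)).support.card ≠ 3 := fun h => hnz (card_support_eq_three_iff.1 h)
      omega
    have ho : ∀ y : alternatingGroup (Fin 6), (y : Perm (Fin 6)).IsThreeCycle → orderOf (φ y) = 3 :=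
      fun y hy => by rw [MulEquiv.orderOf_eq, ← Subgroup.orderOf_coe]; exact hy.orderOf
    by_contra h2
    have hox : orderOf (φ (φ x)) = 3 := by rw [MulEquiv.orderOf_eq]; exact ho x hx
    have hmemA : ∀ z ∈ A, z ∈ alternatingGroup (Fin 6) := fun z hz => ((hA z).1 hz).mem_alternatingGroup
    let F : Perm (Fin 6) → Perm (Fin 6) := fun z =>
      if hz : z ∈ alternatingGroup (Fin 6) then (φ ⟨z, hz⟩ : Perm (Fin 6)) else 1
    have hFB : ∀ z ∈ A, F z ∈ B := fun z hz => by
      simp only [F, dif_pos (hmemA z hz)]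
      exact hB _ (ho _ ((hA z).1 hz)) fun h => h1 (hconj φ ⟨z, hmemA z hz⟩ x ((hA z).1 hz) hx h)
    have hFinj : Set.InjOn F A := fun u hu v hv h => by
      simp only [F, dif_pos (hmemA u hu), dif_pos (hmemA v hv)] at h
      exact congrArg Subtype.val (φ.injective (Subtype.ext h))
    have himg : A.image F = B := by
      refine Finset.eq_of_subset_of_card_le (Finset.image_subset_iff.2 hFB) ?_
      rw [Finset.card_image_of_injOn hFinj]
      exact (three_counts.2.trans three_counts.1.symm).le
    obtain ⟨u, hu, huv⟩ := Finset.mem_image.1 (himg ▸ hB _ hox h2 : ((φ (φ x) : _) : Perm (Fin 6)) ∈ A.image F)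
    simp only [F, dif_pos (hmemA u hu)] at huv
    have h5 : (⟨u, hmemA u hu⟩ : alternatingGroup (Fin 6)) = φ x := φ.injective (Subtype.ext huv)
    exact h1 (by rw [← h5]; exact (hA u).1 hu)
  obtain ⟨s, rfl⟩ := hr
  refine H89.exists_conjNormal_eq (by norm_num) φ fun x hx => ?_
  have hK : ∀ k, T ((φ * φ) ^ k) := fun k => by
    induction k with
    | zero => exact fun y hy => hy
    | succ k ih => rw [pow_succ]; exact fun y hy => ih _ (hsq y hy)
  have : (φ * φ) ^ (s + 1) = φ := by
    rw [← pow_two, ← pow_mul, show 2 * (s + 1) = (2 * s + 1) + 1 by ring, pow_succ, hφ, one_mul]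
  exact this ▸ hK (s + 1) x hx

/-- Let n ≥ 5 and let G be a group of automorphisms of the alternating group of degree n containing all inner automorphisms. If p ≠ q are primes and G has no element of order pq, then every Sylow p-subgroup of G is abelian or every Sylow q-subgroup of G is abelian. -/
theorem result (n : ℕ) (hn : 5 ≤ n) (G : Subgroup (MulAut (alternatingGroup (Fin n))))
    (hG : (MulAut.conj : alternatingGroup (Fin n) →* MulAut (alternatingGroup (Fin n))).range ≤ G)
    (p q : ℕ) [Fact p.Prime] [Fact q.Prime] (hpq : p ≠ q) (h : ∀ g : G, orderOf g ≠ p * q) :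
    (∀ P : Sylow p G, IsMulCommutative (P : Subgroup G)) ∨ (∀ Q : Sylow q G, IsMulCommutative (Q : Subgroup G)) := by
  by_cases hp2 : n < p ^ 2
  · by_cases h6 : n = 6
    · subst h6
      refine Or.inl fun P => ?_
      have hpo : Odd p := (Fact.out : p.Prime).odd_of_ne_two (by rintro rfl; norm_num at hp2)
      exact sylow_commutative (by norm_num) G hp2 (fun φ _ ⟨k, hk⟩ =>
        exists_conjNormal_six φ _ (hpo.pow) hk) P
    · exact Or.inl fun P => sylow_commutative (by omega) G hp2
        (fun φ _ _ => H62.conjNormal_surjective (by omega) h6 φ) P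
  by_cases hq2 : n < q ^ 2
  · by_cases h6 : n = 6
    · subst h6
      refine Or.inr fun Q => ?_
      have hqo : Odd q := (Fact.out : q.Prime).odd_of_ne_two (by rintro rfl; norm_num at hq2)
      exact sylow_commutative (by norm_num) G hq2 (fun φ _ ⟨k, hk⟩ =>
        exists_conjNormal_six φ _ (hqo.pow) hk) Q
    · exact Or.inr fun Q => sylow_commutative (by omega) G hq2
        (fun φ _ _ => H62.conjNormal_surjective (by omega) h6 φ) Q
  exfalso
  have hpP : p.Prime := Fact.out
  have hqP : q.Prime := Fact.out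
  have hex : p * q ∈ Set.range (orderOf : alternatingGroup (Fin n) → ℕ) := by
    rcases eq_or_ne p 2 with rfl | hp
    · refine (H62.alt_twice_prime_iff hqP hpq.symm).2 ?_
      have : 3 ≤ q := by have := hqP.two_le; omega
      nlinarith
    rcases eq_or_ne q 2 with rfl | hq
    · rw [mul_comm]
      refine (H62.alt_twice_prime_iff hpP hpq).2 ?_
      have : 3 ≤ p := by have := hpP.two_le; omega
      nlinarith
    refine (H62.alt_odd_primes_iff hpP hqP hp hq hpq).2 ?_
    have := hpP.two_le
    have := hqP.two_le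
    nlinarith
  obtain ⟨x, hx⟩ := hex
  refine h ⟨MulAut.conj x, hG ⟨x, rfl⟩⟩ ?_
  rw [Subgroup.orderOf_mk, ← hx]
  refine orderOf_injective (MulAut.conj : alternatingGroup (Fin n) →* _) ?_ x
  have e : ∀ y : alternatingGroup (Fin n),
      MulAut.conj y = MulAut.conjNormal (y : Equiv.Perm (Fin n)) := fun y =>
    MulEquiv.ext fun z => Subtype.ext (by simp)
  intro a b hab
  rw [e, e] at hab
  exact Subtype.ext (H62.conjNormal_injective (by omega) hab)

end Cfsg.Agent.S4231
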