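import Cfsg.Statements.S2427
import Cfsg.Agent.H69.SL2Normalizer

set_option autoImplicit false
open Cfsg

namespace Cfsg.Agent.S2427

open Cfsg.Agent.H69
open scoped commutatorElement

/-- The generators of the quaternion subgroup. -/
def qi : Matrix.SpecialLinearGroup (Fin 2) (ZMod 3) := ⟨!![0, -1; 1, 0], by decide⟩

/-- The second generator of the quaternion subgroup. -/
def qj : Matrix.SpecialLinearGroup (Fin 2) (ZMod 3) := ⟨!![1, 1; 1, -1], by decide⟩

/-- The map from the quaternion group. -/
def qf : QuaternionGroup 2 → Matrix.SpecialLinearGroup (Fin 2) (ZMod 3)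
  | QuaternionGroup.a k => qi ^ k.val
  | QuaternionGroup.xa k => qj * qi ^ k.val

lemma qf_mul : ∀ x y : QuaternionGroup 2, qf (x * y) = qf x * qf y := by decide +kernel

lemma qf_one : qf 1 = 1 := by decide +kernel

/-- The embedding of the quaternion group. -/
def qhom : QuaternionGroup 2 →* Matrix.SpecialLinearGroup (Fin 2) (ZMod 3) where
  toFun := qf
  map_one' := qf_one
  map_mul' := qf_mul

lemma qhom_injective : Function.Injective qhom := by
  rw [injective_iff_map_eq_one]
  decide +kernel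

lemma qhom_trace : ∀ x : QuaternionGroup 2, x ≠ 1 → x ≠ QuaternionGroup.a 2 →
    ((qhom x : Matrix.SpecialLinearGroup (Fin 2) (ZMod 3)) : Matrix (Fin 2) (Fin 2) (ZMod 3)).trace = 0 := by
  decide +kernel

lemma qhom_a_two : qhom (QuaternionGroup.a 2) = -1 := by decide +kernel

lemma trace_zero_mem_aux : ∀ a b c d : ZMod 3, a * d - b * c = 1 → a + d = 0 →
    ∃ x : QuaternionGroup 2, ((qhom x : Matrix.SpecialLinearGroup (Fin 2) (ZMod 3)) :
      Matrix (Fin 2) (Fin 2) (ZMod 3)) = !![a, b; c, d] := by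
  decide +kernel

lemma exists_comm_aux : ∀ a b c d : ZMod 3, a * d - b * c = 1 →
    ¬ (b = 0 ∧ c = 0 ∧ a = d) → ∃ s u v w : ZMod 3, s * w - u * v = 1 ∧
      (!![s, u; v, w] * !![a, b; c, d] * !![w, -u; -v, s] * !![d, -b; -c, a]).trace = 0 := by
  decide +kernel

abbrev G3 := Matrix.SpecialLinearGroup (Fin 2) (ZMod 3)

lemma mem_range_of_trace_zero (g : G3) (h : (g : Matrix (Fin 2) (Fin 2) (ZMod 3)).trace = 0) :
    g ∈ qhom.range := by
  obtain ⟨x, hx⟩ := trace_zero_mem_aux _ _ _ _ (Cfsg.Agent.H6.sl2_det g)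
    (by rw [← Matrix.trace_fin_two]; exact h)
  refine ⟨x, Subtype.ext ?_⟩
  rw [hx]
  exact (Matrix.eta_fin_two _).symm

lemma range_normal : qhom.range.Normal := by
  refine ⟨fun y hy g => ?_⟩
  obtain ⟨x, rfl⟩ := hy
  by_cases h1 : x = 1
  · simp [h1]
  by_cases h2 : x = QuaternionGroup.a 2
  · rw [h2, qhom_a_two]
    exact ⟨QuaternionGroup.a 2, by rw [qhom_a_two]; simp⟩
  · exact mem_range_of_trace_zero _ (by rw [sl2_trace_conj]; exact qhom_trace x h1 h2)

lemma exists_comm_trace_zero (x : G3) (hx : x ∉ Subgroup.center G3) :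
    ∃ g : G3, ((⁅g, x⁆ : G3) : Matrix (Fin 2) (Fin 2) (ZMod 3)).trace = 0 := by
  rw [sl2_mem_center_iff] at hx
  obtain ⟨s, u, v, w, hd, he⟩ := exists_comm_aux _ _ _ _ (Cfsg.Agent.H6.sl2_det x) hx
  refine ⟨Cfsg.Agent.H6.sl2 s u v w hd, ?_⟩
  rw [commutatorElement_def, Matrix.SpecialLinearGroup.coe_mul,
    Matrix.SpecialLinearGroup.coe_mul, Matrix.SpecialLinearGroup.coe_mul,
    Matrix.SpecialLinearGroup.coe_inv, Matrix.SpecialLinearGroup.coe_inv,
    Matrix.adjugate_fin_two, Matrix.adjugate_fin_two]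
  simp only [Cfsg.Agent.H6.sl2_00, Cfsg.Agent.H6.sl2_01, Cfsg.Agent.H6.sl2_10,
    Cfsg.Agent.H6.sl2_11]
  rw [← Matrix.eta_fin_two (x : Matrix (Fin 2) (Fin 2) (ZMod 3))] at he
  exact he

lemma zero_sq_ne_four : ((0 : ZMod 3)) ^ 2 ≠ 4 := by decide

lemma qi_entry : ((qi : G3) : Matrix (Fin 2) (Fin 2) (ZMod 3)) 0 1 ≠ 0 := by decide

lemma range_le_of_normal (N : Subgroup G3) (hN : N.Normal) {y : G3}
    (hy : (y : Matrix (Fin 2) (Fin 2) (ZMod 3)).trace = 0) (hyN : y ∈ N) : qhom.range ≤ N := by
  haveI : Fact (Nat.Prime 3) := ⟨Nat.prime_three⟩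
  have key : ∀ z : G3, (z : Matrix (Fin 2) (Fin 2) (ZMod 3)).trace = 0 → z ∈ N := by
    intro z hz
    have hne : ((0 : ZMod 3)) ^ 2 ≠ 4 := zero_sq_ne_four
    obtain ⟨c, hc⟩ := isConj_iff.1 (sl2_isConj_of_trace
      (not_isScalar2_of_trace (g := y) (by rw [hy]; exact hne))
      (not_isScalar2_of_trace (g := z) (by rw [hz]; exact hne)) (hy.trans hz.symm)
      (Or.inl (by rw [hy]; exact hne)))
    rw [← hc]
    exact hN.conj_mem y hyN c
  rintro _ ⟨x, rfl⟩
  by_cases h1 : x = 1
  · simp [h1]
  by_cases h2 : x = QuaternionGroup.a 2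
  · have hsq : x = QuaternionGroup.a 1 * QuaternionGroup.a 1 := by rw [h2]; decide
    rw [hsq, map_mul]
    have := key _ (qhom_trace (QuaternionGroup.a 1) (by decide) (by decide))
    exact N.mul_mem this this
  · exact key _ (qhom_trace x h1 h2)

/-- The group SL₂ over the field with 3 elements has order 24 and centre of order 2; its commutator subgroup has order 8, is isomorphic to the quaternion group of order 8 and is complemented by every Sylow 3-subgroup (so the group is a semidirect product of a quaternion group of order 8 by a cyclic group of order 3); and its only normal subgroups besides the trivial subgroup and the whole group are the centre and the commutator subgroup. -/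
theorem result :
    Nat.card (Matrix.SpecialLinearGroup (Fin 2) (ZMod 3)) = 24 ∧
    Nat.card (Subgroup.center (Matrix.SpecialLinearGroup (Fin 2) (ZMod 3))) = 2 ∧
    Nat.card (commutator (Matrix.SpecialLinearGroup (Fin 2) (ZMod 3))) = 8 ∧
    Nonempty (commutator (Matrix.SpecialLinearGroup (Fin 2) (ZMod 3)) ≃* QuaternionGroup 2) ∧
    (∀ P : Sylow 3 (Matrix.SpecialLinearGroup (Fin 2) (ZMod 3)),
      Subgroup.IsComplement' (commutator (Matrix.SpecialLinearGroup (Fin 2) (ZMod 3)))
        (P : Subgroup (Matrix.SpecialLinearGroup (Fin 2) (ZMod 3)))) ∧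
    ∀ N : Subgroup (Matrix.SpecialLinearGroup (Fin 2) (ZMod 3)), N.Normal →
      N = ⊥ ∨ N = ⊤ ∨ N = Subgroup.center (Matrix.SpecialLinearGroup (Fin 2) (ZMod 3)) ∨
        N = commutator (Matrix.SpecialLinearGroup (Fin 2) (ZMod 3)) := by
  haveI : Fact (Nat.Prime 3) := ⟨Nat.prime_three⟩
  have hcard : Nat.card G3 = 24 := by rw [Cfsg.Agent.H6.card_sl2 (ZMod.card 3)]; norm_num
  have hcent : Nat.card (Subgroup.center G3) = 2 := by
    rw [Cfsg.Agent.H6.card_center_sl2 (ZMod.card 3)]; rfl
  have hQ : Nat.card qhom.range = 8 := by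
    rw [← Nat.card_congr (MonoidHom.ofInjective qhom_injective).toEquiv,
      Nat.card_eq_fintype_card, QuaternionGroup.card]
  haveI := range_normal
  have hidx : qhom.range.index = 3 := by
    have := qhom.range.card_mul_index
    rw [hQ, hcard] at this
    omega
  have hle : commutator G3 ≤ qhom.range := by
    haveI := isCyclic_of_prime_card (p := 3) (α := G3 ⧸ qhom.range)
      (by rw [← Subgroup.index_eq_card]; exact hidx)
    exact Subgroup.Normal.quotient_commutative_iff_commutator_le.1
      ⟨⟨fun a b => (IsCyclic.commGroup (α := G3 ⧸ qhom.range)).mul_comm a b⟩⟩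
  have hge : qhom.range ≤ commutator G3 := by
    have hqi : qi ∉ Subgroup.center G3 := by
      rw [sl2_mem_center_iff]
      intro h
      exact qi_entry h.1
    obtain ⟨g, hg⟩ := exists_comm_trace_zero qi hqi
    exact range_le_of_normal _ inferInstance hg
      (Subgroup.commutator_mem_commutator (Subgroup.mem_top g) (Subgroup.mem_top qi))
  have hcomm : commutator G3 = qhom.range := le_antisymm hle hge
  refine ⟨hcard, hcent, by rw [hcomm, hQ], ⟨(MulEquiv.subgroupCongr hcomm).trans
    (MonoidHom.ofInjective qhom_injective).symm⟩, fun P => ?_, fun N hN => ?_⟩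
  · have hP : Nat.card (P : Subgroup G3) = 3 := by
      rw [P.card_eq_multiplicity, hcard]
      rw [show 24 = 3 * 8 from rfl, Nat.factorization_mul_apply_of_coprime (by norm_num),
        Nat.Prime.factorization_self Nat.prime_three, Nat.factorization_eq_zero_of_not_dvd (by norm_num)]
      rfl
    refine Subgroup.isComplement'_of_coprime ?_ ?_
    · rw [hcomm, hQ, hP, hcard]
    · rw [hcomm, hQ, hP]; norm_num
  · by_cases hNc : N ≤ Subgroup.center G3
    · have hd := Subgroup.card_dvd_of_le hNc
      rw [hcent] at hd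
      rcases Nat.prime_two.eq_one_or_self_of_dvd _ hd with h | h
      · exact Or.inl (N.eq_bot_of_card_eq h)
      · exact Or.inr (Or.inr (Or.inl (Subgroup.eq_of_le_of_card_ge hNc (by rw [hcent, h]))))
    · obtain ⟨x, hxN, hxc⟩ := SetLike.not_le_iff_exists.1 hNc
      obtain ⟨g, hg⟩ := exists_comm_trace_zero x hxc
      have hgN : ⁅g, x⁆ ∈ N := by
        rw [commutatorElement_def]
        exact N.mul_mem (hN.conj_mem x hxN g) (N.inv_mem hxN)
      have hQN := range_le_of_normal N hN hg hgN
      have hd := Subgroup.index_dvd_of_le hQN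
      rw [hidx] at hd
      rcases Nat.prime_three.eq_one_or_self_of_dvd _ hd with h | h
      · exact Or.inr (Or.inl (Subgroup.index_eq_one.1 h))
      · refine Or.inr (Or.inr (Or.inr ?_))
        rw [hcomm]
        refine (Subgroup.eq_of_le_of_card_ge hQN ?_).symm
        have := N.card_mul_index
        rw [h, hcard] at this
        omega

end Cfsg.Agent.S2427
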