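import Cfsg.Statements.S5293
import Cfsg.Agent.H96.CentralizeNormal

set_option autoImplicit false
open Cfsg

namespace Cfsg.Agent.S5293

open Cfsg.FusionSystem Cfsg.Agent.H96

variable {Ω : Type*} [Group Ω] {S : Subgroup Ω} [Finite S] {p : ℕ} [Fact p.Prime] {F : FusionSystem S}
  {T : Subgroup Ω} {E : FusionSystem T}

/-- The elements to be centralized: displacements of automorphisms of prime power order prime to `p` fixing `T`,
and commutators inside `C_S(T)`. -/
def IsDisplacement (F : FusionSystem S) (p : ℕ) (T : Subgroup Ω) (y : Ω) : Prop :=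
  ∃ P : Subgroup Ω, P ≤ centralizerIn S T ∧
    ((∃ φ ∈ F.autGroup (T ⊔ P), (∀ x : T, φ (Subgroup.inclusion le_sup_left x) = Subgroup.inclusion le_sup_left x) ∧
      (∀ x : P, ((φ (Subgroup.inclusion le_sup_right x) : ↥(T ⊔ P)) : Ω) ∈ P) ∧
      (∃ q : ℕ, q.Prime ∧ q ≠ p ∧ ∃ e : ℕ, φ ^ q ^ e = 1) ∧
      ∃ x : P, y = (x : Ω)⁻¹ * (φ (Subgroup.inclusion le_sup_right x) : ↥(T ⊔ P))) ∨
    ∃ x ∈ P, ∃ s ∈ P, y = x⁻¹ * (s * x * s⁻¹))

omit [Fact p.Prime] [Finite S] in
theorem displacement_mem {y : Ω} (hy : IsDisplacement F p T y) : y ∈ centralizerIn S T := by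
  obtain ⟨P, hP, ⟨φ, -, -, hφP, -, x, rfl⟩ | ⟨x, hx, s, hs, rfl⟩⟩ := hy
  · exact hP (P.mul_mem (P.inv_mem x.2) (hφP x))
  · exact hP (P.mul_mem (P.inv_mem hx) (P.mul_mem (P.mul_mem hs hx) (P.inv_mem hs)))

/-- A liftable map of `R` fixes all displacements. -/
theorem fixExt_of_liftable (hS : IsPGroup p S) (hTS : T ≤ S) {R : Subgroup Ω} (hR : R ≤ T) {γ : MulAut R}
    (hγ : Liftable F T R γ) {y : Ω} (hy : IsDisplacement F p T y) :
    FixExt F R (R.subtype.comp γ.toMonoidHom) y := by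
  obtain ⟨P, hP, h⟩ := hy
  have hW : R ⊔ P ≤ S := sup_le (hR.trans hTS) (hP.trans inf_le_left)
  have hPR : P ≤ Subgroup.centralizer (R : Set Ω) :=
    hP.trans (inf_le_right.trans (Subgroup.centralizer_le hR))
  obtain ⟨b, hb, hbm, hbγ⟩ := hγ P hP
  rcases h with ⟨φ, hφ, hφT, hφP, ⟨q, hq, hqp, e, he⟩, x, rfl⟩ | ⟨x, hx, s, hs, rfl⟩
  · have hWT : T ⊔ P ≤ S := sup_le hTS (hP.trans inf_le_left)
    have := finite_of_le hW
    have := Fact.mk hq
    have hle : R ⊔ P ≤ T ⊔ P := sup_le_sup_right hR P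
    have hmem : ∀ w : ↥(R ⊔ P), res ((T ⊔ P).subtype.comp φ.toMonoidHom) hle w ∈ R ⊔ P := by
      have h1 : R ⊔ P ≤ ((R ⊔ P).comap (res ((T ⊔ P).subtype.comp φ.toMonoidHom) hle)).map (R ⊔ P).subtype := by
        refine sup_le (fun g hg => ⟨⟨g, le_sup_left (b := P) hg⟩, ?_, rfl⟩)
          (fun g hg => ⟨⟨g, le_sup_right (a := R) hg⟩, Subgroup.mem_sup_right (hφP ⟨g, hg⟩), rfl⟩)
        refine Subgroup.mem_sup_left ?_
        show ((φ (Subgroup.inclusion le_sup_left ⟨g, hR hg⟩) : ↥(T ⊔ P)) : Ω) ∈ R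
        rw [hφT]
        exact hg
      intro w
      obtain ⟨w', hw, e⟩ := h1 w.2
      rw [show w = w' from Subtype.ext e.symm]
      exact hw
    obtain ⟨φ', hφ', hφe⟩ :=
      exists_autGroup_of_mem F (res_mem F ((mem_autGroup F hWT).1 hφ) hle) hmem
    have hpow : ∀ (m : ℕ) (w : ↥(R ⊔ P)),
        Subgroup.inclusion hle ((φ' ^ m) w) = (φ ^ m) (Subgroup.inclusion hle w) := by
      intro m
      induction m with
      | zero => intro w; simp
      | succ m ih =>
        intro w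
        rw [pow_succ', pow_succ', MulAut.mul_apply, MulAut.mul_apply, ← ih]
        exact Subtype.ext (hφe _)
    have hR' : ∀ z : R, φ' (Subgroup.inclusion le_sup_left z) = Subgroup.inclusion le_sup_left z := fun z => by
      refine Subtype.ext ((hφe _).trans ?_)
      exact congrArg Subtype.val (hφT (Subgroup.inclusion hR z))
    have hP' : ∀ z : P, ((φ' (Subgroup.inclusion le_sup_right z) : ↥(R ⊔ P)) : Ω) =
        (φ (Subgroup.inclusion le_sup_right z) : ↥(T ⊔ P)) := fun z => hφe _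
    have hord : φ' ^ q ^ e = 1 := MulEquiv.ext fun w => Subgroup.inclusion_injective hle (by
      rw [hpow, he]; rfl)
    have key := fixExt_displacement hS hW hPR (γ := R.subtype.comp γ.toMonoidHom) (fun z => (γ z).2) hφ' hR'
      (fun z => (hP' z).symm ▸ hφP z) hqp ⟨e, hord⟩ hb hbγ hbm x
    rwa [hP'] at key
  · exact fixExt_commutator hW hPR hb hbγ (fun z => (γ z).2) hbm hx hs

omit [Fact p.Prime] in
/-- The automorphisms of `T` in a normal subsystem lift trivially modulo `T`. -/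
theorem liftable_of_extension (hE : E.IsNormalIn F p) {α : MulAut T} (hα : α ∈ E.autGroup T) :
    Liftable F T T α := by
  intro P hP
  have hTS : T ≤ S := hE.1.2.2.2.1.1
  obtain ⟨β, hβ, hβT, hβC⟩ := hE.2 α hα
  have hPC : P ≤ Subgroup.centralizer (T : Set Ω) := hP.trans inf_le_right
  have hle : T ⊔ P ≤ T ⊔ centralizerIn S T := sup_le_sup_left hP T
  have hWS : T ⊔ centralizerIn S T ≤ S := sup_le hTS inf_le_left
  have hmem : ∀ w : ↥(T ⊔ P), res ((T ⊔ centralizerIn S T).subtype.comp β.toMonoidHom) hle w ∈ T ⊔ P := by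
    have h1 : T ⊔ P ≤
        ((T ⊔ P).comap (res ((T ⊔ centralizerIn S T).subtype.comp β.toMonoidHom) hle)).map (T ⊔ P).subtype := by
      refine sup_le (fun g hg => ⟨⟨g, le_sup_left (b := P) hg⟩, Subgroup.mem_sup_left ?_, rfl⟩)
        (fun g hg => ⟨⟨g, le_sup_right (a := T) hg⟩, ?_, rfl⟩)
      · show ((β (Subgroup.inclusion le_sup_left ⟨g, hg⟩) : ↥(T ⊔ centralizerIn S T)) : Ω) ∈ T
        rw [hβT]
        exact (α ⟨g, hg⟩).2
      · have h2 := (T ⊔ P).mul_mem (Subgroup.mem_sup_right hg)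
          (Subgroup.mem_sup_left (hβC ⟨g, hle (Subgroup.mem_sup_right hg)⟩ (hP hg)).1)
        show ((β ⟨g, hle (Subgroup.mem_sup_right hg)⟩ : ↥(T ⊔ centralizerIn S T)) : Ω) ∈ T ⊔ P
        simpa [← mul_assoc] using h2
    intro w
    obtain ⟨w', hw, e⟩ := h1 w.2
    rw [show w = w' from Subtype.ext e.symm]
    exact hw
  obtain ⟨b, hb, hbe⟩ := exists_autGroup_of_mem F (res_mem F ((mem_autGroup F hWS).1 hβ) hle) hmem
  refine ⟨b, hb, modTrivial_of_sup hPC (fun x => ?_) (fun x => ?_), fun x => (hbe _).trans (hβT x)⟩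
  · rw [hbe]
    show ((β (Subgroup.inclusion le_sup_left x) : ↥(T ⊔ centralizerIn S T)) : Ω) ∈ T
    rw [hβT]
    exact (α x).2
  · rw [hbe]
    exact (hβC ⟨x, hle (Subgroup.mem_sup_right x.2)⟩ (hP x.2)).1

omit [Fact p.Prime] [Finite S] in
theorem fixExt_res {P R : Subgroup Ω} (h : R ≤ P) {φ : P →* Ω} {y : Ω} (hy : FixExt F P φ y) :
    FixExt F R (res φ h) y := by
  obtain ⟨ψ, hψ, h1, h2⟩ := hy
  have hle : R ⊔ Subgroup.zpowers y ≤ P ⊔ Subgroup.zpowers y := sup_le_sup_right h _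
  exact ⟨res ψ hle, res_mem F hψ hle, fun x => h1 (Subgroup.inclusion h x), fun x => h2 x⟩

omit [Fact p.Prime] [Finite S] in
theorem fixExt_comp {P Q : Subgroup Ω} {φ : P →* Ω} {ψ : Q →* Ω} {y : Ω} (hφ : FixExt F P φ y)
    (hψ : FixExt F Q ψ y) (h : ∀ x : P, φ x ∈ Q) : FixExt F P (ψ.comp (φ.codRestrict Q h)) y := by
  obtain ⟨a, ha, ha1, ha2⟩ := hφ
  obtain ⟨b, hb, hb1, hb2⟩ := hψ
  have hmem : ∀ w, a w ∈ Q ⊔ Subgroup.zpowers y := by
    have h1 : P ⊔ Subgroup.zpowers y ≤
        ((Q ⊔ Subgroup.zpowers y).comap a).map (P ⊔ Subgroup.zpowers y).subtype := by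
      refine sup_le (fun g hg => ⟨⟨g, le_sup_left (b := Subgroup.zpowers y) hg⟩, ?_, rfl⟩)
        (fun g hg => ⟨⟨g, le_sup_right (a := P) hg⟩, ?_, rfl⟩)
      · exact Subgroup.mem_sup_left ((ha1 ⟨g, hg⟩).symm ▸ h ⟨g, hg⟩)
      · exact Subgroup.mem_sup_right ((ha2 ⟨g, hg⟩).symm ▸ hg)
    intro w
    obtain ⟨w', hw, e⟩ := h1 w.2
    rw [show w = w' from Subtype.ext e.symm]
    exact hw
  obtain ⟨c, hc, hce⟩ := exists_comp F ha hb hmem
  refine ⟨c, hc, fun x => ?_, fun x => ?_⟩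
  · rw [hce]
    refine Eq.trans ?_ (hb1 ⟨φ x, h x⟩)
    exact congrArg b (Subtype.ext (ha1 x))
  · rw [hce]
    refine Eq.trans ?_ (hb2 x)
    exact congrArg b (Subtype.ext (ha2 x))

/-- All maps of the normal subsystem fix all displacements. -/
theorem fixExt_normal (hS : IsPGroup p S) (hF : F.IsSaturated p) (hE : E.IsNormalIn F p) {P : Subgroup Ω}
    {φ : P →* Ω} (hφ : φ ∈ E.Hom P) {y : Ω} (hy : IsDisplacement F p T y) : FixExt F P φ y := by
  have hTS : T ≤ S := hE.1.2.2.2.1.1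
  have := finite_of_le hTS
  have hS' : IsPGroup p T := hS.to_le hTS
  refine H94.alperin_induction_step hS' hE.1.1 (fun P φ => FixExt F P φ y)
    (fun P R h φ _ hC => fixExt_res h hC) (fun P Q φ ψ _ _ h1 h2 h => fixExt_comp h1 h2 h)
    (fun U hU hc _ hlarge α hα => ?_) hφ
  rcases eq_or_ne U T with rfl | hne
  · exact fixExt_of_liftable hS hTS le_rfl (liftable_of_extension hE hα) hy
  · have hUT := hU.1
    obtain ⟨hA, hrec⟩ := H94.fullyNormalized_spec hS' hE.1.1 hU
    have := finite_of_le hUT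
    obtain ⟨L, hLn, hLT, hL⟩ := exists_liftable_subgroup hS hF hE.1 hUT hc.2
    obtain ⟨R, hR⟩ := hA.2
    obtain ⟨n, hn, l, hl, he⟩ := H94.exists_mul_normalizer_inf R L ⟨α, hα⟩
    rw [inf_eq_left.2 (hR.le.trans hLT)] at hn
    have hCl : FixExt F U (U.subtype.comp (l : MulAut U).toMonoidHom) y :=
      fixExt_of_liftable hS hTS hUT (hL l hl) hy
    have hnH := (mem_autGroup E hUT).1 n.2
    have hCn : FixExt F U (U.subtype.comp (n : MulAut U).toMonoidHom) y := by
      have hnr : (U.subtype.comp (n : MulAut U).toMonoidHom).range = U :=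
        range_eq_of_forall_mem E hnH fun x => ((n : MulAut U) x).2
      obtain ⟨ψ, hψ, hψe⟩ := hrec.2 U _ hnH hnr
      let Nφ := extender T U (U.subtype.comp (n : MulAut U).toMonoidHom)
      have hUN : U ≤ Nφ := H94.le_extender_aut hUT _
      have hgt : Nat.card U < Nat.card Nφ := by
        have hlt : U < normalizerIn T U := H94.lt_normalizerIn hS' (lt_of_le_of_ne hUT hne)
        have hNle : normalizerIn T U ≤ Nφ := by
          intro g hg
          obtain ⟨c, hc, hce⟩ := exists_autGroup_of_mem E (E.conj_mem hUT hg.1)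
            (fun x => (Subgroup.mem_normalizer_iff.1 hg.2 x).1 x.2)
          refine H94.mem_extender_of_conj (β := c) hg.1 hg.2 hce ?_
          have h1 : (⟨c, hc⟩ : E.autGroup U) ∈ (R : Subgroup (E.autGroup U)) :=
            hR.ge (Subgroup.mem_subgroupOf.2 (mem_autInducedBy.2 ⟨g, hg.1, hce⟩))
          exact Subgroup.mem_subgroupOf.1 (hR.le ((Subgroup.mem_normalizer_iff.1 hn _).1 h1))
        have := finite_of_le (E.le_of_mem hψ).1
        exact lt_of_le_of_ne (Subgroup.card_le_of_le hUN) fun h =>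
          (hlt.trans_le hNle).ne (Subgroup.eq_of_le_of_card_ge hUN h.ge)
      have h1 := fixExt_res hUN (hlarge Nφ ψ hψ hgt)
      rwa [show res ψ hUN = U.subtype.comp (n : MulAut U).toMonoidHom from
        MonoidHom.ext fun x => hψe x x.2 _] at h1
    have h2 := fixExt_comp hCl hCn fun x => ((l : MulAut U) x).2
    rwa [show ((U.subtype.comp (n : MulAut U).toMonoidHom).comp
        ((U.subtype.comp (l : MulAut U).toMonoidHom).codRestrict U fun x => ((l : MulAut U) x).2)) =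
        U.subtype.comp α.toMonoidHom from MonoidHom.ext fun x => by
          show (((n : MulAut U) ((l : MulAut U) x) : U) : Ω) = (α x : U)
          rw [← MulAut.mul_apply, ← Subgroup.coe_mul, ← he]] at h2

/-- An automorphism of order prime to `p` lies in any subgroup containing its prime power parts. -/
theorem mem_of_primePow {G : Type*} [Group G] {A H : Subgroup G}
    (h : ∀ (q : ℕ), q.Prime → q ≠ p → ∀ e : ℕ, ∀ a ∈ A, a ^ q ^ e = 1 → a ∈ H) :
    ∀ n : ℕ, ∀ a ∈ A, a ^ n = 1 → n.Coprime p → a ∈ H := by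
  intro n
  induction n using Nat.recOnPrimeCoprime with
  | zero =>
    intro a _ _ hc
    exact absurd (Nat.coprime_zero_left p |>.1 hc) (Fact.out : p.Prime).one_lt.ne'
  | prime_pow q k hq =>
    intro a ha he hc
    rcases Nat.eq_zero_or_pos k with rfl | hk
    · rw [pow_zero, pow_one] at he
      exact he ▸ H.one_mem
    · exact h q hq (fun hqp => by
        rw [hqp, Nat.coprime_pow_left_iff hk, Nat.coprime_self] at hc
        exact (Fact.out : p.Prime).one_lt.ne' hc) k a ha he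
  | coprime u v _ _ huv ihu ihv =>
    intro a ha he hc
    have h1 : a ^ v ∈ H := ihu _ (A.pow_mem ha _) (by rw [← pow_mul, mul_comm, he])
      (Nat.Coprime.coprime_mul_right hc)
    have h2 : a ^ u ∈ H := ihv _ (A.pow_mem ha _) (by rw [← pow_mul, he])
      (Nat.Coprime.coprime_mul_left hc)
    have e := Nat.gcd_eq_gcd_ab u v
    rw [huv, Nat.cast_one] at e
    rw [← zpow_one a, e, zpow_add, zpow_mul, zpow_mul, zpow_natCast, zpow_natCast]
    exact H.mul_mem (H.zpow_mem h2 _) (H.zpow_mem h1 _)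


/-- Let F be a saturated fusion system over a finite p-group S, E a normal subsystem of F over T ≤ S, and C the join of the subgroups X ≤ C_S(T) such that E is contained in the centralizer system C_F(X). Then for the centralizer fusion system C_F(T) over C_S(T), the focal subgroup of C_F(T) is contained in C. -/
theorem result {Ω : Type*} [Group Ω] {S : Subgroup Ω} [Finite S] (p : ℕ) [Fact p.Prime] (hS : IsPGroup p S)
    (F : Cfsg.FusionSystem S) (hF : F.IsSaturated p)
    {T : Subgroup Ω} (E : Cfsg.FusionSystem T) (hE : E.IsNormalIn F p)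
    (C : Subgroup Ω)
    (hC : C = sSup {X : Subgroup Ω | X ≤ Cfsg.FusionSystem.centralizerIn S T ∧ ∀ P : Subgroup Ω, E.Hom P ⊆ F.centralizerHom X P})
    (D : Cfsg.FusionSystem (Cfsg.FusionSystem.centralizerIn S T)) (hD : F.IsCentralizerSystem T D) :
    D.focalSubgroup ≤ C := by
  have hTsc : F.StronglyClosed T := hE.1.2.2.2.1
  have hTS : T ≤ S := hTsc.1
  have := finite_of_le hTS
  have hSDS : centralizerIn S T ≤ S := inf_le_left
  have := finite_of_le hSDS
  have hTfc : F.IsFullyCentralized T := ⟨hTS, fun Q ⟨φ, hφ, hQ⟩ => by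
    rw [← hQ, range_eq_of_forall_mem F hφ (hTsc.2 T le_rfl φ hφ)]⟩
  have hDsat : D.IsSaturated p := H93.IsCentralizerSystem.isSaturated hS hF hTfc hD
  have hy : ∀ y, IsDisplacement F p T y → y ∈ C := by
    intro y hy
    rw [hC]
    refine Subgroup.mem_sSup_of_mem (s := Subgroup.zpowers y) ?_ (Subgroup.mem_zpowers y)
    refine ⟨Subgroup.zpowers_le.2 (displacement_mem hy), fun P φ hφ => ?_⟩
    have hcen : T ≤ centralizerIn S (Subgroup.zpowers y) := by
      refine le_inf hTS fun t ht => Subgroup.mem_centralizer_iff.2 fun z hz => ?_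
      exact ((Subgroup.zpowers_le.2 (displacement_mem hy).2) hz t ht).symm
    exact ⟨hE.1.2.2.1 P hφ, (E.le_of_mem hφ).1.trans hcen, fun x => hcen ((E.le_of_mem hφ).2 x),
      fixExt_normal hS hF hE hφ hy⟩
  refine (Subgroup.closure_le _).2 ?_
  rintro _ ⟨P, φ, x, hφ, rfl⟩
  refine H94.alperin_induction (hS.to_le hSDS) hDsat (fun P φ => ∀ x : P, (x : Ω)⁻¹ * φ x ∈ C)
    (fun P R h φ _ hC' x => hC' ⟨x, h x.2⟩) (fun P Q φ ψ _ _ h1 h2 h x => ?_)
    (fun U hU _ _ α hα => ?_) hφ x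
  · have := C.mul_mem (h1 x) (h2 ⟨φ x, h x⟩)
    rw [mul_assoc, mul_inv_cancel_left] at this
    exact this
  let Hc : Subgroup (MulAut U) :=
    { carrier := {a | ∀ x : U, (x : Ω)⁻¹ * (a x : U) ∈ C}
      one_mem' := fun x => by simp
      mul_mem' := fun {a b} ha hb x => by
        have h := C.mul_mem (hb x) (ha (b x))
        rw [mul_assoc, mul_inv_cancel_left] at h
        exact h
      inv_mem' := fun {a} ha x => by
        have h := C.inv_mem (ha (a⁻¹ x))
        rw [MulAut.apply_inv_self, mul_inv_rev, inv_inv] at h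
        exact h }
  obtain ⟨hA, -⟩ := H94.fullyNormalized_spec (hS.to_le hSDS) hDsat hU
  have hUC : U ≤ centralizerIn S T := hU.1
  have hWS : T ⊔ U ≤ S := sup_le hTS (hUC.trans inf_le_left)
  obtain ⟨k, hk, b, hb, rfl⟩ := H94.exists_pResidual_mul_of_fullyAutomized hA hα
  refine show (k * b) ∈ Hc from Hc.mul_mem ?_ ?_
  · obtain ⟨k, hk, rfl⟩ := hk
    suffices h : pResidual p (D.autGroup U) ≤ Hc.comap (D.autGroup U).subtype from h hk
    refine (Subgroup.closure_le _).2 fun a ha => ?_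
    refine mem_of_primePow (p := p) (A := D.autGroup U) (H := Hc) (fun q hq hqp e a ha he x => hy _ ?_) (orderOf a) a a.2
      (by rw [← Subgroup.orderOf_coe, pow_orderOf_eq_one]) ha
    have haD := (mem_autGroup D hUC).1 ha
    rw [hD] at haD
    obtain ⟨-, -, -, ψ, hψ, hψU, hψT⟩ := haD
    have hle : T ⊔ U ≤ U ⊔ T := sup_comm T U ▸ le_rfl
    have hmem : ∀ w : ↥(T ⊔ U), res ψ hle w ∈ T ⊔ U := by
      have h1 : T ⊔ U ≤ ((T ⊔ U).comap (res ψ hle)).map (T ⊔ U).subtype :=
        sup_le (fun g hg => ⟨⟨g, le_sup_left (b := U) hg⟩, Subgroup.mem_sup_left ((hψT ⟨g, hg⟩).symm ▸ hg), rfl⟩)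
          (fun g hg => ⟨⟨g, le_sup_right (a := T) hg⟩, Subgroup.mem_sup_right ((hψU ⟨g, hg⟩).symm ▸ (a ⟨g, hg⟩).2),
            rfl⟩)
      intro w
      obtain ⟨w', hw, e⟩ := h1 w.2
      rw [show w = w' from Subtype.ext e.symm]
      exact hw
    obtain ⟨φ, hφF, hφe⟩ := exists_autGroup_of_mem F (res_mem F hψ hle) hmem
    have hφT : ∀ t : T, φ (Subgroup.inclusion le_sup_left t) = Subgroup.inclusion le_sup_left t := fun t =>
      Subtype.ext ((hφe _).trans (hψT t))
    have hφU : ∀ u : U, φ (Subgroup.inclusion le_sup_right u) = Subgroup.inclusion le_sup_right (a u) := fun u =>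
      Subtype.ext ((hφe _).trans (hψU u))
    have hpowT : ∀ (m : ℕ) (t : T), (φ ^ m) (Subgroup.inclusion le_sup_left t) = Subgroup.inclusion le_sup_left t := by
      intro m
      induction m with
      | zero => intro t; rfl
      | succ m ih => intro t; rw [pow_succ', MulAut.mul_apply, ih, hφT]
    have hpowU : ∀ (m : ℕ) (u : U),
        (φ ^ m) (Subgroup.inclusion le_sup_right u) = Subgroup.inclusion le_sup_right ((a ^ m) u) := by
      intro m
      induction m with
      | zero => intro u; rfl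
      | succ m ih => intro u; rw [pow_succ', pow_succ', MulAut.mul_apply, MulAut.mul_apply, ih, hφU]
    refine ⟨U, hUC, Or.inl ⟨φ, hφF, hφT, fun u => (hφU u).symm ▸ (a u).2, ⟨q, hq, hqp, e, ?_⟩, x, by rw [hφU]; rfl⟩⟩
    refine aut_eq_of_sup (fun t => hpowT _ t) (fun u => ?_)
    rw [hpowU, he]; rfl
  · obtain ⟨g, hg, hge⟩ := mem_autInducedBy.1 hb
    intro x
    rw [hge]
    exact hy _ ⟨centralizerIn S T, le_rfl, Or.inr ⟨x, hUC x.2, g, hg, rfl⟩⟩

end Cfsg.Agent.S5293
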