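import Cfsg.Statements.S4528
import Cfsg.Agent.H22.DihedralSmall

set_option autoImplicit false
open Cfsg

namespace Cfsg.Agent.S4528

/-- Let B be a 2-block of the finite group G (relative to a maximal ideal M of the algebraic integers containing 2) whose defect group D is dihedral of order 2 ^ n with n ≥ 3. Then B contains exactly 2 ^ (n - 2) + 3 irreducible characters, its 2-regular rank (the number of irreducible Brauer characters) is between 1 and 3, exactly four of its members have height zero, and every member has height at most one. -/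
theorem result {G : Type*} [Group G] [Finite G] (M : Ideal Cfsg.AlgInt) (hM : Cfsg.IsPModular 2 M) (B : Set (Cfsg.IrrCharacter G)) (hB : Cfsg.IsPBlock M B) (D : Subgroup G) (hD : Cfsg.IsDefectGroup 2 M B D) (n : ℕ) (hn : 3 ≤ n) (hdih : Nonempty (D ≃* DihedralGroup (2 ^ (n - 1)))) : Nat.card B = 2 ^ (n - 2) + 3 ∧ 1 ≤ Cfsg.blockRank 2 B ∧ Cfsg.blockRank 2 B ≤ 3 ∧ Nat.card {χ : Cfsg.IrrCharacter G // χ ∈ B ∧ Cfsg.blockHeight 2 B (χ : G → ℂ) = 0} = 4 ∧ ∀ χ ∈ B, Cfsg.blockHeight 2 B (χ : G → ℂ) ≤ 1 := by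
  classical
  haveI : Fintype G := Fintype.ofFinite G
  haveI : Fact (Nat.Prime 2) := ⟨Nat.prime_two⟩
  haveI : M.IsMaximal := hM.2.1
  haveI := Cfsg.Agent.H41.IsPModular.charP hM
  obtain ⟨σ, τ, hd⟩ := Cfsg.Agent.H22.Dihedral.exists_dihData hn hdih
  obtain ⟨c, e, ξ₀, S, hdef⟩ := Cfsg.Agent.H22.Dihedral.exists_setup hM hB hD hd
  have hc := Cfsg.Agent.H22.Dihedral.cyc_local hd S.max.pair.pGroup
  generalize hhdef : 2 ^ (n - 2) = hh at hd c e ξ₀ S hdef hc ⊢
  have hzP : Cfsg.Agent.H22.TICore.zC (σ ^ hh) ∈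
      D.subgroupOf (Cfsg.Agent.H22.CZ (σ ^ hh)) :=
    Subgroup.mem_subgroupOf.2 (Subgroup.pow_mem _ hd.σ_mem _)
  refine Cfsg.Agent.H22.Dihedral.invariants S hc (hzP := hzP) ?_ hdef hd.even ?_ ?_
  · exact Subtype.ext (Subtype.ext (by simp [Cfsg.Agent.H22.TICore.zC]))
  · intro h6
    have h3 : 3 ∣ 2 ^ (n - 2) := by rw [hhdef, h6]; norm_num
    have := Nat.prime_three.dvd_of_dvd_pow h3
    norm_num at this
  · intro h4 h5 _
    have hcard := Cfsg.Agent.H40.card_defectGroup hM hB hD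
    rw [hd.card, h4] at hcard
    have hd4 : Cfsg.blockDefect 2 B = 4 :=
      (Nat.pow_right_injective (le_refl 2) (show 2 ^ 4 = 2 ^ Cfsg.blockDefect 2 B from hcard)).symm
    subst h4
    exact Cfsg.Agent.H22.Dihedral.false_of_five S hc (hzP := hzP)
      (Subtype.ext (Subtype.ext (by simp [Cfsg.Agent.H22.TICore.zC]))) hdef h5 hd4

end Cfsg.Agent.S4528
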