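import Cfsg.Statements.S5127
import Cfsg.Agent.H96.CentralizerStrong
import Cfsg.Agent.H94.NormalSubgroupSystem
import Cfsg.Agent.H95.NormalCriteria

set_option autoImplicit false
open Cfsg

namespace Cfsg.Agent.S5127

open Cfsg.FusionSystem Cfsg.Agent.H96

variable {Ω : Type*} [Group Ω] {S : Subgroup Ω} {p : ℕ} {F : FusionSystem S} {T : Subgroup Ω} {E : FusionSystem T}

/-- The map extends to one fixing `C` elementwise. -/
def Ext (F : FusionSystem S) (C P : Subgroup Ω) (φ : P →* Ω) : Prop :=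
  ∃ ψ ∈ F.Hom (P ⊔ C), (∀ x : P, ψ (Subgroup.inclusion le_sup_left x) = φ x) ∧
    ∀ x : C, ψ (Subgroup.inclusion le_sup_right x) = x

theorem ext_res {C P R : Subgroup Ω} (h : R ≤ P) {φ : P →* Ω} (hy : Ext F C P φ) : Ext F C R (res φ h) := by
  obtain ⟨ψ, hψ, h1, h2⟩ := hy
  have hle : R ⊔ C ≤ P ⊔ C := sup_le_sup_right h _
  exact ⟨res ψ hle, res_mem F hψ hle, fun x => h1 (Subgroup.inclusion h x), fun x => h2 x⟩

theorem ext_comp {C P Q : Subgroup Ω} {φ : P →* Ω} {ψ : Q →* Ω} (hφ : Ext F C P φ)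
    (hψ : Ext F C Q ψ) (h : ∀ x : P, φ x ∈ Q) : Ext F C P (ψ.comp (φ.codRestrict Q h)) := by
  obtain ⟨a, ha, ha1, ha2⟩ := hφ
  obtain ⟨b, hb, hb1, hb2⟩ := hψ
  have hmem : ∀ w, a w ∈ Q ⊔ C := by
    have h1 : P ⊔ C ≤ ((Q ⊔ C).comap a).map (P ⊔ C).subtype := by
      refine sup_le (fun g hg => ⟨⟨g, le_sup_left (b := C) hg⟩, ?_, rfl⟩)
        (fun g hg => ⟨⟨g, le_sup_right (a := P) hg⟩, ?_, rfl⟩)
      · exact Subgroup.mem_sup_left ((ha1 ⟨g, hg⟩).symm ▸ h ⟨g, hg⟩)
      · exact Subgroup.mem_sup_right ((ha2 ⟨g, hg⟩).symm ▸ hg)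
    intro w
    obtain ⟨w', hw, e⟩ := h1 w.2
    rw [show w = w' from Subtype.ext e.symm]
    exact hw
  obtain ⟨c, hc, hce⟩ := exists_comp F ha hb hmem
  refine ⟨c, hc, fun x => ?_, fun x => ?_⟩
  · rw [hce]
    refine Eq.trans ?_ (hb1 ⟨φ x, h x⟩)
    exact congrArg b (Subtype.ext (ha1 x))
  · rw [hce]
    refine Eq.trans ?_ (hb2 x)
    exact congrArg b (Subtype.ext (ha2 x))

/-- The subgroups of `C_S(T)` centralized by the subsystem. -/
def Good (F : FusionSystem S) (E : FusionSystem T) (Y : Subgroup Ω) : Prop :=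
  Y ≤ centralizerIn S T ∧ ∀ P : Subgroup Ω, E.Hom P ⊆ F.centralizerHom Y P

theorem good_of_ext (hE : E.IsInvariantIn F) {Y : Subgroup Ω} (hY : Y ≤ centralizerIn S T)
    (h : ∀ (P : Subgroup Ω) (φ : P →* Ω), φ ∈ E.Hom P → Ext F Y P φ) : Good F E Y := by
  have hcen : T ≤ centralizerIn S Y :=
    le_inf hE.2.1.1 fun t ht => Subgroup.mem_centralizer_iff.2 fun z hz => ((hY hz).2 t ht).symm
  exact ⟨hY, fun P φ hφ => ⟨hE.1 P hφ, (E.le_of_mem hφ).1.trans hcen,
    fun x => hcen ((E.le_of_mem hφ).2 x), h P φ hφ⟩⟩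

theorem good_zpowers (hE : E.IsInvariantIn F) {Y : Subgroup Ω} (hY : Good F E Y) {y : Ω} (hy : y ∈ Y) :
    Good F E (Subgroup.zpowers y) := by
  refine good_of_ext hE ((Subgroup.zpowers_le.2 hy).trans hY.1) fun P φ hφ => ?_
  obtain ⟨-, -, -, ψ, hψ, h1, h2⟩ := hY.2 P hφ
  have hle : P ⊔ Subgroup.zpowers y ≤ P ⊔ Y := sup_le_sup_left (Subgroup.zpowers_le.2 hy) _
  exact ⟨res ψ hle, res_mem F hψ hle, fun x => h1 x, fun x => h2 ⟨x, Subgroup.zpowers_le.2 hy x.2⟩⟩

variable [Finite S]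

/-- Images of centralized elements under maps defined on `T` are centralized. -/
theorem good_map (hE : E.IsInvariantIn F) {D : Subgroup Ω} {φ : D →* Ω} (hφ : φ ∈ F.Hom D) (hTD : T ≤ D)
    {y : Ω} (hyD : y ∈ D) (hy : Good F E (Subgroup.zpowers y)) : Good F E (Subgroup.zpowers (φ ⟨y, hyD⟩)) := by
  have hTS := hE.2.1.1
  have := finite_of_le hTS
  have hzD : Subgroup.zpowers y ≤ D := Subgroup.zpowers_le.2 hyD
  have hle : T ⊔ Subgroup.zpowers y ≤ D := sup_le hTD hzD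
  have hTm : ∀ x : T, res φ hTD x ∈ T := hE.2.1.2 T le_rfl _ (res_mem F hφ hTD)
  have hTr : (res φ hTD).range = T := range_eq_of_forall_mem F (res_mem F hφ hTD) hTm
  set y' := φ ⟨y, hyD⟩
  have hy' : y' ∈ centralizerIn S T := by
    refine ⟨(F.le_of_mem hφ).2 _, fun t ht => ?_⟩
    obtain ⟨t₀, rfl⟩ := hTr.ge ht
    rw [res_apply, ← map_mul, ← map_mul]
    exact congrArg φ (Subtype.ext ((hy.1 (Subgroup.mem_zpowers y)).2 t₀ t₀.2))
  refine good_of_ext hE (Subgroup.zpowers_le.2 hy') fun P ξ hξ => ?_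
  have hPT : P ≤ T := (E.le_of_mem hξ).1
  obtain ⟨i, hi, hir, hie⟩ := exists_inv F (res_mem F hφ hle) rfl
  have hTR : T ≤ (res φ hle).range := fun t ht => by
    obtain ⟨t₀, rfl⟩ := hTr.ge ht
    exact ⟨⟨t₀, Subgroup.mem_sup_left t₀.2⟩, rfl⟩
  have hyR : Subgroup.zpowers y' ≤ (res φ hle).range :=
    Subgroup.zpowers_le.2 ⟨⟨y, Subgroup.mem_sup_right (Subgroup.mem_zpowers y)⟩, rfl⟩
  obtain ⟨a, ha, hae⟩ := exists_autGroup_of_mem F (res_mem F hi hTR) (hE.2.1.2 T le_rfl _ (res_mem F hi hTR))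
  obtain ⟨χ, hχ, hχe⟩ := hE.2.2.1 P hPT ξ hξ a ha
  obtain ⟨-, -, -, ψ, hψ, hψ1, hψ2⟩ := hy.2 _ hχ
  have hdom : P ⊔ Subgroup.zpowers y' ≤ (res φ hle).range := sup_le (hPT.trans hTR) hyR
  have hzy : ∀ z (hz : z ∈ Subgroup.zpowers y'), ∃ k : ℤ, z = y' ^ k ∧ i ⟨z, hyR hz⟩ = y ^ k := by
    intro z hz
    obtain ⟨k, rfl⟩ := Subgroup.mem_zpowers_iff.1 hz
    refine ⟨k, rfl, ?_⟩
    rw [show (⟨y' ^ k, hyR hz⟩ : (res φ hle).range) = ⟨y', hyR (Subgroup.mem_zpowers y')⟩ ^ k from Subtype.ext (by simp),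
      map_zpow]
    exact congrArg (· ^ k) (hie ⟨y, Subgroup.mem_sup_right (Subgroup.mem_zpowers y)⟩ _)
  have hmem1 : ∀ w, res i hdom w ∈ (P.subgroupOf T).map (T.subtype.comp a.toMonoidHom) ⊔ Subgroup.zpowers y := by
    have h1 : P ⊔ Subgroup.zpowers y' ≤
        (((P.subgroupOf T).map (T.subtype.comp a.toMonoidHom) ⊔ Subgroup.zpowers y).comap (res i hdom)).map
          (P ⊔ Subgroup.zpowers y').subtype := by
      refine sup_le (fun g hg => ⟨⟨g, le_sup_left (b := Subgroup.zpowers y') hg⟩, ?_, rfl⟩)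
        (fun g hg => ⟨⟨g, le_sup_right (a := P) hg⟩, ?_, rfl⟩)
      · exact Subgroup.mem_sup_left ⟨⟨g, hPT hg⟩, hg, hae ⟨g, hPT hg⟩⟩
      · obtain ⟨k, rfl, hk⟩ := hzy g hg
        show i ⟨y' ^ k, hyR hg⟩ ∈ (P.subgroupOf T).map (T.subtype.comp a.toMonoidHom) ⊔ Subgroup.zpowers y
        rw [hk]
        exact Subgroup.mem_sup_right (Subgroup.zpow_mem_zpowers y k)
    intro w
    obtain ⟨w', hw, e⟩ := h1 w.2
    rw [show w = w' from Subtype.ext e.symm]
    exact hw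
  obtain ⟨c, hc, hce⟩ := exists_comp F (res_mem F hi hdom) hψ hmem1
  have hvalP : ∀ x : P, c (Subgroup.inclusion le_sup_left x) = ((a ⟨ξ x, (E.le_of_mem hξ).2 x⟩ : T) : Ω) := by
    intro x
    have hax : ((a ⟨x, hPT x.2⟩ : T) : Ω) ∈ (P.subgroupOf T).map (T.subtype.comp a.toMonoidHom) :=
      ⟨⟨x, hPT x.2⟩, x.2, rfl⟩
    rw [hce, ← hχe x _ hax, ← hψ1]
    exact congrArg ψ (Subtype.ext (hae ⟨x, hPT x.2⟩).symm)
  have hvalY : ∀ (z : Subgroup.zpowers y') (k : ℤ), (z : Ω) = y' ^ k → i ⟨z, hyR z.2⟩ = y ^ k →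
      c (Subgroup.inclusion le_sup_right z) = y ^ k := by
    intro z k _ hk
    rw [hce]
    refine Eq.trans ?_ (hψ2 ⟨y ^ k, Subgroup.zpow_mem_zpowers y k⟩)
    exact congrArg ψ (Subtype.ext hk)
  have hmem2 : ∀ w, c w ∈ D := by
    have h1 : P ⊔ Subgroup.zpowers y' ≤ (D.comap c).map (P ⊔ Subgroup.zpowers y').subtype := by
      refine sup_le (fun g hg => ⟨⟨g, le_sup_left (b := Subgroup.zpowers y') hg⟩, ?_, rfl⟩)
        (fun g hg => ⟨⟨g, le_sup_right (a := P) hg⟩, ?_, rfl⟩)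
      · show c (Subgroup.inclusion le_sup_left ⟨g, hg⟩) ∈ D
        rw [hvalP]
        exact hTD (SetLike.coe_mem _)
      · obtain ⟨k, hk1, hk2⟩ := hzy g hg
        show c (Subgroup.inclusion le_sup_right ⟨g, hg⟩) ∈ D
        rw [hvalY ⟨g, hg⟩ k hk1 hk2]
        exact D.zpow_mem hyD k
    intro w
    obtain ⟨w', hw, e⟩ := h1 w.2
    rw [show w = w' from Subtype.ext e.symm]
    exact hw
  obtain ⟨d, hd, hde⟩ := exists_comp F hc hφ hmem2
  refine ⟨d, hd, fun x => ?_, fun z => ?_⟩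
  · rw [hde]
    obtain ⟨⟨v, hv⟩, hiv⟩ := hTR ((E.le_of_mem hξ).2 x)
    refine Eq.trans (congrArg φ (Subtype.ext ((hvalP x).trans (hae _)) :
      (⟨c (Subgroup.inclusion le_sup_left x), hmem2 _⟩ : D) = ⟨i ⟨ξ x, hTR ((E.le_of_mem hξ).2 x)⟩, hle (hir.le ⟨_, rfl⟩)⟩)) ?_
    refine Eq.trans ?_ hiv
    refine congrArg φ (Subtype.ext ?_)
    exact (congrArg i (Subtype.ext hiv.symm)).trans (hie ⟨v, hv⟩ ⟨_, rfl⟩)
  · obtain ⟨k, hk1, hk2⟩ := hzy z z.2
    rw [hde]
    refine Eq.trans (congrArg φ (Subtype.ext (hvalY z k hk1 hk2) :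
      (⟨c (Subgroup.inclusion le_sup_right z), hmem2 _⟩ : D) = (⟨y, hyD⟩ : D) ^ k)) ?_
    rw [map_zpow]
    exact hk1.symm

omit [Finite S] in
/-- Conjugates of an `E`-centric subgroup in the ambient system centralize only into themselves within `T`. -/
theorem centralizer_le_of_centric (hE : E.IsInvariantIn F) {R R₁ : Subgroup Ω} (hc : E.IsCentric R)
    {φ : R →* Ω} (hφ : φ ∈ F.Hom R) (hr : φ.range = R₁) : centralizerIn T R₁ ≤ R₁ := by
  obtain ⟨α, hα, φ₀, hφ₀, hφe⟩ := hE.2.2.2 R hc.1 φ hφ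
  intro v hv
  set u : T := α⁻¹ ⟨v, hv.1⟩
  have hu : (u : Ω) ∈ φ₀.range := by
    refine hc.2 φ₀.range ⟨φ₀, hφ₀, rfl⟩ ⟨u.2, ?_⟩
    rintro _ ⟨x, rfl⟩
    have h1 := hv.2 _ (hr.le ⟨x, rfl⟩)
    rw [show φ x = ((α ⟨φ₀ x, (E.le_of_mem hφ₀).2 x⟩ : T) : Ω) from hφe x _] at h1
    have h2 : α ⟨φ₀ x, (E.le_of_mem hφ₀).2 x⟩ * ⟨v, hv.1⟩ = ⟨v, hv.1⟩ * α ⟨φ₀ x, (E.le_of_mem hφ₀).2 x⟩ :=
      Subtype.ext h1
    have h3 := congrArg (⇑α⁻¹) h2
    rw [map_mul, map_mul, MulAut.inv_apply_self] at h3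
    exact congrArg Subtype.val h3
  obtain ⟨x, hx⟩ := hu
  have e : (⟨v, hv.1⟩ : T) = α ⟨φ₀ x, (E.le_of_mem hφ₀).2 x⟩ := by
    rw [show (⟨φ₀ x, (E.le_of_mem hφ₀).2 x⟩ : T) = u from Subtype.ext hx, MulAut.apply_inv_self]
  exact hr.le ⟨x, ((congrArg Subtype.val e).trans (hφe x _).symm).symm⟩

variable [Fact p.Prime]

/-- An automorphism of order prime to `p` lies in any subgroup containing its prime power parts. -/
theorem mem_of_coprime_parts {G : Type*} [Group G] {H : Subgroup G}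
    (h : ∀ (q : ℕ), q.Prime → q ≠ p → ∀ e : ℕ, ∀ a : G, a ^ q ^ e = 1 → a ∈ H) :
    ∀ n : ℕ, ∀ a : G, a ^ n = 1 → n.Coprime p → a ∈ H := by
  intro n
  induction n using Nat.recOnPrimeCoprime with
  | zero =>
    intro a _ hc
    exact absurd (Nat.coprime_zero_left p |>.1 hc) (Fact.out : p.Prime).one_lt.ne'
  | prime_pow q k hq =>
    intro a he hc
    rcases Nat.eq_zero_or_pos k with rfl | hk
    · rw [pow_zero, pow_one] at he
      exact he ▸ H.one_mem
    · exact h q hq (fun hqp => by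
        rw [hqp, Nat.coprime_pow_left_iff hk, Nat.coprime_self] at hc
        exact (Fact.out : p.Prime).one_lt.ne' hc) k a he
  | coprime u v _ _ huv ihu ihv =>
    intro a he hc
    have h1 : a ^ v ∈ H := ihu _ (by rw [← pow_mul, mul_comm, he]) (Nat.Coprime.coprime_mul_right hc)
    have h2 : a ^ u ∈ H := ihv _ (by rw [← pow_mul, he]) (Nat.Coprime.coprime_mul_left hc)
    have e := Nat.gcd_eq_gcd_ab u v
    rw [huv, Nat.cast_one] at e
    rw [← zpow_one a, e, zpow_add, zpow_mul, zpow_mul, zpow_natCast, zpow_natCast]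
    exact H.mul_mem (H.zpow_mem h2 _) (H.zpow_mem h1 _)

/-- A coprime lift fixes every centralized element. -/
theorem fix_of_good (hS : IsPGroup p S) (hF : F.IsSaturated p) {U U₁ : Subgroup Ω}
    {χ : normalizerIn S U →* Ω} (t : Target F U U₁ χ) (hUT : U ≤ T) {a : MulAut U} (ha : a ∈ t.liftGroup)
    (haE : a ∈ E.autGroup U) {W : Subgroup Ω} (hW : W ≤ S) (hUW : U ≤ W) {b : MulAut W} (hb : b ∈ F.autGroup W)
    (hbm : ModTrivial U b) (hbR : ∀ x : U, b (Subgroup.inclusion hUW x) = Subgroup.inclusion hUW (a x))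
    {q : ℕ} [Fact q.Prime] (hqp : q ≠ p) {e : ℕ} (hbq : b ^ q ^ e = 1) {y : Ω} (hy : y ∈ W)
    (hgood : Good F E (Subgroup.zpowers y)) : b ⟨y, hy⟩ = ⟨y, hy⟩ := by
  have hyT : y ∈ centralizerIn S T := hgood.1 (Subgroup.mem_zpowers y)
  have hyU : y ∈ centralizerIn S U := ⟨hyT.1, Subgroup.centralizer_le hUT hyT.2⟩
  set Y : ↥(U ⊔ Subgroup.zpowers y) := ⟨y, Subgroup.mem_sup_right (Subgroup.mem_zpowers y)⟩
  have hX : U ⊔ Subgroup.zpowers y ≤ W := sup_le hUW (Subgroup.zpowers_le.2 hy)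
  have := finite_of_le (hX.trans hW)
  obtain ⟨b', hb', hb'e⟩ := exists_restrict hW hX hb fun w => modTrivial_invariant hbm le_sup_left hX w
  have hb'm : ModTrivial U b' := fun w => by
    have h := hbm (Subgroup.inclusion hX w)
    rw [hb'e] at h
    exact h
  have hb'R : ∀ x : U, b' (Subgroup.inclusion le_sup_left x) = Subgroup.inclusion le_sup_left (a x) := fun x =>
    Subgroup.inclusion_injective hX (by rw [← hb'e]; exact hbR x)
  have hb'q : b' ^ q ^ e = 1 := MulEquiv.ext fun w => Subgroup.inclusion_injective hX (by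
    rw [← pow_intertwine (Subgroup.inclusion hX) hb'e, hbq]; rfl)
  obtain ⟨-, -, -, ψ, hψ, hψ1, hψ2⟩ := hgood.2 U ((mem_autGroup E hUT).1 haE)
  have hmem : ∀ w, ψ w ∈ U ⊔ Subgroup.zpowers y := by
    have h1 : U ⊔ Subgroup.zpowers y ≤
        ((U ⊔ Subgroup.zpowers y).comap ψ).map (U ⊔ Subgroup.zpowers y).subtype :=
      sup_le (fun g hg => ⟨⟨g, le_sup_left (b := Subgroup.zpowers y) hg⟩,
          Subgroup.mem_sup_left ((hψ1 ⟨g, hg⟩).symm ▸ (a ⟨g, hg⟩).2), rfl⟩)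
        (fun g hg => ⟨⟨g, le_sup_right (a := U) hg⟩, Subgroup.mem_sup_right ((hψ2 ⟨g, hg⟩).symm ▸ hg), rfl⟩)
    intro w
    obtain ⟨w', hw, e⟩ := h1 w.2
    rw [show w = w' from Subtype.ext e.symm]
    exact hw
  obtain ⟨b₀, hb₀, hb₀e⟩ := exists_autGroup_of_mem F hψ hmem
  have hb₀R : ∀ x : U, b₀ (Subgroup.inclusion le_sup_left x) = Subgroup.inclusion le_sup_left (a x) :=
    fun x => Subtype.ext ((hb₀e _).trans (hψ1 x))
  have hb₀m : ModTrivial U b₀ := by
    refine modTrivial_of_sup ((Subgroup.zpowers_le.2 hyU).trans inf_le_right) (fun x => ?_) (fun x => ?_)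
    · rw [hb₀R]; exact (a x).2
    · rw [hb₀e, hψ2, inv_mul_cancel]; exact U.one_mem
  have hb₀y : b₀ Y = Y :=
    Subtype.ext ((hb₀e _).trans (hψ2 ⟨y, Subgroup.mem_zpowers y⟩))
  have := t.fixed_of_lift hS hF hqp ha hyU hb₀ hb₀m hb₀R hb₀y hb' hb'm hb'R hb'q
  exact (hb'e Y).trans (congrArg (Subgroup.inclusion hX) this)

/-- The subsystem centralizes the join of all subgroups it centralizes. -/
theorem ext_sup (hS : IsPGroup p S) (hF : F.IsSaturated p) (hE : E.IsNormalIn F p) {P : Subgroup Ω} {φ : P →* Ω}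
    (hφ : φ ∈ E.Hom P) : Ext F (sSup {Y | Good F E Y}) P φ := by
  set C := sSup {Y | Good F E Y}
  have hI := hE.1.2.2
  have hTS : T ≤ S := hI.2.1.1
  have := finite_of_le hTS
  have hS' : IsPGroup p T := hS.to_le hTS
  have hCT : C ≤ centralizerIn S T := sSup_le fun Y hY => hY.1
  refine H94.alperin_induction_step hS' hE.1.1 (fun P φ => Ext F C P φ)
    (fun P R h φ _ hC => ext_res h hC) (fun P Q φ ψ _ _ h1 h2 h => ext_comp h1 h2 h)
    (fun U hU hc _ hlarge α hα => ?_) hφ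
  have hUT := hU.1
  have hUS := hUT.trans hTS
  have := finite_of_le hUS
  have hUCS : U ⊔ C ≤ S := sup_le hUS (hCT.trans inf_le_left)
  -- automorphisms with both directions extending
  let Hc : Subgroup (MulAut U) :=
    { carrier := {a | Ext F C U (U.subtype.comp a.toMonoidHom) ∧ Ext F C U (U.subtype.comp a⁻¹.toMonoidHom)}
      one_mem' := by
        have h : Ext F C U (U.subtype.comp (1 : MulAut U).toMonoidHom) :=
          ⟨(U ⊔ C).subtype, subtype_mem F hUCS, fun x => rfl, fun x => rfl⟩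
        exact ⟨h, by rwa [inv_one]⟩
      mul_mem' := fun {a b} ha hb => ⟨ext_comp hb.1 ha.1 fun x => (b x).2, by
        rw [mul_inv_rev]; exact ext_comp ha.2 hb.2 fun x => (a⁻¹ x).2⟩
      inv_mem' := fun {a} ha => ⟨ha.2, by rw [inv_inv]; exact ha.1⟩ }
  -- a target
  obtain ⟨U₁, χ, t, hE₁, htop⟩ : ∃ (U₁ : Subgroup Ω) (χ : normalizerIn S U →* Ω) (t : Target F U U₁ χ),
      centralizerIn T U₁ ≤ U₁ ∧ (U = T → E.autGroup U ≤ t.liftGroup) := by
    by_cases hUT' : U = T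
    · subst hUT'
      refine ⟨U, _, target_self hI.2.1, ?_, fun _ a ha => ?_⟩
      · exact fun x hx => hx.1
      · obtain ⟨β, hβ, hβT, hβC⟩ := hE.2 a ha
        refine ⟨β, hβ, modTrivial_of_sup (P := centralizerIn S U) inf_le_right (fun x => ?_) (fun x => ?_),
          fun x => Subtype.ext (hβT x)⟩
        · rw [hβT]; exact (a x).2
        · exact (hβC (Subgroup.inclusion le_sup_right x) x.2).1
    · obtain ⟨U₁, χ, t⟩ := exists_target hS hF hUS
      refine ⟨U₁, χ, t, centralizer_le_of_centric hI hc (res_mem F t.hom t.le_normalizerIn) ?_,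
        fun h => absurd h hUT'⟩
      ext y
      constructor
      · rintro ⟨x, rfl⟩; exact t.img _ x.2
      · intro hy
        obtain ⟨x, hx, rfl⟩ := t.sur y hy
        exact ⟨⟨x, hx⟩, rfl⟩
  have hsi := H94.stronglyInvariant_of_invariant hI
  have hAF : E.autGroup U ≤ F.autGroup U := fun a ha =>
    (mem_autGroup F hUS).2 (hI.1 U ((mem_autGroup E hUT).1 ha))
  obtain ⟨L, hLdef⟩ : ∃ L, L = (t.liftGroup ⊓ E.autGroup U).subgroupOf (E.autGroup U) := ⟨_, rfl⟩
  have hLn : L.Normal := ⟨fun l hl a => by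
    rw [hLdef] at hl ⊢
    exact Subgroup.mem_subgroupOf.2 ⟨t.liftGroup_conj hS hF (hAF a.2) (Subgroup.mem_subgroupOf.1 hl).1,
      (a * l * a⁻¹ : E.autGroup U).2⟩⟩
  have hTL : (autInducedBy T U).subgroupOf (E.autGroup U) ≤ L := fun a ha => by
    rw [hLdef]
    exact Subgroup.mem_subgroupOf.2 ⟨t.autInducedBy_le_liftGroup hI.2.1 hE₁ (Subgroup.mem_subgroupOf.1 ha), a.2⟩
  obtain ⟨hA, hrec⟩ := H94.fullyNormalized_spec hS' hE.1.1 hU
  obtain ⟨R, hR⟩ := hA.2
  have hRL : (R : Subgroup (E.autGroup U)) ≤ L := hR.le.trans hTL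
  -- conjugations by `T`
  have hTHc : ∀ a ∈ autInducedBy T U, a ∈ Hc := by
    suffices h : ∀ a ∈ autInducedBy T U, Ext F C U (U.subtype.comp a.toMonoidHom) from
      fun a ha => ⟨h a ha, h _ (inv_mem ha)⟩
    intro a ha
    obtain ⟨s, hs, hse⟩ := mem_autInducedBy.1 ha
    refine ⟨conjHom _ s, F.conj_mem hUCS (hTS hs), fun x => (hse x).symm, fun x => ?_⟩
    show s * (x : Ω) * s⁻¹ = x
    rw [(hCT x.2).2 s hs, mul_inv_cancel_right]
  -- coprime elements of `L`
  have hqL : ∀ (q : ℕ), q.Prime → q ≠ p → ∀ e : ℕ, ∀ l : L, l ^ q ^ e = 1 →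
      Ext F C U (U.subtype.comp ((l : E.autGroup U) : MulAut U).toMonoidHom) := by
    intro q hq hqp e l hl
    have := Fact.mk hq
    set a : MulAut U := ((l : E.autGroup U) : MulAut U)
    have hla : a ∈ t.liftGroup ⊓ E.autGroup U := Subgroup.mem_subgroupOf.1 (hLdef ▸ l.2)
    have haq : a ^ q ^ e = 1 := congrArg (fun z : L => ((z : E.autGroup U) : MulAut U)) hl
    have hPU : centralizerIn S T ≤ centralizerIn S U := inf_le_inf_left S (Subgroup.centralizer_le hUT)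
    obtain ⟨b, hb, hbm, hbR⟩ := t.pullback hla.1 hPU
    have hWS : U ⊔ centralizerIn S T ≤ S := sup_le hUS inf_le_left
    have := finite_of_le hWS
    have : Finite (MulAut ↥(U ⊔ centralizerIn S T)) :=
      Finite.of_injective (fun a : MulAut _ => (a : _ → _)) DFunLike.coe_injective
    obtain ⟨s, ⟨e', hbq⟩, hbu⟩ := exists_qLift (Subgroup.inclusion le_sup_left) hbR ⟨e, haq⟩
    have hbm' : ModTrivial U (b ^ s) := by
      clear hbq hbu
      induction s with
      | zero => exact modTrivial_one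
      | succ s ih => rw [pow_succ]; exact modTrivial_mul ih hbm
    have hfix : C ≤ fixedPts (b ^ s) := sSup_le fun Y hY y hy => mem_fixedPts.2
      ⟨Subgroup.mem_sup_right (hY.1 hy), fix_of_good hS hF t hUT hla.1 hla.2 hWS le_sup_left (pow_mem hb s)
        hbm' hbu hqp hbq _ (good_zpowers hI hY hy)⟩
    have hle : U ⊔ C ≤ U ⊔ centralizerIn S T := sup_le_sup_left hCT U
    refine ⟨res ((U ⊔ centralizerIn S T).subtype.comp (b ^ s).toMonoidHom) hle,
      res_mem F ((mem_autGroup F hWS).1 (pow_mem hb s)) hle, fun x => congrArg Subtype.val (hbu x), fun x => ?_⟩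
    obtain ⟨_, hf⟩ := mem_fixedPts.1 (hfix x.2)
    exact congrArg Subtype.val hf
  obtain ⟨n, hn, l, hl, he⟩ := H94.exists_mul_normalizer_inf R L ⟨α, hα⟩
  rw [inf_eq_left.2 hRL] at hn
  -- `l`
  have hlHc : ((l : E.autGroup U) : MulAut U) ∈ Hc := by
    obtain ⟨k, hk, r, hr, hlr⟩ := H94.exists_pResidual_mul_sylow (R.subtype hRL) (⟨l, hl⟩ : L)
    have e : ((l : E.autGroup U) : MulAut U) = ((k : E.autGroup U) : MulAut U) * ((r : E.autGroup U) : MulAut U) :=
      congrArg (fun z : L => ((z : E.autGroup U) : MulAut U)) hlr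
    rw [e]
    refine Hc.mul_mem ?_ (hTHc _ (Subgroup.mem_subgroupOf.1 (hR.le hr)))
    suffices h : pResidual p L ≤ Hc.comap ((E.autGroup U).subtype.comp L.subtype) from h hk
    refine (Subgroup.closure_le _).2 fun a ha => ?_
    refine mem_of_coprime_parts (p := p) (H := Hc.comap ((E.autGroup U).subtype.comp L.subtype))
      (fun q hq hqp e a ha => ?_) (orderOf a) a (pow_orderOf_eq_one a) ha
    exact ⟨hqL q hq hqp e a ha, hqL q hq hqp e a⁻¹ (by rw [inv_pow, ha, inv_one])⟩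
  -- `n`
  have hnH := (mem_autGroup E hUT).1 n.2
  have hnExt : Ext F C U (U.subtype.comp (n : MulAut U).toMonoidHom) := by
    by_cases hUT' : U = T
    · -- everything lies in `L`
      subst hUT'
      have hnL : n ∈ L := by
        rw [hLdef]
        exact Subgroup.mem_subgroupOf.2 ⟨htop rfl n.2, n.2⟩
      obtain ⟨k, hk, r, hr, hlr⟩ := H94.exists_pResidual_mul_sylow (R.subtype hRL) (⟨n, hnL⟩ : L)
      have e : (n : MulAut U) = ((k : E.autGroup U) : MulAut U) * ((r : E.autGroup U) : MulAut U) :=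
        congrArg (fun z : L => ((z : E.autGroup U) : MulAut U)) hlr
      refine (show (n : MulAut U) ∈ Hc from ?_).1
      rw [e]
      refine Hc.mul_mem ?_ (hTHc _ (Subgroup.mem_subgroupOf.1 (hR.le hr)))
      suffices h : pResidual p L ≤ Hc.comap ((E.autGroup U).subtype.comp L.subtype) from h hk
      refine (Subgroup.closure_le _).2 fun a ha => ?_
      refine mem_of_coprime_parts (p := p) (H := Hc.comap ((E.autGroup U).subtype.comp L.subtype))
        (fun q hq hqp e a ha => ?_) (orderOf a) a (pow_orderOf_eq_one a) ha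
      exact ⟨hqL q hq hqp e a ha, hqL q hq hqp e a⁻¹ (by rw [inv_pow, ha, inv_one])⟩
    · have hnr : (U.subtype.comp (n : MulAut U).toMonoidHom).range = U :=
        range_eq_of_forall_mem E hnH fun x => ((n : MulAut U) x).2
      obtain ⟨ψ, hψ, hψe⟩ := hrec.2 U _ hnH hnr
      let Nφ := extender T U (U.subtype.comp (n : MulAut U).toMonoidHom)
      have hUN : U ≤ Nφ := H94.le_extender_aut hUT _
      have hgt : Nat.card U < Nat.card Nφ := by
        have hlt : U < normalizerIn T U := H94.lt_normalizerIn hS' (lt_of_le_of_ne hUT hUT')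
        have hNle : normalizerIn T U ≤ Nφ := by
          intro g hg
          obtain ⟨c, hc, hce⟩ := exists_autGroup_of_mem E (E.conj_mem hUT hg.1)
            (fun x => (Subgroup.mem_normalizer_iff.1 hg.2 x).1 x.2)
          refine H94.mem_extender_of_conj (β := c) hg.1 hg.2 hce ?_
          have h1 : (⟨c, hc⟩ : E.autGroup U) ∈ (R : Subgroup (E.autGroup U)) :=
            hR.ge (Subgroup.mem_subgroupOf.2 (mem_autInducedBy.2 ⟨g, hg.1, hce⟩))
          exact Subgroup.mem_subgroupOf.1 (hR.le ((Subgroup.mem_normalizer_iff.1 hn _).1 h1))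
        have := finite_of_le (E.le_of_mem hψ).1
        exact lt_of_le_of_ne (Subgroup.card_le_of_le hUN) fun h =>
          (hlt.trans_le hNle).ne (Subgroup.eq_of_le_of_card_ge hUN h.ge)
      have h1 := ext_res hUN (hlarge Nφ ψ hψ hgt)
      rwa [show res ψ hUN = U.subtype.comp (n : MulAut U).toMonoidHom from
        MonoidHom.ext fun x => hψe x x.2 _] at h1
  have h2 := ext_comp hlHc.1 hnExt fun x => ((l : MulAut U) x).2
  rwa [show ((U.subtype.comp (n : MulAut U).toMonoidHom).comp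
      ((U.subtype.comp (l : MulAut U).toMonoidHom).codRestrict U fun x => ((l : MulAut U) x).2)) =
      U.subtype.comp α.toMonoidHom from MonoidHom.ext fun x => by
        show (((n : MulAut U) ((l : MulAut U) x) : U) : Ω) = (α x : U)
        rw [← MulAut.mul_apply, ← Subgroup.coe_mul, ← he]] at h2

/-- The largest centralized subgroup is strongly closed. -/
theorem map_mem (hS : IsPGroup p S) (hF : F.IsSaturated p) (hE : E.IsNormalIn F p) {C : Subgroup Ω}
    (hC : Good F E C) (hmax : ∀ Y, Good F E Y → Y ≤ C) {P : Subgroup Ω} {φ : P →* Ω} (hφ : φ ∈ F.Hom P)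
    (x : P) (hx : (x : Ω) ∈ C) : φ x ∈ C := by
  have hI := hE.1.2.2
  have hTc := hI.2.1
  have hTS : T ≤ S := hTc.1
  have := finite_of_le hTS
  have hgen : ∀ (D : Subgroup Ω) (ψ : D →* Ω), ψ ∈ F.Hom D → T ≤ D → ∀ w : D, (w : Ω) ∈ C → ψ w ∈ C :=
    fun D ψ hψ hTD w hw =>
      hmax _ (good_map hI hψ hTD w.2 (good_zpowers hI hC hw)) (Subgroup.mem_zpowers _)
  refine H94.alperin_induction_step hS hF (fun P φ => ∀ w : P, (w : Ω) ∈ C → φ w ∈ C)
    (fun P R h φ _ hC w hw => hC ⟨w, h w.2⟩ hw) (fun P Q φ ψ _ _ h1 h2 h w hw => h2 ⟨φ w, h w⟩ (h1 w hw))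
    (fun U hU hc hr hlarge α hα => ?_) hφ x hx
  have hUS := hU.1
  have := finite_of_le hUS
  have hαF := (mem_autGroup F hUS).1 hα
  by_cases hTU : T ≤ U
  · exact hgen U _ hαF hTU
  set V := U ⊓ T with hVdef
  have hVT : V ≤ T := inf_le_right
  have hVU : V ≤ U := inf_le_left
  have hVS : V ≤ S := hVU.trans hUS
  have hVc : E.IsCentric V := by
    by_contra hnot
    obtain ⟨ψ, hψ, w, hw, hwn⟩ := H93.exists_opMem_conj hS hF hI.1 hTc hc hnot
    exact H93.not_isRadical_of_opMem_conj hc hψ hw hwn hr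
  obtain ⟨V₁, χ, t⟩ := exists_target hS hF hVS
  have hE₁ : centralizerIn T V₁ ≤ V₁ := by
    refine centralizer_le_of_centric hI hVc (res_mem F t.hom t.le_normalizerIn) ?_
    ext y
    constructor
    · rintro ⟨w, rfl⟩; exact t.img _ w.2
    · intro hy
      obtain ⟨w, hw, rfl⟩ := t.sur y hy
      exact ⟨⟨w, hw⟩, rfl⟩
  have hsi := H94.stronglyInvariant_of_invariant hI
  have hinvV : ∀ a ∈ F.autGroup U, ∀ v : V, ((a (Subgroup.inclusion hVU v) : U) : Ω) ∈ V := fun a ha v =>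
    ⟨(a _).2, hTc.2 V hVT _ (res_mem F ((mem_autGroup F hUS).1 ha) hVU) v⟩
  -- the automorphisms lifting on `V`
  let L : Subgroup (MulAut U) :=
    { carrier := {a | a ∈ F.autGroup U ∧ ModTrivial V a ∧ ∃ a' ∈ t.liftGroup ⊓ E.autGroup V,
        ∀ v, a (Subgroup.inclusion hVU v) = Subgroup.inclusion hVU (a' v)}
      one_mem' := ⟨one_mem _, modTrivial_one, 1, one_mem _, fun _ => rfl⟩
      mul_mem' := by
        rintro a b ⟨ha, ham, a', ha', hae⟩ ⟨hb, hbm, b', hb', hbe⟩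
        exact ⟨mul_mem ha hb, modTrivial_mul ham hbm, a' * b', mul_mem ha' hb',
          fun v => by rw [MulAut.mul_apply, hbe, hae]; rfl⟩
      inv_mem' := by
        rintro a ⟨ha, ham, a', ha', hae⟩
        refine ⟨inv_mem ha, modTrivial_inv ham, a'⁻¹, inv_mem ha', fun v => a.injective ?_⟩
        rw [MulAut.apply_inv_self, hae, MulAut.apply_inv_self] }
  have hLle : L ≤ F.autGroup U := fun a ha => ha.1
  have : (L.subgroupOf (F.autGroup U)).Normal := ⟨fun l hl a => by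
    obtain ⟨hl1, hlm, l', ⟨hl't, hl'E⟩, hle⟩ := Subgroup.mem_subgroupOf.1 hl
    obtain ⟨aV, haV, haVe⟩ := exists_restrict hUS hVU a.2 (hinvV a a.2)
    refine Subgroup.mem_subgroupOf.2 ⟨(a * l * a⁻¹ : F.autGroup U).2, fun w => ?_, aV * l' * aV⁻¹,
      ⟨t.liftGroup_conj hS hF haV hl't, H94.autGroup_conj_mem hsi hTS hVT haV hl'E⟩, fun v => ?_⟩
    · set z : U := ((a : MulAut U)⁻¹ w)⁻¹ * (l : MulAut U) ((a : MulAut U)⁻¹ w) with hz
      have hzV : (z : Ω) ∈ V := hlm _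
      have h1 := hinvV a a.2 ⟨z, hzV⟩
      rw [show Subgroup.inclusion hVU ⟨(z : Ω), hzV⟩ = z from rfl, hz, map_mul, map_inv, MulAut.apply_inv_self] at h1
      exact h1
    · have h1 : (a : MulAut U)⁻¹ (Subgroup.inclusion hVU v) = Subgroup.inclusion hVU (aV⁻¹ v) :=
        (a : MulAut U).injective (by rw [MulAut.apply_inv_self, haVe, MulAut.apply_inv_self])
      show (a : MulAut U) ((l : MulAut U) ((a : MulAut U)⁻¹ _)) = _
      rw [h1, hle, haVe]
      rfl⟩
  have hTL : autInducedBy T U ≤ L := by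
    intro a ha
    obtain ⟨s, hs, hse⟩ := mem_autInducedBy.1 ha
    have haF : a ∈ F.autGroup U := autInducedBy_le_autGroup F hUS (mem_autInducedBy.2 ⟨s, hTS hs, hse⟩)
    obtain ⟨aV, -, haVe⟩ := exists_restrict hUS hVU haF (hinvV a haF)
    have haVT : aV ∈ autInducedBy T V :=
      mem_autInducedBy.2 ⟨s, hs, fun v => (congrArg Subtype.val (haVe v)).symm.trans (hse _)⟩
    refine ⟨haF, fun w => ⟨U.mul_mem (U.inv_mem w.2) (a w).2, ?_⟩, aV,
      ⟨t.autInducedBy_le_liftGroup hTc hE₁ haVT, autInducedBy_le_autGroup E hVT haVT⟩, haVe⟩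
    rw [hse]
    have h1 := (Subgroup.mem_normalizer_iff.1
      (H93.StronglyClosed.le_normalizer hTc (S.inv_mem (hUS w.2))) s).1 hs
    rw [inv_inv] at h1
    have h2 := T.mul_mem h1 (T.inv_mem hs)
    simpa [mul_assoc] using h2
  obtain ⟨hA, hrec⟩ := H94.fullyNormalized_spec hS hF hU
  obtain ⟨R, hR⟩ := hA.2
  obtain ⟨n, hn, l, hl, he⟩ := H94.exists_mul_normalizer_inf R (L.subgroupOf (F.autGroup U)) ⟨α, hα⟩
  -- automorphisms preserving `C`
  let Hc : Subgroup (MulAut U) :=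
    { carrier := {a | ∀ w : U, (w : Ω) ∈ C ↔ ((a w : U) : Ω) ∈ C}
      one_mem' := fun w => Iff.rfl
      mul_mem' := fun {a b} ha hb w => (hb w).trans (ha (b w))
      inv_mem' := fun {a} ha w => by
        have h := ha (a⁻¹ w)
        rw [MulAut.apply_inv_self] at h
        exact h.symm }
  have hlHc : ((l : F.autGroup U) : MulAut U) ∈ Hc := by
    obtain ⟨R', hR'⟩ := H94.exists_sylow_inf_normal R (L.subgroupOf (F.autGroup U))
    obtain ⟨k, hk, r, hr', hlr⟩ := H94.exists_pResidual_mul_sylow R' ⟨l, hl⟩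
    have e : ((l : F.autGroup U) : MulAut U) = ((k : F.autGroup U) : MulAut U) * ((r : F.autGroup U) : MulAut U) :=
      congrArg (fun z : L.subgroupOf (F.autGroup U) => ((z : F.autGroup U) : MulAut U)) hlr
    rw [e]
    refine Hc.mul_mem ?_ ?_
    · suffices h : pResidual p (L.subgroupOf (F.autGroup U)) ≤
          Hc.comap ((F.autGroup U).subtype.comp (L.subgroupOf (F.autGroup U)).subtype) from h hk
      refine (Subgroup.closure_le _).2 fun a ha => ?_
      refine mem_of_coprime_parts (p := p)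
        (H := Hc.comap ((F.autGroup U).subtype.comp (L.subgroupOf (F.autGroup U)).subtype))
        (fun q hq hqp e a ha => ?_) (orderOf a) a (pow_orderOf_eq_one a) ha
      have := Fact.mk hq
      obtain ⟨haF, ham, a', ⟨ha't, ha'E⟩, hae⟩ := Subgroup.mem_subgroupOf.1 a.2
      have haq : ((a : F.autGroup U) : MulAut U) ^ q ^ e = 1 :=
        congrArg (fun z : L.subgroupOf (F.autGroup U) => ((z : F.autGroup U) : MulAut U)) ha
      have hfix : ∀ w : U, (w : Ω) ∈ C → ((a : F.autGroup U) : MulAut U) w = w := fun w hw =>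
        fix_of_good hS hF t hVT ha't ha'E hUS hVU haF ham hae hqp haq w.2 (good_zpowers hI hC hw)
      intro w
      refine ⟨fun hw => (hfix w hw).symm ▸ hw, fun hw => ?_⟩
      have h1 : ((a : F.autGroup U) : MulAut U) w = w := ((a : F.autGroup U) : MulAut U).injective (hfix _ hw)
      exact h1 ▸ hw
    · obtain ⟨s, hs, hse⟩ := mem_autInducedBy.1
        (Subgroup.mem_subgroupOf.1 (hR.le (Subgroup.mem_subgroupOf.1 (hR'.le hr')).1))
      intro w
      rw [hse]
      have hconj : ∀ g ∈ S, ∀ v ∈ C, g * v * g⁻¹ ∈ C := fun g hg v hv =>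
        hgen S (conjHom S g) (F.conj_mem le_rfl hg) hTS ⟨v, (hC.1 hv).1⟩ hv
      refine ⟨hconj s hs _, fun h => ?_⟩
      have := hconj _ (S.inv_mem hs) _ h
      simpa [mul_assoc] using this
  have hnF := (mem_autGroup F hUS).1 n.2
  have hnC : ∀ w : U, (w : Ω) ∈ C → (((n : MulAut U) w : U) : Ω) ∈ C := by
    have hnr : (U.subtype.comp (n : MulAut U).toMonoidHom).range = U :=
      range_eq_of_forall_mem F hnF fun x => ((n : MulAut U) x).2
    obtain ⟨ψ, hψ, hψe⟩ := hrec.2 U _ hnF hnr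
    let Nφ := extender S U (U.subtype.comp (n : MulAut U).toMonoidHom)
    have hUN : U ≤ Nφ := H94.le_extender_aut hUS _
    obtain ⟨g, hgT, hgN, hgU⟩ := H95.exists_mem_normalizer_not_mem hS hUS hTS
      (H93.StronglyClosed.le_normalizer hTc) hTU
    have hgNφ : g ∈ Nφ := by
      obtain ⟨c, hc, hce⟩ := H94.exists_autInducedBy hgT hgN
      refine H94.mem_extender_of_conj (β := c) (hTS hgT) hgN hce ?_
      have hcS : c ∈ autInducedBy S U := mem_autInducedBy.2 ⟨g, hTS hgT, hce⟩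
      have h1 : (⟨c, autInducedBy_le_autGroup F hUS hcS⟩ : F.autGroup U) ∈
          ((R : Subgroup (F.autGroup U)) ⊓ L.subgroupOf (F.autGroup U)) :=
        ⟨hR.ge (Subgroup.mem_subgroupOf.2 hcS), Subgroup.mem_subgroupOf.2 (hTL hc)⟩
      exact Subgroup.mem_subgroupOf.1 (hR.le ((Subgroup.mem_normalizer_iff.1 hn _).1 h1).1)
    have hgt : Nat.card U < Nat.card Nφ := by
      have := finite_of_le (F.le_of_mem hψ).1
      exact lt_of_le_of_ne (Subgroup.card_le_of_le hUN) fun h =>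
        hgU ((Subgroup.eq_of_le_of_card_ge hUN h.ge).ge hgNφ)
    intro w hw
    have := hlarge Nφ ψ hψ hgt ⟨w, hUN w.2⟩ hw
    rwa [hψe w w.2] at this
  intro w hw
  have h1 := hnC _ ((hlHc w).1 hw)
  rw [← MulAut.mul_apply, ← Subgroup.coe_mul, ← he] at h1
  exact h1


/-- Let F be a saturated fusion system over a finite p-group S and E a normal subsystem of F over T. Among the subgroups Y of C_S(T) whose centralizer system C_F(Y) contains E there is a largest one, C_S(E), and it is strongly closed in F. -/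
theorem result {Ω : Type*} [Group Ω] {S : Subgroup Ω} [Finite S] (p : ℕ) [Fact p.Prime] (hS : IsPGroup p S) (F : Cfsg.FusionSystem S) (hF : F.IsSaturated p) {T : Subgroup Ω} (E : Cfsg.FusionSystem T) (hE : E.IsNormalIn F p) : ∃ C : Subgroup Ω, C ≤ Cfsg.FusionSystem.centralizerIn S T ∧ (∀ P : Subgroup Ω, E.Hom P ⊆ F.centralizerHom C P) ∧ (∀ Y : Subgroup Ω, Y ≤ Cfsg.FusionSystem.centralizerIn S T → (∀ P : Subgroup Ω, E.Hom P ⊆ F.centralizerHom Y P) → Y ≤ C) ∧ F.StronglyClosed C := by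
  have hI := hE.1.2.2
  have hCT : sSup {Y | Good F E Y} ≤ centralizerIn S T := sSup_le fun Y hY => hY.1
  have hgood : Good F E (sSup {Y | Good F E Y}) := good_of_ext hI hCT fun P φ hφ => ext_sup hS hF hE hφ
  have hmax : ∀ Y, Good F E Y → Y ≤ sSup {Y | Good F E Y} := fun Y hY => le_sSup (s := {Y | Good F E Y}) hY
  exact ⟨_, hCT, hgood.2, fun Y h1 h2 => hmax Y ⟨h1, h2⟩, hCT.trans inf_le_left,
    fun R hR φ hφ x => map_mem hS hF hE hgood hmax hφ x (hR x.2)⟩

end Cfsg.Agent.S5127
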