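import Cfsg.Statements.S5155
import Cfsg.Agent.S5127
import Cfsg.Agent.S5293
import Cfsg.Agent.H94.PPowerExists

set_option autoImplicit false
open Cfsg

namespace Cfsg.Agent.S5155

open Cfsg.FusionSystem Cfsg.Agent.H96 Cfsg.Agent.S5127

variable {Ω : Type*} [Group Ω] {S : Subgroup Ω} [Finite S] {p : ℕ} [Fact p.Prime] {F : FusionSystem S}
  {T : Subgroup Ω} {E : FusionSystem T}

/-- Some map on `T ⊔ (P ⊓ Y)` agrees with `φ` on `P ⊓ Y`. -/
def Extends (F : FusionSystem S) (T Y P : Subgroup Ω) (φ : P →* Ω) : Prop :=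
  ∃ ψ ∈ F.Hom (T ⊔ P ⊓ Y), ∀ (x : Ω) (hx : x ∈ P) (hy : x ∈ Y),
    ψ ⟨x, Subgroup.mem_sup_right ⟨hx, hy⟩⟩ = φ ⟨x, hx⟩

/-- Every map extends from its part in the centralizer of a normal subsystem to `T`. -/
theorem extends_of_mem (hS : IsPGroup p S) (hF : F.IsSaturated p) (hE : E.IsNormalIn F p) {Y : Subgroup Ω}
    (hY : Good F E Y) (hmax : ∀ Y', Good F E Y' → Y' ≤ Y) {P : Subgroup Ω} {φ : P →* Ω} (hφ : φ ∈ F.Hom P) :
    Extends F T Y P φ := by
  have hI := hE.1.2.2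
  have hTc := hI.2.1
  have hTS : T ≤ S := hTc.1
  have := finite_of_le hTS
  have hYS : Y ≤ S := hY.1.trans inf_le_left
  have hres : ∀ (P R : Subgroup Ω) (h : R ≤ P) (φ : P →* Ω), φ ∈ F.Hom P → Extends F T Y P φ →
      Extends F T Y R (res φ h) := by
    rintro P R h φ - ⟨ψ, hψ, he⟩
    have hle : T ⊔ R ⊓ Y ≤ T ⊔ P ⊓ Y := sup_le_sup_left (inf_le_inf_right Y h) T
    exact ⟨res ψ hle, res_mem F hψ hle, fun x hx hy => he x (h hx) hy⟩
  have hcomp : ∀ (P Q : Subgroup Ω) (φ : P →* Ω) (ψ : Q →* Ω), φ ∈ F.Hom P → ψ ∈ F.Hom Q →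
      Extends F T Y P φ → Extends F T Y Q ψ → ∀ h : ∀ x : P, φ x ∈ Q,
        Extends F T Y P (ψ.comp (φ.codRestrict Q h)) := by
    rintro P Q φ ψ hφ - ⟨a, ha, hae⟩ ⟨b, hb, hbe⟩ h
    have hmem : ∀ w, a w ∈ T ⊔ Q ⊓ Y := by
      have h1 : T ⊔ P ⊓ Y ≤ ((T ⊔ Q ⊓ Y).comap a).map (T ⊔ P ⊓ Y).subtype := by
        refine sup_le (fun g hg => ⟨⟨g, le_sup_left (b := P ⊓ Y) hg⟩, ?_, rfl⟩)
          (fun g hg => ⟨⟨g, le_sup_right (a := T) hg⟩, ?_, rfl⟩)
        · exact Subgroup.mem_sup_left (hTc.2 T le_rfl _ (res_mem F ha le_sup_left) ⟨g, hg⟩)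
        · show a ⟨g, Subgroup.mem_sup_right ⟨hg.1, hg.2⟩⟩ ∈ T ⊔ Q ⊓ Y
          rw [hae g hg.1 hg.2]
          exact Subgroup.mem_sup_right ⟨h _, map_mem hS hF hE hY hmax hφ ⟨g, hg.1⟩ hg.2⟩
      intro w
      obtain ⟨w', hw, e⟩ := h1 w.2
      rw [show w = w' from Subtype.ext e.symm]
      exact hw
    obtain ⟨c, hc, hce⟩ := exists_comp F ha hb hmem
    refine ⟨c, hc, fun x hx hy => ?_⟩
    rw [hce]
    refine Eq.trans ?_ (hbe (φ ⟨x, hx⟩) (h _) (map_mem hS hF hE hY hmax hφ ⟨x, hx⟩ hy))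
    exact congrArg b (Subtype.ext (hae x hx hy))
  refine H94.alperin_induction_step hS hF (fun P φ => Extends F T Y P φ) hres hcomp
    (fun U hU hc hr hlarge α hα => ?_) hφ
  have hUS := hU.1
  have := finite_of_le hUS
  have hαF := (mem_autGroup F hUS).1 hα
  have hWS : T ⊔ U ⊓ Y ≤ S := sup_le hTS (inf_le_left.trans hUS)
  by_cases hTU : T ≤ U
  · exact ⟨res _ (sup_le hTU inf_le_left), res_mem F hαF (sup_le hTU inf_le_left), fun x hx hy => rfl⟩
  set V := U ⊓ T with hVdef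
  have hVT : V ≤ T := inf_le_right
  have hVU : V ≤ U := inf_le_left
  have hVS : V ≤ S := hVU.trans hUS
  have hVc : E.IsCentric V := by
    by_contra hnot
    obtain ⟨ψ, hψ, w, hw, hwn⟩ := H93.exists_opMem_conj hS hF hI.1 hTc hc hnot
    exact H93.not_isRadical_of_opMem_conj hc hψ hw hwn hr
  obtain ⟨V₁, χ, t⟩ := exists_target hS hF hVS
  have hE₁ : centralizerIn T V₁ ≤ V₁ := by
    refine centralizer_le_of_centric hI hVc (res_mem F t.hom t.le_normalizerIn) ?_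
    ext y
    constructor
    · rintro ⟨w, rfl⟩; exact t.img _ w.2
    · intro hy
      obtain ⟨w, hw, rfl⟩ := t.sur y hy
      exact ⟨⟨w, hw⟩, rfl⟩
  have hsi := H94.stronglyInvariant_of_invariant hI
  have hinvV : ∀ a ∈ F.autGroup U, ∀ v : V, ((a (Subgroup.inclusion hVU v) : U) : Ω) ∈ V := fun a ha v =>
    ⟨(a _).2, hTc.2 V hVT _ (res_mem F ((mem_autGroup F hUS).1 ha) hVU) v⟩
  let L : Subgroup (MulAut U) :=
    { carrier := {a | a ∈ F.autGroup U ∧ ModTrivial V a ∧ ∃ a' ∈ t.liftGroup ⊓ E.autGroup V,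
        ∀ v, a (Subgroup.inclusion hVU v) = Subgroup.inclusion hVU (a' v)}
      one_mem' := ⟨one_mem _, modTrivial_one, 1, one_mem _, fun _ => rfl⟩
      mul_mem' := by
        rintro a b ⟨ha, ham, a', ha', hae⟩ ⟨hb, hbm, b', hb', hbe⟩
        exact ⟨mul_mem ha hb, modTrivial_mul ham hbm, a' * b', mul_mem ha' hb',
          fun v => by rw [MulAut.mul_apply, hbe, hae]; rfl⟩
      inv_mem' := by
        rintro a ⟨ha, ham, a', ha', hae⟩
        refine ⟨inv_mem ha, modTrivial_inv ham, a'⁻¹, inv_mem ha', fun v => a.injective ?_⟩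
        rw [MulAut.apply_inv_self, hae, MulAut.apply_inv_self] }
  have : (L.subgroupOf (F.autGroup U)).Normal := ⟨fun l hl a => by
    obtain ⟨hl1, hlm, l', ⟨hl't, hl'E⟩, hle⟩ := Subgroup.mem_subgroupOf.1 hl
    obtain ⟨aV, haV, haVe⟩ := exists_restrict hUS hVU a.2 (hinvV a a.2)
    refine Subgroup.mem_subgroupOf.2 ⟨(a * l * a⁻¹ : F.autGroup U).2, fun w => ?_, aV * l' * aV⁻¹,
      ⟨t.liftGroup_conj hS hF haV hl't, H94.autGroup_conj_mem hsi hTS hVT haV hl'E⟩, fun v => ?_⟩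
    · set z : U := ((a : MulAut U)⁻¹ w)⁻¹ * (l : MulAut U) ((a : MulAut U)⁻¹ w) with hz
      have hzV : (z : Ω) ∈ V := hlm _
      have h1 := hinvV a a.2 ⟨z, hzV⟩
      rw [show Subgroup.inclusion hVU ⟨(z : Ω), hzV⟩ = z from rfl, hz, map_mul, map_inv, MulAut.apply_inv_self] at h1
      exact h1
    · have h1 : (a : MulAut U)⁻¹ (Subgroup.inclusion hVU v) = Subgroup.inclusion hVU (aV⁻¹ v) :=
        (a : MulAut U).injective (by rw [MulAut.apply_inv_self, haVe, MulAut.apply_inv_self])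
      show (a : MulAut U) ((l : MulAut U) ((a : MulAut U)⁻¹ _)) = _
      rw [h1, hle, haVe]
      rfl⟩
  have hTL : autInducedBy T U ≤ L := by
    intro a ha
    obtain ⟨s, hs, hse⟩ := mem_autInducedBy.1 ha
    have haF : a ∈ F.autGroup U := autInducedBy_le_autGroup F hUS (mem_autInducedBy.2 ⟨s, hTS hs, hse⟩)
    obtain ⟨aV, -, haVe⟩ := exists_restrict hUS hVU haF (hinvV a haF)
    have haVT : aV ∈ autInducedBy T V :=
      mem_autInducedBy.2 ⟨s, hs, fun v => (congrArg Subtype.val (haVe v)).symm.trans (hse _)⟩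
    refine ⟨haF, fun w => ⟨U.mul_mem (U.inv_mem w.2) (a w).2, ?_⟩, aV,
      ⟨t.autInducedBy_le_liftGroup hTc hE₁ haVT, autInducedBy_le_autGroup E hVT haVT⟩, haVe⟩
    rw [hse]
    have h1 := (Subgroup.mem_normalizer_iff.1
      (H93.StronglyClosed.le_normalizer hTc (S.inv_mem (hUS w.2))) s).1 hs
    rw [inv_inv] at h1
    have h2 := T.mul_mem h1 (T.inv_mem hs)
    simpa [mul_assoc] using h2
  obtain ⟨hA, hrec⟩ := H94.fullyNormalized_spec hS hF hU
  obtain ⟨R, hR⟩ := hA.2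
  obtain ⟨n, hn, l, hl, he⟩ := H94.exists_mul_normalizer_inf R (L.subgroupOf (F.autGroup U)) ⟨α, hα⟩
  let Hc : Subgroup (MulAut U) :=
    { carrier := {a | (a ∈ F.autGroup U ∧ Extends F T Y U (U.subtype.comp a.toMonoidHom)) ∧
        Extends F T Y U (U.subtype.comp a⁻¹.toMonoidHom)}
      one_mem' := by
        have h : Extends F T Y U (U.subtype.comp (1 : MulAut U).toMonoidHom) :=
          ⟨(T ⊔ U ⊓ Y).subtype, subtype_mem F hWS, fun x hx hy => rfl⟩
        exact ⟨⟨one_mem _, h⟩, by rwa [inv_one]⟩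
      mul_mem' := fun {a b} ha hb => ⟨⟨mul_mem ha.1.1 hb.1.1,
        hcomp U U _ _ ((mem_autGroup F hUS).1 hb.1.1) ((mem_autGroup F hUS).1 ha.1.1) hb.1.2 ha.1.2 fun x => (b x).2⟩, by
        rw [mul_inv_rev]
        exact hcomp U U _ _ ((mem_autGroup F hUS).1 (inv_mem ha.1.1)) ((mem_autGroup F hUS).1 (inv_mem hb.1.1))
          ha.2 hb.2 fun x => (a⁻¹ x).2⟩
      inv_mem' := fun {a} ha => ⟨⟨inv_mem ha.1.1, ha.2⟩, by rw [inv_inv]; exact ha.1.2⟩ }
  have hlHc : ((l : F.autGroup U) : MulAut U) ∈ Hc := by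
    obtain ⟨R', hR'⟩ := H94.exists_sylow_inf_normal R (L.subgroupOf (F.autGroup U))
    obtain ⟨k, hk, r, hr', hlr⟩ := H94.exists_pResidual_mul_sylow R' ⟨l, hl⟩
    have e : ((l : F.autGroup U) : MulAut U) = ((k : F.autGroup U) : MulAut U) * ((r : F.autGroup U) : MulAut U) :=
      congrArg (fun z : L.subgroupOf (F.autGroup U) => ((z : F.autGroup U) : MulAut U)) hlr
    rw [e]
    refine Hc.mul_mem ?_ ?_
    · suffices h : pResidual p (L.subgroupOf (F.autGroup U)) ≤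
          Hc.comap ((F.autGroup U).subtype.comp (L.subgroupOf (F.autGroup U)).subtype) from h hk
      refine (Subgroup.closure_le _).2 fun a ha => ?_
      refine mem_of_coprime_parts (p := p)
        (H := Hc.comap ((F.autGroup U).subtype.comp (L.subgroupOf (F.autGroup U)).subtype))
        (fun q hq hqp e a ha => ?_) (orderOf a) a (pow_orderOf_eq_one a) ha
      have := Fact.mk hq
      obtain ⟨haF, ham, a', ⟨ha't, ha'E⟩, hae⟩ := Subgroup.mem_subgroupOf.1 a.2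
      have haq : ((a : F.autGroup U) : MulAut U) ^ q ^ e = 1 :=
        congrArg (fun z : L.subgroupOf (F.autGroup U) => ((z : F.autGroup U) : MulAut U)) ha
      have hfix : ∀ w : U, (w : Ω) ∈ Y → ((a : F.autGroup U) : MulAut U) w = w := fun w hw =>
        fix_of_good hS hF t hVT ha't ha'E hUS hVU haF ham hae hqp haq w.2 (good_zpowers hI hY hw)
      refine ⟨⟨haF, (T ⊔ U ⊓ Y).subtype, subtype_mem F hWS, fun x hx hy => ?_⟩, (T ⊔ U ⊓ Y).subtype,
        subtype_mem F hWS, fun x hx hy => ?_⟩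
      · exact (congrArg Subtype.val (hfix ⟨x, hx⟩ hy)).symm
      · show x = ((((a : F.autGroup U) : MulAut U)⁻¹ ⟨x, hx⟩ : U) : Ω)
        conv_rhs => rw [← hfix ⟨x, hx⟩ hy, MulAut.inv_apply_self]
    · have hr2 : ((r : F.autGroup U) : MulAut U) ∈ autInducedBy S U :=
        Subgroup.mem_subgroupOf.1 (hR.le (Subgroup.mem_subgroupOf.1 (hR'.le hr')).1)
      have hext : ∀ b ∈ autInducedBy S U, Extends F T Y U (U.subtype.comp b.toMonoidHom) := by
        intro b hb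
        obtain ⟨s, hs, hse⟩ := mem_autInducedBy.1 hb
        exact ⟨conjHom _ s, F.conj_mem hWS hs, fun x hx hy => (hse ⟨x, hx⟩).symm⟩
      exact ⟨⟨autInducedBy_le_autGroup F hUS hr2, hext _ hr2⟩, hext _ (inv_mem hr2)⟩
  have hnF := (mem_autGroup F hUS).1 n.2
  have hnC : Extends F T Y U (U.subtype.comp (n : MulAut U).toMonoidHom) := by
    have hnr : (U.subtype.comp (n : MulAut U).toMonoidHom).range = U :=
      range_eq_of_forall_mem F hnF fun x => ((n : MulAut U) x).2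
    obtain ⟨ψ, hψ, hψe⟩ := hrec.2 U _ hnF hnr
    let Nφ := extender S U (U.subtype.comp (n : MulAut U).toMonoidHom)
    have hUN : U ≤ Nφ := H94.le_extender_aut hUS _
    obtain ⟨g, hgT, hgN, hgU⟩ := H95.exists_mem_normalizer_not_mem hS hUS hTS
      (H93.StronglyClosed.le_normalizer hTc) hTU
    have hgNφ : g ∈ Nφ := by
      obtain ⟨c, hc, hce⟩ := H94.exists_autInducedBy hgT hgN
      refine H94.mem_extender_of_conj (β := c) (hTS hgT) hgN hce ?_
      have hcS : c ∈ autInducedBy S U := mem_autInducedBy.2 ⟨g, hTS hgT, hce⟩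
      have h1 : (⟨c, autInducedBy_le_autGroup F hUS hcS⟩ : F.autGroup U) ∈
          ((R : Subgroup (F.autGroup U)) ⊓ L.subgroupOf (F.autGroup U)) :=
        ⟨hR.ge (Subgroup.mem_subgroupOf.2 hcS), Subgroup.mem_subgroupOf.2 (hTL hc)⟩
      exact Subgroup.mem_subgroupOf.1 (hR.le ((Subgroup.mem_normalizer_iff.1 hn _).1 h1).1)
    have hgt : Nat.card U < Nat.card Nφ := by
      have := finite_of_le (F.le_of_mem hψ).1
      exact lt_of_le_of_ne (Subgroup.card_le_of_le hUN) fun h =>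
        hgU ((Subgroup.eq_of_le_of_card_ge hUN h.ge).ge hgNφ)
    have h1 := hres Nφ U hUN ψ hψ (hlarge Nφ ψ hψ hgt)
    rwa [show res ψ hUN = U.subtype.comp (n : MulAut U).toMonoidHom from
      MonoidHom.ext fun x => hψe x x.2 _] at h1
  have h2 := hcomp U U _ _ ((mem_autGroup F hUS).1 hlHc.1.1) hnF hlHc.1.2 hnC fun x => ((l : MulAut U) x).2
  rwa [show ((U.subtype.comp (n : MulAut U).toMonoidHom).comp
      ((U.subtype.comp (l : MulAut U).toMonoidHom).codRestrict U fun x => ((l : MulAut U) x).2)) =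
      U.subtype.comp α.toMonoidHom from MonoidHom.ext fun x => by
        show (((n : MulAut U) ((l : MulAut U) x) : U) : Ω) = (α x : U)
        rw [← MulAut.mul_apply, ← Subgroup.coe_mul, ← he]] at h2

/-- The centralizer of `T` over a subgroup: automorphisms of `Y` in it extend compatibly with the extension
condition. -/
theorem exists_ext_of_centralizer (hS : IsPGroup p S) (hF : F.IsSaturated p) (hT : F.StronglyClosed T)
    {Y : Subgroup Ω} (hY : F.StronglyClosed Y) (hYT : Y ≤ centralizerIn S T)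
    {D : FusionSystem (centralizerIn S T)} (hD : F.IsCentralizerSystem T D) (hfoc : D.focalSubgroup ≤ Y)
    {a : MulAut Y} (ha : a ∈ D.autGroup Y) {q : ℕ} [Fact q.Prime] (hqp : q ≠ p) {e : ℕ} (haq : a ^ q ^ e = 1) :
    ∃ β ∈ F.autGroup (Y ⊔ centralizerIn S Y),
      (∀ x : Y, ((β (Subgroup.inclusion le_sup_left x) : ↥(Y ⊔ centralizerIn S Y)) : Ω) = ((a x : Y) : Ω)) ∧
      ∀ c : ↥(Y ⊔ centralizerIn S Y), (c : Ω) ∈ centralizerIn S Y →
        (c : Ω)⁻¹ * ((β c : ↥(Y ⊔ centralizerIn S Y)) : Ω) ∈ Y ⊓ Subgroup.centralizer (Y : Set Ω) := by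
  have hYS := hY.1
  have hTS := hT.1
  have hTC : T ≤ centralizerIn S Y :=
    le_inf hTS fun x hx => Subgroup.mem_centralizer_iff.2 fun y hy => ((hYT hy).2 x hx).symm
  have := finite_of_le hYS
  obtain ⟨-, -, -, ψ, hψ, hψY, hψT⟩ : Y.subtype.comp a.toMonoidHom ∈ F.centralizerHom T Y := by
    rw [← hD Y]; exact (mem_autGroup D hYT).1 ha
  have hXS : (Y ⊔ T) ≤ S := sup_le hYS hTS
  have := finite_of_le hXS
  have hmem : ∀ w, ψ w ∈ (Y ⊔ T) := by
    have h1 : (Y ⊔ T) ≤ ((Y ⊔ T).comap ψ).map (Y ⊔ T).subtype :=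
      sup_le (fun g hg => ⟨⟨g, le_sup_left (b := T) hg⟩, Subgroup.mem_sup_left ((hψY ⟨g, hg⟩).symm ▸ (a ⟨g, hg⟩).2), rfl⟩)
        (fun g hg => ⟨⟨g, le_sup_right (a := Y) hg⟩, Subgroup.mem_sup_right ((hψT ⟨g, hg⟩).symm ▸ hg), rfl⟩)
    intro w
    obtain ⟨w', hw, e⟩ := h1 w.2
    rw [show w = w' from Subtype.ext e.symm]
    exact hw
  obtain ⟨ψ', hψ', hψ'e⟩ := exists_autGroup_of_mem F hψ hmem
  have hψ'Y : ∀ y : Y, ψ' (Subgroup.inclusion le_sup_left y) = Subgroup.inclusion le_sup_left (a y) := fun y =>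
    Subtype.ext ((hψ'e _).trans (hψY y))
  have hψ'T : ∀ x : T, ψ' (Subgroup.inclusion le_sup_right x) = Subgroup.inclusion le_sup_right x := fun x =>
    Subtype.ext ((hψ'e _).trans (hψT x))
  have hψ'q : ψ' ^ q ^ e = 1 := aut_eq_of_sup
    (fun y => by rw [pow_intertwine _ hψ'Y, haq]; rfl)
    (fun x => by rw [pow_intertwine _ (a := (1 : MulAut T)) hψ'T, one_pow]; rfl)
  have hXn : F.IsFullyNormalized (Y ⊔ T) := by
    refine ⟨hXS, ?_⟩
    rintro Q ⟨φ, hφ, rfl⟩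
    have h1 : φ.range ≤ (Y ⊔ T) := by
      have h2 : (Y ⊔ T) ≤ ((Y ⊔ T).comap φ).map (Y ⊔ T).subtype :=
        sup_le (fun g hg => ⟨⟨g, le_sup_left (b := T) hg⟩,
            Subgroup.mem_sup_left (hY.2 Y le_rfl _ (res_mem F hφ le_sup_left) ⟨g, hg⟩), rfl⟩)
          (fun g hg => ⟨⟨g, le_sup_right (a := Y) hg⟩,
            Subgroup.mem_sup_right (hT.2 T le_rfl _ (res_mem F hφ le_sup_right) ⟨g, hg⟩), rfl⟩)
      rintro _ ⟨w, rfl⟩
      obtain ⟨w', hw, e⟩ := h2 w.2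
      rw [show w = w' from Subtype.ext e.symm]
      exact hw
    rw [range_eq_of_forall_mem F hφ fun x => h1 ⟨x, rfl⟩]
  have hψ'F := (mem_autGroup F hXS).1 hψ'
  have hψ'r : ((Y ⊔ T).subtype.comp ψ'.toMonoidHom).range = (Y ⊔ T) := range_eq_of_forall_mem F hψ'F fun x => (ψ' x).2
  obtain ⟨ξ, hξ, hξe⟩ := (H94.fullyNormalized_spec hS hF hXn).2.2 (Y ⊔ T) _ hψ'F hψ'r
  have hWS : (Y ⊔ centralizerIn S Y) ≤ S := sup_le hYS inf_le_left
  have := finite_of_le hWS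
  have hXW : (Y ⊔ T) ≤ (Y ⊔ centralizerIn S Y) := sup_le le_sup_left (hTC.trans le_sup_right)
  have hWext : (Y ⊔ centralizerIn S Y) ≤ extender S (Y ⊔ T) ((Y ⊔ T).subtype.comp ψ'.toMonoidHom) := by
    refine sup_le (le_sup_left.trans (H94.le_extender_aut hXS ψ')) fun c hc => ?_
    have hcn : c ∈ Subgroup.normalizer ((Y ⊔ T : Subgroup Ω) : Set Ω) := by
      refine H94.mem_normalizer_of_forall_conj_mem fun r hr => ?_
      have h1 : (Y ⊔ T) ≤ (Y ⊔ T).comap (MulAut.conj c).toMonoidHom :=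
        sup_le (fun g hg => Subgroup.mem_sup_left
            ((Subgroup.mem_normalizer_iff.1 (H93.StronglyClosed.le_normalizer hY hc.1) g).1 hg))
          (fun g hg => Subgroup.mem_sup_right
            ((Subgroup.mem_normalizer_iff.1 (H93.StronglyClosed.le_normalizer hT hc.1) g).1 hg))
      exact h1 hr
    refine H96.mem_extender.2 ⟨hc.1, hcn, c, hc.1, fun x hx => ?_⟩
    show ((ψ' ⟨c * x * c⁻¹, hx⟩ : ↥(Y ⊔ T)) : Ω) = c * ((ψ' x : ↥(Y ⊔ T)) : Ω) * c⁻¹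
    -- both sides are homomorphisms agreeing on `Y` and on `T`
    have h1 : ∀ w : ↥(Y ⊔ T), ∀ h : c * (w : Ω) * c⁻¹ ∈ (Y ⊔ T), ((ψ' ⟨c * w * c⁻¹, h⟩ : ↥(Y ⊔ T)) : Ω) = c * ((ψ' w : ↥(Y ⊔ T)) : Ω) * c⁻¹ := by
      let f₁ : ↥(Y ⊔ T) →* Ω := ((Y ⊔ T).subtype.comp ψ'.toMonoidHom).comp
        ((conjHom (Y ⊔ T) c).codRestrict (Y ⊔ T) fun w => (Subgroup.mem_normalizer_iff.1 hcn w).1 w.2)
      let f₂ : ↥(Y ⊔ T) →* Ω := (MulAut.conj c).toMonoidHom.comp ((Y ⊔ T).subtype.comp ψ'.toMonoidHom)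
      have hle : (Y ⊔ T) ≤ (f₁.eqLocus f₂).map (Y ⊔ T).subtype := by
        refine sup_le (fun g hg => ⟨⟨g, le_sup_left (b := T) hg⟩, ?_, rfl⟩)
          (fun g hg => ⟨⟨g, le_sup_right (a := Y) hg⟩, ?_, rfl⟩)
        · show ((ψ' ⟨c * g * c⁻¹, _⟩ : ↥(Y ⊔ T)) : Ω) = c * ((ψ' (Subgroup.inclusion le_sup_left ⟨g, hg⟩) : ↥(Y ⊔ T)) : Ω) * c⁻¹
          have hfix : ∀ u ∈ Y, c * u * c⁻¹ = u := fun u hu => by rw [← hc.2 u hu, mul_inv_cancel_right]
          rw [hψ'Y, Subgroup.coe_inclusion, hfix _ (a ⟨g, hg⟩).2]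
          refine Eq.trans ?_ (congrArg Subtype.val (hψ'Y ⟨g, hg⟩) :)
          exact congrArg (fun v => ((ψ' v : ↥(Y ⊔ T)) : Ω)) (Subtype.ext (hfix g hg))
        · have hg' : c * g * c⁻¹ ∈ T :=
            (Subgroup.mem_normalizer_iff.1 (H93.StronglyClosed.le_normalizer hT hc.1) g).1 hg
          show ((ψ' (Subgroup.inclusion le_sup_right ⟨_, hg'⟩) : ↥(Y ⊔ T)) : Ω) =
            c * ((ψ' (Subgroup.inclusion le_sup_right ⟨g, hg⟩) : ↥(Y ⊔ T)) : Ω) * c⁻¹
          rw [hψ'T, hψ'T]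
          rfl
      intro w h
      obtain ⟨w', hw, e⟩ := hle w.2
      obtain rfl : w = w' := Subtype.ext e.symm
      exact hw
    exact h1 x hx
  have hinvW : ∀ w : ↥(Y ⊔ centralizerIn S Y), res ξ hWext w ∈ (Y ⊔ centralizerIn S Y) := by
    have hsurY : ∀ y : Y, ∃ y' : Y, a y' = y := fun y => a.surjective y
    have h1 : (Y ⊔ centralizerIn S Y) ≤ ((Y ⊔ centralizerIn S Y).comap (res ξ hWext)).map (Y ⊔ centralizerIn S Y).subtype := by
      refine sup_le (fun g hg => ⟨⟨g, le_sup_left (b := centralizerIn S Y) hg⟩, ?_, rfl⟩)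
        (fun g hg => ⟨⟨g, le_sup_right (a := Y) hg⟩,
          Subgroup.mem_sup_right ⟨(F.le_of_mem hξ).2 _, fun r hr => ?_⟩, rfl⟩)
      · show res ξ hWext _ ∈ (Y ⊔ centralizerIn S Y)
        rw [res_apply]
        rw [hξe g (Subgroup.mem_sup_left hg)]
        exact hXW (ψ' _).2
      · obtain ⟨y', hy'⟩ := hsurY ⟨r, hr⟩
        have e1 : ξ ⟨y', hWext (Subgroup.mem_sup_left y'.2)⟩ = r := by
          rw [hξe y' (Subgroup.mem_sup_left y'.2)]
          exact (congrArg Subtype.val (hψ'Y y')).trans (congrArg Subtype.val hy')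
        rw [res_apply, ← e1, ← map_mul, ← map_mul]
        exact congrArg ξ (Subtype.ext (hg.2 y' y'.2))
    intro w
    obtain ⟨w', hw, e⟩ := h1 w.2
    rw [show w = w' from Subtype.ext e.symm]
    exact hw
  obtain ⟨β₀, hβ₀, hβ₀e⟩ := exists_autGroup_of_mem F (res_mem F hξ hWext) hinvW
  have : Finite (MulAut ↥(Y ⊔ centralizerIn S Y)) := Finite.of_injective (fun a : MulAut ↥(Y ⊔ centralizerIn S Y) => (a : ↥(Y ⊔ centralizerIn S Y) → ↥(Y ⊔ centralizerIn S Y))) DFunLike.coe_injective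
  obtain ⟨s, ⟨e', hβq⟩, hβu⟩ := exists_qLift (Subgroup.inclusion hXW) (a := ψ') (b := β₀)
    (fun x => Subtype.ext ((hβ₀e _).trans (hξe x x.2 _))) ⟨e, hψ'q⟩
  set β := β₀ ^ s
  have hβF : β ∈ F.autGroup (Y ⊔ centralizerIn S Y) := pow_mem hβ₀ s
  have hβY : ∀ y : Y, β (Subgroup.inclusion le_sup_left y) = Subgroup.inclusion le_sup_left (a y) := fun y =>
    (hβu (Subgroup.inclusion le_sup_left y)).trans (congrArg (Subgroup.inclusion hXW) (hψ'Y y))
  have hβT : ∀ x : T, β (Subgroup.inclusion (hTC.trans le_sup_right) x) = Subgroup.inclusion (hTC.trans le_sup_right) x :=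
    fun x => (hβu (Subgroup.inclusion le_sup_right x)).trans (congrArg (Subgroup.inclusion hXW) (hψ'T x))
  have hβC : ∀ c : ↥(Y ⊔ centralizerIn S Y), (c : Ω) ∈ centralizerIn S Y → ((β c : ↥(Y ⊔ centralizerIn S Y)) : Ω) ∈ centralizerIn S Y := by
    intro c hc
    refine ⟨hWS (β c).2, fun r hr => ?_⟩
    obtain ⟨y', hy'⟩ := a.surjective ⟨r, hr⟩
    have h1 := congrArg Subtype.val (hβY y')
    rw [show r = ((β (Subgroup.inclusion le_sup_left y') : ↥(Y ⊔ centralizerIn S Y)) : Ω) from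
      (h1.trans (congrArg Subtype.val hy' :)).symm, ← Subgroup.coe_mul, ← Subgroup.coe_mul, ← map_mul, ← map_mul]
    exact congrArg (fun v => ((β v : ↥(Y ⊔ centralizerIn S Y)) : Ω)) (Subtype.ext (hc.2 y' y'.2))
  -- on the common centralizer the displacements lie in `Y`
  set N := centralizerIn S T ⊓ centralizerIn S Y
  have hNW : N ≤ (Y ⊔ centralizerIn S Y) := inf_le_right.trans le_sup_right
  have hNT : ∀ c : ↥(Y ⊔ centralizerIn S Y), (c : Ω) ∈ N → ((β c : ↥(Y ⊔ centralizerIn S Y)) : Ω) ∈ N := by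
    intro c hc
    refine ⟨⟨hWS (β c).2, fun x hx => ?_⟩, hβC c hc.2⟩
    rw [show x = ((β (Subgroup.inclusion (hTC.trans le_sup_right) ⟨x, hx⟩) : ↥(Y ⊔ centralizerIn S Y)) : Ω) from
      (congrArg Subtype.val (hβT ⟨x, hx⟩)).symm, ← Subgroup.coe_mul, ← Subgroup.coe_mul, ← map_mul, ← map_mul]
    exact congrArg (fun v => ((β v : ↥(Y ⊔ centralizerIn S Y)) : Ω)) (Subtype.ext (hc.1.2 x hx))
  have hdisp : ∀ c : ↥(Y ⊔ centralizerIn S Y), (c : Ω) ∈ N → (c : Ω)⁻¹ * ((β c : ↥(Y ⊔ centralizerIn S Y)) : Ω) ∈ Y ⊓ Subgroup.centralizer (Y : Set Ω) := by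
    intro c hc
    refine ⟨hfoc ?_, Subgroup.mul_mem _ (Subgroup.inv_mem _ hc.2.2) (hNT c hc).2.2⟩
    have hNTle : N ⊔ T ≤ (Y ⊔ centralizerIn S Y) := sup_le hNW (hTC.trans le_sup_right)
    have hβh := (mem_autGroup F hWS).1 hβF
    refine Subgroup.subset_closure ⟨N, res ((Y ⊔ centralizerIn S Y).subtype.comp β.toMonoidHom) hNW, ⟨c, hc⟩, ?_, rfl⟩
    rw [hD]
    exact ⟨res_mem F hβh hNW, inf_le_left, fun v => (hNT (Subgroup.inclusion hNW v) v.2).1,
      res ((Y ⊔ centralizerIn S Y).subtype.comp β.toMonoidHom) hNTle, res_mem F hβh hNTle, fun v => rfl,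
      fun x => congrArg Subtype.val (hβT x)⟩
  refine ⟨β, hβF, fun y => congrArg Subtype.val (hβY y), fun c hc => ?_⟩
  -- `c⁻¹ β(c)` centralizes `T`
  have hw : (c : Ω)⁻¹ * ((β c : ↥(Y ⊔ centralizerIn S Y)) : Ω) ∈ N := by
    refine ⟨⟨S.mul_mem (S.inv_mem hc.1) (hWS (β c).2), fun x hx => ?_⟩,
      (centralizerIn S Y).mul_mem ((centralizerIn S Y).inv_mem hc) (hβC c hc)⟩
    have hx' : (c : Ω) * x * (c : Ω)⁻¹ ∈ T :=
      (Subgroup.mem_normalizer_iff.1 (H93.StronglyClosed.le_normalizer hT hc.1) x).1 hx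
    have h1 : ((β (c * Subgroup.inclusion (hTC.trans le_sup_right) ⟨x, hx⟩ * c⁻¹) : ↥(Y ⊔ centralizerIn S Y)) : Ω) =
        (c : Ω) * x * (c : Ω)⁻¹ := by
      rw [show c * Subgroup.inclusion (hTC.trans le_sup_right) ⟨x, hx⟩ * c⁻¹ =
        Subgroup.inclusion (hTC.trans le_sup_right) ⟨_, hx'⟩ from Subtype.ext rfl, hβT]
      rfl
    rw [map_mul, map_mul, map_inv, hβT, Subgroup.coe_mul, Subgroup.coe_mul, Subgroup.coe_inv] at h1
    have h2 : ((β c : ↥(Y ⊔ centralizerIn S Y)) : Ω) * x * ((β c : ↥(Y ⊔ centralizerIn S Y)) : Ω)⁻¹ = (c : Ω) * x * (c : Ω)⁻¹ := h1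
    calc x * ((c : Ω)⁻¹ * ((β c : ↥(Y ⊔ centralizerIn S Y)) : Ω)) = (c : Ω)⁻¹ * ((c : Ω) * x * (c : Ω)⁻¹) * ((β c : ↥(Y ⊔ centralizerIn S Y)) : Ω) := by group
      _ = (c : Ω)⁻¹ * (((β c : ↥(Y ⊔ centralizerIn S Y)) : Ω) * x * ((β c : ↥(Y ⊔ centralizerIn S Y)) : Ω)⁻¹) * ((β c : ↥(Y ⊔ centralizerIn S Y)) : Ω) := by rw [h2]
      _ = _ := by group
  -- a fixed point in the coset
  obtain ⟨v, hv, hfix⟩ := exists_fixed_mem_coset hqp hβq (N.comap (Y ⊔ centralizerIn S Y).subtype) ((hS.to_le hWS).to_subgroup _)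
    (fun z hz => hNT z hz) (c := c) hw
  have hz := hdisp v hv
  have h3 : ((β c : ↥(Y ⊔ centralizerIn S Y)) : Ω) = (c : Ω) * (v * ((β v : ↥(Y ⊔ centralizerIn S Y)) : Ω)⁻¹) := by
    have h4 := congrArg Subtype.val hfix
    rw [map_mul, Subgroup.coe_mul, Subgroup.coe_mul] at h4
    rw [← mul_assoc, ← h4, mul_inv_cancel_right]
  rw [h3, inv_mul_cancel_left]
  have h5 : (v : Ω) * ((β v : ↥(Y ⊔ centralizerIn S Y)) : Ω)⁻¹ = (v : Ω) * ((v : Ω)⁻¹ * ((β v : ↥(Y ⊔ centralizerIn S Y)) : Ω))⁻¹ * (v : Ω)⁻¹ := by group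
  rw [h5]
  have h6 : (v : Ω) * ((v : Ω)⁻¹ * ((β v : ↥(Y ⊔ centralizerIn S Y)) : Ω))⁻¹ = ((v : Ω)⁻¹ * ((β v : ↥(Y ⊔ centralizerIn S Y)) : Ω))⁻¹ * (v : Ω) :=
    ((show Commute (v : Ω) ((v : Ω)⁻¹ * ((β v : ↥(Y ⊔ centralizerIn S Y)) : Ω)) from (hv.2.2 _ hz.1).symm).inv_right).eq
  rw [h6, mul_inv_cancel_right]
  exact Subgroup.inv_mem _ hz


omit [Finite S] [Fact p.Prime] in
/-- A map on a join lands in any subgroup containing the images of the two parts. -/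
theorem apply_mem_sup {A B C : Subgroup Ω} (ψ : ↥(A ⊔ B) →* Ω)
    (hA : ∀ x : A, ψ (Subgroup.inclusion le_sup_left x) ∈ C)
    (hB : ∀ x : B, ψ (Subgroup.inclusion le_sup_right x) ∈ C) (w : ↥(A ⊔ B)) : ψ w ∈ C := by
  have h1 : A ⊔ B ≤ (C.comap ψ).map (A ⊔ B).subtype :=
    sup_le (fun g hg => ⟨⟨g, le_sup_left (b := B) hg⟩, hA ⟨g, hg⟩, rfl⟩)
      (fun g hg => ⟨⟨g, le_sup_right (a := A) hg⟩, hB ⟨g, hg⟩, rfl⟩)
  obtain ⟨w', hw, e⟩ := h1 w.2
  obtain rfl : w = w' := Subtype.ext e.symm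
  exact hw

/-- Transport of the automorphisms of a centralizer system by a map preserving `T`. -/
theorem congr_mem_centralizer (hT : F.StronglyClosed T) {DT : FusionSystem (centralizerIn S T)}
    (hDT : F.IsCentralizerSystem T DT) {U V : Subgroup Ω} (hU : U ≤ centralizerIn S T)
    (hV : V ≤ centralizerIn S T) {ψ : ↥(U ⊔ T) →* Ω} (hψ : ψ ∈ F.Hom (U ⊔ T)) (e : U ≃* V)
    (hψU : ∀ x : U, ψ (Subgroup.inclusion le_sup_left x) = ((e x : V) : Ω))
    {a : MulAut U} (ha : a ∈ DT.autGroup U) : MulAut.congr e a ∈ DT.autGroup V := by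
  obtain ⟨-, -, -, a', ha', ha'U, ha'T⟩ : U.subtype.comp a.toMonoidHom ∈ F.centralizerHom T U := by
    rw [← hDT U]; exact (mem_autGroup DT hU).1 ha
  have hTr : H93.imgIn ψ T = T := by
    rw [H93.imgIn_eq_of_agree le_sup_right (φ := res ψ le_sup_right) fun _ => rfl]
    exact range_eq_of_stronglyClosed hT (res_mem F hψ le_sup_right)
  have hWr : ψ.range = V ⊔ T := by
    rw [H93.range_extension (φ := V.subtype.comp e.toMonoidHom) hψU hTr]
    congr 1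
    ext x
    exact ⟨fun ⟨u, hu⟩ => hu ▸ (e u).2, fun hx => ⟨e.symm ⟨x, hx⟩, congrArg Subtype.val (e.apply_symm_apply _)⟩⟩
  have ha'W : ∀ w, a' w ∈ U ⊔ T := apply_mem_sup a'
    (fun x => by rw [ha'U]; exact Subgroup.mem_sup_left (a x).2)
    (fun x => by rw [ha'T]; exact Subgroup.mem_sup_right x.2)
  obtain ⟨ι, hι, hιr, hιi⟩ := H96.exists_inv F hψ hWr
  have hιW : ∀ y, ι y ∈ U ⊔ T := fun y => hιr.le ⟨y, rfl⟩
  obtain ⟨c₁, hc₁, hc₁e⟩ := H96.exists_comp F hι ha' hιW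
  have hc₁W : ∀ y, c₁ y ∈ U ⊔ T := fun y => by rw [hc₁e]; exact ha'W _
  obtain ⟨c, hc, hce⟩ := H96.exists_comp F hc₁ hψ hc₁W
  have hcV : ∀ x : V, c (Subgroup.inclusion le_sup_left x) = ((MulAut.congr e a x : V) : Ω) := by
    intro x
    obtain ⟨u, rfl⟩ := e.surjective x
    rw [hce]
    have h1 : c₁ (Subgroup.inclusion le_sup_left (e u)) = ((a u : U) : Ω) := by
      rw [hc₁e, show (⟨ι _, _⟩ : ↥(U ⊔ T)) = Subgroup.inclusion le_sup_left u from Subtype.ext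
        ((congrArg ι (Subtype.ext (hψU u).symm)).trans (hιi _ (hWr.le ⟨_, rfl⟩)))]
      exact ha'U u
    rw [show (⟨c₁ _, _⟩ : ↥(U ⊔ T)) = Subgroup.inclusion le_sup_left (a u) from Subtype.ext h1, hψU,
      show MulAut.congr e a (e u) = e (a u) by simp [MulAut.congr]]
  have hcT : ∀ x : T, c (Subgroup.inclusion le_sup_right x) = x := by
    intro x
    obtain ⟨t, ht⟩ := (range_eq_of_stronglyClosed hT (res_mem F hψ (le_sup_right : T ≤ U ⊔ T))).ge x.2
    rw [res_apply] at ht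
    rw [hce]
    have h1 : c₁ (Subgroup.inclusion le_sup_right x) = (t : Ω) := by
      rw [hc₁e, show (⟨ι _, _⟩ : ↥(U ⊔ T)) = Subgroup.inclusion le_sup_right t from Subtype.ext
        ((congrArg ι (Subtype.ext ht.symm)).trans (hιi _ (hWr.le ⟨_, rfl⟩)))]
      exact ha'T t
    rw [show (⟨c₁ _, _⟩ : ↥(U ⊔ T)) = Subgroup.inclusion le_sup_right t from Subtype.ext h1]
    exact ht
  refine (mem_autGroup DT hV).2 ?_
  rw [hDT V]
  exact ⟨mem_congr F (res_mem F hc le_sup_left) fun x => (hcV x).symm, hV, fun x => hV (MulAut.congr e a x).2,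
    c, hc, hcV, hcT⟩

set_option maxHeartbeats 1000000 in
/-- Let F be a saturated fusion system over a finite p-group S, E a normal subsystem over T, and Y the largest subgroup of C_S(T) such that E is a subsystem of the centralizer system of Y (every map of E extends to a map of F fixing Y elementwise). Then there is a normal subsystem of F over Y that is a subsystem of the centralizer system of T. -/
theorem result {Ω : Type*} [Group Ω] {S : Subgroup Ω} [Finite S] (p : ℕ) [Fact p.Prime] (hS : IsPGroup p S) (F : Cfsg.FusionSystem S) (hF : F.IsSaturated p) {T : Subgroup Ω} (E : Cfsg.FusionSystem T) (hE : E.IsNormalIn F p) (Y : Subgroup Ω) (hY : Y ≤ Cfsg.FusionSystem.centralizerIn S T) (hEY : ∀ P : Subgroup Ω, E.Hom P ⊆ F.centralizerHom Y P) (hmax : ∀ Y' : Subgroup Ω, Y' ≤ Cfsg.FusionSystem.centralizerIn S T → (∀ P : Subgroup Ω, E.Hom P ⊆ F.centralizerHom Y' P) → Y' ≤ Y) : ∃ D : Cfsg.FusionSystem Y, D.IsNormalIn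 F p ∧ ∀ P : Subgroup Ω, D.Hom P ⊆ F.centralizerHom T P := by
  have hI := hE.1.2.2
  have hTc : F.StronglyClosed T := hI.2.1
  have hTS : T ≤ S := hTc.1
  have hCS : centralizerIn S T ≤ S := inf_le_left
  have hYS : Y ≤ S := hY.trans hCS
  have := finite_of_le hTS
  have := finite_of_le hCS
  have := finite_of_le hYS
  have hGood : Good F E Y := ⟨hY, hEY⟩
  have hmax' : ∀ Y', Good F E Y' → Y' ≤ Y := fun Y' h => hmax Y' h.1 h.2
  have hYc : F.StronglyClosed Y :=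
    ⟨hYS, fun R hR φ hφ x => map_mem hS hF hE hGood hmax' hφ x (hR x.2)⟩
  have hTn : F.IsFullyNormalized T := ⟨hTS, fun Q hQ => by
    obtain ⟨φ, hφ, rfl⟩ := hQ
    rw [range_eq_of_stronglyClosed hTc hφ]⟩
  have hTfc : F.IsFullyCentralized T := ⟨hTS, fun Q hQ => by
    obtain ⟨φ, hφ, rfl⟩ := hQ
    rw [range_eq_of_stronglyClosed hTc hφ]⟩
  let DT := H93.centralizerSystem F T hTS
  have hDT : F.IsCentralizerSystem T DT := fun _ => rfl
  have hDTs : DT.IsSaturated p := H93.IsCentralizerSystem.isSaturated hS hF hTfc hDT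
  have hfoc : DT.focalSubgroup ≤ Y :=
    (S5293.result p hS F hF E hE _ rfl DT hDT).trans (sSup_le fun X hX => hmax X hX.1 hX.2)
  have hhyp : DT.hyperfocalSubgroup p ≤ Y := by
    refine le_trans ?_ hfoc
    refine (Subgroup.closure_le _).2 ?_
    rintro _ ⟨P, a, x, hP, -, rfl⟩
    exact Subgroup.subset_closure ⟨P, _, x, (mem_autGroup DT hP).1 a.2, rfl⟩
  have hCp := hS.to_le hCS
  obtain ⟨D, hDs, hDidx⟩ := H94.exists_pPowerIndex hCp hDTs hY hhyp
  have hYn : ∀ s ∈ centralizerIn S T, ∀ y ∈ Y, s * y * s⁻¹ ∈ Y := fun s hs y hy =>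
    (Subgroup.mem_normalizer_iff.1 (H93.StronglyClosed.le_normalizer hYc hs.1) y).1 hy
  have hDn : D.IsNormalIn DT p := H94.pPowerIndex_isNormalIn hCp hDTs hY hYn hDs hDidx
  have hsub : ∀ P : Subgroup Ω, D.Hom P ⊆ F.centralizerHom T P := fun P φ hφ => hDidx.1 P hφ
  have hYaut : DT.autGroup Y ≤ F.autGroup Y := fun a ha =>
    (mem_autGroup F hYS).2 ((mem_autGroup DT hY).1 ha).1
  refine ⟨D, ⟨⟨hDs, hF, fun P φ hφ => (hsub P hφ).1, hYc, ?_, ?_⟩, ?_⟩, hsub⟩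
  · -- invariance
    intro P hPY φ hφ α hα
    have hαF := (mem_autGroup F hYS).1 hα
    obtain ⟨ψ, hψ, hψe⟩ := extends_of_mem hS hF hE hGood hmax' hαF
    have hψY : ∀ (x : Ω) (hx : x ∈ Y), ψ ⟨x, Subgroup.mem_sup_right ⟨hx, hx⟩⟩ = ((α ⟨x, hx⟩ : Y) : Ω) :=
      fun x hx => hψe x hx hx
    have haut : ∀ (U : Subgroup Ω) (hU : U ≤ Y), ∀ a ∈ DT.autGroup U,
        MulAut.congr (H94.homEquiv (res (Y.subtype.comp α.toMonoidHom) hU)
          (F.injective_of_mem (res_mem F hαF hU)) rfl) a ∈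
          DT.autGroup (res (Y.subtype.comp α.toMonoidHom) hU).range := by
      intro U hU a ha
      have hle : U ⊔ T ≤ T ⊔ Y ⊓ Y := sup_le ((le_inf hU hU).trans le_sup_right) le_sup_left
      exact congr_mem_centralizer hTc hDT (hU.trans hY) (fun y hy => hY (by
        obtain ⟨x, rfl⟩ := hy; exact (α _).2)) (res_mem F hψ hle) (H94.homEquiv (res (Y.subtype.comp α.toMonoidHom) hU)
        (F.injective_of_mem (res_mem F hαF hU)) rfl) (fun x => (hψY x (hU x.2)).trans rfl) ha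
    obtain ⟨f, hfdef⟩ : ∃ f : Y →* Ω, f = Y.subtype.comp α.toMonoidHom := ⟨_, rfl⟩
    suffices h : ∃ χ ∈ D.Hom ((P.subgroupOf Y).map f), ∀ (x : P) (hxY : (x : Ω) ∈ Y) (hφx : φ x ∈ Y)
        (hx : f ⟨x, hxY⟩ ∈ (P.subgroupOf Y).map f), χ ⟨f ⟨x, hxY⟩, hx⟩ = f ⟨φ x, hφx⟩ by
      subst hfdef
      obtain ⟨χ, hχ, hχe⟩ := h
      exact ⟨χ, hχ, fun x hφx hαx => hχe x (hPY x.2) hφx hαx⟩
    refine H94.alperin_induction (hS.to_le hYS) hDs (fun P φ => ∃ χ ∈ D.Hom ((P.subgroupOf Y).map f),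
      ∀ (x : P) (hxY : (x : Ω) ∈ Y) (hφx : φ x ∈ Y) (hx : f ⟨x, hxY⟩ ∈ (P.subgroupOf Y).map f),
        χ ⟨f ⟨x, hxY⟩, hx⟩ = f ⟨φ x, hφx⟩) ?_ ?_ ?_ hφ
    · rintro P R h φ - ⟨χ, hχ, hχe⟩
      have hle : (R.subgroupOf Y).map f ≤ (P.subgroupOf Y).map f := Subgroup.map_mono fun x hx => h hx
      exact ⟨res χ hle, res_mem D hχ hle, fun x hxY hφx hx => hχe ⟨x, h x.2⟩ hxY hφx (hle hx)⟩
    · rintro P Q φ ψ hφ hψ ⟨χ, hχ, hχe⟩ ⟨η, hη, hηe⟩ hh
      have hPY' := (D.le_of_mem hφ).1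
      have hφY := (D.le_of_mem hφ).2
      have hval : ∀ y, χ y ∈ (Q.subgroupOf Y).map f := by
        rintro ⟨_, x, hx, rfl⟩
        exact ⟨⟨φ ⟨x, hx⟩, hφY _⟩, hh _, (hχe ⟨x, hx⟩ x.2 (hφY _) _).symm⟩
      obtain ⟨ζ, hζ, hζe⟩ := H96.exists_comp D hχ hη hval
      refine ⟨ζ, hζ, fun x hxY hφx hx => ?_⟩
      rw [hζe]
      refine Eq.trans ?_ (hηe ⟨φ x, hh x⟩ (hφY x) hφx ⟨⟨φ x, hφY x⟩, hh x, rfl⟩)
      exact congrArg η (Subtype.ext (hχe x hxY (hφY x) hx))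
    · intro U hU _ _ a ha
      have hUY := hU.1
      obtain ⟨hA, -⟩ := H94.fullyNormalized_spec (hS.to_le hYS) hDs hU
      obtain ⟨k, hk, b, hb, rfl⟩ := H94.exists_pResidual_mul_of_fullyAutomized hA ha
      obtain ⟨t, ht, hte⟩ := mem_autInducedBy.1 hb
      have hfF : res f hUY ∈ F.Hom U := hfdef ▸ res_mem F hαF hUY
      have hVeq : (U.subgroupOf Y).map f = (res f hUY).range := map_subgroupOf_eq_range f hUY
      subst hfdef
      set V := (res (Y.subtype.comp α.toMonoidHom) hUY).range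
      have hVY : V ≤ Y := by rintro _ ⟨x, rfl⟩; exact (α _).2
      set e := H94.homEquiv (res (Y.subtype.comp α.toMonoidHom) hUY)
        (F.injective_of_mem (res_mem F hαF hUY)) rfl with he
      have hle : D.autGroup U ≤ DT.autGroup U := fun c hc =>
        (mem_autGroup DT (hUY.trans hY)).2 (hDidx.1 U ((mem_autGroup D hUY).1 hc))
      let c : D.autGroup U →* DT.autGroup V :=
        ((MulAut.congr e).toMonoidHom.comp (D.autGroup U).subtype).codRestrict _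
          fun a => haut U hUY _ (hle a.2)
      obtain ⟨κ, hκ, rfl⟩ := hk
      have h1 : MulAut.congr e (κ : MulAut U) ∈ D.autGroup V :=
        hDidx.2.2 V hVY ⟨c κ, H50.map_pResidual_le p c ⟨κ, hκ, rfl⟩, rfl⟩
      have h2 : MulAut.congr e b ∈ D.autGroup V :=
        (mem_autGroup D hVY).2 (mem_congr D (D.conj_mem hVY (α ⟨t, ht⟩).2) fun y => by
          obtain ⟨x, rfl⟩ := e.surjective y
          show ((MulAut.congr e b (e x) : V) : Ω) = _
          rw [show MulAut.congr e b (e x) = e (b x) from congrArg (fun z => e (b z)) (e.symm_apply_apply x)]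
          show ((α (Subgroup.inclusion hUY (b x)) : Y) : Ω) =
            ((α ⟨t, ht⟩ : Y) : Ω) * ((α (Subgroup.inclusion hUY x) : Y) : Ω) * ((α ⟨t, ht⟩ : Y) : Ω)⁻¹
          rw [show Subgroup.inclusion hUY (b x) = ⟨t, ht⟩ * Subgroup.inclusion hUY x * (⟨t, ht⟩ : Y)⁻¹ from
            Subtype.ext (hte x), map_mul, map_mul, map_inv]
          rfl)
      refine ⟨_, H93.mem_of_eq ((mem_autGroup D hVY).1 (mul_mem h1 h2)) hVeq
        (ψ := (V.subtype.comp (MulAut.congr e (κ : MulAut U) * MulAut.congr e b).toMonoidHom).comp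
          (Subgroup.inclusion hVeq.le)) fun _ _ _ => rfl, fun x hxY hφx hx => ?_⟩
      show (((MulAut.congr e (κ : MulAut U) * MulAut.congr e b) (e x) : V) : Ω) = _
      rw [show (MulAut.congr e (κ : MulAut U) * MulAut.congr e b) (e x) = e ((κ : MulAut U) (b x)) from
        (congrArg (fun z => e ((κ : MulAut U) z)) (e.symm_apply_apply _)).trans
          (congrArg (fun z => e ((κ : MulAut U) (b z))) (e.symm_apply_apply x))]

      rfl
  · -- Frattini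
    intro P hP φ hφ
    obtain ⟨ψ, hψ, hψe⟩ := extends_of_mem hS hF hE hGood hmax' hφ
    have hτ := res_mem F hψ (le_sup_left : T ≤ T ⊔ P ⊓ Y)
    obtain ⟨τ, hτF, hτe⟩ := exists_autGroup_of_mem F hτ fun x => hTc.2 T le_rfl _ hτ x
    have hτh := (mem_autGroup F hTS).1 hτF
    obtain ⟨β₀, hβ₀, hβ₀e⟩ := (H94.fullyNormalized_spec hS hF hTn).2.2 T _ hτh
      (range_eq_of_stronglyClosed hTc hτh)
    have hXN : T ⊔ Y ≤ extender S T (T.subtype.comp τ.toMonoidHom) := by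
      refine sup_le (H94.le_extender_aut hTS τ) fun g hg => H96.mem_extender.2
        ⟨hYS hg, Subgroup.centralizer_le_normalizer _ (hY hg).2, 1, S.one_mem, fun x hx => ?_⟩
      simp only [one_mul, inv_one, mul_one]
      exact congrArg _ (Subtype.ext (by
        show g * (x : Ω) * g⁻¹ = x
        rw [← (Subgroup.mem_centralizer_iff.1 (hY hg).2) x x.2, mul_inv_cancel_right]))
    have hXS : T ⊔ Y ≤ S := sup_le hTS hYS
    have := finite_of_le hXS
    have hβX := res_mem F hβ₀ hXN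
    obtain ⟨β, hβ, hβe⟩ := exists_autGroup_of_mem F hβX (apply_mem_sup _
      (fun x => Subgroup.mem_sup_left (hTc.2 T le_rfl _ (res_mem F hβX le_sup_left) x))
      (fun x => Subgroup.mem_sup_right (hYc.2 Y le_rfl _ (res_mem F hβX le_sup_right) x)))
    have hβT : ∀ x : T, ((β (Subgroup.inclusion le_sup_left x) : ↥(T ⊔ Y)) : Ω) = ((τ x : T) : Ω) :=
      fun x => (hβe _).trans (hβ₀e x x.2 _)
    have hβh := (mem_autGroup F hXS).1 hβ
    have hβih := (mem_autGroup F hXS).1 (inv_mem hβ)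
    have hαY := res_mem F hβh (le_sup_right : Y ≤ T ⊔ Y)
    obtain ⟨α₀, hα₀, hα₀e⟩ := exists_autGroup_of_mem F hαY fun x => hYc.2 Y le_rfl _ hαY x
    have hψle : P ⊔ T ≤ T ⊔ P ⊓ Y := sup_le ((le_inf le_rfl hP).trans le_sup_right) le_sup_left
    have hψ' := res_mem F hψ hψle
    have hψ'P : ∀ x : P, res ψ hψle (Subgroup.inclusion le_sup_left x) = φ x := fun x => hψe x x.2 (hP x.2)
    have hψ'X : ∀ w, res ψ hψle w ∈ T ⊔ Y := apply_mem_sup _
      (fun x => by rw [hψ'P]; exact Subgroup.mem_sup_right (hYc.2 P hP _ hφ x))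
      (fun x => Subgroup.mem_sup_left (hTc.2 T le_rfl _ (res_mem F hψ' le_sup_right) x))
    obtain ⟨φ₁', hφ₁', hφ₁'e⟩ := H96.exists_comp F hψ' hβih hψ'X
    have hφ₁ := res_mem F hφ₁' (le_sup_left : P ≤ P ⊔ T)
    have hφ₁Y : ∀ x : P, res φ₁' le_sup_left x ∈ Y := fun x => hYc.2 P hP _ hφ₁ x
    have hφ₁D : res φ₁' le_sup_left ∈ DT.Hom P := by
      refine ⟨hφ₁, hP.trans hY, fun x => hY (hφ₁Y x), φ₁', hφ₁', fun x => rfl, fun x => ?_⟩
      rw [hφ₁'e]
      show ((β⁻¹ _ : ↥(T ⊔ Y)) : Ω) = _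
      refine congrArg Subtype.val (show β⁻¹ _ = Subgroup.inclusion le_sup_left x from ?_)
      apply β.injective
      rw [MulAut.apply_inv_self]
      exact Subtype.ext (((hβT x).trans (hτe x)).symm)
    obtain ⟨d, hd, φ₀, hφ₀, hφ₀e⟩ := hDn.1.2.2.2.2.2 P hP _ hφ₁D
    refine ⟨α₀ * d, mul_mem hα₀ (hYaut hd), φ₀, hφ₀, fun x hx => ?_⟩
    have h1 : (⟨res ψ hψle (Subgroup.inclusion le_sup_left x), hψ'X _⟩ : ↥(T ⊔ Y)) =
        β (Subgroup.inclusion le_sup_right (d ⟨φ₀ x, hx⟩)) := by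
      rw [← show β⁻¹ ⟨res ψ hψle (Subgroup.inclusion le_sup_left x), hψ'X _⟩ =
        Subgroup.inclusion le_sup_right (d ⟨φ₀ x, hx⟩) from
          Subtype.ext ((hφ₁'e _).symm.trans (hφ₀e x hx)), MulAut.apply_inv_self]
    rw [← hψ'P x]
    refine (congrArg Subtype.val h1).trans ?_
    rw [MulAut.mul_apply, hα₀e]
    rfl
  · -- extension condition
    intro α hα
    have hWS : Y ⊔ centralizerIn S Y ≤ S := sup_le hYS inf_le_left
    let good : MulAut Y → Prop := fun a => ∃ β ∈ F.autGroup (Y ⊔ centralizerIn S Y),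
      (∀ x : Y, ((β (Subgroup.inclusion le_sup_left x) : ↥(Y ⊔ centralizerIn S Y)) : Ω) = ((a x : Y) : Ω)) ∧
        ∀ c : ↥(Y ⊔ centralizerIn S Y), (c : Ω) ∈ centralizerIn S Y →
          (c : Ω)⁻¹ * ((β c : ↥(Y ⊔ centralizerIn S Y)) : Ω) ∈ Y ⊓ Subgroup.centralizer (Y : Set Ω)
    have hmul : ∀ a b, good a → good b → good (a * b) := by
      rintro a b ⟨β₁, h₁, e₁, c₁⟩ ⟨β₂, h₂, e₂, c₂⟩
      exact ⟨β₁ * β₂, mul_mem h₁ h₂, H94.ext_condition_mul e₁ c₁ e₂ c₂⟩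
    have hone : good 1 := ⟨1, one_mem _, fun x => rfl, fun c _ => by simp⟩
    let Hg : Subgroup (MulAut Y) :=
      { carrier := {a | good a ∧ good a⁻¹}
        one_mem' := ⟨hone, by rw [inv_one]; exact hone⟩
        mul_mem' := fun ha hb => ⟨hmul _ _ ha.1 hb.1, by rw [mul_inv_rev]; exact hmul _ _ hb.2 ha.2⟩
        inv_mem' := fun ha => ⟨ha.2, by rw [inv_inv]; exact ha.1⟩ }
    have hA : D.IsFullyAutomized p Y :=
      (H94.fullyNormalized_spec (hS.to_le hYS) hDs (H93.isFullyNormalized_top D)).1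
    obtain ⟨k, hk, b, hb, rfl⟩ := H94.exists_pResidual_mul_of_fullyAutomized hA hα
    refine (show k * b ∈ Hg from Hg.mul_mem ?_ ?_).1
    · obtain ⟨κ, hκ, rfl⟩ := hk
      suffices h : pResidual p (D.autGroup Y) ≤ Hg.comap (D.autGroup Y).subtype from h hκ
      refine (Subgroup.closure_le _).2 fun a ha => ?_
      refine mem_of_coprime_parts (p := p) (H := Hg.comap (D.autGroup Y).subtype)
        (fun q hq hqp e a ha => ?_) (orderOf a) a (pow_orderOf_eq_one a) ha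
      have := Fact.mk hq
      have haT : (a : MulAut Y) ∈ DT.autGroup Y :=
        (mem_autGroup DT hY).2 (hDidx.1 Y ((mem_autGroup D le_rfl).1 a.2))
      have haq : (a : MulAut Y) ^ q ^ e = 1 := congrArg Subtype.val ha
      exact ⟨exists_ext_of_centralizer hS hF hTc hYc hY hDT hfoc haT hqp haq,
        exists_ext_of_centralizer hS hF hTc hYc hY hDT hfoc (inv_mem haT) hqp
          (by rw [inv_pow, inv_eq_one]; exact haq)⟩
    · have hext : ∀ b ∈ autInducedBy Y Y, good b := by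
        intro b hb
        obtain ⟨t, ht, hte⟩ := mem_autInducedBy.1 hb
        obtain ⟨β, hβ, hβe⟩ := H94.exists_autInducedBy (hYS ht)
          (Subgroup.le_normalizer ((le_sup_left : Y ≤ Y ⊔ centralizerIn S Y) ht))
        refine ⟨β, autInducedBy_le_autGroup F hWS hβ, fun x => (hβe _).trans (hte x).symm, fun c hc => ?_⟩
        have : (c : Ω)⁻¹ * ((β c : ↥(Y ⊔ centralizerIn S Y)) : Ω) = 1 := by
          rw [hβe, Subgroup.mem_centralizer_iff.1 hc.2 t ht]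
          simp
        rw [this]
        exact one_mem _
      exact ⟨hext _ hb, hext _ (inv_mem hb)⟩

end Cfsg.Agent.S5155
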