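import Cfsg.Statements.S5186
import Cfsg.Agent.H29.EssentialChain
import Cfsg.Agent.H24.Power
import Cfsg.Agent.H24.Extraspecial
import Cfsg.Agent.H24.TwoMaxClass
import Cfsg.Agent.H73.StronglyEmbedded

set_option autoImplicit false
universe u
open Cfsg

namespace Cfsg.Agent.S5186

open scoped commutatorElement

/-- The chain through two invariant subgroups of orders `p` and `p²` in a group of order `p³`. -/
theorem no_chain {Ω : Type*} [Group Ω] {S : Subgroup Ω} [Finite S] {p : ℕ} [Fact p.Prime] (hS : IsPGroup p S)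
    (F : Cfsg.FusionSystem S) (P : Subgroup Ω) [Finite P] (hP : F.IsEssential p P) (hcard : Nat.card P = p ^ 3)
    (A B : Subgroup P) (hA : Nat.card A = p) (hB : Nat.card B = p ^ 2) (hAB : A ≤ B)
    (hAi : ∀ α : MulAut P, ∀ x ∈ A, α x ∈ A) (hBi : ∀ α : MulAut P, ∀ x ∈ B, α x ∈ B) : False := by
  have hp : p.Prime := Fact.out
  let W : ℕ → Subgroup P := fun i => if i = 0 then ⊥ else if i = 1 then A else if i = 2 then B else ⊤
  refine Agent.H29.not_isEssential_of_chain hS F P 3 W (by simp [W]) (by simp [W]) ?_ ?_ hP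
  · intro α i hi x hx
    rcases (show i = 0 ∨ i = 1 ∨ i = 2 ∨ i = 3 by omega) with rfl | rfl | rfl | rfl <;> simp [W] at hx ⊢
    · exact hx
    · exact hAi α x hx
    · exact hBi α x hx
  · intro i hi
    rcases (show i = 0 ∨ i = 1 ∨ i = 2 by omega) with rfl | rfl | rfl <;> simp [W]
    · exact hA
    · refine ⟨hAB, ?_⟩
      have h := (A.subgroupOf B).card_mul_index
      rw [Nat.card_congr (Subgroup.subgroupOfEquivOfLe hAB).toEquiv, hA, hB, sq] at h
      exact Nat.eq_of_mul_eq_mul_left hp.pos h
    · have h := B.card_mul_index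
      rw [hB, hcard, pow_succ p 2] at h
      exact Nat.eq_of_mul_eq_mul_left (pow_pos hp.pos 2) h

/-- The facts about a non-abelian group of order `p³`. -/
theorem center_data {P : Type*} [Group P] [Finite P] {p : ℕ} [Fact p.Prime] (hcard : Nat.card P = p ^ 3)
    (hna : ¬ IsMulCommutative P) :
    Nat.card (Subgroup.center P) = p ∧ commutator P = Subgroup.center P := by
  have hp : p.Prime := Fact.out
  have hP : IsPGroup p P := IsPGroup.of_card hcard
  have hnt : Nontrivial P := by
    rw [← Finite.one_lt_card_iff_nontrivial, hcard]; exact Nat.one_lt_pow (by omega) hp.one_lt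
  obtain ⟨i, hi3, hi⟩ := (Nat.dvd_prime_pow hp).1 (hcard ▸ Subgroup.card_subgroup_dvd_card (Subgroup.center P))
  have hi0 : i ≠ 0 := fun h => by
    have := hP.center_nontrivial
    rw [h, pow_zero] at hi
    exact absurd hi (Finite.one_lt_card_iff_nontrivial.2 this).ne'
  have hmul := (Subgroup.center P).card_mul_index
  rw [hi, hcard] at hmul
  have hi1 : i = 1 := by
    by_contra h
    apply hna
    rcases (show i = 2 ∨ i = 3 by omega) with rfl | rfl
    · have hindex : (Subgroup.center P).index = p := by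
        rw [pow_succ p 2] at hmul
        exact Nat.eq_of_mul_eq_mul_left (pow_pos hp.pos 2) hmul
      have : IsCyclic (P ⧸ Subgroup.center P) := isCyclic_of_prime_card (p := p) hindex
      exact Agent.H24.isMulCommutative_of_cyclic_quotient le_rfl
    · have : Subgroup.center P = ⊤ := Subgroup.eq_top_of_card_eq _ (by rw [hi, hcard])
      exact ⟨⟨fun a b => Subgroup.mem_center_iff.1 (this ▸ Subgroup.mem_top b) a⟩⟩
  subst hi1
  rw [pow_one] at hi hmul
  refine ⟨hi, ?_⟩
  have hidx : (Subgroup.center P).index = p ^ 2 := by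
    rw [pow_succ' p 2] at hmul
    exact Nat.eq_of_mul_eq_mul_left hp.pos hmul
  have hle : commutator P ≤ Subgroup.center P := by
    have hc : IsMulCommutative (P ⧸ Subgroup.center P) := IsPGroup.isMulCommutative_of_card_eq_prime_sq hidx
    rw [commutator_def, Subgroup.commutator_le]
    intro a _ b _
    rw [← QuotientGroup.eq_one_iff, ← QuotientGroup.mk'_apply, map_commutatorElement,
      commutatorElement_eq_one_iff_mul_comm]
    exact hc.is_comm.comm _ _
  refine Subgroup.eq_of_le_of_card_ge hle ?_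
  rw [hi]
  obtain ⟨j, -, hj⟩ := (Nat.dvd_prime_pow hp).1 (hcard ▸ Subgroup.card_subgroup_dvd_card (commutator P))
  rw [hj]
  refine Nat.le_self_pow (fun h => hna ?_) p
  rw [h, pow_zero, Subgroup.card_eq_one] at hj
  exact ⟨⟨fun a b => commutatorElement_eq_one_iff_mul_comm.1 (Subgroup.mem_bot.1 (hj ▸
    Subgroup.commutator_mem_commutator (Subgroup.mem_top a) (Subgroup.mem_top b)))⟩⟩


/-- Let F be a saturated fusion system over a finite p-group S and H an essential subgroup of order p³. Then H is elementary abelian, or p is odd and H is extraspecial of exponent p, or p = 2 and H is the quaternion group of order 8. -/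
theorem result {Ω : Type u} [Group Ω] {S : Subgroup Ω} [Finite S] (p : ℕ) [Fact p.Prime] (hS : IsPGroup p S)
    (F : Cfsg.FusionSystem S) (hF : F.IsSaturated p) (H : Subgroup Ω) (hH : F.IsEssential p H) (hcard : Nat.card H = p ^ 3) :
    Cfsg.IsElementaryAbelian p H ∨ (Odd p ∧ Cfsg.IsExtraspecial p ↥H ∧ ∀ x ∈ H, x ^ p = 1) ∨
      (p = 2 ∧ Nonempty (↥H ≃* QuaternionGroup 2)) := by
  have hp : p.Prime := Fact.out
  have hHS : H ≤ S := hH.2.1.1
  have : Finite H := Finite.of_injective _ (Subgroup.inclusion_injective hHS)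
  have hP : IsPGroup p H := IsPGroup.of_card hcard
  by_cases hcase : IsMulCommutative H ∨ p ≠ 2
  · -- the power map is a homomorphism
    have hmul : ∀ x y : H, (x * y) ^ p = x ^ p * y ^ p := by
      intro x y
      by_cases hc : IsMulCommutative H
      · exact (show Commute x y from hc.is_comm.comm x y).mul_pow p
      · obtain ⟨hZ, hD⟩ := center_data hcard hc
        have hmem : ⁅y, x⁆ ∈ Subgroup.center H :=
          hD ▸ Subgroup.commutator_mem_commutator (Subgroup.mem_top y) (Subgroup.mem_top x)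
        refine Agent.H24.mul_pow_prime_of_class_two hp (hcase.resolve_left hc) hmem ?_
        have := congrArg Subtype.val (pow_card_eq_one' (x := (⟨_, hmem⟩ : Subgroup.center H)))
        rw [hZ] at this
        simpa using this
    let φ : H →* H := MonoidHom.mk' (fun x => x ^ p) hmul
    have hinv : ∀ α : MulAut H, (∀ x ∈ φ.ker, α x ∈ φ.ker) ∧ ∀ x ∈ φ.range, α x ∈ φ.range := fun α =>
      ⟨fun x hx => by
        show (α x) ^ p = 1
        rw [← map_pow, show x ^ p = 1 from hx, map_one],
      by rintro _ ⟨w, rfl⟩; exact ⟨α w, (map_pow α w p).symm⟩⟩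
    by_cases hexp : ∀ x : H, x ^ p = 1
    · by_cases hc : IsMulCommutative H
      · exact Or.inl ⟨hc, fun a ha => by simpa using congrArg Subtype.val (hexp ⟨a, ha⟩)⟩
      · exact Or.inr (Or.inl ⟨hp.odd_of_ne_two (hcase.resolve_left hc),
          Agent.H24.isExtraspecial_of hP (center_data hcard hc).1
            (fun h => hc ⟨⟨fun a b => Subgroup.mem_center_iff.1 (h ▸ Subgroup.mem_top b) a⟩⟩)
            (fun a b => by
              rw [← (center_data hcard hc).2]
              exact Subgroup.commutator_mem_commutator (Subgroup.mem_top a) (Subgroup.mem_top b))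
            (fun x => by rw [hexp x]; exact one_mem _),
          fun x hx => by simpa using congrArg Subtype.val (hexp ⟨x, hx⟩)⟩)
    exfalso
    have hprod : Nat.card φ.range * Nat.card φ.ker = p ^ 3 := by
      rw [← hcard, ← φ.ker.card_mul_index, Subgroup.index_ker, mul_comm]
    obtain ⟨r, hr, hr'⟩ := (Nat.dvd_prime_pow hp).1 (Dvd.intro _ hprod : Nat.card φ.range ∣ p ^ 3)
    obtain ⟨s, hs, hs'⟩ := (Nat.dvd_prime_pow hp).1 (Dvd.intro_left _ hprod : Nat.card φ.ker ∣ p ^ 3)
    rw [hr', hs', ← pow_add] at hprod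
    have hrs := Nat.pow_right_injective hp.two_le hprod
    have hr0 : r ≠ 0 := fun h => hexp fun x => by
      rw [h, pow_zero, Subgroup.card_eq_one] at hr'
      exact Subgroup.mem_bot.1 (hr' ▸ (⟨x, rfl⟩ : φ x ∈ φ.range))
    obtain ⟨w, hwR, hw⟩ := Agent.H73.exists_orderOf_eq_prime (hP.to_subgroup φ.range) (fun h => hr0 (by
      rw [h, Subgroup.card_bot] at hr'
      rcases Nat.eq_zero_or_pos r with h | h
      · exact h
      · exact absurd (Nat.one_lt_pow h.ne' hp.one_lt) (by omega)))
    have hwK : w ∈ φ.ker := by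
      show w ^ p = 1
      rw [← hw, pow_orderOf_eq_one]
    have hs0 : s ≠ 0 := fun h => by
      rw [h, pow_zero, Subgroup.card_eq_one] at hs'
      rw [hs', Subgroup.mem_bot] at hwK
      rw [hwK, orderOf_one] at hw
      exact hp.ne_one hw.symm
    rcases (show r = 1 ∧ s = 2 ∨ r = 2 ∧ s = 1 by omega) with ⟨rfl, rfl⟩ | ⟨rfl, rfl⟩
    · rw [pow_one] at hr'
      refine no_chain hS F H hH hcard φ.range φ.ker hr' hs' ?_ (fun α => (hinv α).2) fun α => (hinv α).1
      rintro _ ⟨x, rfl⟩
      show (x ^ p) ^ p = 1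
      have := congrArg Subtype.val (pow_card_eq_one' (x := (⟨φ x, ⟨x, rfl⟩⟩ : φ.range)))
      rw [hr'] at this
      exact this
    · rw [pow_one] at hs'
      refine no_chain hS F H hH hcard φ.ker φ.range hs' hr' ?_ (fun α => (hinv α).1) fun α => (hinv α).2
      rw [← Subgroup.eq_of_le_of_card_ge (Subgroup.zpowers_le.2 hwK) (by rw [Nat.card_zpowers, hw, hs'])]
      exact Subgroup.zpowers_le.2 hwR
  push Not at hcase
  obtain ⟨hna, rfl⟩ := hcase
  obtain ⟨hZ, hD⟩ := center_data hcard hna
  have hidx : (commutator H).index = 4 := by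
    have h := (commutator H).card_mul_index
    rw [hD, hZ, hcard] at h
    rw [hD]
    omega
  rcases Agent.H24.two_group_max_class (le_refl 3) hcard
      (fun {_} => (Agent.H24.two_group_commutator_index_four H 3 hcard (by omega) hidx).2.1) with
    ⟨m, ⟨e⟩⟩ | ⟨m, ⟨e⟩⟩ | ⟨n, hn, hcn, -⟩
  · exfalso
    have h := (Nat.card_congr e.toEquiv).symm.trans hcard
    rw [DihedralGroup.nat_card] at h
    obtain rfl : m = 4 := by omega
    have hord : ∀ d : DihedralGroup 4, d ^ 2 ≠ 1 → d = .r 1 ∨ d = .r 3 := by decide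
    have hkey : ∀ α : MulAut H, ∀ i : ℤ, α (e.symm (.r 1) ^ i) ∈ Subgroup.zpowers (e.symm (.r 1)) := by
      intro α i
      rw [map_zpow]
      refine zpow_mem ?_ i
      have h2 : (e (α (e.symm (.r 1)))) ^ 2 ≠ 1 := by
        intro h2
        rw [← map_pow, map_eq_one_iff e e.injective, ← map_pow, map_eq_one_iff α α.injective,
          ← map_pow, map_eq_one_iff e.symm e.symm.injective] at h2
        revert h2
        decide
      rcases hord _ h2 with h3 | h3
      · exact ⟨1, by simp only [zpow_one]; exact (e.symm_apply_eq).2 h3.symm⟩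
      · refine ⟨3, ?_⟩
        show e.symm (.r 1) ^ (3 : ℤ) = _
        rw [← map_zpow]
        refine (e.symm_apply_eq).2 ?_
        rw [h3]
        decide
    have ho : orderOf (e.symm (DihedralGroup.r (1 : ZMod 4))) = 4 := by
      rw [MulEquiv.orderOf_eq, DihedralGroup.orderOf_r_one]
    refine no_chain hS F H hH hcard (Subgroup.zpowers (e.symm (.r 1) ^ 2))
      (Subgroup.zpowers (e.symm (.r 1))) ?_ ?_ (Subgroup.zpowers_le.2 (pow_mem (Subgroup.mem_zpowers _) 2)) ?_ ?_
    · rw [Nat.card_zpowers, orderOf_pow, ho]; rfl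
    · rw [Nat.card_zpowers, ho]; rfl
    · intro α x hx
      obtain ⟨i, rfl⟩ := hx
      show α ((e.symm (.r 1) ^ 2) ^ i) ∈ _
      obtain ⟨j, hj⟩ := hkey α 1
      simp only [zpow_one] at hj
      rw [map_zpow, map_pow, ← show e.symm (.r 1) ^ j = α (e.symm (.r 1)) from hj]
      refine Subgroup.zpow_mem (Subgroup.zpowers (e.symm (.r 1) ^ 2)) ⟨j, ?_⟩ i
      show (e.symm (.r 1) ^ 2) ^ j = (e.symm (.r 1) ^ j) ^ 2
      rw [← zpow_natCast, ← zpow_natCast, ← zpow_mul, ← zpow_mul, mul_comm]
    · intro α x hx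
      obtain ⟨i, rfl⟩ := hx
      exact hkey α i
  · refine Or.inr (Or.inr ⟨rfl, ?_⟩)
    rcases eq_or_ne m 0 with rfl | hm0
    · exfalso
      have : Finite (QuaternionGroup 0) := Finite.of_equiv _ e.toEquiv
      have : Infinite (QuaternionGroup 0) := Infinite.of_injective (fun i : ℤ => QuaternionGroup.a i)
        fun a b h => QuaternionGroup.a.inj h
      exact not_finite (QuaternionGroup 0)
    have : NeZero m := ⟨hm0⟩
    have h := (Nat.card_congr e.toEquiv).symm.trans hcard
    rw [Nat.card_eq_fintype_card, QuaternionGroup.card] at h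
    obtain rfl : m = 2 := by omega
    exact ⟨e⟩
  · exfalso
    rw [hcard] at hcn
    have := Nat.pow_le_pow_right two_pos (show 4 ≤ n + 1 by omega)
    omega

end Cfsg.Agent.S5186
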