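import Cfsg.Statements.S1018
import Cfsg.Agent.H31.SylowPrime

open Cfsg.Agent.H31

set_option autoImplicit false
open Cfsg

namespace Cfsg.Agent.S1018

/-- Let P be a Sylow p-subgroup of order p of a finite group G, and consider the action of G on the left cosets of the normalizer N of P. Then every element of order p fixes exactly one coset, and an element of N that does not centralize P fixes at most as many cosets as there are orbits of P. -/
theorem result {G : Type*} [Group G] [Finite G] (p : ℕ) [Fact p.Prime] (P : Sylow p G) (hP : Nat.card ↥(P : Subgroup G) = p) : (∀ y : G, orderOf y = p → Nat.card (MulAction.fixedBy (G ⧸ Subgroup.normalizer ((P : Subgroup G) : Set G)) y) = 1) ∧ ∀ x : G, x ∈ Subgroup.normalizer ((P : Subgroup G) : Set G) → x ∉ Subgroup.centralizer ((P : Subgroup G) : Set G) → Nat.card (MulAction.fixedBy (G ⧸ Subgroup.normalizer ((P : Subgroup G) : Set G)) x) ≤ Nat.card (MulAction.orbitRel.Quotient ↥(P : Subgroup G) (G ⧸ Subgroup.normalizer ((P : Subgroup G)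 : Set G))) := by
  classical
  have hp : p.Prime := Fact.out
  set N := Subgroup.normalizer ((P : Subgroup G) : Set G) with hN
  have hfix : ∀ (y g : G), orderOf y = p → (y • (g : G ⧸ N) = (g : G ⧸ N)) →
      g⁻¹ * y * g ∈ (P : Subgroup G) ∧ g⁻¹ * y * g ≠ 1 := by
    intro y g hy hfixg
    have h1 : g⁻¹ * y * g ∈ N := by
      rw [show y • (g : G ⧸ N) = ((y * g : G) : G ⧸ N) from rfl, eq_comm, QuotientGroup.eq] at hfixg
      rwa [← mul_assoc] at hfixg
    have ho : orderOf (g⁻¹ * y * g) = p := by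
      have := orderOf_conj_eq g⁻¹ y
      rw [inv_inv, hy] at this
      exact this
    refine ⟨mem_sylow_of_mem_normalizer P h1 (k := 1) (by rw [ho, pow_one]), fun h => ?_⟩
    rw [h, orderOf_one] at ho
    exact hp.ne_one ho.symm
  have hone : ∀ y : G, orderOf y = p → ∀ a b : G ⧸ N, y • a = a → y • b = b → a = b := by
    intro y hy a b ha hb
    obtain ⟨g, rfl⟩ := QuotientGroup.mk_surjective a
    obtain ⟨g', rfl⟩ := QuotientGroup.mk_surjective b
    obtain ⟨h1, h1'⟩ := hfix y g hy ha
    obtain ⟨h2, h2'⟩ := hfix y g' hy hb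
    rw [QuotientGroup.eq, hN]
    have e1 := (zpowers_eq_of_prime_card hP h1 h1').1
    have e2 := (zpowers_eq_of_prime_card hP h2 h2').1
    have hconj : ∀ k : ℤ, (g⁻¹ * g') * (g'⁻¹ * y * g') ^ k * (g⁻¹ * g')⁻¹ = (g⁻¹ * y * g) ^ k := by
      intro k; rw [← conj_zpow]; congr 1; group
    rw [Subgroup.mem_normalizer_iff]
    intro u
    constructor
    · intro hu
      rw [← e2] at hu
      obtain ⟨k, rfl⟩ := Subgroup.mem_zpowers_iff.1 hu
      rw [hconj]
      exact Subgroup.zpow_mem _ h1 k
    · intro hu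
      rw [← e1] at hu
      obtain ⟨k, hk⟩ := Subgroup.mem_zpowers_iff.1 hu
      rw [← hconj, mul_left_inj, mul_right_inj] at hk
      rw [← hk]
      exact Subgroup.zpow_mem _ h2 k
  have hfix1 : ∀ v, v ∈ (P : Subgroup G) → v • ((1 : G) : G ⧸ N) = ((1 : G) : G ⧸ N) := by
    intro v hv
    change ((v * 1 : G) : G ⧸ N) = _
    rw [eq_comm, QuotientGroup.eq]
    simpa [hN] using Subgroup.le_normalizer hv
  refine ⟨fun y hy => ?_, fun x hxN hxC => ?_⟩
  · obtain ⟨Q, hQ⟩ := exists_sylow_eq_zpowers P hP hy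
    obtain ⟨g, hg⟩ := MulAction.exists_smul_eq G P Q
    have hyQ : y ∈ (Q : Subgroup G) := hQ ▸ Subgroup.mem_zpowers y
    rw [← hg, Sylow.coe_subgroup_smul] at hyQ
    obtain ⟨u, hu, huy⟩ := hyQ
    have hex : y • (g : G ⧸ N) = (g : G ⧸ N) := by
      change ((y * g : G) : G ⧸ N) = _
      rw [eq_comm, QuotientGroup.eq, ← huy]
      simpa [hN, mul_assoc] using Subgroup.le_normalizer (show u ∈ (P : Subgroup G) from hu)
    rw [Nat.card_eq_one_iff_unique]
    exact ⟨⟨fun a b => Subtype.ext (hone y hy a b a.2 b.2)⟩, ⟨⟨_, hex⟩⟩⟩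
  · refine Nat.card_le_card_of_injective
      (fun c => (Quotient.mk'' c.1 : MulAction.orbitRel.Quotient ↥(P : Subgroup G) (G ⧸ N))) ?_
    rintro ⟨c, hc⟩ ⟨d, hd⟩ hcd
    apply Subtype.ext
    obtain ⟨⟨u, hu⟩, huc⟩ : c ∈ MulAction.orbit (P : Subgroup G) d := Quotient.eq''.1 hcd
    change u • d = c at huc
    rw [MulAction.mem_fixedBy] at hc hd
    by_contra hne
    change ¬c = d at hne
    have hu1 : u ≠ 1 := fun h => hne (by simpa [h] using huc.symm)
    set w := u⁻¹ * (x⁻¹ * u * x) with hw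
    have hwP : w ∈ (P : Subgroup G) := by
      have := (Subgroup.mem_normalizer_iff.1 (inv_mem hxN) u).1 hu
      rw [inv_inv] at this
      exact Subgroup.mul_mem _ (inv_mem hu) this
    have hw1 : w ≠ 1 := by
      intro h
      rw [hw, inv_mul_eq_one] at h
      have hcomm : Commute x u := by
        calc x * u = x * (x⁻¹ * u * x) := by rw [← h]
          _ = u * x := by group
      refine hxC (Subgroup.mem_centralizer_iff.2 fun z hz => ?_)
      rw [SetLike.mem_coe, ← (zpowers_eq_of_prime_card hP hu hu1).1] at hz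
      obtain ⟨k, rfl⟩ := Subgroup.mem_zpowers_iff.1 hz
      exact ((hcomm.zpow_right k).eq).symm
    have hwd : w • d = d := by
      rw [hw, mul_smul, mul_smul, mul_smul, hd, huc, inv_smul_eq_iff.2 hc.symm, inv_smul_eq_iff]
      exact huc.symm
    have hd1 := hone w (zpowers_eq_of_prime_card hP hwP hw1).2 d _ hwd (hfix1 w hwP)
    rw [hd1, hfix1 u hu] at huc
    exact hne (huc.symm.trans hd1.symm)

end Cfsg.Agent.S1018
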