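import Cfsg.Statements.S1019
import Mathlib

set_option autoImplicit false
open Cfsg

namespace Cfsg.Agent.S1019

/-- Let H be a subgroup of a finite group G and x an element of H. In the action of G on the left cosets of H, the number of cosets fixed by x, multiplied by the size of the conjugacy class of x, equals the index of H multiplied by the number of conjugates of x that lie in H. -/
theorem result {G : Type*} [Group G] [Finite G] (H : Subgroup G) (x : G) (hx : x ∈ H) : Nat.card (MulAction.fixedBy (G ⧸ H) x) * Nat.card {g : G // IsConj x g} = H.index * Nat.card {g : G // IsConj x g ∧ g ∈ H} := by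
  classical
  have := Fintype.ofFinite G
  let Y := {g : G // IsConj x g}
  have : Fintype (G ⧸ H) := Fintype.ofFinite _
  have hfix : ∀ y : Y, Nat.card {c : G ⧸ H // y.1 • c = c} =
      Nat.card (MulAction.fixedBy (G ⧸ H) x) := by
    rintro ⟨y, hy⟩
    obtain ⟨g, rfl⟩ := isConj_iff.1 hy
    refine Nat.card_congr (Equiv.subtypeEquiv (MulAction.toPerm g⁻¹) fun c => ?_)
    simp [MulAction.mem_fixedBy, mul_smul, eq_inv_smul_iff]
  have hcls : ∀ c : G ⧸ H, Nat.card {y : Y // y.1 • c = c} =
      Nat.card {g : G // IsConj x g ∧ g ∈ H} := by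
    intro c
    obtain ⟨k, rfl⟩ := QuotientGroup.mk_surjective c
    refine Nat.card_congr
      { toFun := fun y => ⟨k⁻¹ * y.1.1 * k, y.1.2.trans (isConj_iff.2 ⟨k⁻¹, by simp⟩), by
          have h1 := y.2
          rw [show y.1.1 • (QuotientGroup.mk k : G ⧸ H) = QuotientGroup.mk (y.1.1 * k) from rfl,
            eq_comm, QuotientGroup.eq] at h1
          simpa [mul_assoc] using h1⟩
        invFun := fun z => ⟨⟨k * z.1 * k⁻¹, z.2.1.trans (isConj_iff.2 ⟨k, rfl⟩)⟩, by
          change (QuotientGroup.mk (k * z.1 * k⁻¹ * k) : G ⧸ H) = QuotientGroup.mk k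
          rw [eq_comm, QuotientGroup.eq]
          simpa [mul_assoc] using z.2.2⟩
        left_inv := fun y => by apply Subtype.ext; apply Subtype.ext; simp [mul_assoc]
        right_inv := fun z => by apply Subtype.ext; simp [mul_assoc] }
  let e : (Σ y : Y, {c : G ⧸ H // y.1 • c = c}) ≃ (Σ c : G ⧸ H, {y : Y // y.1 • c = c}) :=
    { toFun := fun p => ⟨p.2.1, ⟨p.1, p.2.2⟩⟩
      invFun := fun p => ⟨p.2.1, ⟨p.1, p.2.2⟩⟩
      left_inv := fun _ => rfl
      right_inv := fun _ => rfl }
  have h := Nat.card_congr e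
  rw [Nat.card_sigma, Nat.card_sigma, Finset.sum_congr rfl (fun y _ => hfix y),
    Finset.sum_congr rfl (fun c _ => hcls c), Finset.sum_const, Finset.sum_const, smul_eq_mul,
    smul_eq_mul, Finset.card_univ, Finset.card_univ, ← Nat.card_eq_fintype_card,
    ← Nat.card_eq_fintype_card, ← Subgroup.index_eq_card] at h
  rw [mul_comm]
  exact h

end Cfsg.Agent.S1019
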