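import Cfsg.Statements.S3669
import Cfsg.Agent.S0494
import Cfsg.Agent.H26.CharLinear
import Cfsg.Agent.H25.CharIntegral
import Cfsg.Agent.H45.NormalSylow
-- import your own Cfsg.Agent.* helpers here

set_option autoImplicit false
open Cfsg

namespace Cfsg.Agent.S3669

/-- Some subgroup `K` normal in `M`, with `3 ∣ |K|` and `5 ∤ |K|`, gives an element of order 5
normalizing a subgroup of order 3. -/
theorem exists_five_normalizing {M : Type*} [Group M] [Finite M] (K : Subgroup M) [K.Normal]
    (h5 : 5 ∣ Nat.card M) (h5K : ¬ 5 ∣ Nat.card K) (h3 : 3 ∣ Nat.card K) (h9 : ¬ 9 ∣ Nat.card M) :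
    ∃ y c : M, orderOf y = 5 ∧ orderOf c = 3 ∧ y * c * y⁻¹ ∈ Subgroup.zpowers c := by
  haveI : Fact (Nat.Prime 3) := ⟨Nat.prime_three⟩
  haveI : Fact (Nat.Prime 5) := ⟨Nat.prime_five⟩
  obtain ⟨Q⟩ : Nonempty (Sylow 3 K) := inferInstance
  have hQ3 : Nat.card (Q.1.map K.subtype) = 3 := by
    rw [Subgroup.card_map_of_injective K.subtype_injective]
    obtain ⟨n, hn⟩ := IsPGroup.iff_card.mp Q.2
    have hle : n ≤ 1 := by
      by_contra hc
      apply h9
      have : 3 ^ 2 ∣ Nat.card Q.1 := hn ▸ pow_dvd_pow 3 (by omega)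
      exact ((by simpa using this : 9 ∣ Nat.card Q.1)).trans
        ((Subgroup.card_subgroup_dvd_card _).trans (Subgroup.card_subgroup_dvd_card _))
    have hge : n ≠ 0 := fun h0 => Q.ne_bot_of_dvd_card h3 (Subgroup.card_eq_one.mp (by rw [hn, h0, pow_zero]))
    rw [hn, show n = 1 by omega, pow_one]
  set Q' := Q.1.map K.subtype with hQ'
  obtain ⟨c, hc⟩ := exists_prime_orderOf_dvd_card' 3 (G := Q') (by rw [hQ3])
  rw [← Subgroup.orderOf_coe] at hc
  have hz : Subgroup.zpowers (c : M) = Q' :=
    Subgroup.eq_of_le_of_card_ge ((Subgroup.zpowers_le).mpr c.2) (by rw [Nat.card_zpowers, hc, hQ3])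
  have htop : Subgroup.normalizer (Q' : Set M) ⊔ K = ⊤ := Sylow.normalizer_sup_eq_top Q
  have hmap : (Subgroup.normalizer (Q' : Set M)).map (QuotientGroup.mk' K) = ⊤ := by
    have := congrArg (Subgroup.map (QuotientGroup.mk' K)) htop
    rwa [Subgroup.map_sup, QuotientGroup.map_mk'_self, sup_bot_eq,
      Subgroup.map_top_of_surjective _ (QuotientGroup.mk'_surjective K)] at this
  have h5q : 5 ∣ Nat.card (M ⧸ K) := by
    have := K.card_mul_index
    rw [Subgroup.index_eq_card] at this
    exact ((Nat.Prime.dvd_mul Nat.prime_five).mp (this ▸ h5)).resolve_left h5K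
  obtain ⟨y, hy⟩ := exists_prime_orderOf_dvd_card' 5 (G := Subgroup.normalizer (Q' : Set M)) (by
    refine dvd_trans ?_ (Subgroup.card_map_dvd _ (QuotientGroup.mk' K))
    rw [hmap, Subgroup.card_top]; exact h5q)
  refine ⟨y, c, by rw [Subgroup.orderOf_coe]; exact hy, hc, ?_⟩
  rw [hz]
  exact (Subgroup.mem_normalizer_iff.mp y.2 _).mp c.2

/-- If `H ⊔ N = ⊤` with `N` normal, then `[N : H ∩ N] = [G : H]`. -/
theorem relIndex_eq_index_of_sup {G : Type*} [Group G] {H N : Subgroup G} [N.Normal]
    (h : H ⊔ N = ⊤) : H.relIndex N = H.index := by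
  haveI : MulAction.IsPretransitive N (G ⧸ H) := by
    refine MulAction.isPretransitive_iff_base (QuotientGroup.mk 1 : G ⧸ H) |>.mpr fun x => ?_
    obtain ⟨g, rfl⟩ := QuotientGroup.mk_surjective x
    have hg : g ∈ N ⊔ H := (sup_comm H N ▸ h) ▸ Subgroup.mem_top g
    obtain ⟨n, hn, k, hk, rfl⟩ := Subgroup.mem_sup_of_normal_left.mp hg
    refine ⟨⟨n, hn⟩, ?_⟩
    show (((n * 1 : G)) : G ⧸ H) = _
    simp [QuotientGroup.eq, hk]
  have hs : MulAction.stabilizer N (QuotientGroup.mk 1 : G ⧸ H) = H.subgroupOf N := by
    ext x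
    rw [MulAction.mem_stabilizer_iff, Subgroup.mem_subgroupOf]
    show (((x : G) * 1 : G) : G ⧸ H) = _ ↔ _
    simp [QuotientGroup.eq]
  rw [Subgroup.relIndex, ← hs, MulAction.index_stabilizer_of_transitive]
  rfl

theorem commuting_pairs_alt_five :
    Nat.card { p : alternatingGroup (Fin 5) × alternatingGroup (Fin 5) // Commute p.1 p.2 } = 300 := by
  refine (Nat.card_congr (Equiv.subtypeEquivRight
    (p := fun x : alternatingGroup (Fin 5) × alternatingGroup (Fin 5) => Commute x.1 x.2)
    (q := fun x => x.1 * x.2 = x.2 * x.1) fun _ => Iff.rfl)).trans ?_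
  rw [Nat.card_eq_fintype_card]; decide +kernel

theorem alt_five_not_comm : ¬ ∀ a b : alternatingGroup (Fin 5), a * b = b * a := by
  decide +kernel

/-- A group of order 60 without a normal Sylow 5-subgroup is simple. -/
theorem simple_sixty {G : Type*} [Group G] [Finite G] (h : Nat.card G = 60)
    (hn : ∀ P : Sylow 5 G, ¬ (P : Subgroup G).Normal) : IsSimpleGroup G := by
  classical
  haveI : Fact (Nat.Prime 5) := ⟨Nat.prime_five⟩
  haveI : Fact (Nat.Prime 3) := ⟨Nat.prime_three⟩
  haveI : Nontrivial G := Finite.one_lt_card_iff_nontrivial.mp (by omega)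
  have hP5 : ∀ P : Sylow 5 G, Nat.card (P : Subgroup G) = 5 := fun P => by
    have h1 : Nat.factorization 60 5 = 1 := by
      rw [show (60 : ℕ) = 5 ^ 1 * 12 by norm_num, Nat.factorization_mul (by norm_num) (by norm_num)]
      simp only [Finsupp.coe_add, Pi.add_apply, Nat.Prime.factorization_pow Nat.prime_five,
        Finsupp.single_eq_same]
      rw [Nat.factorization_eq_zero_of_not_dvd (by norm_num : ¬ 5 ∣ 12)]
    rw [P.card_eq_multiplicity, h, h1, pow_one]
  have h6 : Nat.card (Sylow 5 G) = 6 := by
    obtain ⟨P⟩ : Nonempty (Sylow 5 G) := inferInstance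
    have hd := P.card_dvd_index
    have hm : Nat.card (Sylow 5 G) % 5 = 1 := card_sylow_modEq_one 5 G
    have hi := (P : Subgroup G).card_mul_index
    rw [hP5, h] at hi
    rw [show (P : Subgroup G).index = 12 by omega] at hd
    have hne : Nat.card (Sylow 5 G) ≠ 1 := fun h1 => by
      haveI : Subsingleton (Sylow 5 G) := Finite.card_le_one_iff_subsingleton.mp h1.le
      exact hn P P.normal_of_subsingleton
    have := Nat.le_of_dvd (by norm_num) hd
    generalize Nat.card (Sylow 5 G) = d at *
    interval_cases d <;> omega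
  have hnorm : ∀ P : Sylow 5 G, Nat.card (Subgroup.normalizer ((P : Subgroup G) : Set G)) = 10 :=
    fun P => by
      have := (Subgroup.normalizer ((P : Subgroup G) : Set G)).card_mul_index
      have hci : Nat.card (Sylow 5 G) = (Subgroup.normalizer ((P : Subgroup G) : Set G)).index :=
        P.card_eq_index_normalizer
      rw [← hci, h6, h] at this
      omega
  have hA : ∀ y c : G, orderOf y = 5 → orderOf c = 3 → y * c * y⁻¹ ∉ Subgroup.zpowers c := by
    intro y c hy hc hm
    obtain ⟨k, hk⟩ := mem_powers_iff_mem_zpowers.mpr hm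
    simp only at hk
    have hiter : ∀ j : ℕ, y ^ j * c * (y ^ j)⁻¹ = c ^ k ^ j := by
      intro j
      induction j with
      | zero => simp
      | succ j ih =>
        calc y ^ (j + 1) * c * (y ^ (j + 1))⁻¹ = y * (y ^ j * c * (y ^ j)⁻¹) * y⁻¹ := by
              rw [pow_succ']; group
          _ = (y * c * y⁻¹) ^ k ^ j := by rw [ih, conj_pow]
          _ = c ^ k ^ (j + 1) := by rw [← hk, ← pow_mul, ← pow_succ']
    have h5 := hiter 5
    rw [show y ^ 5 = 1 from hy ▸ pow_orderOf_eq_one y, one_mul, inv_one, mul_one] at h5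
    have hmod : k ^ 5 % 3 = 1 % 3 := by
      have := (pow_eq_pow_iff_modEq (x := c) (n := k ^ 5) (m := 1)).mp (by rw [pow_one]; exact h5.symm)
      rwa [hc] at this
    have hk1 : k % 3 = 1 := by
      rw [Nat.pow_mod] at hmod
      have := Nat.mod_lt k (by norm_num : 3 > 0)
      interval_cases h3 : k % 3 <;> first | rfl | norm_num at hmod
    have hcomm : Commute y c := by
      have : c ^ k = c := by
        conv_rhs => rw [← pow_one c]
        rw [pow_eq_pow_iff_modEq, hc]
        exact hk1
      rw [this] at hk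
      exact mul_inv_eq_iff_eq_mul.mp hk.symm
    let P : Sylow 5 G := Sylow.ofCard (Subgroup.zpowers y) (by
      rw [Nat.card_zpowers, hy]
      obtain ⟨P'⟩ : Nonempty (Sylow 5 G) := inferInstance
      exact (hP5 P').symm.trans P'.card_eq_multiplicity)
    have hcN : c ∈ Subgroup.normalizer ((P : Subgroup G) : Set G) := by
      rw [Subgroup.mem_normalizer_iff]
      intro g
      have key : ∀ g ∈ Subgroup.zpowers y, c * g * c⁻¹ = g := by
        rintro _ ⟨j, rfl⟩
        simp only
        rw [(hcomm.symm.zpow_right j).eq, mul_inv_cancel_right]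
      change g ∈ Subgroup.zpowers y ↔ c * g * c⁻¹ ∈ Subgroup.zpowers y
      refine ⟨fun hg => by rw [key g hg]; exact hg, fun hg => ?_⟩
      have := key _ hg
      have h' : c * g * c⁻¹ = g := mul_left_cancel (mul_right_cancel this)
      rwa [h'] at hg
    have := Subgroup.orderOf_dvd_natCard _ hcN
    rw [hnorm P, hc] at this
    norm_num at this
  refine ⟨fun N hN => ?_⟩
  haveI := hN
  by_contra hc
  rw [not_or] at hc
  obtain ⟨hbot, htop⟩ := hc
  have hcard := N.card_mul_index
  rw [h] at hcard
  have hN1 : 1 < Nat.card N := N.one_lt_card_iff_ne_bot.mpr hbot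
  have hN2 : N.index ≠ 1 := fun e => htop (Subgroup.index_eq_one.mp e)
  by_cases h5 : 5 ∣ Nat.card N
  · -- all six Sylow subgroups lie in `N`
    obtain ⟨P⟩ : Nonempty (Sylow 5 N) := inferInstance
    have hPc : Nat.card (P : Subgroup N) = 5 := by
      obtain ⟨n, hn'⟩ := IsPGroup.iff_card.mp P.2
      have hn0 : n ≠ 0 := fun h0 => P.ne_bot_of_dvd_card h5 (Subgroup.card_eq_one.mp (by rw [hn', h0, pow_zero]))
      have hn1 : n ≤ 1 := by
        by_contra hgt
        have h25 : 5 ^ 2 ∣ 60 := ((pow_dvd_pow 5 (by omega : 2 ≤ n)).trans (dvd_of_eq hn'.symm)).trans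
          (((Subgroup.card_subgroup_dvd_card _).trans (Subgroup.card_subgroup_dvd_card _)).trans (dvd_of_eq h))
        norm_num at h25
      rw [hn', show n = 1 by omega, pow_one]
    let P' : Sylow 5 G := Sylow.ofCard ((P : Subgroup N).map N.subtype) (by
      rw [Subgroup.card_map_of_injective N.subtype_injective, hPc]
      obtain ⟨P''⟩ : Nonempty (Sylow 5 G) := inferInstance
      exact (hP5 P'').symm.trans P''.card_eq_multiplicity)
    have hsup := Sylow.normalizer_sup_eq_top P
    have hn6 : (Subgroup.normalizer (((P : Subgroup N).map N.subtype : Subgroup G) : Set G)).relIndex N = 6 := by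
      rw [relIndex_eq_index_of_sup hsup, ← h6, P'.card_eq_index_normalizer]
      rfl
    have hdvd : 6 ∣ Nat.card N := hn6 ▸ Subgroup.relIndex_dvd_card _ _
    have h30 : Nat.card N = 30 := by
      have h3 : 30 ∣ Nat.card N := by
        have := Nat.Coprime.mul_dvd_of_dvd_of_dvd (by norm_num : Nat.Coprime 6 5) hdvd h5
        simpa using this
      obtain ⟨t, ht⟩ := h3
      have h4 : t * N.index = 2 := by
        rw [ht] at hcard
        nlinarith
      have := Nat.le_of_dvd (by norm_num) (Dvd.intro _ h4)
      have : t ≠ 0 := fun e => by rw [e] at h4; omega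
      interval_cases t <;> omega
    have hNP : Subgroup.normalizer ((P : Subgroup N) : Set N) = (P : Subgroup N) := by
      refine (Subgroup.eq_of_le_of_card_ge Subgroup.le_normalizer ?_).symm
      have := (Subgroup.normalizer ((P : Subgroup N) : Set N)).card_mul_index
      rw [h30] at this
      have hi : (Subgroup.normalizer ((P : Subgroup N) : Set N)).index = 6 := by
        rw [← hn6]
        rw [Subgroup.relIndex]
        congr 1
        ext x
        simp only [Subgroup.mem_subgroupOf, Subgroup.mem_normalizer_iff]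
        constructor
        · intro hx g
          constructor
          · rintro ⟨a, ha, rfl⟩
            exact ⟨x * a * x⁻¹, (hx a).mp ha, by simp⟩
          · rintro ⟨a, ha, he⟩
            refine ⟨x⁻¹ * a * x, (hx _).mpr (by simp [mul_assoc]; exact ha), ?_⟩
            simp only [Subgroup.coe_subtype] at he
            simp [he, mul_assoc]
        · intro hx g
          rw [← Subgroup.mem_map_iff_mem N.subtype_injective (K := (P : Subgroup N)),
            ← Subgroup.mem_map_iff_mem N.subtype_injective (K := (P : Subgroup N))]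
          simpa using hx g
      rw [hi] at this
      omega
    haveI : IsMulCommutative (P : Subgroup N) :=
      haveI : IsCyclic (P : Subgroup N) := isCyclic_of_prime_card hPc
      ⟨⟨fun a b => IsCyclic.commGroup.mul_comm a b⟩⟩
    have hle : Subgroup.normalizer ((P : Subgroup N) : Set N) ≤ Subgroup.centralizer ((P : Subgroup N) : Set N) := by
      rw [hNP]
      exact Subgroup.le_centralizer _
    have hcompl := MonoidHom.ker_transferSylow_isComplement' P hle
    set K := (MonoidHom.transferSylow P hle).ker with hK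
    have hKc : Nat.card K = 6 := by
      have := hcompl.card_mul
      rw [hPc, h30] at this
      omega
    haveI : K.Normal := by rw [hK]; exact MonoidHom.normal_ker _
    obtain ⟨y, c, hy, hc, hm⟩ := exists_five_normalizing K (by rw [h30]; norm_num)
      (by rw [hKc]; norm_num) (by rw [hKc]; norm_num) (by rw [h30]; norm_num)
    refine hA y c (by rw [Subgroup.orderOf_coe]; exact hy) (by rw [Subgroup.orderOf_coe]; exact hc) ?_
    obtain ⟨j, hj⟩ := hm
    exact ⟨j, by simpa using congrArg Subtype.val hj⟩
  · by_cases h3 : 3 ∣ Nat.card N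
    · obtain ⟨y, c, hy, hc, hm⟩ := exists_five_normalizing N (by rw [h]; norm_num) h5 h3
        (by rw [h]; norm_num)
      exact hA y c hy hc hm
    · -- a normal 2-subgroup
      have hd : Nat.card N ∣ 4 := by
        have hco : (Nat.card N).Coprime 15 :=
          Nat.Coprime.mul_right (((Nat.Prime.coprime_iff_not_dvd Nat.prime_three).mpr h3).symm)
            (((Nat.Prime.coprime_iff_not_dvd Nat.prime_five).mpr h5).symm)
        exact hco.dvd_of_dvd_mul_right (Dvd.intro _ hcard)
      obtain ⟨P⟩ : Nonempty (Sylow 5 G) := inferInstance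
      obtain ⟨y, hy⟩ := exists_prime_orderOf_dvd_card' 5 (G := (P : Subgroup G)) (by rw [hP5])
      rw [← Subgroup.orderOf_coe] at hy
      have hcomm : ∀ n ∈ N, Commute (y : G) n := by
        intro n hnN
        let σ : Equiv.Perm N := (MulAut.conjNormal (H := N) (y : G)).toEquiv
        have h5σ : σ ^ 5 = 1 := by
          have h1 : (MulAut.conjNormal (H := N) (y : G)) ^ 5 = 1 := by
            have h0 := pow_orderOf_eq_one (y : G)
            rw [hy] at h0
            rw [← map_pow, h0, map_one]
          have h2 := congrArg (MulAut.toPerm N) h1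
          rw [map_pow, map_one] at h2
          exact h2
        have hσ : σ = 1 := by
          rcases (Nat.dvd_prime Nat.prime_five).mp (orderOf_dvd_of_pow_eq_one h5σ) with h' | h'
          · exact orderOf_eq_one_iff.mp h'
          · exfalso
            have h24 : 5 ∣ Nat.card (Equiv.Perm N) := by rw [← h']; exact orderOf_dvd_natCard σ
            rw [Nat.card_perm] at h24
            have h4 := Nat.le_of_dvd (by norm_num) hd
            have := (Nat.prime_five.dvd_factorial).mp h24
            omega
        have := congrArg Subtype.val (Equiv.congr_fun hσ ⟨n, hnN⟩)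
        simp only [σ, Equiv.Perm.coe_one, id_eq] at this
        exact mul_inv_eq_iff_eq_mul.mp this
      have hPy : (P : Subgroup G) = Subgroup.zpowers (y : G) :=
        (Subgroup.eq_of_le_of_card_ge ((Subgroup.zpowers_le).mpr y.2)
          (by rw [Nat.card_zpowers, hy, hP5])).symm
      have hNc : N ≤ Subgroup.centralizer ((P : Subgroup G) : Set G) := fun n hnN => by
        rw [Subgroup.mem_centralizer_iff, hPy]
        rintro _ ⟨j, rfl⟩
        exact ((hcomm n hnN).zpow_left j).eq
      have hcard' : Nat.card (Subgroup.centralizer ((P : Subgroup G) : Set G)) = 10 := by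
        have hd10 : Nat.card (Subgroup.centralizer ((P : Subgroup G) : Set G)) ∣ 10 := by
          rw [← hnorm P]; exact Subgroup.card_dvd_of_le (Subgroup.centralizer_le_normalizer _)
        have h2 : 2 ∣ Nat.card (Subgroup.centralizer ((P : Subgroup G) : Set G)) := by
          refine dvd_trans ?_ (Subgroup.card_dvd_of_le hNc)
          have := Nat.le_of_dvd (by norm_num) hd
          obtain ⟨s, hs⟩ := hd
          interval_cases hh : Nat.card N <;> omega
        haveI : IsMulCommutative (P : Subgroup G) :=
          haveI : IsCyclic (P : Subgroup G) := isCyclic_of_prime_card (hP5 P)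
          ⟨⟨fun a b => IsCyclic.commGroup.mul_comm a b⟩⟩
        have h5' : 5 ∣ Nat.card (Subgroup.centralizer ((P : Subgroup G) : Set G)) := by
          exact (dvd_of_eq (hP5 P).symm).trans (Subgroup.card_dvd_of_le (Subgroup.le_centralizer _))
        exact Nat.dvd_antisymm hd10 (Nat.Coprime.mul_dvd_of_dvd_of_dvd (by norm_num : Nat.Coprime 2 5) h2 h5')
      have hle : Subgroup.normalizer ((P : Subgroup G) : Set G) ≤ Subgroup.centralizer ((P : Subgroup G) : Set G) :=
        (Subgroup.eq_of_le_of_card_ge (Subgroup.centralizer_le_normalizer _)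
          (by rw [hcard', hnorm])).ge
      have hcompl := MonoidHom.ker_transferSylow_isComplement' P hle
      have hKc : Nat.card (MonoidHom.transferSylow P hle).ker = 12 := by
        have := hcompl.card_mul
        rw [hP5, h] at this
        omega
      obtain ⟨y', c', hy', hc', hm'⟩ := exists_five_normalizing (MonoidHom.transferSylow P hle).ker
        (by rw [h]; norm_num) (by rw [hKc]; norm_num) (by rw [hKc]; norm_num) (by rw [h]; norm_num)
      exact hA y' c' hy' hc' hm'

open Cfsg.Agent.H26 in
/-- `A₅` has an irreducible character of degree divisible by 5. -/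
theorem five_mem_degreePrimes : 5 ∈ Cfsg.degreePrimes (alternatingGroup (Fin 5)) := by
  classical
  let G := alternatingGroup (Fin 5)
  refine ⟨Nat.prime_five, ?_⟩
  by_contra hc
  push Not at hc
  have hcard : Nat.card G = 60 := by
    rw [Nat.card_eq_fintype_card]; decide +kernel
  have hdeg : ∀ χ : Cfsg.IrrCharacter G, ∃ d : ℕ, χ.1 1 = d ∧ d ∣ 60 ∧ 0 < d ∧ ¬ 5 ∣ d := by
    intro χ
    obtain ⟨n, ρ, hρ, he⟩ := χ.2
    haveI := hρ
    refine ⟨Module.finrank ℂ (Fin n → ℂ), by rw [← he, ρ.char_one],
      hcard ▸ Cfsg.Agent.H25.finrank_dvd_card ρ, finrank_pos_of_isIrreducible ρ, fun h5 => ?_⟩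
    refine hc (Cfsg.charDegree (χ : G → ℂ)) ⟨χ, rfl⟩ ?_
    rw [Cfsg.charDegree, ← he, ρ.char_one, Complex.natCast_re, Nat.floor_natCast]
    exact h5
  choose d hd hdvd hpos h5 using hdeg
  have hsum : ∑ χ, d χ ^ 2 = 60 := by
    have h := sum_sq_degrees (G := G)
    simp only [hd, hcard] at h
    exact_mod_cast h
  have hfive : Fintype.card (Cfsg.IrrCharacter G) = 5 := by
    have h2 : Nat.card { p : G × G // Commute p.1 p.2 } = 300 := commuting_pairs_alt_five
    rw [card_comm_eq_card_conjClasses_mul_card, hcard] at h2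
    rw [← Nat.card_eq_fintype_card, card_irr_eq_card_conjClasses]
    omega
  have hone : (Finset.univ.filter fun χ => d χ = 1).card = 1 := by
    haveI : IsSimpleGroup G := alternatingGroup.isSimpleGroup (by simp)
    have hidx : (commutator G).index = 1 := by
      rw [Subgroup.index_eq_one]
      refine ((inferInstance : (commutator G).Normal).eq_bot_or_eq_top).resolve_left fun hb => ?_
      have hcomm : ∀ a b : G, a * b = b * a := by
        intro a b
        have hmem := Subgroup.commutator_mem_commutator (Subgroup.mem_top a) (Subgroup.mem_top b)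
        rw [← commutator_def, hb, Subgroup.mem_bot, commutatorElement_eq_one_iff_mul_comm] at hmem
        exact hmem
      exact alt_five_not_comm hcomm
    rw [← card_linear_irr, Nat.card_eq_fintype_card, Fintype.card_subtype] at hidx
    refine Eq.trans ?_ hidx
    congr 1
    ext χ
    simp [hd]
  have hval : ∀ χ, d χ = 1 ∨ d χ = 2 ∨ d χ = 3 ∨ d χ = 4 ∨ d χ = 6 := by
    intro χ
    have hle : d χ ^ 2 ≤ 60 := hsum ▸ Finset.single_le_sum (f := fun χ => d χ ^ 2) (fun _ _ => Nat.zero_le _) (Finset.mem_univ χ)
    have h7 : d χ ≤ 7 := by nlinarith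
    have h1 := hdvd χ
    have h2 := hpos χ
    have h3 := h5 χ
    generalize d χ = k at *
    interval_cases k <;> omega
  let n : ℕ → ℕ := fun k => (Finset.univ.filter fun χ => d χ = k).card
  have hmaps : ∀ χ ∈ (Finset.univ : Finset (Cfsg.IrrCharacter G)), d χ ∈ ({1, 2, 3, 4, 6} : Finset ℕ) := by
    intro χ _
    rcases hval χ with e | e | e | e | e <;> simp [e]
  have hn1 : n 1 + n 2 + n 3 + n 4 + n 6 = 5 := by
    rw [← hfive, ← Finset.card_univ, Finset.card_eq_sum_card_fiberwise (f := d) hmaps]
    simp [n, add_assoc]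
  have hn2 : n 1 + 4 * n 2 + 9 * n 3 + 16 * n 4 + 36 * n 6 = 60 := by
    rw [← hsum, ← Finset.sum_fiberwise_of_maps_to (g := d) hmaps]
    have : ∀ k, ∑ χ ∈ Finset.univ.filter (fun χ => d χ = k), d χ ^ 2 = n k * k ^ 2 := fun k => by
      rw [Finset.sum_congr rfl fun χ hχ => by rw [(Finset.mem_filter.mp hχ).2]]
      simp [n]
    simp [this, add_assoc, mul_comm]
  have h1 : n 1 = 1 := hone
  have h6' : n 6 ≤ 1 := by omega
  have h4' : n 4 ≤ 3 := by omega
  generalize n 1 = u1, n 2 = u2, n 3 = u3, n 4 = u4, n 6 = u6 at *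
  interval_cases u6 <;> interval_cases u4 <;> omega

/-- The character degree graph of a finite group has as vertices the primes dividing some irreducible complex character degree, two distinct primes being joined when their product divides some irreducible character degree; two groups have the same character degree graph when they have the same vertices and the same joined pairs. A finite group of order 60 with the same character degree graph as the alternating group A₅ (whose character degrees are 1, 3, 4, 5, so the graph has vertices 2, 3, 5 and no edges) is isomorphic to A₅. -/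
theorem result {G : Type*} [Group G] [Finite G] (hcard : Nat.card G = 60)
    (hΓ : Cfsg.degreePrimes G = Cfsg.degreePrimes (alternatingGroup (Fin 5)) ∧ Cfsg.degreeGraph G = Cfsg.degreeGraph (alternatingGroup (Fin 5))) : Nonempty (G ≃* alternatingGroup (Fin 5)) := by
  have h5 : 5 ∈ Cfsg.degreePrimes G := hΓ.1 ▸ five_mem_degreePrimes
  obtain ⟨-, d, ⟨χ, hχd⟩, hdd⟩ := h5
  haveI : Fact (Nat.Prime 5) := ⟨Nat.prime_five⟩
  obtain ⟨n, ρ, hρ, he⟩ := χ.2
  haveI := hρ
  have hd : 5 ∣ Module.finrank ℂ (Fin n → ℂ) := by
    rw [← hχd, Cfsg.charDegree, ← he, ρ.char_one, Complex.natCast_re, Nat.floor_natCast] at hdd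
    exact hdd
  haveI := simple_sixty hcard fun P hP => by
    haveI := hP
    have hidx : ¬ 5 ∣ (P : Subgroup G).index := P.not_dvd_index
    refine Cfsg.Agent.H45.not_dvd_finrank_of_abelian_normal_sylow ρ 5 (P : Subgroup G) P.2 hidx ?_ hd
    have hc5 : Nat.card (P : Subgroup G) = 5 := by
      obtain ⟨k, hk⟩ := IsPGroup.iff_card.mp P.2
      have h1 := (P : Subgroup G).card_mul_index
      rw [hcard, hk] at h1
      have hk0 : k ≠ 0 := fun e => by
        rw [e, pow_zero, one_mul] at h1
        exact hidx (h1 ▸ by norm_num)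
      have hk1 : k ≤ 1 := by
        by_contra hgt
        have : 5 ^ 2 ∣ 60 := h1 ▸ dvd_mul_of_dvd_left (pow_dvd_pow 5 (by omega)) _
        norm_num at this
      rw [hk, show k = 1 by omega, pow_one]
    haveI : IsCyclic (P : Subgroup G) := isCyclic_of_prime_card hc5
    intro a ha b hb
    exact congrArg Subtype.val (IsCyclic.commGroup.mul_comm (⟨a, ha⟩ : (P : Subgroup G)) ⟨b, hb⟩)
  exact Cfsg.Agent.S0494.result hcard

end Cfsg.Agent.S3669
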