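import Cfsg.Statements.S0977
import Cfsg.Agent.H30.SylowPrimeCases
import Cfsg.Agent.H28.SmallOrders.Order4320
import Cfsg.Agent.H28.SmallOrders.Order4320Center

set_option autoImplicit false
set_option synthInstance.maxSize 1024
open Cfsg

namespace Cfsg.Agent.S0977

/-- No finite simple group has order 4320 = 2^5 * 3^3 * 5. -/
theorem result {G : Type*} [Group G] [Finite G] [IsSimpleGroup G] : Nat.card G ≠ 4320 := by
  intro h
  have : Fact (Nat.Prime 5) := ⟨by norm_num⟩
  have : Fact (Nat.Prime 3) := ⟨by norm_num⟩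
  have : Fact (Nat.Prime 2) := ⟨by norm_num⟩
  have hG : ¬ IsMulCommutative G :=
    Cfsg.Agent.H30.not_comm_of_not_prime (by rw [h]; norm_num)
  let _ : Fintype G := Fintype.ofFinite G
  let P : Sylow 5 G := default
  have hP : Nat.card (P : Subgroup G) = 5 := by
    simpa using Cfsg.Agent.H30.card_sylow_subgroup (a := 1) (m := 864) P (by rw [h]; norm_num)
      (by norm_num)
  have hd : Nat.card (Sylow 5 G) ∣ 864 :=
    Cfsg.Agent.H30.card_sylow_dvd (a := 1) (by rw [h]; norm_num) (by norm_num)
  have hm : Nat.card (Sylow 5 G) % 5 = 1 := card_sylow_modEq_one 5 G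
  have h1 := Cfsg.Agent.H30.card_sylow_ne_one hG 5 (by rw [h]; norm_num)
  have hfac := Cfsg.Agent.H30.two_mul_card_dvd_factorial_sylow hG 5 (by rw [h]; norm_num)
  rw [h] at hfac
  have hn : Nat.card (Sylow 5 G) = 16 ∨ Nat.card (Sylow 5 G) = 36 ∨ Nat.card (Sylow 5 G) = 96 ∨
      Nat.card (Sylow 5 G) = 216 := by
    have hmem : Nat.card (Sylow 5 G) ∈ Nat.divisors 864 := Nat.mem_divisors.mpr ⟨hd, by norm_num⟩
    have hall : ∀ j ∈ Nat.divisors 864, j % 5 = 1 → j ≠ 1 →
        j = 6 ∨ j = 16 ∨ j = 36 ∨ j = 96 ∨ j = 216 := by decide +kernel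
    rcases hall _ hmem hm h1 with h' | h'
    · rw [h'] at hfac
      exact absurd hfac (by decide +kernel)
    · exact h'
  obtain ⟨e, c, he, h1e, hN, hC⟩ := Cfsg.Agent.H30.exists_automizer_of_prime_order hG 5 P hP
  have hmul := Cfsg.Agent.H30.card_sylow_mul_normalizer 5 P
  rw [hN, h] at hmul
  have he6 : e = 2 ∨ e = 4 := by
    have hle : e ≤ 4 := Nat.le_of_dvd (by norm_num) he
    interval_cases e <;> norm_num at *
  rcases hn with hn | hn | hn | hn
  · rw [hn] at hmul
    obtain ⟨rfl, rfl⟩ : e = 2 ∧ c = 27 := by rcases he6 with rfl | rfl <;> omega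
    -- a Sylow 3-subgroup centralizes `P`, and so does an element of its center
    have hC27 : 3 ^ 3 ∣ Nat.card (Subgroup.centralizer ((P : Subgroup G) : Set G)) := by
      rw [hC]; norm_num
    set C := Subgroup.centralizer ((P : Subgroup G) : Set G) with hCdef
    obtain ⟨R, hR⟩ := Sylow.exists_subgroup_card_pow_prime 3 hC27
    have hRp : IsPGroup 3 R := IsPGroup.of_card hR
    have : Nontrivial R := Finite.one_lt_card_iff_nontrivial.mp (by rw [hR]; norm_num)
    have : Nontrivial (Subgroup.center R) := hRp.center_nontrivial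
    obtain ⟨⟨w, hw⟩, hw1⟩ := exists_ne (1 : Subgroup.center R)
    have hle : R.map C.subtype ≤ Subgroup.centralizer ({((w : C) : G)} : Set G) := by
      rintro _ ⟨r, hr, rfl⟩
      rw [Subgroup.mem_centralizer_singleton_iff]
      exact congrArg (fun x : R => ((x : C) : G)) (Subgroup.mem_center_iff.mp hw ⟨r, hr⟩)
    have hPw : (P : Subgroup G) ≤ Subgroup.centralizer ({((w : C) : G)} : Set G) := by
      intro y hy
      rw [Subgroup.mem_centralizer_singleton_iff]
      exact Subgroup.mem_centralizer_iff.mp (w : C).2 y hy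
    have hw1' : ((w : C) : G) ≠ 1 := fun h0 =>
      hw1 (Subtype.ext (Subtype.ext (Subtype.ext h0)))
    obtain ⟨j, hj⟩ : 5 * 3 ^ 3 ∣ Nat.card (Subgroup.centralizer ({((w : C) : G)} : Set G)) := by
      refine Nat.Coprime.mul_dvd_of_dvd_of_dvd (by norm_num) ?_ ?_
      · exact (dvd_of_eq hP.symm).trans (Subgroup.card_dvd_of_le hPw)
      · refine (dvd_of_eq ?_).trans (Subgroup.card_dvd_of_le hle)
        rw [Subgroup.card_map_of_injective C.subtype_injective, hR]
    have hi := (Subgroup.centralizer ({((w : C) : G)} : Set G)).index_mul_card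
    rw [hj, h] at hi
    have h32 : (Subgroup.centralizer ({((w : C) : G)} : Set G)).index * j = 2 ^ 5 := by nlinarith
    obtain ⟨i, -, hi'⟩ := (Nat.dvd_prime_pow Nat.prime_two).mp ⟨j, h32.symm⟩
    exact Cfsg.Agent.H30.index_centralizer_ne_prime_pow hG Nat.prime_two hw1' i hi'
  · have hodd := Cfsg.Agent.H30.not_two_dvd_card_centralizer hG 5 36 P hP hn
      (fun f hf hf1 hf4 => by
        obtain rfl : f = 16 :=
          (by decide : ∀ f < 36, f % 5 = 1 → f % 4 = 36 % 4 → f = 16) f hf hf1 hf4
        exact ⟨by norm_num, fun m _ hm' => by omega⟩)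
    rw [hC] at hodd
    rw [hn] at hmul
    rcases he6 with rfl | rfl <;> omega
  · rw [hn] at hmul
    rcases he6 with rfl | rfl <;> omega
  · rw [hn] at hmul
    rcases he6 with rfl | rfl
    · obtain rfl : c = 2 := by omega
      exact Cfsg.Agent.H28.SmallOrders.no_central_involution_case hG h P hP
        (by rw [hN]) (by rw [hC])
    · obtain rfl : c = 1 := by omega
      obtain ⟨z, hz, hCz, hE⟩ := Cfsg.Agent.H30.exists_self_centralizing 5 4 P hP
        (by rw [hC]) (by rw [hN])
      exact Cfsg.Agent.H28.SmallOrders.not_rational_five hG h hz hCz hE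

end Cfsg.Agent.S0977
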