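import Cfsg.Statements.S0978
import Cfsg.Agent.H28.SmallOrders.Order5040Sylow

set_option autoImplicit false
set_option synthInstance.maxSize 1024
open Cfsg

namespace Cfsg.Agent.S0978

/-- No finite simple group has order 5040 = 2^4 * 3^2 * 5 * 7. -/
theorem result {G : Type*} [Group G] [Finite G] [IsSimpleGroup G] : Nat.card G ≠ 5040 := by
  intro h
  have : Fact (Nat.Prime 7) := ⟨by norm_num⟩
  have hG : ¬ IsMulCommutative G :=
    Cfsg.Agent.H30.not_comm_of_not_prime (by rw [h]; norm_num)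
  let _ : Fintype G := Fintype.ofFinite G
  let P : Sylow 7 G := default
  have hP : Nat.card (P : Subgroup G) = 7 := by
    simpa using Cfsg.Agent.H30.card_sylow_subgroup (a := 1) (m := 720) P (by rw [h]; norm_num)
      (by norm_num)
  have hd : Nat.card (Sylow 7 G) ∣ 720 :=
    Cfsg.Agent.H30.card_sylow_dvd (a := 1) (by rw [h]; norm_num) (by norm_num)
  have hm : Nat.card (Sylow 7 G) % 7 = 1 := card_sylow_modEq_one 7 G
  have h1 := Cfsg.Agent.H30.card_sylow_ne_one hG 7 (by rw [h]; norm_num)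
  have hn : Nat.card (Sylow 7 G) = 8 ∨ Nat.card (Sylow 7 G) = 15 ∨ Nat.card (Sylow 7 G) = 36 ∨
      Nat.card (Sylow 7 G) = 120 := by
    have hmem : Nat.card (Sylow 7 G) ∈ Nat.divisors 720 := Nat.mem_divisors.mpr ⟨hd, by norm_num⟩
    have hall : ∀ j ∈ Nat.divisors 720, j % 7 = 1 → j ≠ 1 →
        j = 8 ∨ j = 15 ∨ j = 36 ∨ j = 120 := by decide +kernel
    exact hall _ hmem hm h1
  obtain ⟨e, c, he, h1e, hN, hC⟩ := Cfsg.Agent.H30.exists_automizer_of_prime_order hG 7 P hP
  have hmul := Cfsg.Agent.H30.card_sylow_mul_normalizer 7 P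
  rw [hN, h] at hmul
  have he6 : e = 2 ∨ e = 3 ∨ e = 6 := by
    have hle : e ≤ 6 := Nat.le_of_dvd (by norm_num) he
    interval_cases e <;> norm_num at *
  rcases hn with hn | hn | hn | hn
  · exact Cfsg.Agent.H28.SmallOrders.card_sylow_seven_ne_eight hG h P hP hn
  · have hodd := Cfsg.Agent.H30.not_two_dvd_card_centralizer hG 7 15 P hP hn
      (fun f hf hf1 hf4 => ((by decide : ∀ f < 15, f % 7 = 1 → f % 4 = 15 % 4 → False) f hf hf1 hf4).elim)
    rw [hC] at hodd
    rw [hn] at hmul
    rcases he6 with rfl | rfl | rfl <;> omega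
  · have hodd := Cfsg.Agent.H30.not_two_dvd_card_centralizer hG 7 36 P hP hn
      (fun f hf hf1 hf4 => by
        obtain rfl : f = 8 :=
          (by decide : ∀ f < 36, f % 7 = 1 → f % 4 = 36 % 4 → f = 8) f hf hf1 hf4
        exact ⟨by norm_num, fun m _ hm' => by omega⟩)
    rw [hC] at hodd
    rw [hn] at hmul
    rcases he6 with rfl | rfl | rfl <;> omega
  · rw [hn] at hmul
    rcases he6 with rfl | rfl | rfl
    · obtain rfl : c = 3 := by omega
      exact Cfsg.Agent.H28.SmallOrders.card_centralizer_seven_ne_twentyone hG h P hP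
        (by rw [hN]) (by rw [hC])
    · obtain rfl : c = 2 := by omega
      exact Cfsg.Agent.H28.SmallOrders.card_centralizer_seven_ne_fourteen hG h P hP
        (by rw [hN]) (by rw [hC])
    · obtain rfl : c = 1 := by omega
      obtain ⟨z, hz, hCz, hE⟩ := Cfsg.Agent.H30.exists_self_centralizing 7 6 P hP
        (by rw [hC]) (by rw [hN])
      exact Cfsg.Agent.H28.SmallOrders.not_rational_seven hG h hz hCz hE

end Cfsg.Agent.S0978
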