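import Cfsg.Statements.S0980
import Cfsg.Agent.H30.SylowPrimeCases

set_option autoImplicit false
set_option synthInstance.maxSize 1024
open Cfsg

namespace Cfsg.Agent.S0980

/-- No finite simple group has order 5760 = 2^7 * 3^2 * 5. -/
theorem result {G : Type*} [Group G] [Finite G] [IsSimpleGroup G] : Nat.card G ≠ 5760 := by
  intro h
  have : Fact (Nat.Prime 5) := ⟨by norm_num⟩
  have : Fact (Nat.Prime 3) := ⟨by norm_num⟩
  have : Fact (Nat.Prime 2) := ⟨by norm_num⟩
  have hG : ¬ IsMulCommutative G :=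
    Cfsg.Agent.H30.not_comm_of_not_prime (by rw [h]; norm_num)
  let _ : Fintype G := Fintype.ofFinite G
  let P : Sylow 5 G := default
  have hP : Nat.card (P : Subgroup G) = 5 := by
    simpa using Cfsg.Agent.H30.card_sylow_subgroup (a := 1) (m := 1152) P (by rw [h]; norm_num)
      (by norm_num)
  have hd : Nat.card (Sylow 5 G) ∣ 1152 :=
    Cfsg.Agent.H30.card_sylow_dvd (a := 1) (by rw [h]; norm_num) (by norm_num)
  have hm : Nat.card (Sylow 5 G) % 5 = 1 := card_sylow_modEq_one 5 G
  have h1 := Cfsg.Agent.H30.card_sylow_ne_one hG 5 (by rw [h]; norm_num)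
  have hfac := Cfsg.Agent.H30.two_mul_card_dvd_factorial_sylow hG 5 (by rw [h]; norm_num)
  rw [h] at hfac
  have hn : Nat.card (Sylow 5 G) = 16 ∨ Nat.card (Sylow 5 G) = 36 ∨ Nat.card (Sylow 5 G) = 96 ∨
      Nat.card (Sylow 5 G) = 576 := by
    have hmem : Nat.card (Sylow 5 G) ∈ Nat.divisors 1152 := Nat.mem_divisors.mpr ⟨hd, by norm_num⟩
    have hall : ∀ j ∈ Nat.divisors 1152, j % 5 = 1 → j ≠ 1 →
        j = 6 ∨ j = 16 ∨ j = 36 ∨ j = 96 ∨ j = 576 := by decide +kernel
    rcases hall _ hmem hm h1 with h' | h'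
    · rw [h'] at hfac
      exact absurd hfac (by decide +kernel)
    · exact h'
  obtain ⟨e, c, he, h1e, hN, hC⟩ := Cfsg.Agent.H30.exists_automizer_of_prime_order hG 5 P hP
  have hmul := Cfsg.Agent.H30.card_sylow_mul_normalizer 5 P
  rw [hN, h] at hmul
  have he6 : e = 2 ∨ e = 4 := by
    have hle : e ≤ 4 := Nat.le_of_dvd (by norm_num) he
    interval_cases e <;> norm_num at *
  rcases hn with hn | hn | hn | hn
  · have hodd := Cfsg.Agent.H30.not_two_dvd_card_centralizer hG 5 16 P hP hn
      (fun f hf hf1 hf4 => ((by decide : ∀ f < 16, f % 5 = 1 → f % 4 = 16 % 4 → False) f hf hf1 hf4).elim)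
    rw [hC] at hodd
    rw [hn] at hmul
    rcases he6 with rfl | rfl <;> omega
  · have hodd := Cfsg.Agent.H30.not_two_dvd_card_centralizer hG 5 36 P hP hn
      (fun f hf hf1 hf4 => by
        obtain rfl : f = 16 :=
          (by decide : ∀ f < 36, f % 5 = 1 → f % 4 = 36 % 4 → f = 16) f hf hf1 hf4
        exact ⟨by norm_num, fun m _ hm' => by omega⟩)
    rw [hC] at hodd
    rw [hn] at hmul
    rcases he6 with rfl | rfl <;> omega
  · have h3 := Cfsg.Agent.H30.not_dvd_card_centralizer_of_card hG 5 3 2 7 (by norm_num)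
      (by norm_num) (by norm_num) P hP (by rw [h]; norm_num)
    rw [hC] at h3
    rw [hn] at hmul
    rcases he6 with rfl | rfl <;> omega
  · rw [hn] at hmul
    obtain ⟨rfl, rfl⟩ : e = 2 ∧ c = 1 := by
      rcases he6 with rfl | rfl <;> omega
    obtain ⟨z, hz, hCz, hE⟩ := Cfsg.Agent.H30.exists_self_centralizing 5 2 P hP
      (by rw [hC]) (by rw [hN])
    obtain ⟨x, hx2, hxp, hxd, hDd, hD2, hsq, hinv⟩ :=
      Cfsg.Agent.H30.involution_equation_of_two hG (by norm_num) hz hCz 2 hE (by norm_num)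
        (by norm_num)
    rw [h] at hxd hDd hsq
    push_cast at hsq
    obtain ⟨u, hu, hu128⟩ := Cfsg.Agent.H30.exists_central_involution (G := G) (a := 7) (m := 45)
      (by rw [h]; norm_num) (by norm_num) (by norm_num)
    obtain ⟨A, L, hA, heq⟩ := hinv u hu
    rw [h] at heq
    obtain ⟨j, hj⟩ := hu128
    have hjpos : 0 < j := by
      rcases Nat.eq_zero_or_pos j with h0 | h0
      · rw [h0, mul_zero] at hj
        exact absurd hj Nat.card_pos.ne'
      · exact h0
    rw [hj] at heq
    push_cast at heq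
    have hx : x = 4 ∨ x = 9 := by
      have hxle : x.natAbs < 76 := by
        by_contra hc
        have h64 : (76 : ℤ) ^ 2 ≤ ((x.natAbs : ℕ) : ℤ) ^ 2 :=
          pow_le_pow_left₀ (by norm_num) (by exact_mod_cast (by omega : 76 ≤ x.natAbs)) 2
        rw [Int.natAbs_sq] at h64
        nlinarith [sq_nonneg (1 - x)]
      have hall1 : ∀ a < 76, a ∣ 5760 → 2 ≤ a → a % 5 = 4 → a - 1 ∣ 5760 → a = 4 ∨ a = 9 := by
        decide +kernel
      have hall2 : ∀ a < 76, a ∣ 5760 → 2 ≤ a → a % 5 = 1 → a + 1 ∣ 5760 → False := by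
        decide +kernel
      rcases le_or_gt 0 x with hx0 | hx0
      · rw [show (1 - x).natAbs = x.natAbs - 1 by omega] at hDd
        have := hall1 x.natAbs hxle hxd hx2 (by omega) hDd
        omega
      · rw [show (1 - x).natAbs = x.natAbs + 1 by omega] at hDd
        exact (hall2 x.natAbs hxle hxd hx2 (by omega) hDd).elim
    have hA8 := abs_lt.mp hA
    have hjpos' : (1 : ℤ) ≤ j := by exact_mod_cast hjpos
    rcases Nat.eq_zero_or_pos L with rfl | hL
    · have h0 : (x - A) ^ 2 = 0 := by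
        push_cast at heq
        linarith
      have h1 : A = x := by
        have := pow_eq_zero_iff (two_ne_zero) |>.mp h0
        omega
      subst h1
      exact absurd hA (lt_irrefl _)
    have hL1 : (1 : ℤ) ≤ L := by exact_mod_cast hL
    have hjj : (1 : ℤ) ≤ (j : ℤ) ^ 2 := one_le_pow₀ hjpos'
    have hLj : (1 : ℤ) ≤ L * (j : ℤ) ^ 2 := by
      calc (1 : ℤ) = 1 * 1 := by norm_num
        _ ≤ L * (j : ℤ) ^ 2 := mul_le_mul hL1 hjj (by norm_num) (by omega)
    rcases hx with rfl | rfl
    · have hA1 : -4 < A ∧ A < 4 := by norm_num at hA8; omega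
      obtain ⟨hA1, hA2⟩ := hA1
      have hb : (L : ℤ) * (j : ℤ) ^ 2 = 1 := by
        refine le_antisymm ?_ hLj
        interval_cases A <;> linarith
      interval_cases A <;> linarith
    · have hA1 : -9 < A ∧ A < 9 := by norm_num at hA8; omega
      obtain ⟨hA1, hA2⟩ := hA1
      have hb : (L : ℤ) * (j : ℤ) ^ 2 = 1 := by
        refine le_antisymm ?_ hLj
        interval_cases A <;> linarith
      interval_cases A <;> linarith

end Cfsg.Agent.S0980
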