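import Cfsg.Statements.S0904
import Cfsg.Agent.H40.Simple
import Cfsg.Agent.H40.BlockSets
import Cfsg.Agent.H40.BlockDefect
import Cfsg.Agent.H42.MaxIdeal

set_option autoImplicit false
open Cfsg

namespace Cfsg.Agent.S0904

open scoped ComplexConjugate

open scoped Classical in
/-- No element has order `r * q`. -/
theorem aux {G : Type*} [Group G] [Finite G] [IsSimpleGroup G]
    (hna : ∃ u v : G, u * v ≠ v * u) (p q r a b : ℕ) (hp : p.Prime)
    [Fact q.Prime] [Fact r.Prime] (hpr : p ≠ r) (hqr : q ≠ r)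
    (hcard : Nat.card G = p ^ a * q ^ b * r) {y : G} (hyr : r ∣ orderOf y) (hyq : q ∣ orderOf y) :
    False := by
  have : Fintype G := Fintype.ofFinite G
  have hq : q.Prime := Fact.out
  have hr : r.Prime := Fact.out
  obtain ⟨M, hM⟩ := Cfsg.Agent.H42.exists_isPModular hq
  obtain ⟨M', hM'⟩ := Cfsg.Agent.H42.exists_isPModular hr
  have := hM.2.1
  have := hM'.2.1
  have hB : Cfsg.IsPBlock M (Cfsg.principalBlock M G) := Cfsg.Agent.H41.isPBlock_principalBlock
  have h0 := Cfsg.Agent.H40.sum_block_mul_conj_eq_zero hM hB (x := 1) (y := y)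
    (by simpa using hq.not_dvd_one) hyq
  let o : Cfsg.IrrCharacter G := Cfsg.Agent.H26.oneIrr G
  have ho : o ∈ Finset.univ.filter (· ∈ Cfsg.principalBlock M G) := by
    refine Finset.mem_filter.2 ⟨Finset.mem_univ _, ?_⟩
    rw [Cfsg.Agent.H41.principalBlock_eq]
    exact Cfsg.Agent.H41.mem_blockOf_self _
  rw [← Finset.add_sum_erase _ _ ho] at h0
  have hterm : ∀ χ ∈ (Finset.univ.filter (· ∈ Cfsg.principalBlock M G)).erase o,
      IsIntegral ℤ ((χ : G → ℂ) 1 * conj ((χ : G → ℂ) y) / (p : ℂ)) := by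
    intro χ hχ
    obtain ⟨hne, hmem⟩ := Finset.mem_erase.1 hχ
    have hmem' := (Finset.mem_filter.1 hmem).2
    obtain ⟨n, ρ, hirr, hρ⟩ := χ.2
    have := hirr
    have hn : (χ : G → ℂ) 1 = (n : ℂ) := by rw [← hρ, ρ.char_one, Module.finrank_fin_fun]
    have hdeg : Cfsg.charDegree (χ : G → ℂ) = n := Cfsg.Agent.H42.charDegree_of_eq_nat hn
    have hdvd : n ∣ p ^ a * q ^ b * r := by
      have h2 := Cfsg.Agent.H25.finrank_dvd_card ρ
      rwa [Module.finrank_fin_fun, hcard] at h2
    by_cases hrn : r ∣ n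
    · -- `r`-defect zero
      have hblock := Cfsg.Agent.H40.blockOf_eq_singleton hM' χ (by
        have hcr : (Nat.card G).factorization r = 1 := by
          rw [hcard, Nat.factorization_mul (Nat.mul_ne_zero (pow_ne_zero _ hp.ne_zero)
            (pow_ne_zero _ hq.ne_zero)) hr.ne_zero, Finsupp.add_apply, hr.factorization_self,
            Nat.factorization_eq_zero_of_not_dvd]
          intro hd
          rcases hr.dvd_mul.1 hd with h | h
          · exact hpr ((Nat.prime_dvd_prime_iff_eq hr hp).1 (hr.dvd_of_dvd_pow h)).symm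
          · exact hqr ((Nat.prime_dvd_prime_iff_eq hr hq).1 (hr.dvd_of_dvd_pow h)).symm
        rw [hcr, hdeg]
        exact (hr.dvd_iff_one_le_factorization (fun e => by
          rw [e] at hn
          exact Cfsg.Agent.H26.irr_one_ne_zero χ (by rw [hn, Nat.cast_zero]))).1 hrn)
      have h1 := Cfsg.Agent.H40.sum_block_mul_conj_eq_zero hM'
        (Cfsg.Agent.H41.isPBlock_blockOf χ) (x := 1) (y := y)
        (by simpa using hr.not_dvd_one) hyr
      rw [show Finset.univ.filter (fun ψ : Cfsg.IrrCharacter G =>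
          ψ ∈ Cfsg.blockOf M' (χ : G → ℂ)) = {χ} by ext ψ; simp [hblock],
        Finset.sum_singleton] at h1
      rw [h1, zero_div]
      exact isIntegral_zero
    · -- the degree is a multiple of `p`
      have hpn : p ∣ n := by
        by_contra hpn
        have hco : n.Coprime (p ^ a) :=
          Nat.Coprime.pow_right _ ((hp.coprime_iff_not_dvd).2 hpn).symm
        have hco' : n.Coprime r := ((hr.coprime_iff_not_dvd).2 hrn).symm
        have h3 : n ∣ q ^ b := hco.dvd_of_dvd_mul_left (hco'.dvd_of_dvd_mul_right hdvd)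
        obtain ⟨k, -, hk⟩ := (Nat.dvd_prime_pow hq).1 h3
        refine hne (Subtype.ext ?_)
        exact Cfsg.Agent.H40.eq_one_of_principalBlock_degree_pow hM hna χ hmem' (k := k)
          (by rw [hn, hk, Nat.cast_pow])
      obtain ⟨m, hm⟩ := hpn
      have e : (χ : G → ℂ) 1 * conj ((χ : G → ℂ) y) / (p : ℂ) = (m : ℂ) * (χ : G → ℂ) y⁻¹ := by
        have : (p : ℂ) ≠ 0 := Nat.cast_ne_zero.2 hp.ne_zero
        rw [hn, hm, Nat.cast_mul, Cfsg.Agent.H26.irr_inv]
        field_simp
      rw [e]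
      exact isIntegral_algebraMap.mul
        (Cfsg.Agent.H42.isIntegral_value (Cfsg.Agent.H26.irr_isCharacter χ) _)
  have hsum := IsIntegral.sum _ hterm
  have ho1 : ∀ g, (o : G → ℂ) g = 1 := fun g => rfl
  rw [ho1, ho1, map_one, one_mul] at h0
  have h1 : IsIntegral ℤ (((1 : ℕ) : ℂ) / (p : ℂ)) := by
    have e : ((1 : ℕ) : ℂ) / (p : ℂ) = -(∑ χ ∈ (Finset.univ.filter (· ∈ Cfsg.principalBlock M G)).erase o,
        (χ : G → ℂ) 1 * conj ((χ : G → ℂ) y) / (p : ℂ)) := by
      rw [← Finset.sum_div, ← neg_div, Nat.cast_one, ← eq_neg_of_add_eq_zero_left h0]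
    rw [e]
    exact hsum.neg
  exact hp.not_dvd_one (Cfsg.Agent.H42.nat_dvd_of_isIntegral_div hp.ne_zero h1)

/-- Let G be a finite simple group of order p ^ a * q ^ b * r with p, q, r distinct primes. Then every Sylow r-subgroup S of G satisfies C_G(S) = S. -/
theorem result {G : Type*} [Group G] [Finite G] [IsSimpleGroup G] (p q r a b : ℕ) (hp : p.Prime) (hq : q.Prime) [Fact r.Prime] (hpq : p ≠ q) (hpr : p ≠ r) (hqr : q ≠ r) (hcard : Nat.card G = p ^ a * q ^ b * r) (S : Sylow r G) : Subgroup.centralizer (S : Set G) = (S : Subgroup G) := by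
  haveI : Fact p.Prime := ⟨hp⟩
  haveI : Fact q.Prime := ⟨hq⟩
  have hr : r.Prime := Fact.out
  have hfr : (Nat.card G).factorization r = 1 := by
    rw [hcard, Nat.factorization_mul (Nat.mul_ne_zero (pow_ne_zero _ hp.ne_zero)
      (pow_ne_zero _ hq.ne_zero)) hr.ne_zero, Finsupp.add_apply, hr.factorization_self,
      Nat.factorization_eq_zero_of_not_dvd]
    intro hd
    rcases hr.dvd_mul.1 hd with h | h
    · exact hpr ((Nat.prime_dvd_prime_iff_eq hr hp).1 (hr.dvd_of_dvd_pow h)).symm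
    · exact hqr ((Nat.prime_dvd_prime_iff_eq hr hq).1 (hr.dvd_of_dvd_pow h)).symm
  have hS : Nat.card (S : Subgroup G) = r := by
    rw [S.card_eq_multiplicity, hfr, pow_one]
  haveI : IsCyclic (S : Subgroup G) := isCyclic_of_prime_card hS
  have hle : (S : Subgroup G) ≤ Subgroup.centralizer (S : Set G) := by
    intro s hs
    rw [Subgroup.mem_centralizer_iff]
    intro t ht
    exact congrArg Subtype.val ((IsCyclic.commGroup (α := (S : Subgroup G))).mul_comm
      ⟨t, ht⟩ ⟨s, hs⟩)
  by_contra hne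
  obtain ⟨j, hj⟩ := Subgroup.card_dvd_of_le hle
  rw [hS] at hj
  have hj1 : j ≠ 1 := by
    intro e
    rw [e, mul_one] at hj
    exact hne (Subgroup.eq_of_le_of_card_ge hle (by rw [hj, hS])).symm
  obtain ⟨l, hl, hlj⟩ := Nat.exists_prime_and_dvd hj1
  have hjG : r * j ∣ Nat.card G := hj ▸ Subgroup.card_subgroup_dvd_card _
  have hlr : l ≠ r := by
    intro e
    subst e
    have h2 : l ^ 2 ∣ Nat.card G := (by
      obtain ⟨i, rfl⟩ := hlj
      exact ⟨i, by ring⟩ : l ^ 2 ∣ l * j).trans hjG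
    have := (hl.pow_dvd_iff_le_factorization Nat.card_pos.ne').1 h2
    omega
  haveI : Fact l.Prime := ⟨hl⟩
  obtain ⟨v, hv⟩ := exists_prime_orderOf_dvd_card' (G := Subgroup.centralizer (S : Set G)) l
    (by rw [hj]; exact hlj.mul_left r)
  obtain ⟨s, hs⟩ := exists_prime_orderOf_dvd_card' (G := (S : Subgroup G)) r (by rw [hS])
  have hc : Commute (s : G) (v : G) := Subgroup.mem_centralizer_iff.1 v.2 _ s.2
  have hord : orderOf ((s : G) * (v : G)) = r * l := by
    rw [hc.orderOf_mul_eq_mul_orderOf_of_coprime, Subgroup.orderOf_coe, Subgroup.orderOf_coe, hs, hv]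
    rw [Subgroup.orderOf_coe, Subgroup.orderOf_coe, hs, hv]
    exact (Nat.coprime_primes hr hl).2 (Ne.symm hlr)
  have hna : ∃ u w : G, u * w ≠ w * u := by
    by_contra hcom
    push Not at hcom
    letI : CommGroup G := { (inferInstance : Group G) with mul_comm := hcom }
    have hprime : (Nat.card G).Prime := IsSimpleGroup.prime_card
    have hjr : r * j = Nat.card G ∨ r * j = 1 := (hprime.eq_one_or_self_of_dvd _ hjG).symm
    rcases hjr with h | h
    · rcases hprime.eq_one_or_self_of_dvd r ((Dvd.intro _ rfl).trans hjG) with h' | h'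
      · exact hr.ne_one h'
      · exact hj1 (Nat.mul_left_cancel hr.pos (by rw [mul_one]; exact h.trans h'.symm))
    · exact hr.ne_one (Nat.eq_one_of_mul_eq_one_right h)
  have hlG : l ∣ Nat.card G := (hlj.mul_left r).trans hjG
  have hyr : r ∣ orderOf ((s : G) * (v : G)) := hord ▸ dvd_mul_right r l
  have hyl : l ∣ orderOf ((s : G) * (v : G)) := hord ▸ dvd_mul_left l r
  rw [hcard] at hlG
  rcases hl.dvd_mul.1 hlG with h | h
  · rcases hl.dvd_mul.1 h with h | h
    · obtain rfl := (Nat.prime_dvd_prime_iff_eq hl hp).1 (hl.dvd_of_dvd_pow h)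
      exact aux hna q l r b a hq hqr hpr (by rw [hcard]; ring) hyr hyl
    · obtain rfl := (Nat.prime_dvd_prime_iff_eq hl hq).1 (hl.dvd_of_dvd_pow h)
      exact aux hna p l r a b hp hpr hqr hcard hyr hyl
  · exact hlr ((Nat.prime_dvd_prime_iff_eq hl hr).1 h)

end Cfsg.Agent.S0904
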