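import Cfsg.Statements.S0998
import Cfsg.Agent.H69.PRQ.Main
-- import your own Cfsg.Agent.* helpers here

set_option autoImplicit false
open Cfsg

namespace Cfsg.Agent.S0998

/-- A non-cyclic finite simple group whose order has the form p * r * q^b for distinct primes p, q, r is isomorphic to the projective special linear group of dimension 2 over the field with 5 or with 7 elements. -/
theorem result {G : Type*} [Group G] [Finite G] [IsSimpleGroup G] (hG : ¬ IsCyclic G) (p q r b : ℕ) (hp : p.Prime) (hq : q.Prime) (hr : r.Prime) (hpq : p ≠ q) (hpr : p ≠ r) (hqr : q ≠ r) (hG' : Nat.card G = p * r * q ^ b) : (∃ (F : Type) (_ : Field F) (_ : Fintype F), Fintype.card F = 5 ∧ Nonempty (G ≃* Matrix.ProjectiveSpecialLinearGroup (Fin 2) F)) ∨ (∃ (F : Type) (_ : Field F) (_ : Fintype F), Fintype.card F = 7 ∧ Nonempty (G ≃* Matrix.ProjectiveSpecialLinearGroup (Fin 2) F)) := by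
  classical
  let _ : Fintype G := Fintype.ofFinite G
  have hperf := H31.FewSylow.perfect_of_simple hG
  have h2 : 2 ≤ p ∧ 2 ≤ r := ⟨hp.two_le, hr.two_le⟩
  have hfp : Fact p.Prime := ⟨hp⟩
  have hfr : Fact r.Prime := ⟨hr⟩
  have hG'' : Nat.card G = r * p * q ^ b := by rw [hG', mul_comm p r]
  obtain ⟨z, hz, hC⟩ := H69.PRQ.exists_selfCentralizing hr hq hpr hpq hqr.symm hG'
  obtain ⟨w, hw, hCw⟩ := H69.PRQ.exists_selfCentralizing hp hq hpr.symm hqr.symm hpq hG''
  have hnot2 : ∀ {x : G}, orderOf x = 2 →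
      Subgroup.centralizer ({x} : Set G) ≠ Subgroup.zpowers x := fun hx h =>
    H69.PRQ.false_of_two hperf hx h
  rcases eq_or_ne p 2 with hp2 | hp2
  · exact absurd hC (hnot2 (hp2 ▸ hz))
  rcases eq_or_ne r 2 with hr2 | hr2
  · exact absurd hCw (hnot2 (hr2 ▸ hw))
  rcases eq_or_ne p 3 with hp3 | hp3
  · exact H69.PRQ.of_three hG (hp3 ▸ hz) hC
  rcases eq_or_ne r 3 with hr3 | hr3
  · exact H69.PRQ.of_three hG (hr3 ▸ hw) hCw
  have hp5 : 5 ≤ p := Nat.Prime.five_le_of_ne_two_of_ne_three hp hp2 hp3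
  have hr5 : 5 ≤ r := Nat.Prime.five_le_of_ne_two_of_ne_three hr hr2 hr3
  rcases lt_or_gt_of_ne hpr with h | h
  · exact (H69.PRQ.false_core hperf hp hq hp5 h hqr.symm hG'' hw hCw).elim
  · exact (H69.PRQ.false_core hperf hr hq hr5 h hpq hG' hz hC).elim

end Cfsg.Agent.S0998
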