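import Cfsg.Statements.S4456
import Cfsg.Agent.H25.LinearExtend
import Cfsg.Agent.H22.Tate

set_option autoImplicit false
open Cfsg

namespace Cfsg.Agent.S4456

/-- Let p be a prime and G a finite group such that p divides the degree of every irreducible character of G of degree greater than one. Then G has a normal p-complement: a normal subgroup of order prime to p whose index is a power of p. -/
theorem result {G : Type*} [Group G] [Finite G] (p : ℕ) (hp : p.Prime) (hdeg : ∀ χ : Cfsg.IrrCharacter G, Cfsg.charDegree (χ : G → ℂ) ≠ 1 → p ∣ Cfsg.charDegree (χ : G → ℂ)) : ∃ N : Subgroup G, N.Normal ∧ (Nat.card N).Coprime p ∧ ∃ k : ℕ, N.index = p ^ k := by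
  haveI : Fact p.Prime := ⟨hp⟩
  obtain ⟨P⟩ := (inferInstance : Nonempty (Sylow p G))
  have hP : ∀ M : Subgroup (P : Subgroup G), M.Normal → M.index = p →
      (P : Subgroup G) ⊓ commutator G ≤ M.map (P : Subgroup G).subtype := by
    intro M hM hMp x hx
    refine ⟨⟨x, hx.1⟩, ?_, rfl⟩
    have h1 : commutator (P : Subgroup G) ≤ M := by
      have hcard : Nat.card ((P : Subgroup G) ⧸ M) = p := by rw [← Subgroup.index_eq_card, hMp]
      haveI : IsCyclic ((P : Subgroup G) ⧸ M) := isCyclic_of_prime_card hcard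
      exact Subgroup.Normal.quotient_commutative_iff_commutator_le.mp inferInstance
    exact h1 (Cfsg.Agent.H25.sylow_inf_commutator_le hdeg P ⟨x, hx.1⟩ hx.2)
  have h1 := Cfsg.Agent.H22.tate P (P : Subgroup G) le_rfl hP
  have hbot : Cfsg.pResidual p (P : Subgroup G) = ⊥ :=
    Cfsg.Agent.H22.pResidual_eq_bot_of_isPGroup P.isPGroup'
  rw [hbot, Subgroup.map_bot, le_bot_iff] at h1
  refine ⟨Cfsg.pResidual p G, Cfsg.Agent.H22.pResidual_normal, ?_, ?_⟩
  · exact (Nat.Prime.coprime_iff_not_dvd hp).mpr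
      (Cfsg.Agent.H22.not_dvd_card_of_sylow_inf_eq_bot P _ h1) |>.symm
  · exact Cfsg.Agent.H22.exists_index_pResidual_eq

end Cfsg.Agent.S4456
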