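import Cfsg.Statements.S4959
import Cfsg.Agent.H45.SelfDual
import Cfsg.Agent.H45.GaussEta
import Cfsg.Agent.H45.HeisEta
import Cfsg.Agent.H45.KgvReal

set_option autoImplicit false
open Cfsg

namespace Cfsg.Agent.S4959

/-- Let X be a finite group and V a normal subgroup of X in which every element has order dividing the prime p, whose index in X is prime to p and which is its own centralizer in X; so V is an elementary abelian normal Sylow p-subgroup, and any complement G to V in X is a group of order prime to p acting faithfully on the vector space V by conjugation (the coprime linear setting of the k(GV) problem). Let G be a complement to V in X, let v be in V and let H be the centralizer of v in G. Suppose there is a subgroup U of V normalized by H, on which H acts faithfully, and carrying an H-invariant bi-additive pairing β with values in the integers modulo p that is nondegenerate on U (equivalently: the restriction of the module V to H has a faithful self-dual submodule; such a v is called a real vector for G). Then the number of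 conjugacy classes of X is at most the order of V (the real-vector criterion for the k(GV) problem). The pairing is given as a function on X whose relevant values are those on pairs from U. -/
theorem result {X : Type*} [Group X] [Finite X] (p : ℕ) [Fact p.Prime] (V : Subgroup X) [V.Normal] (hVexp : ∀ v ∈ V, v ^ p = 1) (hidx : ¬ p ∣ V.index) (hself : Subgroup.centralizer (V : Set X) = V) (G : Subgroup X) (hGV : Subgroup.IsComplement' V G) (v : X) (hv : v ∈ V) (U : Subgroup X) (hUV : U ≤ V) (hUinv : ∀ h ∈ G, h * v * h⁻¹ = v → ∀ u ∈ U, h * u * h⁻¹ ∈ U) (hUfaith : ∀ h ∈ G, h * v * h⁻¹ = v → (∀ u ∈ U, h * u * h⁻¹ = u) → h = 1) (β : X → X → ZMod p) (hβl : ∀ u ∈ U, ∀ u' ∈ U, ∀ w ∈ U, β (u * u') w = β u w + β u' w) (hβr : ∀ u ∈ U, ∀ w ∈ U, ∀ w' ∈ U, β u (w * w') = β u w + β u w') (hβinv : ∀ h ∈ G, h * v * h⁻¹ = v → ∀ u ∈ U, ∀ w ∈ U, β (h * u * h⁻¹) (h * w * h⁻¹) = β u w) (hβnd : ∀ u ∈ U, (∀ w ∈ U, β u w = 0) → u = 1) : Nat.card (ConjClasses X) ≤ Nat.card V := by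
  classical
  have hp := (Fact.out : p.Prime)
  have hcomm : ∀ a ∈ V, ∀ b ∈ V, a * b = b * a := by
    intro a ha b hb
    have hb' : b ∈ Subgroup.centralizer (V : Set X) := by rw [hself]; exact hb
    exact Subgroup.mem_centralizer_iff.1 hb' a ha
  haveI : NeZero p := ⟨hp.ne_zero⟩
  let H : Subgroup X := G ⊓ Subgroup.centralizer ({v} : Set X)
  have hmem : ∀ h : H, (h : X) * v * (h : X)⁻¹ = v := fun h => by
    rw [← Subgroup.mem_centralizer_iff.1 h.2.2 v rfl, mul_inv_cancel_right]
  let : CommGroup U :=
    { U.toGroup with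
      mul_comm := fun a b => Subtype.ext (hcomm a (hUV a.2) b (hUV b.2)) }
  obtain ⟨_⟩ : Nonempty (Module (ZMod p) (Additive U)) := by
    refine ⟨AddCommGroup.zmodModule fun x => ?_⟩
    exact by
      apply Additive.toMul.injective
      rw [toMul_nsmul, toMul_zero]
      exact Subtype.ext (by simpa using hVexp _ (hUV (Additive.toMul x).2))
  let conjU : H → (Additive U →+ Additive U) := fun h =>
    AddMonoidHom.mk' (fun x => Additive.ofMul (⟨(h : X) * (Additive.toMul x : U) * (h : X)⁻¹,
      hUinv h h.2.1 (hmem h) _ (Additive.toMul x).2⟩ : U)) fun x y => by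
        rw [← ofMul_mul]
        congr 1
        refine Subtype.ext ?_
        simp [mul_assoc]
  let f : H → Module.End (ZMod p) (Additive U) := fun h => (conjU h).toZModLinearMap p
  let ρ₀ : H →* Module.End (ZMod p) (Additive U) :=
    { toFun := f
      map_one' := LinearMap.ext fun x => by
         show conjU 1 x = x
         apply Additive.toMul.injective
         exact Subtype.ext (by simp [conjU])
      map_mul' := fun g h => LinearMap.ext fun x => by
         show conjU (g * h) x = conjU g (conjU h x)
         apply Additive.toMul.injective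
         exact Subtype.ext (by simp [conjU, mul_assoc]) }
  let ρ : Representation (ZMod p) H (Additive U) := ρ₀
  have hρ : ∀ (h : H) (x : Additive U),
      ((Additive.toMul (ρ h x) : U) : X) = (h : X) * (Additive.toMul x : U) * (h : X)⁻¹ :=
    fun h x => rfl
  let B₀ : Additive U →+ (Additive U →ₗ[ZMod p] ZMod p) :=
    AddMonoidHom.mk' (fun x => (AddMonoidHom.mk'
        (fun y => β (Additive.toMul x : U) (Additive.toMul y : U))
        fun y z => by rw [toMul_add, Subgroup.coe_mul]; exact hβr _ (Subtype.coe_prop _) _ (Subtype.coe_prop _) _ (Subtype.coe_prop _)).toZModLinearMap p)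
      fun x y => LinearMap.ext fun z => by
        show β ((Additive.toMul (x + y) : U) : X) _ = _
        rw [toMul_add, Subgroup.coe_mul]
        exact hβl _ (Subtype.coe_prop _) _ (Subtype.coe_prop _) _ (Subtype.coe_prop _)
  let B : LinearMap.BilinForm (ZMod p) (Additive U) := B₀.toZModLinearMap p
  have hB : ∀ (h : H) x y, B (ρ h x) (ρ h y) = B x y := fun h x y =>
    hβinv h h.2.1 (hmem h) _ (Subtype.coe_prop _) _ (Subtype.coe_prop _)
  have hB0 : H45.SDNondeg B ⊤ := fun x _ hx => by
    apply Additive.toMul.injective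
    exact Subtype.ext (hβnd _ (Subtype.coe_prop _) fun w hw =>
      hx (Additive.ofMul ⟨w, hw⟩) trivial)
  have hfaith : ∀ h : H, (∀ x, ρ h x = x) → h = 1 := fun h hh => Subtype.ext <|
    hUfaith h h.2.1 (hmem h) fun u hu => by
      simpa [hρ] using congrArg (fun x : Additive U => ((Additive.toMul x : U) : X))
        (hh (Additive.ofMul ⟨u, hu⟩))
  have hfix : ∀ h : H, Nat.card ↥(V ⊓ Subgroup.centralizer ({(h : X)} : Set X))
      * Nat.card (Additive U) ≤ Nat.card V * H45.fixCard ρ h := by
    intro h
    let C : Subgroup X := V ⊓ Subgroup.centralizer ({(h : X)} : Set X)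
    have h1 : C.relIndex U ≤ C.relIndex V := Subgroup.relIndex_le_of_le_right hUV (by
      exact Subgroup.index_ne_zero_of_finite)
    have h2 : Nat.card C * C.relIndex V = Nat.card V := by
      rw [← Subgroup.relIndex_bot_left, ← Subgroup.relIndex_bot_left,
        Subgroup.relIndex_mul_relIndex _ _ _ bot_le inf_le_left]
    have h3 : Nat.card ↥(C ⊓ U) * C.relIndex U = Nat.card U := by
      rw [← Subgroup.relIndex_bot_left, ← Subgroup.relIndex_bot_left,
        ← Subgroup.inf_relIndex_right C U,
        Subgroup.relIndex_mul_relIndex _ _ _ bot_le inf_le_right]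
    have h4 : Nat.card ↥(C ⊓ U) = H45.fixCard ρ h := by
      let e : ↥(C ⊓ U) ≃ {x : Additive U // ρ h x = x} :=
        { toFun := fun u => ⟨Additive.ofMul ⟨u.1, u.2.2⟩, by
            apply Additive.toMul.injective
            refine Subtype.ext ?_
            rw [hρ]
            exact mul_inv_eq_iff_eq_mul.2
              (Subgroup.mem_centralizer_iff.1 u.2.1.2 (h : X) rfl)⟩
          invFun := fun x => ⟨(Additive.toMul x.1 : U), ⟨hUV (Subtype.coe_prop _),
            Subgroup.mem_centralizer_iff.2 fun z hz => by
              rw [Set.mem_singleton_iff.1 hz]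
              exact mul_inv_eq_iff_eq_mul.1 (by rw [← hρ, x.2])⟩, Subtype.coe_prop _⟩
          left_inv := fun u => rfl
          right_inv := fun x => rfl }
      exact Nat.card_congr e
    rw [Nat.card_congr Additive.toMul, ← h2, ← h3, ← h4]
    calc Nat.card C * (Nat.card ↥(C ⊓ U) * C.relIndex U)
        ≤ Nat.card C * (Nat.card ↥(C ⊓ U) * C.relIndex V) :=
          Nat.mul_le_mul_left _ (Nat.mul_le_mul_left _ h1)
      _ = _ := by ring
  have := Fintype.ofFinite H
  have hpH : ¬ p ∣ Nat.card H := fun h => hidx (h.trans (by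
    rw [hGV.symm.index_eq_card]
    exact Subgroup.card_dvd_of_le inf_le_left))
  have hH0 : (Nat.card H : ZMod p) ≠ 0 := fun h => hpH ((ZMod.natCast_eq_zero_iff _ p).1 h)
  obtain ⟨U', W', hUW, hU'i, hW'i, ⟨A, hAa, hAi, hAn⟩, ⟨S, hSs, hSi, hSn⟩, -⟩ :=
    H45.sd_split hH0 _ ρ B rfl hB hB0
  let restr : ∀ (Y : Submodule (ZMod p) (Additive U)), H45.SDInv ρ Y →
      Representation (ZMod p) H Y := fun Y hY =>
    { toFun := fun g => (ρ g).restrict (fun y hy => hY g y hy)
      map_one' := LinearMap.ext fun y => Subtype.ext (by simp)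
      map_mul' := fun a b => LinearMap.ext fun y => Subtype.ext (by simp) }
  have := Fintype.ofFinite U'
  have := Fintype.ofFinite W'
  have hε := Complex.isPrimitiveRoot_exp p hp.ne_zero
  let ψ : AddChar (ZMod p) ℂ := AddChar.zmodChar p hε.pow_eq_one
  have hW := H45.etaFamily_gauss hpH (restr W' hW'i) (S.compl₁₂ W'.subtype W'.subtype)
    (fun x y => hSs x y) (fun g x y => hSi g x x.2 y y.2)
    (fun x hx => Subtype.ext (hSn x x.2 fun y hy => hx ⟨y, hy⟩)) hε ψ fun a => rfl
  have hskew : ∀ x y, A x y = -A y x := fun x y => by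
    have e := hAa (x + y)
    simp only [map_add, LinearMap.add_apply, hAa, zero_add, add_zero] at e
    exact eq_neg_of_add_eq_zero_right e
  by_cases hp2 : p = 2
  · subst hp2
    have hU := H45.etaFamily_gauss hpH (restr U' hU'i) (A.compl₁₂ U'.subtype U'.subtype)
      (fun x y => (hskew x y).trans (ZMod.neg_eq_self_mod_two _))
      (fun g x y => hAi g x x.2 y y.2)
      (fun x hx => Subtype.ext (hAn x x.2 fun y hy => hx ⟨y, hy⟩)) hε ψ fun a => rfl
    exact H45.card_classes_le_of_etaFamily V hVexp hidx hcomm G hGV hv (H := H)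
      inf_le_left (fun h hh => Subgroup.mem_centralizer_iff.1 hh.2 v rfl)
      (fun g hg hgv => ⟨hg, Subgroup.mem_centralizer_iff.2 fun z hz => by
        rw [Set.mem_singleton_iff.1 hz]; exact hgv.eq.symm⟩) ρ hfaith hfix hε
      (H45.EtaFamily.prod hUW _ _ (fun _ _ => rfl) (fun _ _ => rfl) hU hW)
  · let D : H45.HData p H U' :=
      { ρ := restr U' hU'i
        β := A.compl₁₂ U'.subtype U'.subtype
        inv := fun g x y => hAi g x x.2 y y.2
        skew := fun x y => hskew x y
        nd := fun x hx => Subtype.ext (hAn x x.2 fun y hy => hx ⟨y, hy⟩) }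
    have hU := H45.etaFamily_heis (D := D) hp2 hpH hε
    exact H45.card_classes_le_of_etaFamily V hVexp hidx hcomm G hGV hv (H := H)
      inf_le_left (fun h hh => Subgroup.mem_centralizer_iff.1 hh.2 v rfl)
      (fun g hg hgv => ⟨hg, Subgroup.mem_centralizer_iff.2 fun z hz => by
        rw [Set.mem_singleton_iff.1 hz]; exact hgv.eq.symm⟩) ρ hfaith hfix hε
      (H45.EtaFamily.prod hUW _ _ (fun _ _ => rfl) (fun _ _ => rfl) hU hW)

end Cfsg.Agent.S4959
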