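import Cfsg.Statements.S0947
import Cfsg.Agent.H41.PrincipalSection
import Cfsg.Agent.S0939

set_option autoImplicit false
open Cfsg

namespace Cfsg.Agent.S0947

/-- Let z ≠ 1 be a p-element of the finite group G with centralizer H, and fix a maximal ideal M of the algebraic integers containing p. (i) For every y ∈ H of order prime to p, the sum over ζ in the principal block of G of |ζ (z * y)|² equals the sum over χ in the principal block of H of |χ y|². (ii) If moreover H has a normal p-complement (its largest normal subgroup of order prime to p has p-power index), that common value is the largest power of p dividing the order of H. -/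
theorem result {G : Type*} [Group G] [Finite G] (p : ℕ) [Fact p.Prime] (M : Ideal Cfsg.AlgInt) (hM : Cfsg.IsPModular p M) (z : G) (hz : ∃ k : ℕ, orderOf z = p ^ k) (hz1 : z ≠ 1) (y : Subgroup.centralizer ({z} : Set G)) (hy : ¬ p ∣ orderOf y) : (∑ᶠ ζ ∈ Cfsg.principalBlock M G, ‖(ζ : G → ℂ) (z * (y : G))‖ ^ 2 = ∑ᶠ χ ∈ Cfsg.principalBlock M (Subgroup.centralizer ({z} : Set G)), ‖(χ : Subgroup.centralizer ({z} : Set G) → ℂ) y‖ ^ 2) ∧ ((∃ k : ℕ, (Cfsg.pPrimeCore p (Subgroup.centralizer ({z} : Set G))).index = p ^ k) → ∑ᶠ ζ ∈ Cfsg.principalBlock M G, ‖(ζ : G → ℂ) (z * (y : G))‖ ^ 2 = ((p ^ (Nat.card (Subgroup.centralizer ({z} : Set G))).factorization p : ℕ) : ℝ)) := by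
  classical
  haveI := hM.2.1
  haveI := Fintype.ofFinite G
  haveI := Fintype.ofFinite (Subgroup.centralizer ({z} : Set G))
  haveI := Fintype.ofFinite (Cfsg.IrrCharacter G)
  haveI := Fintype.ofFinite (Cfsg.IrrCharacter (Subgroup.centralizer ({z} : Set G)))
  have hzC : z ∈ (Subgroup.centralizer ({z} : Set G)) := Subgroup.mem_centralizer_singleton_iff.2 rfl
  have hzZ : (⟨z, hzC⟩ : (Subgroup.centralizer ({z} : Set G))) ∈ Subgroup.center (Subgroup.centralizer ({z} : Set G)) := Subgroup.mem_center_iff.2 fun u =>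
    Subtype.ext (Subgroup.mem_centralizer_singleton_iff.1 u.2)
  have hpart : Cfsg.IsPPart p ((⟨z, hzC⟩ * y : (Subgroup.centralizer ({z} : Set G))) : G) z :=
    ⟨(y : G), rfl, (Subgroup.mem_centralizer_singleton_iff.1 y.2).symm, hz,
      by rwa [Subgroup.orderOf_coe]⟩
  have hi : ∑ᶠ ζ ∈ Cfsg.principalBlock M G, ‖(ζ : G → ℂ) (z * (y : G))‖ ^ 2 =
      ∑ᶠ χ ∈ Cfsg.principalBlock M (Subgroup.centralizer ({z} : Set G)), ‖(χ : (Subgroup.centralizer ({z} : Set G)) → ℂ) y‖ ^ 2 := by
    rw [finsum_mem_eq_finite_toFinset_sum _ (Set.toFinite _),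
      finsum_mem_eq_finite_toFinset_sum _ (Set.toFinite _)]
    refine Complex.ofReal_injective ?_
    push_cast
    have key := Cfsg.Agent.H41.sum_principalBlock_section hM hz (g := ⟨z, hzC⟩ * y) hpart
    simp only [Complex.mul_conj'] at key
    refine Eq.trans ?_ (key.trans ?_)
    · exact Finset.sum_congr (by ext; simp) fun ζ _ => rfl
    · refine Finset.sum_congr (by ext; simp) fun χ _ => ?_
      rw [Cfsg.Agent.H41.norm_central_mul χ hzZ]
  refine ⟨hi, fun hnc => hi.trans ?_⟩
  haveI := Cfsg.Agent.H19.pPrimeCore_normal p (Subgroup.centralizer ({z} : Set G))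
  have hn : ¬ p ∣ Nat.card (Cfsg.pPrimeCore p (Subgroup.centralizer ({z} : Set G))) :=
    (Fact.out : p.Prime).coprime_iff_not_dvd.1 (Cfsg.Agent.H19.pPrimeCore_coprime p).symm
  have hindex : (Cfsg.pPrimeCore p (Subgroup.centralizer ({z} : Set G))).index = p ^ (Nat.card (Subgroup.centralizer ({z} : Set G))).factorization p := by
    obtain ⟨k, hk⟩ := hnc
    rw [← (Cfsg.pPrimeCore p (Subgroup.centralizer ({z} : Set G))).card_mul_index, hk, Nat.factorization_mul Nat.card_pos.ne'
      (pow_ne_zero _ (Fact.out : p.Prime).ne_zero), Finsupp.add_apply,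
      Nat.factorization_eq_zero_of_not_dvd hn, (Fact.out : p.Prime).factorization_pow,
      Finsupp.single_eq_same, zero_add]
  have hyN : y ∈ Cfsg.pPrimeCore p (Subgroup.centralizer ({z} : Set G)) := Cfsg.Agent.H41.mem_of_regular_of_index _ hnc hy
  rw [← hindex, Cfsg.Agent.S0939.result p M hM hnc,
    finsum_mem_eq_finite_toFinset_sum _ (Set.toFinite _)]
  refine Complex.ofReal_injective ?_
  push_cast
  rw [← Cfsg.Agent.H41.sum_degree_sq_trivial_on (Cfsg.pPrimeCore p (Subgroup.centralizer ({z} : Set G))), ← Finset.sum_filter]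
  refine Finset.sum_congr (by ext; simp) fun χ hχ => ?_
  rw [Complex.mul_conj', (Finset.mem_filter.1 hχ).2 y hyN]

end Cfsg.Agent.S0947
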