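import Cfsg.Statements.S0981
import Cfsg.Agent.S0999
import Cfsg.Agent.H31.PSLRingEquiv
import Cfsg.Agent.H6.Basic
-- import your own Cfsg.Agent.* helpers here

set_option autoImplicit false
open Cfsg

namespace Cfsg.Agent.S0981

/-- A simple group of order 4080 is isomorphic to the projective special linear group of dimension 2 over the field with 16 elements. -/
theorem result {G : Type*} [Group G] [Finite G] [IsSimpleGroup G] (h : Nat.card G = 4080) {F : Type*} [Field F] [Fintype F] (hF : Fintype.card F = 16) : Nonempty (G ≃* Matrix.ProjectiveSpecialLinearGroup (Fin 2) F) := by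
  haveI : Fact (Nat.Prime 17) := ⟨by norm_num⟩
  have hcyc : ¬ IsCyclic G := by
    intro hc
    letI : CommGroup G := hc.commGroup
    have hp : (Nat.card G).Prime := IsSimpleGroup.prime_card
    rw [h] at hp
    norm_num at hp
  rcases Cfsg.Agent.S0999.result hcyc 17 (by norm_num) (by rw [h]; norm_num) (by rw [h]; norm_num) with
    ⟨K, iK, iKf, hK, -, ⟨e⟩⟩ | ⟨m, K, iK, iKf, hK, hm, -, ⟨e⟩⟩
  · exfalso
    have hc := Cfsg.Agent.H6.card_psl2_mul (F := K) hK
    rw [← Nat.card_congr e.toEquiv, h] at hc
    norm_num at hc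
  · obtain ⟨f⟩ := Cfsg.Agent.H31.nonempty_psl_ringEquiv
      (FiniteField.ringEquivOfCardEq (show Fintype.card K = Fintype.card F by omega)) (Fin 2)
    exact ⟨e.trans f⟩

end Cfsg.Agent.S0981
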