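import Cfsg.Statements.S1011
import Cfsg.Agent.H31.Simple504Two
import Cfsg.Agent.H31.PSLRingEquiv
import Cfsg.Agent.S1230

set_option autoImplicit false
open Cfsg
open Cfsg.Agent.H31

namespace Cfsg.Agent.S1011

/-- A simple group of order 504 is isomorphic to the projective special linear group of dimension 2 over the field with 8 elements. -/
theorem result {G : Type*} [Group G] [Finite G] [IsSimpleGroup G] (h : Nat.card G = 504) {F : Type*} [Field F] [Fintype F] (hF : Fintype.card F = 8) : Nonempty (G ≃* Matrix.ProjectiveSpecialLinearGroup (Fin 2) F) := by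
  have : Fact (Nat.Prime 2) := ⟨Nat.prime_two⟩
  let T : Sylow 2 G := default
  obtain ⟨K, iK, iKf, hK, ⟨e⟩⟩ := Cfsg.Agent.S1230.result T (Simple504.sylow_two_not_cyclic h T)
    (Simple504.sylow_two_not_normal h T) (fun t ht => Simple504.elementary_centralizer h ht)
  have hK8 : Fintype.card K = 8 := hK.trans (Simple504.card_sylow_two_group h T)
  obtain ⟨f⟩ := nonempty_psl_ringEquiv (FiniteField.ringEquivOfCardEq (hK8.trans hF.symm)) (Fin 2)
  exact ⟨e.trans f⟩

end Cfsg.Agent.S1011
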