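import Cfsg.Statements.S2299
import Cfsg.Agent.H68.SL2ByDegree

set_option autoImplicit false
open Cfsg

namespace Cfsg.Agent.S2299

/-- Over a finite field F with q elements, q odd, every irreducible complex character of SL₂ has degree 1, q, q + 1, q − 1, (q + 1)/2 or (q − 1)/2; and when q ≥ 5 (so that these six numbers are distinct) there are exactly one irreducible character of degree 1, one of degree q, (q − 3)/2 of degree q + 1, (q − 1)/2 of degree q − 1, two of degree (q + 1)/2 and two of degree (q − 1)/2. -/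
theorem result {F : Type*} [Field F] [Fintype F] (hodd : Odd (Fintype.card F)) :
    (∀ χ : Matrix.SpecialLinearGroup (Fin 2) F → ℂ, Cfsg.IsIrrCharacter (Matrix.SpecialLinearGroup (Fin 2) F) χ →
      χ 1 = 1 ∨ χ 1 = (Fintype.card F : ℂ) ∨ χ 1 = (Fintype.card F : ℂ) + 1 ∨ χ 1 = (Fintype.card F : ℂ) - 1 ∨
        χ 1 = (((Fintype.card F + 1) / 2 : ℕ) : ℂ) ∨ χ 1 = (((Fintype.card F - 1) / 2 : ℕ) : ℂ)) ∧
    (5 ≤ Fintype.card F →
      Nat.card {χ : Cfsg.IrrCharacter (Matrix.SpecialLinearGroup (Fin 2) F) // (χ : Matrix.SpecialLinearGroup (Fin 2) F → ℂ) 1 = 1} = 1 ∧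
      Nat.card {χ : Cfsg.IrrCharacter (Matrix.SpecialLinearGroup (Fin 2) F) // (χ : Matrix.SpecialLinearGroup (Fin 2) F → ℂ) 1 = (Fintype.card F : ℂ)} = 1 ∧
      Nat.card {χ : Cfsg.IrrCharacter (Matrix.SpecialLinearGroup (Fin 2) F) // (χ : Matrix.SpecialLinearGroup (Fin 2) F → ℂ) 1 = (Fintype.card F : ℂ) + 1} = (Fintype.card F - 3) / 2 ∧
      Nat.card {χ : Cfsg.IrrCharacter (Matrix.SpecialLinearGroup (Fin 2) F) // (χ : Matrix.SpecialLinearGroup (Fin 2) F → ℂ) 1 = (Fintype.card F : ℂ) - 1} = (Fintype.card F - 1) / 2 ∧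
      Nat.card {χ : Cfsg.IrrCharacter (Matrix.SpecialLinearGroup (Fin 2) F) // (χ : Matrix.SpecialLinearGroup (Fin 2) F → ℂ) 1 = (((Fintype.card F + 1) / 2 : ℕ) : ℂ)} = 2 ∧
      Nat.card {χ : Cfsg.IrrCharacter (Matrix.SpecialLinearGroup (Fin 2) F) // (χ : Matrix.SpecialLinearGroup (Fin 2) F → ℂ) 1 = (((Fintype.card F - 1) / 2 : ℕ) : ℂ)} = 2) := by
  classical
  obtain ⟨k, n, ψ, hk, hk1, -, hn, hψ⟩ := Cfsg.Agent.H68.exists_odd_setup (F := F) hodd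
  obtain ⟨H₁, H₂, C₁, C₂, C, hH, hC, hCc, hP, -, -, -, -, -, -, dH₁, dH₂, dC₁, dC₂, hCall, -, hcases⟩ :=
    Cfsg.Agent.H68.sl2_odd_cases hk hn hψ
  have e1 : (Fintype.card F + 1) / 2 = k + 1 := by omega
  have e2 : (Fintype.card F - 1) / 2 = k := by omega
  have c1 : (Fintype.card F : ℂ) + 1 = ((2 * k + 2 : ℕ) : ℂ) := by rw [hk]; push_cast; ring
  have c2 : (Fintype.card F : ℂ) - 1 = ((2 * k : ℕ) : ℂ) := by rw [hk]; push_cast; ring
  rw [e1, e2, c1, c2, hk]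
  refine ⟨fun χ hχ => ?_, fun hq => ?_⟩
  · rcases hcases ⟨χ, hχ⟩ with ⟨-, e⟩ | ⟨-, e⟩ | ⟨-, e⟩ | ⟨-, e⟩ | ⟨-, e⟩ | ⟨-, e⟩ <;>
      simp only at e <;> simp [e]
  have key : ∀ (d : ℂ) (S : Finset (Cfsg.IrrCharacter (Matrix.SpecialLinearGroup (Fin 2) F))),
      (∀ χ, χ.1 1 = d ↔ χ ∈ S) →
      Nat.card {χ : Cfsg.IrrCharacter (Matrix.SpecialLinearGroup (Fin 2) F) // χ.1 1 = d} = S.card := by
    intro d S h
    rw [Nat.card_congr (Equiv.subtypeEquivRight h), Nat.card_eq_fintype_card, Fintype.card_coe]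
  have dT : (Cfsg.Agent.H68.sTriv F).1 1 = ((1 : ℕ) : ℂ) := by rw [Nat.cast_one]; rfl
  have dS : (Cfsg.Agent.H68.sStI F).1 1 = ((2 * k + 1 : ℕ) : ℂ) := by
    rw [← hk]; exact Cfsg.Agent.H68.sSt_one
  refine ⟨?_, ?_, ?_, ?_, ?_, ?_⟩
  · rw [← Nat.cast_one, key _ {Cfsg.Agent.H68.sTriv F} fun χ => ⟨fun hd => ?_, fun h => ?_⟩,
      Finset.card_singleton]
    · rcases hcases χ with ⟨h, -⟩ | ⟨-, e⟩ | ⟨-, e⟩ | ⟨-, e⟩ | ⟨-, e⟩ | ⟨-, e⟩
      case inl => exact Finset.mem_singleton.2 h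
      all_goals (have := Nat.cast_injective (hd.symm.trans e); omega)
    · rw [Finset.mem_singleton.1 h, dT]
  · rw [key _ {Cfsg.Agent.H68.sStI F} fun χ => ⟨fun hd => ?_, fun h => ?_⟩, Finset.card_singleton]
    · rcases hcases χ with ⟨-, e⟩ | ⟨h, -⟩ | ⟨-, e⟩ | ⟨-, e⟩ | ⟨-, e⟩ | ⟨-, e⟩
      case inr.inl => exact Finset.mem_singleton.2 h
      all_goals (have := Nat.cast_injective (hd.symm.trans e); omega)
    · rw [Finset.mem_singleton.1 h, dS]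
  · rw [key _ (Cfsg.Agent.H68.sPSSet F) fun χ => ⟨fun hd => ?_, fun h => ?_⟩]
    · omega
    · rcases hcases χ with ⟨-, e⟩ | ⟨-, e⟩ | ⟨h, -⟩ | ⟨-, e⟩ | ⟨-, e⟩ | ⟨-, e⟩
      case inr.inr.inl => exact h
      all_goals (have := Nat.cast_injective (hd.symm.trans e); omega)
    · obtain ⟨α, -, e⟩ := Cfsg.Agent.H68.mem_sPSSet.1 h
      rw [e, Cfsg.Agent.H68.sPS_one, ← c1]
  · rw [key _ C fun χ => ⟨fun hd => ?_, fun h => (hCall χ h).1⟩]
    · omega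
    · rcases hcases χ with ⟨-, e⟩ | ⟨-, e⟩ | ⟨-, e⟩ | ⟨-, e⟩ | ⟨-, e⟩ | ⟨h, -⟩
      case inr.inr.inr.inr.inr => exact h
      all_goals (have := Nat.cast_injective (hd.symm.trans e); omega)
  · rw [key _ {H₁, H₂} fun χ => ⟨fun hd => ?_, fun h => ?_⟩, Finset.card_pair hH]
    · rcases hcases χ with ⟨-, e⟩ | ⟨-, e⟩ | ⟨-, e⟩ | ⟨h, -⟩ | ⟨-, e⟩ | ⟨-, e⟩
      case inr.inr.inr.inl => exact Finset.mem_insert.2 (h.imp id Finset.mem_singleton.2)
      all_goals (have := Nat.cast_injective (hd.symm.trans e); omega)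
    · rcases Finset.mem_insert.1 h with rfl | h
      · exact dH₁
      · rw [Finset.mem_singleton.1 h]; exact dH₂
  · rw [key _ {C₁, C₂} fun χ => ⟨fun hd => ?_, fun h => ?_⟩, Finset.card_pair hC]
    · rcases hcases χ with ⟨-, e⟩ | ⟨-, e⟩ | ⟨-, e⟩ | ⟨-, e⟩ | ⟨h, -⟩ | ⟨-, e⟩
      case inr.inr.inr.inr.inl => exact Finset.mem_insert.2 (h.imp id Finset.mem_singleton.2)
      all_goals (have := Nat.cast_injective (hd.symm.trans e); omega)
    · rcases Finset.mem_insert.1 h with rfl | h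
      · exact dC₁
      · rw [Finset.mem_singleton.1 h]; exact dC₂

end Cfsg.Agent.S2299
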