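import Cfsg.Statements.S2300
import Cfsg.Agent.H68.SL2ByDegree

set_option autoImplicit false
open Cfsg

namespace Cfsg.Agent.S2300

/-- Over a finite field F with q elements, q even, every irreducible complex character of SL₂ has degree 1, q − 1, q or q + 1; and when q ≥ 4 (so that these four numbers are distinct) there are exactly one irreducible character of degree 1, one of degree q, (q − 2)/2 of degree q + 1 and q/2 of degree q − 1. -/
theorem result {F : Type*} [Field F] [Fintype F] [CharP F 2] :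
    (∀ χ : Matrix.SpecialLinearGroup (Fin 2) F → ℂ, Cfsg.IsIrrCharacter (Matrix.SpecialLinearGroup (Fin 2) F) χ →
      χ 1 = 1 ∨ χ 1 = (Fintype.card F : ℂ) - 1 ∨ χ 1 = (Fintype.card F : ℂ) ∨ χ 1 = (Fintype.card F : ℂ) + 1) ∧
    (4 ≤ Fintype.card F →
      Nat.card {χ : Cfsg.IrrCharacter (Matrix.SpecialLinearGroup (Fin 2) F) // (χ : Matrix.SpecialLinearGroup (Fin 2) F → ℂ) 1 = 1} = 1 ∧
      Nat.card {χ : Cfsg.IrrCharacter (Matrix.SpecialLinearGroup (Fin 2) F) // (χ : Matrix.SpecialLinearGroup (Fin 2) F → ℂ) 1 = (Fintype.card F : ℂ)} = 1 ∧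
      Nat.card {χ : Cfsg.IrrCharacter (Matrix.SpecialLinearGroup (Fin 2) F) // (χ : Matrix.SpecialLinearGroup (Fin 2) F → ℂ) 1 = (Fintype.card F : ℂ) + 1} = (Fintype.card F - 2) / 2 ∧
      Nat.card {χ : Cfsg.IrrCharacter (Matrix.SpecialLinearGroup (Fin 2) F) // (χ : Matrix.SpecialLinearGroup (Fin 2) F → ℂ) 1 = (Fintype.card F : ℂ) - 1} = Fintype.card F / 2) := by
  classical
  obtain ⟨C, hP, hCc, hCall, hcases⟩ :=
    Cfsg.Agent.H68.sl2_even_cases (F := F) (ringChar.eq F 2)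
  have hq1 : 1 ≤ Fintype.card F := Fintype.card_pos
  have c1 : (Fintype.card F : ℂ) + 1 = ((Fintype.card F + 1 : ℕ) : ℂ) := by push_cast; ring
  have c2 : (Fintype.card F : ℂ) - 1 = ((Fintype.card F - 1 : ℕ) : ℂ) := by
    rw [Nat.cast_sub hq1, Nat.cast_one]
  rw [c1, c2]
  refine ⟨fun χ hχ => ?_, fun hq => ?_⟩
  · rcases hcases ⟨χ, hχ⟩ with ⟨-, e⟩ | ⟨-, e⟩ | ⟨-, e⟩ | ⟨-, e⟩ <;>
      simp only at e <;> simp [e]
  have key : ∀ (d : ℂ) (S : Finset (Cfsg.IrrCharacter (Matrix.SpecialLinearGroup (Fin 2) F))),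
      (∀ χ, χ.1 1 = d ↔ χ ∈ S) →
      Nat.card {χ : Cfsg.IrrCharacter (Matrix.SpecialLinearGroup (Fin 2) F) // χ.1 1 = d} = S.card := by
    intro d S h
    rw [Nat.card_congr (Equiv.subtypeEquivRight h), Nat.card_eq_fintype_card, Fintype.card_coe]
  have dT : (Cfsg.Agent.H68.sTriv F).1 1 = ((1 : ℕ) : ℂ) := by rw [Nat.cast_one]; rfl
  have dS : (Cfsg.Agent.H68.sStI F).1 1 = ((Fintype.card F : ℕ) : ℂ) := Cfsg.Agent.H68.sSt_one
  refine ⟨?_, ?_, ?_, ?_⟩
  · rw [← Nat.cast_one, key _ {Cfsg.Agent.H68.sTriv F} fun χ => ⟨fun hd => ?_, fun h => ?_⟩,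
      Finset.card_singleton]
    · rcases hcases χ with ⟨h, -⟩ | ⟨-, e⟩ | ⟨-, e⟩ | ⟨-, e⟩
      case inl => exact Finset.mem_singleton.2 h
      all_goals (have := Nat.cast_injective (hd.symm.trans e); omega)
    · rw [Finset.mem_singleton.1 h, dT]
  · rw [key _ {Cfsg.Agent.H68.sStI F} fun χ => ⟨fun hd => ?_, fun h => ?_⟩, Finset.card_singleton]
    · rcases hcases χ with ⟨-, e⟩ | ⟨h, -⟩ | ⟨-, e⟩ | ⟨-, e⟩
      case inr.inl => exact Finset.mem_singleton.2 h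
      all_goals (have := Nat.cast_injective (hd.symm.trans e); omega)
    · rw [Finset.mem_singleton.1 h, dS]
  · rw [key _ (Cfsg.Agent.H68.sPSSet F) fun χ => ⟨fun hd => ?_, fun h => ?_⟩]
    · omega
    · rcases hcases χ with ⟨-, e⟩ | ⟨-, e⟩ | ⟨h, -⟩ | ⟨-, e⟩
      case inr.inr.inl => exact h
      all_goals (have := Nat.cast_injective (hd.symm.trans e); omega)
    · obtain ⟨α, -, e⟩ := Cfsg.Agent.H68.mem_sPSSet.1 h
      rw [e, Cfsg.Agent.H68.sPS_one, ← c1]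
  · rw [key _ C fun χ => ⟨fun hd => ?_, fun h => (hCall χ h).1⟩]
    · omega
    · rcases hcases χ with ⟨-, e⟩ | ⟨-, e⟩ | ⟨-, e⟩ | ⟨h, -⟩
      case inr.inr.inr => exact h
      all_goals (have := Nat.cast_injective (hd.symm.trans e); omega)

end Cfsg.Agent.S2300
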