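import Cfsg.Statements.S0943
import Cfsg.Agent.H41.CentralAlg

set_option autoImplicit false
open Cfsg

namespace Cfsg.Agent.S0943

/-- Let χ be an irreducible character of the finite group G and u, v ∈ G. If χ (x * y) = χ (u * v) whenever x is conjugate to u and y is conjugate to v, then χ u * χ v = χ 1 * χ (u * v). (Multiply the class sums of u and v and apply the central character of χ.) -/
theorem result {G : Type*} [Group G] [Finite G] (χ : Cfsg.IrrCharacter G) (u v : G) (hc : ∀ x y : G, IsConj u x → IsConj v y → (χ : G → ℂ) (x * y) = (χ : G → ℂ) (u * v)) : (χ : G → ℂ) u * (χ : G → ℂ) v = (χ : G → ℂ) 1 * (χ : G → ℂ) (u * v) := by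
  classical
  have := Fintype.ofFinite G
  let z : H41.groupAlgCenter ℂ G := H41.classSumZ ℂ u * H41.classSumZ ℂ v
  have key : ∀ w : G, (z : MonoidAlgebra ℂ G).coeff w * (χ : G → ℂ) w =
      (z : MonoidAlgebra ℂ G).coeff w * (χ : G → ℂ) (u * v) := by
    intro w
    by_cases h : (z : MonoidAlgebra ℂ G).coeff w = 0
    · rw [h, zero_mul, zero_mul]
    · rw [show (z : MonoidAlgebra ℂ G) = H40.classSum ℂ u * H40.classSum ℂ v from rfl,
        H40.coeff_classSum_mul_classSum, Nat.cast_eq_zero] at h
      obtain ⟨⟨⟨x, y⟩, hx, hy, rfl⟩⟩ := (Nat.card_ne_zero.1 h).1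
      rw [hc x y hx hy]
  have h1 : H41.omega (H26.oneIrr G) z = ((Subgroup.centralizer ({u} : Set G)).index : ℂ) *
      ((Subgroup.centralizer ({v} : Set G)).index : ℂ) := by
    rw [map_mul, H41.omega_classSumZ, H41.omega_classSumZ]
    simp [centralChar, H26.oneIrr_val]
  have h2 : H41.omega χ z =
      H41.omega (H26.oneIrr G) z * (χ : G → ℂ) (u * v) / (χ : G → ℂ) 1 := by
    rw [H41.omega_apply, H41.omega_apply, Finset.sum_congr rfl fun w _ => key w, ← Finset.sum_mul]
    simp [H26.oneIrr_val]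
  rw [h1, map_mul, H41.omega_classSumZ, H41.omega_classSumZ, centralChar, centralChar] at h2
  have hχ := H26.irr_one_ne_zero χ
  have hu : ((Subgroup.centralizer ({u} : Set G)).index : ℂ) ≠ 0 :=
    Nat.cast_ne_zero.2 Subgroup.index_ne_zero_of_finite
  have hv : ((Subgroup.centralizer ({v} : Set G)).index : ℂ) ≠ 0 :=
    Nat.cast_ne_zero.2 Subgroup.index_ne_zero_of_finite
  field_simp at h2
  exact h2

end Cfsg.Agent.S0943
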