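import Cfsg.Statements.S0944
import Cfsg.Agent.H25.CharValues

set_option autoImplicit false
open Cfsg

namespace Cfsg.Agent.S0944

/-- Let χ be an irreducible character of the finite group G and u an involution. Then χ u is a rational integer n with n ≡ χ 1 (mod 2). -/
theorem result {G : Type*} [Group G] [Finite G] (χ : Cfsg.IrrCharacter G) (u : G) (hu : orderOf u = 2) : ∃ n : ℤ, (χ : G → ℂ) u = (n : ℂ) ∧ (2 : ℤ) ∣ (Cfsg.charDegree (χ : G → ℂ) : ℤ) - n := by
  obtain ⟨n, ρ, -, hρ⟩ := χ.2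
  obtain ⟨μ, hμ, hu'⟩ := H25.exists_char_eq_sum_roots ρ u
  rw [hu] at hμ
  have hsign : ∀ i, ∃ s : ℤ, μ i = (s : ℂ) ∧ (2 : ℤ) ∣ 1 - s := fun i => by
    rcases sq_eq_one_iff.1 (hμ i) with h | h
    · exact ⟨1, by simp [h], by simp⟩
    · exact ⟨-1, by simp [h], by norm_num⟩
  choose s hs hs2 using hsign
  refine ⟨∑ i, s i, by rw [← hρ, hu', Int.cast_sum]; simp only [hs], ?_⟩
  have hdeg : charDegree (χ : G → ℂ) = Module.finrank ℂ (Fin n → ℂ) := by
    rw [charDegree, ← hρ, Representation.char_one, Complex.natCast_re, Nat.floor_natCast]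
  rw [hdeg]
  have := Finset.dvd_sum (s := Finset.univ) fun i _ => hs2 i
  rw [Finset.sum_sub_distrib] at this
  simpa using this

end Cfsg.Agent.S0944
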