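import Cfsg.Statements.S1001
import Cfsg.Agent.S0904
import Cfsg.Agent.H25.Burnside
-- import your own Cfsg.Agent.* helpers here

set_option autoImplicit false
open Cfsg

namespace Cfsg.Agent.S1001

/-- In a finite simple group whose order has the form p * 3^a * 2^b with p prime, the centralizer of any element of order p is the cyclic group it generates. -/
theorem result {G : Type*} [Group G] [Finite G] [IsSimpleGroup G] (p a b : ℕ) (hp : p.Prime) (hG : Nat.card G = p * 3 ^ a * 2 ^ b) (x : G) (hx : orderOf x = p) : Subgroup.centralizer ({x} : Set G) = Subgroup.zpowers x := by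
  have : Fact p.Prime := ⟨hp⟩
  by_cases hsmall : p = 2 ∨ p = 3
  · obtain ⟨c, d, hcd⟩ : ∃ c d, Nat.card G = 2 ^ c * 3 ^ d := by
      rcases hsmall with rfl | rfl
      · exact ⟨b + 1, a, by rw [hG]; ring⟩
      · exact ⟨b, a + 1, by rw [hG]; ring⟩
    have hsol := H25.isSolvable_of_card_eq_mul_pow Nat.prime_two Nat.prime_three hcd
    let _ : CommGroup G := { (inferInstance : Group G) with
      mul_comm := IsSimpleGroup.comm_iff_isSolvable.2 hsol }
    have hprime : (Nat.card G).Prime := IsSimpleGroup.prime_card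
    have hcard : Nat.card G = p := ((Nat.prime_dvd_prime_iff_eq hp hprime).1
      (hx ▸ orderOf_dvd_natCard x)).symm
    have htop : Subgroup.zpowers x = ⊤ := Subgroup.eq_top_of_card_eq _ (by
      rw [Nat.card_zpowers, hx, hcard])
    rw [htop, eq_top_iff]
    exact fun g _ => Subgroup.mem_centralizer_singleton_iff.2 (mul_comm g x)
  simp only [not_or] at hsmall
  have hP : IsPGroup p (Subgroup.zpowers x) := IsPGroup.of_card (n := 1) (by
    rw [Nat.card_zpowers, hx, pow_one])
  obtain ⟨S, hS⟩ := hP.exists_le_sylow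
  have hf : (Nat.card G).factorization p = 1 := by
    rw [hG, mul_assoc, Nat.factorization_mul hp.ne_zero
      (mul_ne_zero (pow_ne_zero _ (by norm_num)) (pow_ne_zero _ (by norm_num))), Finsupp.add_apply,
      hp.factorization_self, Nat.factorization_eq_zero_of_not_dvd]
    intro hd
    rcases hp.dvd_mul.1 hd with h | h
    · exact hsmall.2 ((Nat.prime_dvd_prime_iff_eq hp Nat.prime_three).1 (hp.dvd_of_dvd_pow h))
    · exact hsmall.1 ((Nat.prime_dvd_prime_iff_eq hp Nat.prime_two).1 (hp.dvd_of_dvd_pow h))
  have hSx : Subgroup.zpowers x = (S : Subgroup G) := Subgroup.eq_of_le_of_card_ge hS (by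
    rw [S.card_eq_multiplicity, hf, pow_one, Nat.card_zpowers, hx])
  have h := S0904.result 3 2 p a b Nat.prime_three Nat.prime_two (by norm_num) (Ne.symm hsmall.2)
    (Ne.symm hsmall.1) (by rw [hG]; ring) S
  rw [← Subgroup.centralizer_closure, ← Subgroup.zpowers_eq_closure, hSx]
  exact h

end Cfsg.Agent.S1001
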