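import Cfsg.Statements.S0514
import Cfsg.Agent.H29.TwoTransfer

set_option autoImplicit false
open Cfsg

namespace Cfsg.Agent.S0514

open scoped Pointwise

/-- In a finite group whose Sylow 2-subgroups are dihedral of order at least 4, the centralizer of any involution has a
normal subgroup of odd order whose index in the centralizer is a power of 2. -/
theorem result {X : Type*} [Group X] [Finite X]
    (S : Sylow 2 X) (n : ℕ) (hn : 2 ≤ n) (hS : Nonempty ((S : Subgroup X) ≃* DihedralGroup n)) (t : X)
    (ht : orderOf t = 2) :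
    ∃ N : Subgroup (Subgroup.centralizer ({t} : Set X)), N.Normal ∧ Odd (Nat.card N) ∧ ∃ k : ℕ, N.index = 2 ^ k := by
  classical
  have hn0 : NeZero n := ⟨by omega⟩
  set C : Subgroup X := Subgroup.centralizer ({t} : Set X) with hC
  have htC : t ∈ C := Subgroup.mem_centralizer_singleton_iff.mpr rfl
  set t' : C := ⟨t, htC⟩ with ht'def
  have ht' : orderOf t' = 2 := by rw [← Subgroup.orderOf_coe]; exact ht
  have htZ : ∀ g : C, g * t' = t' * g := fun g => Subtype.ext (by
    have := Subgroup.mem_centralizer_singleton_iff.mp g.2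
    first | exact this | exact this.symm)
  obtain ⟨T⟩ : Nonempty (Sylow 2 C) := inferInstance
  have htT : t' ∈ (T : Subgroup C) := by
    obtain ⟨T', hT'⟩ := IsPGroup.exists_le_sylow (G := C) (p := 2)
      (P := Subgroup.zpowers t')
      (IsPGroup.of_card (n := 1) (by rw [Nat.card_zpowers, ht', pow_one]))
    obtain ⟨g, hg⟩ := MulAction.exists_smul_eq C T' T
    rw [← hg, Sylow.smul_def]
    have h := Subgroup.smul_mem_pointwise_smul _ (MulAut.conj g) _
      (hT' (Subgroup.mem_zpowers t'))
    rwa [MulAut.smul_def, MulAut.conj_apply, htZ g, mul_inv_cancel_right] at h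
  -- embed `T` into the dihedral group
  obtain ⟨ψ, hψ⟩ : ∃ ψ : ↥(T : Subgroup C) →* DihedralGroup n, Function.Injective ψ := by
    obtain ⟨e⟩ := hS
    obtain ⟨P, hP⟩ := IsPGroup.exists_le_sylow (T.isPGroup'.map C.subtype)
    obtain ⟨g, hg⟩ := MulAction.exists_smul_eq X P S
    have hmem : ∀ x : ↥(T : Subgroup C), g * ((x : C) : X) * g⁻¹ ∈ (S : Subgroup X) := fun x => by
      rw [← hg, Sylow.smul_def]
      exact Subgroup.smul_mem_pointwise_smul _ (MulAut.conj g) _
        (hP (Subgroup.mem_map_of_mem C.subtype x.2))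
    let f : ↥(T : Subgroup C) →* ↥(S : Subgroup X) :=
      MonoidHom.mk' (fun x => ⟨g * ((x : C) : X) * g⁻¹, hmem x⟩)
        (fun a b => Subtype.ext (by simp [mul_assoc]))
    refine ⟨e.toMonoidHom.comp f, e.injective.comp ?_⟩
    intro a b (h : f a = f b)
    have h' : g * ((a : C) : X) * g⁻¹ = g * ((b : C) : X) * g⁻¹ := congrArg Subtype.val h
    exact Subtype.ext (Subtype.ext (by simpa using h'))
  -- the rotations
  let R : Subgroup (DihedralGroup n) := Subgroup.zpowers (DihedralGroup.r 1)
  have hrot : ∀ i, DihedralGroup.r i ∈ R := fun i =>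
    ⟨(i.val : ℤ), by simp⟩
  have hRi : R.index = 2 := by
    have h := Subgroup.card_mul_index R
    rw [Nat.card_zpowers, DihedralGroup.orderOf_r_one, Nat.card_eq_fintype_card,
      DihedralGroup.card] at h
    exact Nat.eq_of_mul_eq_mul_left (by omega : 0 < n) (by omega)
  have hsr : ∀ y : DihedralGroup n, y ∉ R → ∃ i, y = DihedralGroup.sr i := by
    intro y hy
    cases y with
    | r i => exact absurd (hrot i) hy
    | sr i => exact ⟨i, rfl⟩
  let A₀ : Subgroup ↥(T : Subgroup C) := R.comap ψ
  have hA₀c : IsCyclic A₀ :=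
    isCyclic_of_injective ((ψ.domRestrict A₀).codRestrict R (fun x => x.2))
      (fun a b h => Subtype.ext (hψ (congrArg Subtype.val h)))
  have hA₀i : A₀.index = 1 ∨ A₀.index = 2 := by
    have hRn : R.Normal := Subgroup.normal_of_index_eq_two hRi
    have h : A₀.index ∣ 2 := by
      rw [Subgroup.index_comap]
      exact (Subgroup.relIndex_dvd_index_of_normal R ψ.range).trans hRi.dvd
    exact (Nat.dvd_prime Nat.prime_two).mp h
  -- treat the different cases
  have main : ∀ A₁ : Subgroup ↥(T : Subgroup C), IsCyclic A₁ → (A₁.index = 1 ∨ A₁.index = 2) →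
      ⟨t', htT⟩ ∈ A₁ → (∀ x, x ∉ A₁ → x ^ 2 = 1) →
      ∃ N : Subgroup C, N.Normal ∧ Odd (Nat.card N) ∧ ∃ k : ℕ, N.index = 2 ^ k := by
    intro A₁ hc hi htA hout
    rcases hi with hi | hi
    · rw [Subgroup.index_eq_one] at hi
      subst hi
      exact Cfsg.Agent.H29.exists_normal_two_complement_of_cyclic T
        (isCyclic_of_surjective _ Subgroup.topEquiv.surjective)
    · refine Cfsg.Agent.H29.exists_normal_two_complement_of_dihedral_type T
        (A₁.map (T : Subgroup C).subtype) (Subgroup.map_subtype_le A₁) ?_ ?_ t' ht'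
        ⟨⟨t', htT⟩, htA, rfl⟩ htZ ?_
      · exact isCyclic_of_surjective _
          (A₁.equivMapOfInjective _ (T : Subgroup C).subtype_injective).surjective
      · rw [Subgroup.relIndex, Subgroup.subgroupOf,
          Subgroup.comap_map_eq_self_of_injective (T : Subgroup C).subtype_injective, hi]
      · intro s hs hsA
        have := hout ⟨s, hs⟩ (fun h => hsA ⟨⟨s, hs⟩, h, rfl⟩)
        exact congrArg Subtype.val this
  by_cases htA : (⟨t', htT⟩ : ↥(T : Subgroup C)) ∈ A₀
  · refine main A₀ hA₀c hA₀i htA (fun x hx => ?_)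
    obtain ⟨i, hi⟩ := hsr (ψ x) hx
    apply hψ
    rw [map_pow, map_one, hi, pow_two, DihedralGroup.sr_mul_self]
  · -- `t` acts as a reflection: everything squares to one
    obtain ⟨i, hi⟩ := hsr _ htA
    have hsq : ∀ x : ↥(T : Subgroup C), x ^ 2 = 1 := by
      intro x
      apply hψ
      rw [map_pow, map_one]
      rcases hy : ψ x with j | j
      · have hcomm : ψ x * ψ ⟨t', htT⟩ = ψ ⟨t', htT⟩ * ψ x := by
          rw [← map_mul, ← map_mul]
          exact congrArg ψ (Subtype.ext (htZ (x : C)))
        rw [hi, hy, DihedralGroup.r_mul_sr, DihedralGroup.sr_mul_r,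
          DihedralGroup.sr.injEq] at hcomm
        rw [pow_two, DihedralGroup.r_mul_r, DihedralGroup.one_def, DihedralGroup.r.injEq]
        linear_combination -hcomm
      · rw [pow_two, DihedralGroup.sr_mul_self]
    refine main (Subgroup.zpowers ⟨t', htT⟩) inferInstance ?_ (Subgroup.mem_zpowers _)
      (fun x _ => hsq x)
    have hA₀2 : Nat.card A₀ ≤ 2 := by
      let : Fintype A₀ := Fintype.ofFinite _
      have h := IsCyclic.card_pow_eq_one_le (α := A₀) (n := 2) (by norm_num)
      have heq : (Finset.univ : Finset A₀).filter (fun a : A₀ => a ^ 2 = 1) = Finset.univ :=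
        Finset.filter_true_of_mem (fun a _ => Subtype.ext (hsq a))
      rw [heq, Finset.card_univ, ← Nat.card_eq_fintype_card] at h
      exact h
    have h1 := Subgroup.card_mul_index A₀
    have h2 := Subgroup.card_mul_index (Subgroup.zpowers (⟨t', htT⟩ : ↥(T : Subgroup C)))
    have h3 : Nat.card (Subgroup.zpowers (⟨t', htT⟩ : ↥(T : Subgroup C))) = 2 := by
      rw [Nat.card_zpowers, ← Subgroup.orderOf_coe]
      exact ht'
    have h5 : 0 < Nat.card ↥(T : Subgroup C) := Nat.card_pos
    have h4 : Nat.card A₀ * A₀.index ≤ 2 * 2 :=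
      Nat.mul_le_mul hA₀2 (by omega)
    rw [h3] at h2
    omega

end Cfsg.Agent.S0514
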