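import Cfsg.Statements.S0508
import Cfsg.Agent.H77.BSW.Minus
import Cfsg.Agent.H77.BSW.Small
import Cfsg.Agent.H77.BSW.ToPSL
import Cfsg.Agent.H77.BSW.Dihedral

set_option autoImplicit false
open Cfsg

namespace Cfsg.Agent.S0508

/-- Let G be a finite simple group with a dihedral Sylow 2-subgroup S (of order at least 4), t an involution in the
centre of S, C the centralizer of t and O the core of C (its largest normal subgroup of odd order). Suppose that: if O
is nontrivial then the centralizer of O in S is cyclic of index 2 in S; every element of S not centralizing O inverts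
every element of O; and the normalizer of every nontrivial subgroup of O lies in C. Then G is isomorphic to a projective
special linear group of dimension 2 over a field of odd order. -/
theorem result {G : Type*} [Group G] [Finite G] [IsSimpleGroup G] (S : Sylow 2 G) (n : ℕ)
    (hn : 2 ≤ n) (hS : Nonempty ((S : Subgroup G) ≃* DihedralGroup n)) (t : G) (ht : orderOf t = 2)
    (htS : t ∈ (S : Subgroup G))
    (htZ : ∀ s ∈ (S : Subgroup G), s * t = t * s) (O : Subgroup G)
    (hO : O = (Cfsg.oddCore (Subgroup.centralizer ({t} : Set G))).map (Subgroup.centralizer ({t} : Set G)).subtype)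
    (ha : O ≠ ⊥ → IsCyclic ((S : Subgroup G) ⊓ Subgroup.centralizer (O : Set G) : Subgroup G) ∧
      ((S : Subgroup G) ⊓ Subgroup.centralizer (O : Set G)).relIndex (S : Subgroup G) = 2)
    (hb : ∀ s ∈ (S : Subgroup G), s ∉ Subgroup.centralizer (O : Set G) → ∀ y ∈ O, s * y * s⁻¹ = y⁻¹)
    (hc : ∀ Y : Subgroup G, Y ≤ O → Y ≠ ⊥ → Subgroup.normalizer (Y : Set G) ≤ Subgroup.centralizer ({t} : Set G)) :
    ∃ (F : Type) (_ : Field F) (_ : Fintype F), Odd (Fintype.card F) ∧ Nonempty (G ≃* Matrix.ProjectiveSpecialLinearGroup (Fin 2) F) := by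
  haveI : Fintype G := Fintype.ofFinite G
  obtain ⟨e⟩ := hS
  obtain ⟨K, s, d⟩ := H77.exists_bsw_of_dihedral S n hn e t ht htS htZ O hO ha hb hc
  obtain ⟨c, hc'⟩ := d.two_dvd
  have h0 : 0 < Nat.card K := Nat.card_pos
  have hconcl : H77.BSWConcl G := by
    rcases (show Nat.card K = 2 ∨ 4 ≤ Nat.card K by omega) with h2 | h4
    · exact d.concl_small h2
    obtain ⟨ε, he, hN, hnum⟩ := d.numbers (by omega)
    rcases he with rfl | rfl
    · refine d.concl_plus h4 (by linear_combination hN) fun x hx => ?_
      obtain ⟨k, hk, hb'⟩ := hnum x hx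
      exact ⟨k, by linarith, hb'⟩
    · refine d.concl_minus h4 (by linear_combination hN) fun x hx => ?_
      obtain ⟨k, hk, hb'⟩ := hnum x hx
      exact ⟨k, by linarith, hb'⟩
  refine H77.exists_psl_of_concl hconcl (fun a b ha' hb' => (d.conj_t a ha').symm.trans (d.conj_t b hb'))
    fun hcomm => ?_
  obtain ⟨g, hg⟩ := isConj_iff.1 (d.conj_t s d.s_order)
  rw [hcomm g t, mul_inv_cancel_right] at hg
  exact d.s_notMem (hg ▸ d.t_mem)

end Cfsg.Agent.S0508
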