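import Cfsg.Statements.S0854
import Cfsg.Agent.H56.CliffordInertia
-- import your own Cfsg.Agent.* helpers here

set_option autoImplicit false
open Cfsg

open scoped ComplexConjugate

namespace Cfsg.Agent.S0854

/-- Let H be a normal subgroup of the finite group G, ϑ an irreducible character of H, and T the inertia group of ϑ (the elements g with ϑ(g n g⁻¹) = ϑ(n) for all n in H). If χ is an irreducible character of G whose restriction to H has nonzero inner product with ϑ, then χ is induced from some irreducible character ψ of T, and the restrictions of ψ and of χ to H have the same inner product with ϑ. -/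
theorem result {G : Type*} [Group G] [Fintype G] (H : Subgroup G) [hN : H.Normal] [Fintype H] (ϑ : H → ℂ) (hϑ : Cfsg.IsIrrCharacter H ϑ) (T : Subgroup G) [Fintype T] (hT : ∀ g : G, g ∈ T ↔ ∀ n : H, ϑ ⟨g * n * g⁻¹, hN.conj_mem (n : G) n.2 g⟩ = ϑ n) (hHT : H ≤ T) (χ : G → ℂ) (hχ : Cfsg.IsIrrCharacter G χ) (hcon : Cfsg.classInner (fun n : H => χ n) ϑ ≠ 0) : ∃ ψ : T → ℂ, Cfsg.IsIrrCharacter T ψ ∧ Cfsg.indFun T ψ = χ ∧ Cfsg.classInner (fun n : H => ψ ⟨(n : G), hHT n.2⟩) ϑ = Cfsg.classInner (fun n : H => χ n) ϑ := by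
  classical
  haveI := Fintype.ofFinite (H.subgroupOf T)
  have hT' : ∀ g : G, g ∈ T ↔ H56.twist H ϑ g = ϑ := fun g =>
    (hT g).trans ⟨fun h => funext h, fun h k => congrFun h k⟩
  let eH := Subgroup.subgroupOfEquivOfLe hHT
  have htr : ∀ f : T → ℂ, Cfsg.classInner (fun n : H.subgroupOf T => f n) (H56.resT H T ϑ) =
      Cfsg.classInner (fun n : H => f ⟨(n : G), hHT n.2⟩) ϑ := by
    intro f
    simp only [Cfsg.classInner, H56.resT]
    rw [Nat.card_congr eH.toEquiv]
    congr 1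
    exact Equiv.sum_comp eH.toEquiv (fun n : H => f ⟨(n : G), hHT n.2⟩ * conj (ϑ n))
  have hχc := H26.isCharacter_of_irr hχ
  obtain ⟨c, hc, hce⟩ := H26.exists_nat_coeffs (H26.isCharacter_comp hχc T.subtype)
  set k : Cfsg.IrrCharacter T → ℂ := fun ψ => Cfsg.classInner (fun n : H => ψ.1 ⟨(n : G), hHT n.2⟩) ϑ
  have hsum : Cfsg.classInner (fun n : H => χ n) ϑ =
      ∑ ψ : Cfsg.IrrCharacter T, (c ψ : ℂ) * k ψ := by
    have e : (fun n : H => χ n) = ∑ ψ : Cfsg.IrrCharacter T,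
        (c ψ : ℂ) • (fun n : H => ψ.1 ⟨(n : G), hHT n.2⟩) := funext fun n => by
      have h := congrFun hce ⟨(n : G), hHT n.2⟩
      simpa [Finset.sum_apply] using h
    rw [e, H26.classInner_sum_left]
    simp only [H26.classInner_smul_left, k]
  have hgood : ∀ ψ : Cfsg.IrrCharacter T, (c ψ : ℂ) * k ψ ≠ 0 →
      Cfsg.indFun T ψ.1 = χ ∧ c ψ = 1 ∧
        Cfsg.classInner (fun n : H.subgroupOf T => ψ.1 n) (H56.resT H T ϑ) ≠ 0 := by
    intro ψ hψ
    have hk : Cfsg.classInner (fun n : H.subgroupOf T => ψ.1 n) (H56.resT H T ϑ) ≠ 0 := by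
      rw [htr]; exact right_ne_zero_of_mul hψ
    have hirr := (H56.clifford_induced H T hϑ hT' ψ.2 hk).1
    have hrec : Cfsg.classInner (Cfsg.indFun T ψ.1) χ = c ψ := by
      rw [H25.classInner_indFun_left T ψ.1 χ (H26.isClassFunction_of_isCharacter hχc),
        H26.classInner_comm]
      refine (congrArg conj (hc ψ)).trans (Complex.conj_natCast _)
    have heq : Cfsg.indFun T ψ.1 = χ := by
      by_contra hne
      rw [H57.irr_inner_ne hirr hχ hne] at hrec
      exact left_ne_zero_of_mul hψ hrec.symm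
    rw [heq, H57.irr_inner_self hχ] at hrec
    exact ⟨heq, by exact_mod_cast hrec.symm, hk⟩
  obtain ⟨ψ, -, hψ⟩ := Finset.exists_ne_zero_of_sum_ne_zero (hsum ▸ hcon)
  obtain ⟨heq, hc1, hk⟩ := hgood ψ hψ
  refine ⟨ψ.1, ψ.2, heq, ?_⟩
  rw [hsum, Finset.sum_eq_single ψ (fun φ _ hne => ?_) (by simp), hc1, Nat.cast_one, one_mul]
  by_contra hφ
  obtain ⟨heq', -, hk'⟩ := hgood φ hφ
  exact hne (Subtype.ext ((H56.clifford_induced H T hϑ hT' φ.2 hk').2 ψ.1 ψ.2 hk (heq'.trans heq.symm)))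

end Cfsg.Agent.S0854
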