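import Cfsg.Statements.S3333
import Cfsg.Agent.H29.DihNineSix
-- import your own Cfsg.Agent.* helpers here

set_option autoImplicit false
open Cfsg

namespace Cfsg.Agent.S3333

/-- Let G be a finite group with a Sylow 3-subgroup S of order 9 that is its own centralizer, with N_G(S)/S dihedral of order 8, and such that C_G(x) ≤ N_G(S) for every non-identity x in S. Then S is normal in G or G is isomorphic to the symmetric group of degree 6. -/
theorem result {G : Type*} [Group G] [Finite G]
    (P : Sylow 3 G) (S : Subgroup G) (hSP : S = P) (hcard : Nat.card S = 9)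
    (hC : Subgroup.centralizer (S : Set G) = S)
    (eN : Subgroup.normalizer (S : Set G) ⧸ S.subgroupOf (Subgroup.normalizer (S : Set G)) ≃* DihedralGroup 4)
    (hcent : ∀ x ∈ S, x ≠ 1 → Subgroup.centralizer ({x} : Set G) ≤ Subgroup.normalizer (S : Set G)) :
    S.Normal ∨ Nonempty (G ≃* Equiv.Perm (Fin 6)) := by
  subst hSP
  have he := Cfsg.Agent.H29.DihNineSix.exponent_three hcard hC eN
  obtain ⟨φ, hφ⟩ := Cfsg.Agent.H29.DihNine.exists_coords P hcard he hC
    (Cfsg.Agent.H29.DihNineSix.sylow_two_normalizer hcard Subgroup.le_normalizer eN)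
  have hcomm : ∀ a ∈ (P : Subgroup G), ∀ b ∈ (P : Subgroup G), a * b = b * a := fun a ha b hb => by
    have : a ∈ Subgroup.centralizer ((P : Subgroup G) : Set G) := hC.symm ▸ ha
    exact (Subgroup.mem_centralizer_iff.1 this b hb).symm
  exact Cfsg.Agent.H29.DihNineSix.normal_or_sym_six hφ ⟨hcomm, he, ⟨P, rfl⟩, hcent⟩ hcard hC

end Cfsg.Agent.S3333
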