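import Cfsg.Statements.S2999
import Cfsg.Agent.H34.MinOffender.SL2
import Cfsg.Agent.H74.PMinimalBasic

set_option autoImplicit false
open Cfsg

namespace Cfsg.Agent.S2999

/-- Let p be a prime and let P and V be subgroups of a finite group with V elementary abelian, P normalizing V and acting faithfully on it (P ∩ C(V) = 1). Suppose P is p-minimal (a Sylow p-subgroup T of P is not normal and lies in a unique maximal subgroup M of P) and A ≤ T is an elementary abelian subgroup such that: |V/C_V(A)| ≤ |A| while |A₀|·|C_V(A₀)| < |A|·|C_V(A)| for every nontrivial proper subgroup A₀ of A; [C_V(T), P] ≠ 1; and P = ⟨A, xAx⁻¹⟩ for every x ∈ P outside M. Then, with q = |A|, there is a field F with q elements such that P ≅ SL₂(F), C_V(A) = [V, A]·C_V(P), and P acts on V/C_V(P) as SL₂(F) on its natural two-dimensional module. -/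
theorem result {G : Type*} [Group G] [Finite G] {p : ℕ} [Fact p.Prime] (V P : Subgroup G) (hV : Cfsg.IsElementaryAbelian p V) (hPV : P ≤ Subgroup.normalizer (V : Set G)) (hfaith : P ⊓ Subgroup.centralizer (V : Set G) = ⊥) (hmin : Cfsg.IsPMinimal p ↥P) (T : Sylow p ↥P) (M : Subgroup ↥P) (hM : IsCoatom M) (hTM : (T : Subgroup ↥P) ≤ M) (A : Subgroup G) (hAT : A ≤ ((T : Subgroup ↥P).map P.subtype)) (hAel : Cfsg.IsElementaryAbelian p A) (hi : Nat.card ↥V ≤ Nat.card ↥A * Nat.card ↥(V ⊓ Subgroup.centralizer ((A : Subgroup G) : Set G)) ∧ ∀ A₀ : Subgroup G, A₀ ≤ A → A₀ ≠ ⊥ → A₀ ≠ A → Nat.card ↥A₀ * Nat.card ↥(V ⊓ Subgroup.centralizer ((A₀ : Subgroup G) : Set G)) < Nat.card ↥A * Nat.card ↥(V ⊓ Subgroup.centralizer ((A : Subgroup G) : Set G))) (hii : ⁅(V ⊓ Subgroup.centralizer ((((T : Subgroup ↥P).map P.subtype) : Subgroup G) : Set G)), P⁆ ≠ ⊥) (hiii : ∀ x : ↥P, x ∉ M → A ⊔ A.map (MulAut.conj (x : G)).toMonoidHom = P) : ∃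 (F : Type) (_ : Field F) (_ : Fintype F), Fintype.card F = Nat.card ↥A ∧ Nonempty (↥P ≃* Matrix.SpecialLinearGroup (Fin 2) F) ∧ (V ⊓ Subgroup.centralizer ((A : Subgroup G) : Set G)) = ⁅V, A⁆ ⊔ (V ⊓ Subgroup.centralizer ((P : Subgroup G) : Set G)) ∧ Cfsg.ActsAsSL2OnSection F ⊤ P V (V ⊓ Subgroup.centralizer ((P : Subgroup G) : Set G)) := by
  classical
  set T' : Subgroup G := (T : Subgroup ↥P).map P.subtype
  set M' : Subgroup G := M.map P.subtype
  have hmem : ∀ {H : Subgroup ↥P} {g : ↥P}, (g : G) ∈ H.map P.subtype ↔ g ∈ H := fun {H g} =>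
    Subgroup.mem_map_iff_mem P.subtype_injective
  have hsylM : ∀ b ∈ M', b ^ p = 1 → ∃ h ∈ M', h⁻¹ * b * h ∈ T' := by
    rintro _ ⟨b, hb, rfl⟩ hbp
    have hbP : b ^ p = 1 := Subtype.ext (by simpa using hbp)
    let T₁ : Sylow p ↥M := T.subtype hTM
    have hb1 : IsPGroup p (Subgroup.zpowers (⟨b, hb⟩ : ↥M)) := by
      rintro ⟨_, n, rfl⟩
      refine ⟨1, Subtype.ext ?_⟩
      show ((⟨b, hb⟩ : ↥M) ^ n) ^ p ^ 1 = 1
      rw [pow_one, ← zpow_natCast, ← zpow_mul, mul_comm, zpow_mul, zpow_natCast,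
        show (⟨b, hb⟩ : ↥M) ^ p = 1 from Subtype.ext hbP, one_zpow]
    obtain ⟨Q, hQ⟩ := hb1.exists_le_sylow
    obtain ⟨m, hm⟩ := MulAction.exists_smul_eq ↥M T₁ Q
    have : (⟨b, hb⟩ : ↥M) ∈ m • T₁ := by rw [hm]; exact hQ (Subgroup.mem_zpowers _)
    obtain ⟨t, ht, e⟩ := this
    refine ⟨(m : ↥P), hmem.2 m.2, ?_⟩
    have ht' : (((t : ↥M) : ↥P) : G) ∈ T' := hmem.2 ht
    have e' : ((m : ↥P) : G) * (((t : ↥M) : ↥P) : G) * ((m : ↥P) : G)⁻¹ = (b : G) := by
      rw [← show ((((⟨b, hb⟩ : ↥M)) : ↥P) : G) = (b : G) from rfl, ← e]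
      rfl
    show ((m : ↥P) : G)⁻¹ * (b : G) * ((m : ↥P) : G) ∈ T'
    rw [← e']
    simpa [mul_assoc] using ht'
  have hB : Cfsg.Agent.H34.MinOffender.Base p V P T' M' A := {
    comm := fun a ha b hb => congrArg Subtype.val (hV.1.is_comm.comm ⟨a, ha⟩ ⟨b, hb⟩)
    expV := hV.2
    hPV := hPV
    faith := hfaith
    hAT := hAT
    hTM := Subgroup.map_mono hTM
    hMP := Subgroup.map_subtype_le M
    proper := by
      obtain ⟨x, -, hx⟩ := SetLike.exists_of_lt (hM.1.lt_top)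
      exact ⟨x, x.2, fun h => hx (hmem.1 h)⟩
    commA := fun a ha b hb => congrArg Subtype.val (hAel.1.is_comm.comm ⟨a, ha⟩ ⟨b, hb⟩)
    expA := hAel.2
    gen := fun x hx hxM => hiii ⟨x, hx⟩ (fun h => hxM (hmem.2 h))
    large := hi.1
    strict := hi.2
    fixed := by
      by_contra hcon
      push Not at hcon
      exact hii (Subgroup.commutator_eq_bot_iff_le_centralizer.2 fun z hz => hcon z hz.1 hz.2)
    sylM := fun a ha _ x _ hb => hsylM _ hb (by
      have : (MulAut.conj x⁻¹) (a ^ p) = ((MulAut.conj x⁻¹) a) ^ p := map_pow _ _ _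
      rw [hAel.2 a ha, map_one] at this
      simpa using this.symm)
    core := by
      intro a ha hall g hg
      obtain ⟨t, ht, rfl⟩ := hAT ha
      have hN : t ∈ M.normalCore := fun k => by
        by_cases hk : k⁻¹ ∈ M
        · simpa using M.mul_mem (M.mul_mem (M.inv_mem hk) (hTM ht)) hk
        · have := hall ((k⁻¹ : ↥P) : G) (k⁻¹).2 (fun h => hk (hmem.1 h))
          have e : ((k * t * k⁻¹ : ↥P) : G) =
              (((k⁻¹ : ↥P) : G))⁻¹ * (t : G) * ((k⁻¹ : ↥P) : G) := by simp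
          exact hmem.1 (by rw [e]; exact this)
      have hc := Cfsg.Agent.H74.pmin_subnormal_inf_le hmin hM hTM
        (Subgroup.normalCore_normal M).isSubnormal (Subgroup.normalCore_le M) ⟨hN, ht⟩
      have hc' := Cfsg.Agent.H74.pCore_normal.conj_mem _ hc ⟨g, hg⟩⁻¹
      have h := (hmem (H := (T : Subgroup ↥P))).2 (Cfsg.Agent.H74.pCore_le_sylow T hc')
      have e : g⁻¹ * (t : G) * g =
          (((⟨g, hg⟩ : ↥P)⁻¹ * t * (⟨g, hg⟩ : ↥P)⁻¹⁻¹ : ↥P) : G) := by simp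
      show g⁻¹ * (t : G) * g ∈ T'
      rw [e]; exact h }
  have hnormp : ∀ K ≤ P, (∀ g ∈ K, g ^ p = 1) → P ≤ Subgroup.normalizer (K : Set G) → K ≤ T' := by
    intro K hKP hexp hn k hk
    haveI : (K.subgroupOf P).Normal := ⟨fun x hx g => by
      rw [Subgroup.mem_subgroupOf] at hx ⊢
      exact (Subgroup.mem_normalizer_iff.1 (hn g.2) x).1 hx⟩
    have hp : IsPGroup p (K.subgroupOf P) := fun x => ⟨1, Subtype.ext (Subtype.ext (by
      simpa using hexp _ x.2))⟩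
    exact hmem.2 (hp.le_sylow_of_normal T (show (⟨k, hKP hk⟩ : ↥P) ∈ K.subgroupOf P from hk))
  obtain ⟨F, iF, iF', h1, h2, h3⟩ := hB.main hnormp
  exact ⟨F, iF, iF', h1, h2, hB.U_eq, h3⟩

end Cfsg.Agent.S2999
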