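import Cfsg.Statements.S0070
import Cfsg.Agent.H19.Cores
import Mathlib.GroupTheory.Frattini

set_option autoImplicit false
open Cfsg

namespace Cfsg.Agent.S0070

/-- The Fitting subgroup commutes with passing to the Frattini quotient: the Fitting subgroup of G modulo its Frattini subgroup is the image of the Fitting subgroup of G. -/
theorem result {G : Type*} [Group G] [Finite G] :
    Cfsg.fittingSubgroup (G ⧸ frattini G) = (Cfsg.fittingSubgroup G).map (QuotientGroup.mk' (frattini G)) := by
  refine le_antisymm ?_ ?_
  swap
  · have : Group.IsNilpotent (Cfsg.fittingSubgroup G) := H19.fitting_isNilpotent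
    exact H19.le_fitting ((H19.fitting_normal G).map _ (QuotientGroup.mk'_surjective _))
      (Group.nilpotent_of_surjective ((QuotientGroup.mk' (frattini G)).subgroupMap (Cfsg.fittingSubgroup G))
        (MonoidHom.subgroupMap_surjective _ _))
  set π := QuotientGroup.mk' (frattini G) with hπ
  have := H19.fitting_normal (G ⧸ frattini G)
  have : Group.IsNilpotent (Cfsg.fittingSubgroup (G ⧸ frattini G)) := H19.fitting_isNilpotent
  set L := (Cfsg.fittingSubgroup (G ⧸ frattini G)).comap π with hL
  suffices hnil : Group.IsNilpotent L by
    rw [← Subgroup.map_comap_eq_self_of_surjective (QuotientGroup.mk'_surjective (frattini G))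
      (Cfsg.fittingSubgroup (G ⧸ frattini G))]
    exact Subgroup.map_mono (H19.le_fitting inferInstance hnil)
  refine (Group.isNilpotent_of_finite_tfae.out 3 0 rfl rfl).mp fun p hp P => ?_
  let f := π.subgroupComap (Cfsg.fittingSubgroup (G ⧸ frattini G))
  have hf : Function.Surjective f :=
    π.subgroupComap_surjective_of_surjective _ (QuotientGroup.mk'_surjective _)
  let Q := P.mapSurjective hf
  have hQc := Sylow.characteristic_of_normal Q inferInstance
  set P' := (P : Subgroup L).map L.subtype with hP'
  have himg : P'.map π = (Q : Subgroup _).map (Cfsg.fittingSubgroup (G ⧸ frattini G)).subtype := by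
    rw [hP', Sylow.coe_mapSurjective, Subgroup.map_map, Subgroup.map_map]
    rfl
  have hnM : (P' ⊔ frattini G).Normal := by
    have h1 : ((P'.map π).comap π).Normal := by
      rw [himg]
      exact Subgroup.Normal.comap (ConjAct.normal_of_characteristic_of_normal) π
    rwa [Subgroup.comap_map_eq, hπ, QuotientGroup.ker_mk'] at h1
  set M := P' ⊔ frattini G
  have hPL : P' ≤ L := Subgroup.map_subtype_le _
  have hPM : P' ≤ M := le_sup_left
  have hML : M ≤ L := sup_le hPL (by
    intro x hx
    rw [hL, Subgroup.mem_comap, hπ, QuotientGroup.mk'_apply, (QuotientGroup.eq_one_iff x).mpr hx]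
    exact one_mem _)
  have hidx : ¬ p ∣ (P'.subgroupOf M).index := by
    intro hdvd
    refine P.not_dvd_index (hdvd.trans ?_)
    have h2 : P'.relIndex L = (P : Subgroup L).index := by
      rw [hP', Subgroup.relIndex, ← Subgroup.comap_subtype,
        Subgroup.comap_map_eq_self_of_injective L.subtype_injective]
    rw [← h2]
    exact Dvd.intro _ (Subgroup.relIndex_mul_relIndex P' M L hPM hML)
  have hpg : IsPGroup p (P'.subgroupOf M) :=
    (P.2.map L.subtype).of_equiv (Subgroup.subgroupOfEquivOfLe hPM).symm
  have htop := Sylow.normalizer_sup_eq_top (hpg.toSylow hidx)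
  rw [IsPGroup.toSylow_coe, Subgroup.map_subgroupOf_eq_of_le hPM] at htop
  have htop' : Subgroup.normalizer (P' : Set G) ⊔ frattini G = ⊤ := by
    refine top_le_iff.mp (htop.symm.le.trans (sup_le le_sup_left (sup_le ?_ le_sup_right)))
    exact Subgroup.le_normalizer.trans le_sup_left
  have hnP : P'.Normal := Subgroup.normalizer_eq_top_iff.mp (frattini_nongenerating htop')
  rw [← Subgroup.comap_map_eq_self_of_injective L.subtype_injective (P : Subgroup L)]
  exact hnP.comap _

end Cfsg.Agent.S0070
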