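import Cfsg.Statements.S0849
import Cfsg.Agent.H38.TIFN
-- import your own Cfsg.Agent.* helpers here

set_option autoImplicit false
open Cfsg

namespace Cfsg.Agent.S0849

/-- Let H be a subgroup of a finite group G and S a subset of H that is mapped to itself under conjugation by H, is disjoint from its conjugate by any element outside H, and is closed under inverses. Let φ be a class function of H vanishing on H away from S, and let u, v be involutions of G. Then the sum of the induced function of φ over all products a * b with a conjugate to u and b conjugate to v equals the index of H times the sum of φ (a * b) over such pairs with a and b in H. -/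
theorem result {G : Type*} [Group G] [Fintype G] (H : Subgroup G) (S : Set G) (hSH : S ⊆ H) (hHS : ∀ h ∈ H, ∀ s ∈ S, h * s * h⁻¹ ∈ S) (hTI : ∀ g : G, g ∉ H → ∀ s ∈ S, g * s * g⁻¹ ∉ S) (hinv : ∀ s ∈ S, s⁻¹ ∈ S) (φ : H → ℂ) (hφ : Cfsg.IsClassFunction H φ) (hφS : ∀ x : H, (x : G) ∉ S → φ x = 0) (u v : G) (hu : orderOf u = 2) (hv : orderOf v = 2) : ∑ᶠ p ∈ {p : G × G | IsConj u p.1 ∧ IsConj v p.2}, Cfsg.indFun H φ (p.1 * p.2) = (H.index : ℂ) * ∑ᶠ p ∈ {p : H × H | IsConj u (p.1 : G) ∧ IsConj v (p.2 : G)}, φ (p.1 * p.2) := by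
  classical
  set P : Finset (G × G) := Finset.univ.filter fun p => IsConj u p.1 ∧ IsConj v p.2 with hP
  set Q : Finset (H × H) :=
    Finset.univ.filter fun p => IsConj u (p.1 : G) ∧ IsConj v (p.2 : G) with hQ
  rw [finsum_mem_eq_sum_of_subset (s := {p : G × G | IsConj u p.1 ∧ IsConj v p.2}) (t := P) _
      (fun p hp => by simpa [hP] using hp.1) (fun p hp => by simpa [hP] using hp),
    finsum_mem_eq_sum_of_subset (s := {p : H × H | IsConj u (p.1 : G) ∧ IsConj v (p.2 : G)})
      (t := Q) _ (fun p hp => by simpa [hQ] using hp.1) (fun p hp => by simpa [hQ] using hp)]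
  set φ0 := Cfsg.extendByZero H φ with hφ0
  have step1 : ∑ p ∈ P, Cfsg.indFun H φ (p.1 * p.2) =
      (H.index : ℂ) * ∑ p ∈ P, φ0 (p.1 * p.2) := by
    simp only [Cfsg.indFun, ← Finset.mul_sum]
    rw [Finset.sum_comm]
    have hg : ∀ g : G, ∑ p ∈ P, φ0 (g⁻¹ * (p.1 * p.2) * g) = ∑ p ∈ P, φ0 (p.1 * p.2) := by
      intro g
      refine Finset.sum_equiv ((MulAut.conj g⁻¹).toEquiv.prodCongr (MulAut.conj g⁻¹).toEquiv)
        (fun p => ?_) (fun p _ => ?_)
      · simp only [hP, Finset.mem_filter, Finset.mem_univ, true_and, Equiv.prodCongr_apply,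
          Prod.map_fst, Prod.map_snd]
        have hc : ∀ w x : G, IsConj w x ↔ IsConj w (MulAut.conj g⁻¹ x) := fun w x =>
          ⟨fun h => h.trans (isConj_iff.mpr ⟨g⁻¹, rfl⟩),
            fun h => h.trans (isConj_iff.mpr ⟨g⁻¹, rfl⟩).symm⟩
        exact and_congr (hc _ _) (hc _ _)
      · simp [MulAut.conj_apply, mul_assoc]
    simp only [← hφ0, hg, Finset.sum_const, Finset.card_univ, nsmul_eq_mul]
    rw [← mul_assoc, ← Nat.card_eq_fintype_card, ← H.index_mul_card, Nat.cast_mul,
      mul_comm (H.index : ℂ), ← mul_assoc (Nat.card H : ℂ)⁻¹,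
      inv_mul_cancel₀ (Nat.cast_ne_zero.mpr Nat.card_pos.ne'), one_mul]
  rw [step1]
  congr 1
  symm
  refine Finset.sum_of_injOn (fun p : H × H => ((p.1 : G), (p.2 : G))) ?_ ?_ ?_ ?_
  · intro p _ q _ h
    simp only [Prod.mk.injEq, SetLike.coe_eq_coe] at h
    exact Prod.ext h.1 h.2
  · intro p hp
    simpa [hP, hQ] using hp
  · intro p hp hni
    simp only [hP, Finset.mem_filter, Finset.mem_univ, true_and] at hp
    by_contra hne
    apply hni
    have hab : p.1 * p.2 ∈ H := by
      by_contra h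
      exact hne (H38.extendByZero_of_not_mem H φ h)
    have habS : p.1 * p.2 ∈ S := by
      by_contra h
      exact hne ((H38.extendByZero_of_mem H φ hab).trans (hφS ⟨_, hab⟩ h))
    have hsq : ∀ w x : G, orderOf w = 2 → IsConj w x → x⁻¹ = x := by
      intro w x hw hwx
      obtain ⟨c, rfl⟩ := isConj_iff.mp hwx
      have : w * w = 1 := by rw [← sq, ← hw, pow_orderOf_eq_one]
      simp [inv_eq_of_mul_eq_one_right this, mul_assoc]
    have haH : p.1 ∈ H := by
      by_contra h
      apply hTI p.1 h _ habS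
      have hconj : p.1 * (p.1 * p.2) * p.1⁻¹ = (p.1 * p.2)⁻¹ := by
        rw [mul_inv_rev, hsq v p.2 hv hp.2, hsq u p.1 hu hp.1]
        have h2 : p.1 * p.1 = 1 := by
          nth_rw 1 [← hsq u p.1 hu hp.1]
          exact inv_mul_cancel _
        rw [← mul_assoc p.1 p.1, h2, one_mul]
      rw [hconj]
      exact hinv _ habS
    have hbH : p.2 ∈ H := by
      have := H.mul_mem (H.inv_mem haH) hab
      simpa using this
    refine ⟨(⟨_, haH⟩, ⟨_, hbH⟩), ?_, rfl⟩
    simpa [hQ] using hp
  · intro p _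
    exact (H38.extendByZero_of_mem H φ (H.mul_mem p.1.2 p.2.2)).symm

end Cfsg.Agent.S0849
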