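import Cfsg.Statements.S0925
import Cfsg.Agent.H40.SecondMain

set_option autoImplicit false
open Cfsg

namespace Cfsg.Agent.S0925

/-- (i) Let ϑ be a class function on the finite group G and x a p-element, and suppose ϑ vanishes at every element whose p-part is conjugate to x. Then for every block B (relative to a maximal ideal M of the algebraic integers containing p) the B-part of ϑ — the sum over χ ∈ B of the inner product of ϑ with χ, times χ — also vanishes at every such element. (ii) Block orthogonality, its corollary: if the p-parts of g and h are not conjugate, then the sum over χ ∈ B of χ g * χ h⁻¹ is zero for every block B. -/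
theorem result {G : Type*} [Group G] [Finite G] (p : ℕ) [Fact p.Prime] (M : Ideal Cfsg.AlgInt) (hM : Cfsg.IsPModular p M) : (∀ (ϑ : G → ℂ), Cfsg.IsClassFunction G ϑ → ∀ x : G, (∃ k : ℕ, orderOf x = p ^ k) → (∀ u z : G, Cfsg.IsPPart p u z → IsConj x z → ϑ u = 0) → ∀ B : Set (Cfsg.IrrCharacter G), Cfsg.IsPBlock M B → ∀ u z : G, Cfsg.IsPPart p u z → IsConj x z → Cfsg.blockPart B ϑ u = 0) ∧ (∀ g h x y : G, Cfsg.IsPPart p g x → Cfsg.IsPPart p h y → ¬ IsConj x y → ∀ B : Set (Cfsg.IrrCharacter G), Cfsg.IsPBlock M B → ∑ᶠ χ ∈ B, (χ : G → ℂ) g * (χ : G → ℂ) h⁻¹ = 0) := by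
  haveI := hM.2.1
  classical
  haveI : Fintype G := Fintype.ofFinite G
  have key : ∀ g h x y : G, Cfsg.IsPPart p g x → Cfsg.IsPPart p h y → ¬ IsConj x y →
      ∀ B : Set (Cfsg.IrrCharacter G), Cfsg.IsPBlock M B →
      ∑ χ ∈ Finset.univ.filter (· ∈ B), (χ : G → ℂ) g * (starRingEnd ℂ) ((χ : G → ℂ) h) = 0 :=
    fun g h x y hg hh hne B hB =>
      Cfsg.Agent.H40.sum_block_mul_conj_eq_zero_of_section hM hB hg hh hne
  refine ⟨fun ϑ _ x _ hvan B hB u z hu hz => ?_, fun g h x y hg hh hne B hB => ?_⟩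
  · unfold Cfsg.blockPart
    simp only [finsum_mem_eq_finite_toFinset_sum _ (Set.toFinite B), Cfsg.classInner,
      Finset.mul_sum, Finset.sum_mul]
    rw [Finset.sum_comm]
    refine Finset.sum_eq_zero fun w _ => ?_
    obtain ⟨v, hv⟩ := Cfsg.Agent.H40.exists_isPPart p w
    by_cases hc : IsConj z v
    · refine Finset.sum_eq_zero fun χ _ => ?_
      rw [hvan w v hv (hz.trans hc)]
      ring
    · have h0 := key u w z v hu hv hc B hB
      have e : (Set.toFinite B).toFinset = Finset.univ.filter (· ∈ B) := by ext; simp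
      calc _ = ∑ χ ∈ Finset.univ.filter (· ∈ B), ((Nat.card G : ℂ)⁻¹ * ϑ w) *
            ((χ : G → ℂ) u * (starRingEnd ℂ) ((χ : G → ℂ) w)) :=
          Finset.sum_congr e fun χ _ => by ring
        _ = 0 := by rw [← Finset.mul_sum, h0, mul_zero]
  · rw [finsum_mem_eq_finite_toFinset_sum _ (Set.toFinite B)]
    rw [← key g h x y hg hh hne B hB]
    exact Finset.sum_congr (by ext; simp) fun χ _ => by rw [Cfsg.Agent.H26.irr_inv]

end Cfsg.Agent.S0925
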