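import Cfsg.Statements.S0868
import Cfsg.Agent.H38.CosetAverage
-- import your own Cfsg.Agent.* helpers here

set_option autoImplicit false
open scoped ComplexConjugate
open Cfsg

namespace Cfsg.Agent.S0868

/-- Let N be a normal subgroup of the finite group G, χ an irreducible character of G whose restriction ϑ to N is irreducible, and ψ an irreducible character of G. Define η on G by η g = (1 / order of N) * Σ over n in N of ψ (n * g) * conj (χ (n * g)). Then: if the restriction of ψ to N has nonzero inner product with ϑ, η is an irreducible character of G; if that inner product is zero, η vanishes identically; and if ψ = χ then η is identically 1. -/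
theorem result {G : Type*} [Group G] [Fintype G] (N : Subgroup G) [N.Normal] [Fintype N] (χ : G → ℂ) (hχ : Cfsg.IsIrrCharacter G χ) (hχN : Cfsg.IsIrrCharacter N (fun n : N => χ n)) (ψ : G → ℂ) (hψ : Cfsg.IsIrrCharacter G ψ) (η : G → ℂ) (hη : η = fun g => (Nat.card N : ℂ)⁻¹ * ∑ n : N, ψ ((n : G) * g) * conj (χ ((n : G) * g))) : (Cfsg.classInner (fun n : N => ψ n) (fun n : N => χ n) ≠ 0 → Cfsg.IsIrrCharacter G η) ∧ (Cfsg.classInner (fun n : N => ψ n) (fun n : N => χ n) = 0 → η = 0) ∧ (ψ = χ → η = fun _ => 1) := by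
  classical
  have hχc := H26.isCharacter_of_irr hχ
  have hψc := H26.isCharacter_of_irr hψ
  set one : N → ℂ := fun _ => 1 with hone
  have hone' : Cfsg.IsIrrCharacter N one := (H26.oneIrr N).2
  have hmul : one * (fun n : N => χ n) = fun n : N => χ n := funext fun n => one_mul _
  obtain ⟨hb1, hb2, hb3⟩ := H38.mul_extension_constituents (χ := χ) N one (fun n : N => χ n)
    hone' (fun _ _ => rfl) (by rw [hmul]; exact hχN) hχ (fun _ => rfl)
  rw [hmul] at hb3
  have hcl : ∀ {f : G → ℂ}, Cfsg.IsCharacter G f → Cfsg.IsClassFunction G f :=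
    H26.isClassFunction_of_isCharacter
  have hsymm : ∀ (f : G → ℂ), Cfsg.IsCharacter G f → ∀ θ : N → ℂ,
      (Cfsg.classInner (Cfsg.indFun N θ) f ≠ 0 ↔ Cfsg.classInner (fun n : N => f n) θ ≠ 0) :=
    fun f hf θ => by
      rw [H25.classInner_indFun_left N θ f (hcl hf), H26.classInner_comm, ne_eq, map_eq_zero]
  set F : G → ℂ := fun g => ψ g * conj (χ g) with hF
  have hFc : Cfsg.IsClassFunction G F := fun g h => by
    simp [hF, hcl hψc g h, hcl hχc g h]
  have hηA : η = H38.cosetAvg N F := hη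
  -- the coefficients of `η`
  have hcoef : ∀ β : Cfsg.IrrCharacter G, Cfsg.classInner η β.1 =
      if Cfsg.classInner (Cfsg.indFun N one) β.1 ≠ 0 ∧ β.1 * χ = ψ then 1 else 0 := by
    intro β
    rw [hηA, H38.classInner_cosetAvg, H38.cosetAvg_irr, H26.classInner_smul_right]
    have hFβ : Cfsg.classInner F β.1 = Cfsg.classInner ψ (β.1 * χ) := by
      simp only [Cfsg.classInner, hF, Pi.mul_apply, map_mul]
      congr 1
      exact Finset.sum_congr rfl fun g _ => by ring
    by_cases hβ : Cfsg.classInner (Cfsg.indFun N one) β.1 ≠ 0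
    · rw [H38.cosetAvg_eq_self_of_constituent N β ((hsymm _ (H26.irr_isCharacter β) one).mp hβ),
        map_one, one_mul, hFβ]
      by_cases he : β.1 * χ = ψ
      · rw [if_pos ⟨hβ, he⟩, he, H57.irr_inner_self hψ]
      · rw [if_neg (fun h => he h.2), H57.irr_inner_ne hψ (hb1 β hβ) (Ne.symm he)]
    · have h0 : Cfsg.classInner (fun n : N => β.1 n) one = 0 :=
        not_not.mp fun h => hβ ((hsymm _ (H26.irr_isCharacter β) one).mpr h)
      rw [h0, zero_div, map_zero, zero_mul, if_neg (fun h => hβ h.1)]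
  have hηc : Cfsg.IsClassFunction G η := by
    rw [hηA]; exact H38.isClassFunction_cosetAvg N hFc
  have hcons : Cfsg.classInner (fun n : N => ψ n) (fun n : N => χ n) ≠ 0 ↔
      ∃ β : Cfsg.IrrCharacter G, Cfsg.classInner (Cfsg.indFun N one) β.1 ≠ 0 ∧ β.1 * χ = ψ := by
    rw [← hsymm ψ hψc]
    exact hb3 ⟨ψ, hψ⟩
  refine ⟨fun h => ?_, fun h => ?_, fun h => ?_⟩
  · obtain ⟨β, hβ, he⟩ := hcons.mp h
    have : η = β.1 := H26.class_function_ext hηc (H26.irr_isClassFunction β) fun γ => by
      rw [hcoef, H26.classInner_irr]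
      refine if_congr ⟨fun hh => hb2 β γ hβ hh.1 (he.trans hh.2.symm), fun hh => ?_⟩ rfl rfl
      subst hh; exact ⟨hβ, he⟩
    exact this ▸ β.2
  · refine H26.eq_zero_of_forall_classInner η hηc fun γ => ?_
    rw [hcoef, if_neg fun hh => ?_]
    exact hcons.not.mp (not_not.mpr h) ⟨γ, hh⟩
  · have h1 : Cfsg.classInner (Cfsg.indFun N one) (H26.oneIrr G).1 ≠ 0 := by
      rw [H25.classInner_indFun_left N one _ (H26.irr_isClassFunction _)]
      exact (H57.irr_inner_self hone').symm ▸ one_ne_zero
    have he : (H26.oneIrr G).1 * χ = ψ := by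
      rw [h]; funext g; simp [H26.oneIrr_val]
    refine H26.class_function_ext hηc (H26.irr_isClassFunction (H26.oneIrr G)) fun γ => ?_
    rw [hcoef, show (fun _ => (1 : ℂ)) = (H26.oneIrr G).1 from rfl, H26.classInner_irr]
    refine if_congr ⟨fun hh => hb2 _ γ h1 hh.1 (he.trans hh.2.symm), fun hh => ?_⟩ rfl rfl
    subst hh; exact ⟨h1, he⟩

end Cfsg.Agent.S0868
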