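import Cfsg.Statements.S4723
import Cfsg.Agent.H42.StableBlock
import Cfsg.Agent.H42.BlockTransport
import Cfsg.Agent.H40.BlockBasic
-- import your own Cfsg.Agent.* helpers here

set_option autoImplicit false
open Cfsg

namespace Cfsg.Agent.S4723

/-- Let p be a prime, M a maximal ideal of the algebraic integers containing p, H a normal subgroup of the finite group G and b a p-block of H. Let T be the stabilizer of b in G. Then b contains a character θ of height zero whose own stabilizer in G (the elements g with θ(g h g⁻¹) = θ(h) for all h ∈ H) has index prime to p in T, i.e. contains a Sylow p-subgroup of T. -/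
theorem result {G : Type*} [Group G] [Finite G] (p : ℕ) [Fact p.Prime] (M : Ideal Cfsg.AlgInt) (hM : Cfsg.IsPModular p M) (H : Subgroup G) [H.Normal] (b : Set (Cfsg.IrrCharacter ↥H)) (hb : Cfsg.IsPBlock M b) (T : Subgroup G) (hT : (∀ g : G, g ∈ T ↔ ∀ θ ∈ b, ∀ θ' : Cfsg.IrrCharacter ↥H, (∀ h h' : ↥H, (h' : G) = g * h * g⁻¹ → (θ' : ↥H → ℂ) h' = (θ : ↥H → ℂ) h) → θ' ∈ b)) : ∃ θ ∈ b, Cfsg.blockHeight p b (θ : ↥H → ℂ) = 0 ∧ ∃ S : Subgroup G, S ≤ T ∧ (∀ g : G, g ∈ S ↔ (g ∈ T ∧ ∀ h h' : ↥H, (h' : G) = g * h * g⁻¹ → (θ : ↥H → ℂ) h' = (θ : ↥H → ℂ) h)) ∧ ¬ p ∣ S.relIndex T := by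
  classical
  have := hM.2.1
  have := Fintype.ofFinite G
  have := Fintype.ofFinite H
  have hconj : ∀ (g : G) (h h' : ↥H), (h' : G) = g * h * g⁻¹ →
      ∀ θ : Cfsg.IrrCharacter ↥H, (Cfsg.Agent.H43.irrConj H g⁻¹ θ).1 h' = θ.1 h := by
    intro g h h' e θ
    rw [Cfsg.Agent.H43.irrConj_apply]
    refine congrArg θ.1 (Subtype.ext ?_)
    rw [MulAut.conjNormal_apply, e]
    group
  have hiff : ∀ g : G, g ∈ T ↔ ∀ θ ∈ b, Cfsg.Agent.H43.irrConj H g⁻¹ θ ∈ b := by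
    intro g
    rw [hT]
    refine ⟨fun h θ hθ => h θ hθ _ fun k k' e => hconj g k k' e θ, fun h θ hθ θ' he => ?_⟩
    have : θ' = Cfsg.Agent.H43.irrConj H g⁻¹ θ := Subtype.ext (funext fun n => by
      obtain ⟨k, hk⟩ : ∃ k : ↥H, (k : G) = g⁻¹ * n * g :=
        ⟨⟨_, by simpa using ‹H.Normal›.conj_mem n n.2 g⁻¹⟩, rfl⟩
      have e : (n : G) = g * (k : G) * g⁻¹ := by rw [hk]; group
      rw [he k n e, hconj g k n e])
    exact this ▸ h θ hθ
  have hHT : H ≤ T := fun n hn => (hiff n).2 fun θ hθ => by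
    have : Cfsg.Agent.H43.irrConj H n⁻¹ θ = θ := Subtype.ext (funext fun m => by
      rw [Cfsg.Agent.H43.irrConj_apply]
      exact (congrArg θ.1 (Subtype.ext (by simp [mul_assoc]))).trans
        (Cfsg.Agent.H26.irr_conj θ m (⟨n, hn⟩ : ↥H)⁻¹))
    rwa [this]
  obtain ⟨S, hS⟩ := Cfsg.Agent.H40.exists_isSylowIn p T
  set J := H ⊔ S with hJdef
  have hJT : J ≤ T := sup_le hHT hS.1
  have hHJ : H ≤ J := le_sup_left
  have := Fintype.ofFinite J
  set N := H.subgroupOf J with hNdef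
  have := Fintype.ofFinite N
  let e : N ≃* H := Subgroup.subgroupOfEquivOfLe hHJ
  set c := Cfsg.Agent.H43.irrCongr e '' b with hcdef
  have hc : Cfsg.IsPBlock M c := Cfsg.Agent.H42.isPBlock_image_irrCongr e hb
  have key : ∀ (x : J) (θ : Cfsg.IrrCharacter ↥H),
      Cfsg.Agent.H43.irrConj N x (Cfsg.Agent.H43.irrCongr e θ) =
        Cfsg.Agent.H43.irrCongr e (Cfsg.Agent.H43.irrConj H (x : G) θ) :=
    fun x θ => Subtype.ext (funext fun n => congrArg θ.1 (Subtype.ext rfl))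
  have hst : ∀ x : J, ∀ φ ∈ c, Cfsg.Agent.H43.irrConj N x φ ∈ c := by
    rintro x _ ⟨θ, hθ, rfl⟩
    rw [key]
    refine ⟨_, ?_, rfl⟩
    have h := (hiff (x : G)⁻¹).1 (T.inv_mem (hJT x.2)) θ hθ
    rwa [inv_inv] at h
  obtain ⟨k, hk⟩ : ∃ k, N.index = p ^ k := by
    obtain ⟨j, hj⟩ := IsPGroup.iff_card.1 hS.2.1
    have h1 : H.relIndex J ∣ p ^ j := by
      rw [hJdef, Subgroup.relIndex_sup_left, ← hj]
      exact Subgroup.relIndex_dvd_card H S
    obtain ⟨i, -, hi⟩ := (Nat.dvd_prime_pow Fact.out).1 h1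
    exact ⟨i, hi⟩
  obtain ⟨_, ⟨θ, hθ, rfl⟩, h0, hfix⟩ :=
    Cfsg.Agent.H42.exists_fixed_height_zero hM hk hc hst
  rw [Cfsg.Agent.H42.blockHeight_image_irrCongr] at h0
  have hfix' : ∀ x : J, Cfsg.Agent.H43.irrConj H (x : G) θ = θ := fun x => by
    have h := hfix x
    rw [key] at h
    exact (Cfsg.Agent.H43.irrCongrEquiv e).injective h
  let S₀ : Subgroup G :=
    { carrier := {g | g ∈ T ∧ Cfsg.Agent.H43.irrConj H g⁻¹ θ = θ}
      one_mem' := ⟨T.one_mem, Subtype.ext (funext fun n => congrArg θ.1 (Subtype.ext (by simp)))⟩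
      mul_mem' := fun {x y} hx hy => ⟨T.mul_mem hx.1 hy.1, by
        rw [mul_inv_rev, ← Cfsg.Agent.H43.irrConj_irrConj, hy.2, hx.2]⟩
      inv_mem' := fun {x} hx => ⟨T.inv_mem hx.1, by
        rw [inv_inv]
        conv_lhs => rw [← hx.2, Cfsg.Agent.H43.irrConj_irrConj, inv_mul_cancel]
        exact Subtype.ext (funext fun n => congrArg θ.1 (Subtype.ext (by simp)))⟩ }
  refine ⟨θ, hθ, h0, S₀, fun g hg => hg.1, fun g => ?_, ?_⟩
  · show (g ∈ T ∧ Cfsg.Agent.H43.irrConj H g⁻¹ θ = θ) ↔ _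
    refine and_congr_right fun _ => ⟨fun h k k' e => ?_, fun h => ?_⟩
    · have h2 := hconj g k k' e θ
      rwa [h] at h2
    · refine Subtype.ext (funext fun n => ?_)
      obtain ⟨k, hk⟩ : ∃ k : ↥H, (k : G) = g⁻¹ * n * g :=
        ⟨⟨_, by simpa using ‹H.Normal›.conj_mem n n.2 g⁻¹⟩, rfl⟩
      have e : (n : G) = g * (k : G) * g⁻¹ := by rw [hk]; group
      rw [hconj g k n e, h k n e]
  · intro hd
    have hSS₀ : S ≤ S₀ := fun s hs => ⟨hS.1 hs, by
      have h := hfix' ⟨s⁻¹, J.inv_mem (Subgroup.mem_sup_right hs)⟩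
      exact h⟩
    exact hS.2.2 (hd.trans (Subgroup.relIndex_dvd_of_le_left T hSS₀))

end Cfsg.Agent.S4723
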