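import Cfsg.Agent.H22.CentralDefectZero
import Cfsg.Agent.H22.PairImage
import Cfsg.Agent.H22.PairStab
import Cfsg.Agent.H22.PairDefectDict
import Cfsg.Agent.H40.CentricDefect
import Cfsg.Statements.S4828

set_option autoImplicit false
open Cfsg

namespace Cfsg.Agent.S4828

/-- Let p be a prime, M a maximal ideal of the algebraic integers containing p, and (Q, e) a Brauer pair of the finite group G (Q a p-subgroup, e a block of C_G(Q)). Then (Q, e) is a maximal Brauer pair of some block of G if and only if e contains an irreducible character θ such that θ takes the value θ(1) at every element of Z(Q) = Q ∩ C_G(Q), the p-part of θ(1) times the p-part of the order of Z(Q) equals the p-part of the order of C_G(Q) (θ has defect zero as a character of C_G(Q)/Z(Q)), and every element of N_G(Q) of p-power order that stabilizes e lies in Q·C_G(Q) (the stabilizer of e in N_G(Q) has index prime to p over Q·C_G(Q)). -/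
theorem result {G : Type*} [Group G] [Finite G] (p : ℕ) [Fact p.Prime] (M : Ideal Cfsg.AlgInt) (hM : Cfsg.IsPModular p M) (Q : Subgroup G) (e : Set (Cfsg.IrrCharacter (Subgroup.centralizer (Q : Set G)))) (he : Cfsg.IsBrauerPair p M Q e) :
    (∃ B : Set (Cfsg.IrrCharacter G), Cfsg.IsMaximalBrauerPair p M B Q e) ↔
      ∃ θ ∈ e, (∀ z : Subgroup.centralizer (Q : Set G), (z : G) ∈ Q → (θ : Subgroup.centralizer (Q : Set G) → ℂ) z = (θ : Subgroup.centralizer (Q : Set G) → ℂ) 1) ∧
        (Cfsg.charDegree (θ : Subgroup.centralizer (Q : Set G) → ℂ)).factorization p + (Nat.card ↥(Q ⊓ Subgroup.centralizer (Q : Set G))).factorization p = (Nat.card (Subgroup.centralizer (Q : Set G))).factorization p ∧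
        (∀ g : G, g ∈ Subgroup.normalizer (Q : Set G) → Cfsg.StabilizesBlock (Subgroup.centralizer (Q : Set G)) e g → (∃ k : ℕ, orderOf g = p ^ k) → g ∈ Q ⊔ Subgroup.centralizer (Q : Set G)) := by
  have := hM.2.1
  have := Cfsg.Agent.H41.IsPModular.charP hM
  classical
  have hS := H22.split M G
  have hfC : H22.IsBlockEl (Subgroup.centralizer (Q : Set G)) (H22.el M (Subgroup.centralizer (Q : Set G)) e) := H22.isBlockEl_el he.2
  have hpair : H22.IsPairEl p ⊤ (Q, H22.el M (Subgroup.centralizer (Q : Set G)) e) := H22.isPairEl_of_isBrauerPair he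
  have hZC : Q ⊓ (Subgroup.centralizer (Q : Set G)) ≤ (Subgroup.centralizer (Q : Set G)) := inf_le_right
  have hPc : (Q ⊓ (Subgroup.centralizer (Q : Set G))).subgroupOf (Subgroup.centralizer (Q : Set G)) ≤ Subgroup.center (Subgroup.centralizer (Q : Set G)) := by
    intro z hz
    rw [Subgroup.mem_center_iff]
    intro c
    exact Subtype.ext (Subgroup.mem_centralizer_iff.1 c.2 (z : G) (Subgroup.mem_subgroupOf.1 hz).1).symm
  have hPp : IsPGroup p ((Q ⊓ (Subgroup.centralizer (Q : Set G))).subgroupOf (Subgroup.centralizer (Q : Set G))) :=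
    (he.1.to_le inf_le_left).of_equiv (Subgroup.subgroupOfEquivOfLe hZC).symm
  have hcardP : Nat.card ((Q ⊓ (Subgroup.centralizer (Q : Set G))).subgroupOf (Subgroup.centralizer (Q : Set G))) = Nat.card ↥(Q ⊓ (Subgroup.centralizer (Q : Set G))) :=
    Nat.card_congr (Subgroup.subgroupOfEquivOfLe hZC).toEquiv
  have : Fintype (Subgroup.centralizer (Q : Set G)) := Fintype.ofFinite _
  constructor
  · rintro ⟨B, hmax⟩
    obtain ⟨h, hm⟩ := H22.isMaximal_iff.1 hmax
    have hb := H22.isBlockEl_elTop (M := M) h.2.1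
    set f := H22.el M (Subgroup.centralizer (Q : Set G)) e with hf
    set T := H22.pairStab Q f with hT
    have hfT : H22.IsBlockEl T f := H22.isBlockEl_pairStab he.1 hfC
    have hQT : Q ≤ T := H22.le_pairStab hfC.cent.supp
    have hCT : (Subgroup.centralizer (Q : Set G)) ≤ T := H22.centralizer_le_pairStab hfC
    have hTN : T ≤ Subgroup.normalizer ((Subgroup.centralizer (Q : Set G)) : Set G) :=
      inf_le_left.trans (H22.normalizer_le_normalizer_centralizer Q)
    obtain ⟨D, hD, hle⟩ := H22.exists_isDefEl_ge hS hm Relation.ReflTransGen.refl inf_le_left hfT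
    have hQD : Q ≤ D := (le_inf le_rfl hQT).trans hle
    have hDinv : H22.Inv D f := hfT.cent.inv.mono hD.le
    obtain ⟨g, hg, hgf⟩ := hS.exists_block _ _
      (H22.isCent_cut (H := ⊤) (Q := Q) hQD hpair.block.cent)
      (by rw [← H22.cut_mul hD.pGroup hDinv hDinv, hfC.idem]) hD.ne_zero
    have hns : H22.NSub p ⊤ (Q, f) (D, g) :=
      ⟨hpair, ⟨le_top, hD.pGroup, hg⟩, hQD, hD.le.trans inf_le_left, hDinv, hgf⟩
    have hDQ : D = Q := hm.max _ ((hns.below_iff hb).1 hm.below) (Relation.ReflTransGen.single hns)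
    subst D
    have hZ : H22.IsDefEl p (Subgroup.centralizer (Q : Set G)) f (Q ⊓ (Subgroup.centralizer (Q : Set G))) := H22.isDefEl_inf hS hCT hTN hfC hD
    have hdef := (H22.isDefectGroup_subgroupOf_iff hM he.2 hZC).2 hZ
    have : Fintype ((Q ⊓ (Subgroup.centralizer (Q : Set G))).subgroupOf (Subgroup.centralizer (Q : Set G))) := Fintype.ofFinite _
    have hG : (Q ⊓ (Subgroup.centralizer (Q : Set G))).subgroupOf (Subgroup.centralizer (Q : Set G)) ⊔
        Subgroup.centralizer (((Q ⊓ (Subgroup.centralizer (Q : Set G))).subgroupOf (Subgroup.centralizer (Q : Set G)) : Subgroup (Subgroup.centralizer (Q : Set G))) : Set (Subgroup.centralizer (Q : Set G))) = ⊤ :=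
      top_le_iff.1 (le_sup_of_le_right fun c _ => Subgroup.mem_centralizer_iff.2 fun z hz =>
        (Subgroup.mem_center_iff.1 (hPc hz) c).symm)
    obtain ⟨θ, hθ, ho⟩ := Cfsg.Agent.H40.exists_mem_overP hM hPp hG he.2 hdef
      (Cfsg.Agent.H26.oneIrr _)
    refine ⟨θ, hθ, fun z hz => ?_, ?_, fun x hx hst ⟨j, hj⟩ => ?_⟩
    · have h1 := ho ⟨z, Subgroup.mem_subgroupOf.2 ⟨hz, z.2⟩⟩
      rw [Cfsg.Agent.H26.oneIrr_val, Cfsg.Agent.H26.oneIrr_val, div_one,
        div_eq_one_iff_eq (Cfsg.Agent.H26.irr_one_ne_zero θ)] at h1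
      exact h1
    · rw [Cfsg.Agent.H40.factorization_eq_index_of_overP_one hM hPp hG he.2 hdef hθ ho,
        ← hcardP, ← ((Q ⊓ (Subgroup.centralizer (Q : Set G))).subgroupOf (Subgroup.centralizer (Q : Set G))).card_mul_index,
        Nat.factorization_mul Nat.card_pos.ne' Subgroup.index_ne_zero_of_finite, Finsupp.add_apply,
        add_comm]
    · have hxT : x ∈ T := Subgroup.mem_inf.2 ⟨hx, H22.mem_stabEl.2
        ((H22.stabilizesBlock_iff he.2 (H22.normalizer_le_normalizer_centralizer Q hx)).1 hst)⟩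
      have hCn : ((Subgroup.centralizer (Q : Set G)).subgroupOf T).Normal := Subgroup.normal_subgroupOf_of_le_normalizer hTN
      have hQn : (Q.subgroupOf T).Normal := Subgroup.normal_subgroupOf_of_le_normalizer inf_le_left
      set φ := QuotientGroup.mk' ((Subgroup.centralizer (Q : Set G)).subgroupOf T) with hφ
      have hn : ((Q.subgroupOf T).map φ).Normal := hQn.map φ (QuotientGroup.mk'_surjective _)
      have hz : IsPGroup p (Subgroup.zpowers (φ ⟨x, hxT⟩)) := by
        have h1 : orderOf (φ ⟨x, hxT⟩) ∣ p ^ j :=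
          hj ▸ (orderOf_map_dvd φ _).trans (Subgroup.orderOf_mk x hxT).dvd
        obtain ⟨i, -, hi⟩ := (Nat.dvd_prime_pow Fact.out).1 h1
        exact IsPGroup.of_card (n := i) (by rw [Nat.card_zpowers, hi])
      have hU : IsPGroup p ((Q.subgroupOf T).map φ ⊔ Subgroup.zpowers (φ ⟨x, hxT⟩) : Subgroup _) :=
        ((hD.pGroup.of_equiv (Subgroup.subgroupOfEquivOfLe hD.le).symm).map φ).to_sup_of_normal_left hz
      have heq := Subgroup.eq_of_le_of_card_ge le_sup_left
        (H22.card_le_defect_image hS hCT hTN hfC hfT.cent.inv hD φ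
          (fun t ht => (QuotientGroup.eq_one_iff t).2 (Subgroup.mem_subgroupOf.2 ht))
          (fun y _ => QuotientGroup.mk'_surjective _ y) hU)
      obtain ⟨q, hq, hqx⟩ : φ ⟨x, hxT⟩ ∈ (Q.subgroupOf T).map φ :=
        heq.symm ▸ Subgroup.mem_sup_right (Subgroup.mem_zpowers _)
      have hc : ((q : G))⁻¹ * x ∈ (Subgroup.centralizer (Q : Set G)) :=
        Subgroup.mem_subgroupOf.1 (QuotientGroup.eq.1 hqx)
      have := Subgroup.mul_mem_sup (Subgroup.mem_subgroupOf.1 hq) hc
      simpa using this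
  · rintro ⟨θ, hθ, hker, hdeg, hstab⟩
    set f := H22.el M (Subgroup.centralizer (Q : Set G)) e with hf
    obtain ⟨b, ⟨hb, hbf⟩, -⟩ := H22.existsUnique_below hS hpair
    obtain ⟨B, hB, rfl⟩ := H22.exists_elTop_eq hb
    refine ⟨B, H22.isMaximal_iff.2 ⟨(H22.isBrauerPairOf_iff hB he).2 hbf, ?_⟩⟩
    refine H22.isMaxEl_of_isDefEl hpair hbf (H22.isDefEl_of_no_over hS hb hpair hbf fun c hns => ?_)
    -- the defect group of the local block
    obtain ⟨D, hD⟩ := Cfsg.Agent.H40.exists_isDefectGroup hM he.2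
    have hDe := H22.isDefEl_map_of_isDefectGroup hM he.2 hD
    have hcard : Nat.card (D.map (Subgroup.centralizer (Q : Set G)).subtype : Subgroup G) ≤ Nat.card ↥(Q ⊓ (Subgroup.centralizer (Q : Set G))) := by
      rw [Subgroup.card_map_of_injective (Subgroup.centralizer (Q : Set G)).subtype_injective, ← hcardP]
      exact H22.card_defectGroup_le_of_central hM he.2 hPc hPp hθ
        (fun z hz => hker z (Subgroup.mem_subgroupOf.1 hz).1) (by rw [hcardP]; exact hdeg) hD
    obtain ⟨R, g⟩ := c
    have hRN : R ≤ Subgroup.normalizer (Q : Set G) := hns.normal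
    have hne : H22.cut (Subgroup.centralizer ((R ⊓ (Subgroup.centralizer (Q : Set G)) : Subgroup G) : Set G)) f ≠ 0 := fun h0 => by
      refine hns.right.block.ne_zero ?_
      have h1 : H22.cut (Subgroup.centralizer (R : Set G)) f * g = g := hns.occ
      rw [← H22.cut_cut_of_le (R := R) (D := R ⊓ (Subgroup.centralizer (Q : Set G))) inf_le_left, h0, map_zero, zero_mul] at h1
      exact h1.symm
    have hZ : Q ⊓ (Subgroup.centralizer (Q : Set G)) = R ⊓ (Subgroup.centralizer (Q : Set G)) := Subgroup.eq_of_le_of_card_ge (inf_le_inf_right _ hns.le)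
      ((hDe.card_le inf_le_right (hns.right.pGroup.to_le inf_le_left) hne).trans hcard)
    refine le_antisymm (fun r hr => ?_) hns.le
    obtain ⟨j, hj⟩ := IsPGroup.iff_orderOf.1 hns.right.pGroup ⟨r, hr⟩
    rw [Subgroup.orderOf_mk] at hj
    have hmem := hstab r (hRN hr) ((H22.stabilizesBlock_iff he.2
      (H22.normalizer_le_normalizer_centralizer Q (hRN hr))).2 (hns.inv r hr)) ⟨j, hj⟩
    rw [← SetLike.mem_coe, Subgroup.coe_mul_of_right_le_normalizer_left Q (Subgroup.centralizer (Q : Set G))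
      (Subgroup.centralizer_le_normalizer _)] at hmem
    obtain ⟨q, hq, c, hc, rfl⟩ := hmem
    have hcR : c ∈ R ⊓ (Subgroup.centralizer (Q : Set G)) := ⟨by simpa using mul_mem (inv_mem (hns.le hq)) hr, hc⟩
    rw [← hZ] at hcR
    exact mul_mem hq hcR.1

end Cfsg.Agent.S4828
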