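import Cfsg.Statements.S4856
import Cfsg.Agent.H43.CharTools
-- import your own Cfsg.Agent.* helpers here

set_option autoImplicit false
open Cfsg

namespace Cfsg.Agent.S4856

/-- For an element z of a finite group G, the number of pairs (x, y) of elements with x y x⁻¹ y⁻¹ = z equals the order of G times the sum over the irreducible characters χ of χ(z)/χ(1). -/
theorem result {G : Type*} [Group G] [Finite G] (z : G) : (Nat.card {xy : G × G // xy.1 * xy.2 * xy.1⁻¹ * xy.2⁻¹ = z} : ℂ) = (Nat.card G : ℂ) * ∑ᶠ χ : Cfsg.IrrCharacter G, (χ : G → ℂ) z / (χ : G → ℂ) 1 := by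
  classical
  have := Fintype.ofFinite G
  let N : G → ℂ := fun g => ∑ x : G, ∑ y : G, if x * y * x⁻¹ * y⁻¹ = g then (1 : ℂ) else 0
  have hNc : Cfsg.IsClassFunction G N := by
    intro g h
    simp only [N]
    symm
    refine Fintype.sum_equiv (MulAut.conj h).toEquiv _ _ fun x => ?_
    refine Fintype.sum_equiv (MulAut.conj h).toEquiv _ _ fun y => ?_
    refine if_congr ?_ rfl rfl
    show x * y * x⁻¹ * y⁻¹ = g ↔ MulAut.conj h x * MulAut.conj h y * (MulAut.conj h x)⁻¹ *
      (MulAut.conj h y)⁻¹ = MulAut.conj h g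
    rw [← map_inv, ← map_inv, ← map_mul, ← map_mul, ← map_mul, (MulAut.conj h).injective.eq_iff]
  have key : ∀ χ : Cfsg.IrrCharacter G, ∀ x : G, ∑ y : G, χ.1 (x * y * x⁻¹ * y⁻¹) =
      (Nat.card G : ℂ) * χ.1 x⁻¹ / χ.1 1 * χ.1 x := by
    intro χ x
    obtain ⟨n, ρ, hρ, e⟩ := χ.2
    haveI := hρ
    set T : Module.End ℂ (Fin n → ℂ) := ∑ y, ρ (y * x⁻¹ * y⁻¹) with hT
    have hTs := H25.eq_smul_id_of_comm ρ T fun g => by
      simp only [hT, ← Module.End.mul_eq_comp, Finset.sum_mul, Finset.mul_sum, ← map_mul]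
      refine Fintype.sum_equiv (Equiv.mulLeft g⁻¹) _ _ fun y => ?_
      simp [mul_assoc]
    have htr : LinearMap.trace ℂ _ T = (Nat.card G : ℂ) * χ.1 x⁻¹ := by
      rw [hT, map_sum, ← e]
      have : ∀ y ∈ (Finset.univ : Finset G),
          LinearMap.trace ℂ _ (ρ (y * x⁻¹ * y⁻¹)) = ρ.character x⁻¹ := fun y _ =>
        ρ.char_conj x⁻¹ y
      rw [Finset.sum_congr rfl this, Finset.sum_const, nsmul_eq_mul, Finset.card_univ,
        Nat.card_eq_fintype_card]
    have h2 : ∑ y : G, χ.1 (x * y * x⁻¹ * y⁻¹) = LinearMap.trace ℂ _ (ρ x * T) := by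
      rw [hT, Finset.mul_sum, map_sum, ← e]
      refine Finset.sum_congr rfl fun y _ => ?_
      rw [← map_mul, Representation.character]
      simp [mul_assoc]
    rw [h2, hTs, htr, Module.End.mul_eq_comp, LinearMap.comp_smul, LinearMap.comp_id, map_smul,
      smul_eq_mul, ← e, Representation.char_one]
    rfl
  have hG0 : (Nat.card G : ℂ) ≠ 0 := Nat.cast_ne_zero.2 Nat.card_pos.ne'
  have hinner : ∀ χ : Cfsg.IrrCharacter G,
      Cfsg.classInner N χ.1 = (Nat.card G : ℂ) / χ.1 1 := by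
    intro χ
    have h1 : ∑ g, N g * starRingEnd ℂ (χ.1 g) =
        starRingEnd ℂ (∑ x : G, ∑ y : G, χ.1 (x * y * x⁻¹ * y⁻¹)) := by
      simp only [N, Finset.sum_mul, map_sum, ite_mul, one_mul, zero_mul]
      rw [Finset.sum_comm]
      refine Finset.sum_congr rfl fun x _ => ?_
      rw [Finset.sum_comm]
      refine Finset.sum_congr rfl fun y _ => ?_
      simp
    have h3 : ∑ x : G, ∑ y : G, χ.1 (x * y * x⁻¹ * y⁻¹) = (Nat.card G : ℂ) ^ 2 / χ.1 1 := by
      simp only [key]
      have h4 := H43.sum_mul_conj χ χ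
      rw [if_pos rfl] at h4
      rw [pow_two, mul_div_assoc, ← h4, Finset.sum_div, Finset.mul_sum]
      refine Finset.sum_congr rfl fun x _ => ?_
      rw [H26.irr_inv]
      ring
    rw [Cfsg.classInner, h1, h3]
    obtain ⟨n, hn⟩ := H26.exists_nat_char_one (H26.irr_isCharacter χ)
    rw [hn, map_div₀, map_pow, Complex.conj_natCast, Complex.conj_natCast]
    field_simp
  have hexp := congrFun (H26.class_function_expansion N hNc) z
  have hcount : (Nat.card {xy : G × G // xy.1 * xy.2 * xy.1⁻¹ * xy.2⁻¹ = z} : ℂ) = N z := by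
    simp only [N]
    rw [← Fintype.sum_prod_type' (f := fun x y => if x * y * x⁻¹ * y⁻¹ = z then (1 : ℂ) else 0),
      Finset.sum_boole, Nat.card_eq_fintype_card, Fintype.card_subtype]
  rw [hcount, hexp, finsum_eq_sum_of_fintype, Finset.sum_apply, Finset.mul_sum]
  refine Finset.sum_congr rfl fun χ _ => ?_
  rw [Pi.smul_apply, smul_eq_mul, hinner]
  ring

end Cfsg.Agent.S4856
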