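import Cfsg.Statements.S0675
import Mathlib
import Cfsg.Agent.H36.PrimeDegree
-- import your own Cfsg.Agent.* helpers here

set_option autoImplicit false
open Cfsg

namespace Cfsg.Agent.S0675

/-- Burnside's Theorem on permutation groups of prime degree: a transitive permutation group of prime degree that is not solvable is doubly transitive. -/
theorem result {α : Type*} [Fintype α] [DecidableEq α] (hα : (Fintype.card α).Prime) (G : Subgroup (Equiv.Perm α)) [MulAction.IsPretransitive G α] : Group.IsSolvable G ∨ MulAction.IsMultiplyPretransitive G α 2 := by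
  classical
  haveI : Fact (Fintype.card α).Prime := ⟨hα⟩
  have ha : Fintype.card α ∣ Nat.card G := by
    obtain ⟨a⟩ := Fintype.card_pos_iff.1 hα.pos
    have h0 := MulAction.index_stabilizer_of_transitive G a
    rw [Nat.card_eq_fintype_card] at h0
    exact h0 ▸ Subgroup.index_dvd_card _
  obtain ⟨σ, hσ⟩ := exists_prime_orderOf_dvd_card' (Fintype.card α) ha
  rw [← Subgroup.orderOf_coe] at hσ
  obtain ⟨e, he⟩ := Cfsg.Agent.H36.exists_zmod_numbering rfl hσ
  exact (Cfsg.Agent.H36.affine_or_two_transitive rfl σ.2 e he).imp
    (Cfsg.Agent.H36.isSolvable_of_affine e G) id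

end Cfsg.Agent.S0675
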