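import Cfsg.Statements.S0888
import Cfsg.Agent.H39.Intertwiner
-- import your own Cfsg.Agent.* helpers here

set_option autoImplicit false
open Cfsg

namespace Cfsg.Agent.S0888

/-- Let N be a normal subgroup of the finite group G and ϑ an irreducible character of N invariant under conjugation by G. Suppose that for every prime p there are a subgroup P containing N, of index prime to p and with the index of N in P a power of p, and an irreducible character of P restricting to ϑ. Then ϑ is the restriction of an irreducible character of G. -/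
theorem result {G : Type*} [Group G] [Finite G] (N : Subgroup G) [hN : N.Normal] (ϑ : N → ℂ) (hϑ : Cfsg.IsIrrCharacter N ϑ) (hinv : ∀ (g : G) (n : N), ϑ ⟨g * n * g⁻¹, hN.conj_mem (n : G) n.2 g⟩ = ϑ n) (hsyl : ∀ p : ℕ, p.Prime → ∃ (P : Subgroup G) (hNP : N ≤ P) (η : P → ℂ), Nat.Coprime P.index p ∧ (∃ k : ℕ, N.relIndex P = p ^ k) ∧ Cfsg.IsIrrCharacter P η ∧ ∀ n : N, η ⟨(n : G), hNP n.2⟩ = ϑ n) : ∃ χ : G → ℂ, Cfsg.IsIrrCharacter G χ ∧ ∀ n : N, χ n = ϑ n := by
  classical
  obtain ⟨d, σ, hσ, rfl⟩ := hϑ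
  refine Cfsg.Agent.H39.exists_ext_of_local σ hinv fun p hp => ?_
  obtain ⟨P, hNP, η, hcop, -, hη, hres⟩ := hsyl p hp
  obtain ⟨m, ρ, -, rfl⟩ := hη
  obtain ⟨e, he⟩ := Cfsg.Agent.H39.exists_equiv_of_char_eq_irreducible σ
    (ρ.comp (Subgroup.inclusion hNP)) (funext fun n => hres n)
  refine ⟨P, hNP, (Units.map e.symm.conjRingEquiv.toRingHom.toMonoidHom).comp
    (MonoidHom.toHomUnits ρ), ?_, ?_⟩
  · exact fun hd => hp.ne_one (Nat.eq_one_of_dvd_coprimes hcop hd dvd_rfl)
  · intro n
    refine Units.ext (LinearMap.ext fun v => ?_)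
    show e.symm (ρ (Subgroup.inclusion hNP n) (e v)) = σ n v
    rw [LinearEquiv.symm_apply_eq]
    exact (he n v).symm

end Cfsg.Agent.S0888
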