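import Cfsg.Statements.S2429
import Cfsg.Agent.H69.SL2Normalizer

set_option autoImplicit false
open Cfsg

namespace Cfsg.Agent.S2429

open Cfsg.Agent.H69

/-- Let F be a finite field with q elements, q odd. Then SL₂ over F contains a cyclic subgroup T′ of order q + 1 (a non-split torus) with the following properties: T′ is its own centraliser, and indeed the centraliser of each element of T′ other than 1 and −1 is exactly T′; every element of SL₂ having no eigenvector in F² is conjugate to an element of T′; the normaliser of T′ has order 2(q + 1) and exactly (q + 7)/2 conjugacy classes; and every element of that normaliser outside T′ has square −1. -/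
theorem result {F : Type*} [Field F] [Fintype F] (hodd : Odd (Fintype.card F)) :
    ∃ T' : Subgroup (Matrix.SpecialLinearGroup (Fin 2) F), IsCyclic T' ∧ Nat.card T' = Fintype.card F + 1 ∧
      Subgroup.centralizer ((T' : Set (Matrix.SpecialLinearGroup (Fin 2) F))) = T' ∧
      (∀ g : Matrix.SpecialLinearGroup (Fin 2) F, g ∈ T' → (g : Matrix (Fin 2) (Fin 2) F) ≠ 1 → (g : Matrix (Fin 2) (Fin 2) F) ≠ -1 → Subgroup.centralizer ({g} : Set (Matrix.SpecialLinearGroup (Fin 2) F)) = T') ∧
      (∀ g : Matrix.SpecialLinearGroup (Fin 2) F, (∀ (c : F) (v : Fin 2 → F), v ≠ 0 → (g : Matrix (Fin 2) (Fin 2) F).mulVec v ≠ c • v) → ∃ h : Matrix.SpecialLinearGroup (Fin 2) F, h * g * h⁻¹ ∈ T') ∧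
      Nat.card (Subgroup.normalizer (T' : Set (Matrix.SpecialLinearGroup (Fin 2) F))) = 2 * (Fintype.card F + 1) ∧
      Nat.card (ConjClasses (Subgroup.normalizer (T' : Set (Matrix.SpecialLinearGroup (Fin 2) F)))) = (Fintype.card F + 7) / 2 ∧
      ∀ g : Matrix.SpecialLinearGroup (Fin 2) F, g ∈ Subgroup.normalizer (T' : Set (Matrix.SpecialLinearGroup (Fin 2) F)) → g ∉ T' → ((g * g) : Matrix (Fin 2) (Fin 2) F) = -1 := by
  have two : (2 : F) ≠ 0 := fun h => by
    have := field_two_eq_zero_iff.1 h
    rw [Nat.odd_iff] at hodd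
    omega
  obtain ⟨t, ht⟩ := exists_rootCount_zero (F := F)
  set g0 : Matrix.SpecialLinearGroup (Fin 2) F := slComp t with hg0
  have h0 : rootCount (g0 : Matrix (Fin 2) (Fin 2) F).trace = 0 := by rw [hg0, trace_slComp]; exact ht
  have ht4 := sq_ne_four_of_rootCount_zero h0
  have hns := not_isScalar2_slComp (F := F) t
  have hcard := card_centralizer_elliptic hns h0
  rw [Nat.card_eq_fintype_card (α := F)] at hcard
  obtain ⟨h1, -, h3, h4⟩ := sl2_torus_normalizer ht4
  refine ⟨Subgroup.centralizer ({g0} : Set (Matrix.SpecialLinearGroup (Fin 2) F)),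
    isCyclic_centralizer hns ht4, hcard, ?_, ?_, ?_, ?_, ?_, ?_⟩
  · refine le_antisymm (fun x hx => Subgroup.mem_centralizer_singleton_iff.2 ?_) ?_
    · exact (Subgroup.mem_centralizer_iff.1 hx g0 (sl2_self_mem_centralizer g0)).symm
    · exact fun x hx => Subgroup.mem_centralizer_iff.2 fun y hy => sl2_centralizer_comm hns hy hx
  · intro g hg hg1 hg2
    refine sl2_centralizer_eq_of_mem hns hg ?_
    intro hs
    rcases (sl2_mem_center_iff_eq g).1 ((sl2_mem_center_iff g).2 hs) with rfl | rfl
    · exact hg1 (by simp)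
    · exact hg2 (by simp)
  · intro g hg
    exact sl2_exists_conj_mem_elliptic two h0 ((rootCount_zero_iff_no_eigenvector g).2 hg)
  · rw [h1, hcard]
  · have := h4 two
    rw [hcard] at this
    omega
  · intro g hg hgT
    have h := congrArg (fun z : Matrix.SpecialLinearGroup (Fin 2) F =>
      (z : Matrix (Fin 2) (Fin 2) F)) (h3 two g hg hgT)
    simpa using h

end Cfsg.Agent.S2429
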