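import Cfsg.Statements.S4399
import Cfsg.Agent.H24.TwoMaxClass

set_option autoImplicit false
open Cfsg

namespace Cfsg.Agent.S4399

/-- Let S be a finite 2-group whose commutator quotient S/[S,S] is a Klein four-group (order 4 and exponent 2). Then S itself has order 4, or S is dihedral of order at least 8, semidihedral of order at least 16 (order 2^(k+4) with an element a of order 2^(k+3) and an involution b with b a b⁻¹ = a^(2^(k+2)−1)), or generalized quaternion of order at least 8. -/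
theorem result {S : Type*} [Group S] [Finite S] (h2 : IsPGroup 2 S) (hab : Nat.card (Abelianization S) = 4)
    (hexp : ∀ x : Abelianization S, x ^ 2 = 1) :
    Nat.card S = 4 ∨
    ((∃ k : ℕ, Nonempty (S ≃* DihedralGroup (2 ^ (k + 2)))) ∨
      (∃ k : ℕ, Nat.card S = 2 ^ (k + 4) ∧ ∃ a b : S, orderOf a = 2 ^ (k + 3) ∧ orderOf b = 2 ∧ b * a * b⁻¹ = a ^ (2 ^ (k + 2) - 1)) ∨
      (∃ k : ℕ, Nonempty (S ≃* QuaternionGroup (2 ^ (k + 1))))) := by
  have : Fact (Nat.Prime 2) := ⟨Nat.prime_two⟩
  obtain ⟨k, hk⟩ := IsPGroup.iff_card.mp h2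
  have hidx : (commutator S).index = 4 := hab
  have hk2 : 2 ≤ k := by
    have h := Nat.le_of_dvd Nat.card_pos (Subgroup.index_dvd_card (commutator S))
    rw [hidx, hk] at h
    by_contra hc
    have h' : 2 ^ k ≤ 2 ^ 1 := Nat.pow_le_pow_right two_pos (by omega)
    norm_num at h'
    omega
  rcases Nat.lt_or_ge k 3 with hk3 | hk3
  · left
    rw [hk, show k = 2 by omega]
    norm_num
  obtain ⟨j, rfl⟩ : ∃ j, k = j + 3 := ⟨k - 3, by omega⟩
  right
  rcases Agent.H24.two_group_max_class hk3 hk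
      (fun {_} => (Agent.H24.two_group_commutator_index_four S (j + 3) hk hk2 hidx).2.1) with
    ⟨m, ⟨e⟩⟩ | ⟨m, ⟨e⟩⟩ | ⟨n, hn, hcard, x, y, hx, hy, hxy⟩
  · left
    refine ⟨j, ?_⟩
    have h := (Nat.card_congr e.toEquiv).symm.trans hk
    rw [DihedralGroup.nat_card, pow_succ'] at h
    have hm : m = 2 ^ (j + 2) := by omega
    exact hm ▸ ⟨e⟩
  · right; right
    refine ⟨j, ?_⟩
    rcases eq_or_ne m 0 with rfl | hm0
    · exfalso
      have : Finite (QuaternionGroup 0) := Finite.of_equiv _ e.toEquiv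
      have : Infinite (QuaternionGroup 0) := Infinite.of_injective (fun i : ℤ => QuaternionGroup.a i)
        fun a b h => QuaternionGroup.a.inj h
      exact not_finite (QuaternionGroup 0)
    have : NeZero m := ⟨hm0⟩
    have h := (Nat.card_congr e.toEquiv).symm.trans hk
    rw [Nat.card_eq_fintype_card, QuaternionGroup.card, pow_succ', pow_succ'] at h
    have hm : m = 2 ^ (j + 1) := by omega
    exact hm ▸ ⟨e⟩
  · right; left
    obtain ⟨i, rfl⟩ : ∃ i, n = i + 3 := ⟨n - 3, by omega⟩
    exact ⟨i, hcard, x, y, hx, hy, hxy⟩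

end Cfsg.Agent.S4399
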