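import Cfsg.Statements.S2820
import Cfsg.Agent.H72.CharP

set_option autoImplicit false
open Cfsg

namespace Cfsg.Agent.S2820

/-- Let A and B be subnormal subgroups of the finite group H with A a p-group and B = O^p(B) (B generated by its elements of order prime to p). Then A normalizes B and B = O^p(AB), the subgroup of ⟨A, B⟩ generated by its elements of order prime to p. -/
theorem result {H : Type*} [Group H] [Finite H] {p : ℕ} [Fact p.Prime] (A B : Subgroup H) (hA : A.IsSubnormal) (hB : B.IsSubnormal) (hAp : IsPGroup p ↥A) (hBres : (Cfsg.pResidual p ↥B).map B.subtype = B) : A ≤ Subgroup.normalizer (B : Set H) ∧ (Cfsg.pResidual p ↥(A ⊔ B)).map (A ⊔ B).subtype = B := by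
  have hQ := H72.le_pCore_of_isSubnormal hA hAp
  have hmem : ∀ x ∈ A ⊔ B, (orderOf x).Coprime p → x ∈ B := by
    intro x hx hc
    refine H72.mem_of_coprime_mem_sup hB (H72.pCore_normal p) (H72.pCore_isPGroup p) ?_ hc
    exact (sup_le (hQ.trans le_sup_right) le_sup_left) hx
  have heq : (Cfsg.pResidual p ↥(A ⊔ B)).map (A ⊔ B).subtype = B := by
    apply le_antisymm
    · rw [H72.pResidual_map_eq, Subgroup.closure_le]
      exact fun x hx => hmem x hx.1 hx.2
    · conv_lhs => rw [← hBres, H72.pResidual_map_eq]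
      rw [H72.pResidual_map_eq]
      exact Subgroup.closure_mono fun x hx => ⟨Subgroup.mem_sup_right hx.1, hx.2⟩
  refine ⟨?_, heq⟩
  calc A ≤ A ⊔ B := le_sup_left
    _ ≤ Subgroup.normalizer ((A ⊔ B : Subgroup H) : Set H) := Subgroup.le_normalizer
    _ ≤ Subgroup.normalizer (((Cfsg.pResidual p ↥(A ⊔ B)).map (A ⊔ B).subtype : Subgroup H) : Set H) :=
      H72.normalizer_le_normalizer_pResidual _
    _ = _ := by rw [heq]

end Cfsg.Agent.S2820
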