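import Cfsg.Statements.S3028
import Cfsg.Agent.H75.SubnormalJoin

set_option autoImplicit false
set_option linter.all false
open Cfsg

namespace Cfsg.Agent.S3028


/-- Let G be a finite group, p a prime, S a Sylow p-subgroup of G and A₁, A₂ subnormal subgroups of G. Then the join of S ∩ A₁ and S ∩ A₂ is a Sylow p-subgroup of the join of A₁ and A₂; equivalently ⟨A₁, A₂⟩ ∩ S = ⟨A₁ ∩ S, A₂ ∩ S⟩. -/
theorem result {G : Type*} [Group G] [Finite G] {p : ℕ} [Fact p.Prime] (S : Sylow p G) (A₁ A₂ : Subgroup G)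
    (h₁ : A₁.IsSubnormal) (h₂ : A₂.IsSubnormal) :
    (A₁ ⊔ A₂) ⊓ (S : Subgroup G) = (A₁ ⊓ (S : Subgroup G)) ⊔ (A₂ ⊓ (S : Subgroup G)) := by
  have hJ : (A₁ ⊔ A₂).IsSubnormal := Cfsg.Agent.H32.isSubnormal_sup h₁ h₂
  obtain ⟨Q, hQ⟩ := Cfsg.Agent.S0542.result p (A₁ ⊔ A₂) hJ S
  refine le_antisymm ?_ (sup_le (inf_le_inf_right _ le_sup_left) (inf_le_inf_right _ le_sup_right))
  have h := Cfsg.Agent.H75.sylow_le_join p _ ↥(A₁ ⊔ A₂) rfl Q _ _ h₁.subgroupOf h₂.subgroupOf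
    (Cfsg.Agent.H75.subgroupOf_sup_eq_top le_sup_left le_sup_right le_rfl)
  have h' := Subgroup.map_mono (f := (A₁ ⊔ A₂).subtype) h
  rw [Subgroup.map_sup, hQ, Subgroup.subgroupOf_map_subtype] at h'
  rw [inf_comm]
  refine h'.trans (sup_le ?_ ?_)
  · refine le_sup_of_le_left ?_
    rintro _ ⟨x, ⟨hx1, hx2⟩, rfl⟩
    exact ⟨hx1, hx2⟩
  · refine le_sup_of_le_right ?_
    rintro _ ⟨x, ⟨hx1, hx2⟩, rfl⟩
    exact ⟨hx1, hx2⟩

end Cfsg.Agent.S3028
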