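import Cfsg.Statements.S3225
import Cfsg.Agent.H77.TransferTwo

set_option autoImplicit false
open Cfsg

namespace Cfsg.Agent.S3225

/-- Let G be a finite group of even order with no subgroup of index 2, S a Sylow 2-subgroup of G and M a subgroup of index 2 in S such that, for some n ≥ 1, every element of S outside M has order greater than 2^(n−1). Then every element of S of order 2ⁿ is conjugate in G to an element of M. -/
theorem result {G : Type*} [Group G] [Finite G] (hev : Even (Nat.card G))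
    (hG : ∀ H : Subgroup G, H.index ≠ 2) (S : Sylow 2 G) (M : Subgroup G) (hMS : M ≤ (S : Subgroup G)) (hM : M.relIndex (S : Subgroup G) = 2)
    (n : ℕ) (hn : 1 ≤ n) (hord : ∀ y ∈ (S : Subgroup G), y ∉ M → 2 ^ (n - 1) < orderOf y)
    (x : G) (hx : x ∈ (S : Subgroup G)) (hxn : orderOf x = 2 ^ n) :
    ∃ g : G, g * x * g⁻¹ ∈ M := by
  refine H77.exists_conj_mem_of_transfer hG S M hMS hM x n hxn fun k g hk hkd hmem => ?_
  by_contra hnm
  have h1 := hord _ hmem hnm
  have h2 : orderOf (g⁻¹ * x ^ k * g) ∣ 2 ^ (n - 1) := by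
    obtain ⟨a, ha, rfl⟩ := (Nat.dvd_prime_pow Nat.prime_two).1 hkd
    have ha0 : a ≠ 0 := by rintro rfl; simp at hk
    refine orderOf_dvd_of_pow_eq_one ?_
    have : g⁻¹ * x ^ 2 ^ a * g = g⁻¹ * x ^ 2 ^ a * g⁻¹⁻¹ := by rw [inv_inv]
    rw [this, conj_pow, ← pow_mul, ← pow_add,
      show a + (n - 1) = n + (a - 1) by omega, pow_add, pow_mul, ← hxn, pow_orderOf_eq_one]
    simp
  exact absurd (Nat.le_of_dvd (pow_pos two_pos _) h2) (by omega)

end Cfsg.Agent.S3225
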