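import Cfsg.Statements.S0946
import Cfsg.Agent.H41.AbelianSylowAction
import Mathlib.GroupTheory.Transfer

set_option autoImplicit false
open Cfsg

namespace Cfsg.Agent.S0946

/-- Let P be a Sylow 2-subgroup of the finite group G isomorphic to Z/2^m × Z/2^m with m ≥ 1. Then either P has a normal complement in G, or all involutions of G are conjugate. -/
theorem result {G : Type*} [Group G] [Finite G] (P : Sylow 2 G) (m : ℕ) (hm : 1 ≤ m) (e : (P : Subgroup G) ≃* Multiplicative (ZMod (2 ^ m) × ZMod (2 ^ m))) : (∃ N : Subgroup G, N.Normal ∧ Subgroup.IsComplement' N (P : Subgroup G)) ∨ ∀ s t : G, orderOf s = 2 → orderOf t = 2 → IsConj s t := by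
  rcases H41.homocyclic_sylow_normalizer P hm e with h | ⟨-, -, htrans⟩
  · left
    exact ⟨_, MonoidHom.normal_ker _, MonoidHom.ker_transferSylow_isComplement' P
      (Subgroup.relIndex_eq_one.1 h)⟩
  · right
    have key : ∀ s : G, orderOf s = 2 → ∃ s' ∈ (P : Subgroup G), orderOf s' = 2 ∧ IsConj s s' := by
      intro s hs
      obtain ⟨Q, hQ⟩ := (IsPGroup.of_card (p := 2) (n := 1)
        (G := Subgroup.zpowers s) (by rw [Nat.card_zpowers, hs, pow_one])).exists_le_sylow
      obtain ⟨g, hg⟩ := MulAction.exists_smul_eq G Q P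
      refine ⟨g * s * g⁻¹, ?_, ?_, isConj_iff.2 ⟨g, rfl⟩⟩
      · rw [← hg]
        exact Subgroup.smul_mem_pointwise_smul _ (MulAut.conj g) _ (hQ (Subgroup.mem_zpowers s))
      · rw [← MulAut.conj_apply, MulEquiv.orderOf_eq, hs]
    intro s t hs ht
    obtain ⟨s', hs', hso, hsc⟩ := key s hs
    obtain ⟨t', ht', hto, htc⟩ := key t ht
    exact hsc.trans ((htrans s' hs' t' ht' hso hto).trans htc.symm)

end Cfsg.Agent.S0946
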