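import Cfsg.Statements.S0948
import Cfsg.Agent.S0942
import Cfsg.Agent.S0944
import Cfsg.Agent.S0946
import Cfsg.Agent.S0947
import Cfsg.Agent.H40.BlockDefect
import Cfsg.Agent.H40.BlockSets

set_option autoImplicit false
open Cfsg

namespace Cfsg.Agent.S0948

/-- Let the finite group G have a Sylow 2-subgroup P that is a Klein four-group, suppose all involutions of G are conjugate, and fix a maximal ideal M of the algebraic integers containing 2. Then the principal block consists of exactly four irreducible characters, the principal character and ζ₂, ζ₃, ζ₄, and there is a sign ε such that for every involution z: ζ₂ z = 1, ζ₃ z = ε, ζ₄ z = -1; moreover ζ₂ 1 ≡ 1, ζ₃ 1 ≡ ε, ζ₄ 1 ≡ -1 (mod 4), and 1 + ζ₂ y + ε ζ₃ y - ζ₄ y = 0 for every y of odd order. -/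
theorem result {G : Type*} [Group G] [Finite G] (M : Ideal Cfsg.AlgInt) (hM : Cfsg.IsPModular 2 M) (P : Sylow 2 G) (hP : IsKleinFour (P : Subgroup G)) (hone : ∀ s t : G, orderOf s = 2 → orderOf t = 2 → IsConj s t) : ∃ ζ₂ ζ₃ ζ₄ : Cfsg.IrrCharacter G, ∃ ε : ℤ, (ε = 1 ∨ ε = -1) ∧ (ζ₂ : G → ℂ) ≠ (fun _ => 1) ∧ (ζ₃ : G → ℂ) ≠ (fun _ => 1) ∧ ζ₂ ≠ ζ₃ ∧ ζ₂ ≠ ζ₄ ∧ ζ₃ ≠ ζ₄ ∧ Cfsg.principalBlock M G = {χ : Cfsg.IrrCharacter G | (χ : G → ℂ) = (fun _ => 1) ∨ χ = ζ₂ ∨ χ = ζ₃ ∨ χ = ζ₄} ∧ (∀ z : G, orderOf z = 2 → (ζ₂ : G → ℂ) z = 1 ∧ (ζ₃ : G → ℂ) z = (ε : ℂ) ∧ (ζ₄ : G → ℂ) z = -1) ∧ (4 : ℤ) ∣ (Cfsg.charDegree (ζ₂ : G → ℂ) : ℤ) - 1 ∧ (4 : ℤ) ∣ (Cfsg.charDegree (ζ₃ : G → ℂ) : ℤ) - ε ∧ (4 : ℤ) ∣ (Cfsg.charDegree (ζ₄ : G → ℂ) : ℤ) + 1 ∧ ∀ y : G, Odd (orderOf y) → 1 + (ζ₂ : G → ℂ) y + (ε : ℂ) * (ζ₃ : G → ℂ) y - (ζ₄ : G → ℂ) y = 0 := by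
  classical
  haveI : Fact (Nat.Prime 2) := ⟨Nat.prime_two⟩
  haveI := hM.2.1
  haveI := Fintype.ofFinite G
  haveI := hP
  haveI := Fintype.ofFinite (Cfsg.IrrCharacter G)
  have hP4 : Nat.card (P : Subgroup G) = 4 := IsKleinFour.card_four
  have hfac : (Nat.card G).factorization 2 = 2 := by
    have := P.card_eq_multiplicity
    rw [hP4] at this
    exact Nat.pow_right_injective le_rfl this.symm
  have hord : ∀ a ∈ (P : Subgroup G), a ≠ 1 → orderOf a = 2 := fun a ha ha1 =>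
    orderOf_eq_prime (by
      have := IsKleinFour.mul_self (⟨a, ha⟩ : (P : Subgroup G))
      simpa [pow_two, Subtype.ext_iff] using this) ha1
  obtain ⟨z, hzP, hz1⟩ := (P : Subgroup G).ne_bot_iff_exists_ne_one.1 (fun h => by
    have h' := hP4
    rw [h, Subgroup.card_bot] at h'
    omega) |> fun ⟨⟨a, ha⟩, h⟩ => (⟨a, ha, fun e => h (Subtype.ext e)⟩ :
      ∃ a ∈ (P : Subgroup G), a ≠ 1)
  have hz2 : orderOf z = 2 := hord z hzP hz1
  have hzpow : ∃ k, orderOf z = 2 ^ k := ⟨1, by rw [hz2, pow_one]⟩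
  set B := Cfsg.principalBlock M G with hB
  haveI := Fintype.ofFinite (Subgroup.centralizer ({z} : Set G))
  have hPC : (P : Subgroup G) ≤ Subgroup.centralizer ({z} : Set G) := fun a ha =>
    Subgroup.mem_centralizer_singleton_iff.2 (congrArg Subtype.val
      (mul_comm_of_exponent_two (G := (P : Subgroup G)) IsKleinFour.exponent_two ⟨a, ha⟩ ⟨z, hzP⟩))
  let Q : Sylow 2 (Subgroup.centralizer ({z} : Set G)) := P.subtype hPC
  have eQ : (Q : Subgroup (Subgroup.centralizer ({z} : Set G))) ≃* (P : Subgroup G) :=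
    Subgroup.subgroupOfEquivOfLe hPC
  haveI : IsKleinFour (Multiplicative (ZMod (2 ^ 1) × ZMod (2 ^ 1))) :=
    inferInstanceAs (IsKleinFour (Multiplicative (ZMod 2 × ZMod 2)))
  obtain ⟨e⟩ := IsKleinFour.nonempty_mulEquiv (G₁ := (P : Subgroup G))
    (G₂ := Multiplicative (ZMod (2 ^ 1) × ZMod (2 ^ 1)))
  have hnc : ∃ k : ℕ, (Cfsg.pPrimeCore 2 (Subgroup.centralizer ({z} : Set G))).index = 2 ^ k := by
    rcases Cfsg.Agent.S0946.result Q 1 le_rfl (eQ.trans e) with ⟨N, hN, hcompl⟩ | hconj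
    · have hQ4 : Nat.card (Q : Subgroup (Subgroup.centralizer ({z} : Set G))) = 4 :=
        (Nat.card_congr eQ.toEquiv).trans hP4
      have hidx : N.index = 2 ^ 2 := by rw [hcompl.symm.index_eq_card, hQ4]; norm_num
      have hcop : (Nat.card N).Coprime 2 := by
        refine ((Nat.prime_two.coprime_iff_not_dvd).2 fun h2 => Q.not_dvd_index ?_).symm
        rwa [hcompl.index_eq_card]
      have hle := Subgroup.index_dvd_of_le (Cfsg.Agent.H19.le_pPrimeCore hN hcop)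
      rw [hidx] at hle
      obtain ⟨k, -, hk⟩ := (Nat.dvd_prime_pow Nat.prime_two).1 hle
      exact ⟨k, hk⟩
    · exfalso
      obtain ⟨⟨a, ha⟩, ha1⟩ : ∃ a : (P : Subgroup G), a ≠ 1 ∧ (a : G) ≠ z := by
        by_contra h
        push_neg at h
        have : Nat.card (P : Subgroup G) ≤ 2 := by
          rw [Nat.card_eq_fintype_card, ← Finset.card_univ]
          refine (Finset.card_le_card (t := {1, ⟨z, hzP⟩}) fun a _ => ?_).trans Finset.card_le_two
          by_cases h1 : a = 1 <;> simp [h1, Subtype.ext_iff]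
          exact h a h1
        omega
      have hc := hconj ⟨z, hPC hzP⟩ ⟨a, hPC ha⟩ (by rw [← hz2, ← Subgroup.orderOf_coe])
        (by rw [← Subgroup.orderOf_coe]; exact hord a ha fun e => ha1.1 (Subtype.ext e))
      obtain ⟨c, hc⟩ := isConj_iff.1 hc
      refine ha1.2 ?_
      rw [← congrArg Subtype.val hc]
      simp only [Subgroup.coe_mul, Subgroup.coe_inv]
      rw [Subgroup.mem_centralizer_singleton_iff.1 c.2, mul_inv_cancel_right]
  -- values on singular elements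
  have hsing : ∀ g : G, 2 ∣ orderOf g → ∀ ζ ∈ B, (ζ : G → ℂ) g = (ζ : G → ℂ) z := by
    intro g hg ζ hζ
    obtain ⟨x, hx⟩ := Cfsg.Agent.H40.exists_isPPart 2 g
    have hx1 : x ≠ 1 := fun h => (Cfsg.Agent.H40.regular_iff_pPart_eq_one hx).2 h hg
    have hx2 : orderOf x = 2 := by
      obtain ⟨y, -, -, ⟨j, hj⟩, -⟩ := id hx
      obtain ⟨R, hR⟩ := (IsPGroup.of_card (p := 2) (n := j)
        (G := Subgroup.zpowers x) (by rw [Nat.card_zpowers, hj])).exists_le_sylow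
      obtain ⟨u, hu⟩ := MulAction.exists_smul_eq G R P
      have hmem : u * x * u⁻¹ ∈ (P : Subgroup G) := by
        rw [← hu]
        exact Subgroup.smul_mem_pointwise_smul _ (MulAut.conj u) _ (hR (Subgroup.mem_zpowers x))
      rw [← MulEquiv.orderOf_eq (MulAut.conj u) x, MulAut.conj_apply]
      exact hord _ hmem (fun e => hx1 (by
        have := congrArg (fun w => u⁻¹ * w * u) e
        simpa [mul_assoc] using this))
    obtain ⟨u, hu⟩ := isConj_iff.1 (hone x z hx2 hz2)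
    have hx' := Cfsg.Agent.H40.isPPart_conj u hx
    rw [hu] at hx'
    obtain ⟨y, hy, hzy, -, hyreg⟩ := hx'
    have hyC : y ∈ Subgroup.centralizer ({z} : Set G) :=
      Subgroup.mem_centralizer_singleton_iff.2 hzy.eq.symm
    have hyN : y ∈ Cfsg.centralizerPPrimeCore 2 z := by
      haveI := Cfsg.Agent.H19.pPrimeCore_normal 2 (Subgroup.centralizer ({z} : Set G))
      refine Subgroup.mem_map.2 ⟨⟨y, hyC⟩, Cfsg.Agent.H41.mem_of_regular_of_index _ hnc ?_, rfl⟩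
      rwa [← Subgroup.orderOf_coe]
    rw [← Cfsg.Agent.H26.irr_conj ζ g u, ← hy]
    exact Cfsg.Agent.S0942.result 2 M hM z hzpow y hyN ζ hζ
  have hint : ∀ ζ : Cfsg.IrrCharacter G, ∃ n : ℤ, (ζ : G → ℂ) z = (n : ℂ) := fun ζ =>
    (Cfsg.Agent.S0944.result ζ z hz2).imp fun n h => h.1
  choose n hn using hint
  have hd : ∀ ζ : Cfsg.IrrCharacter G,
      (ζ : G → ℂ) 1 = (Cfsg.charDegree (ζ : G → ℂ) : ℂ) := fun ζ => by
    obtain ⟨d, hd⟩ := Cfsg.Agent.H26.exists_nat_char_one (Cfsg.Agent.H26.irr_isCharacter ζ)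
    rw [Cfsg.Agent.H42.charDegree_of_eq_nat hd, hd]
  have hdpos : ∀ ζ : Cfsg.IrrCharacter G, 0 < Cfsg.charDegree (ζ : G → ℂ) := fun ζ =>
    Nat.pos_of_ne_zero fun h => Cfsg.Agent.H26.irr_one_ne_zero ζ (by rw [hd ζ, h, Nat.cast_zero])
  have h4 : ∀ ζ ∈ B, (4 : ℤ) ∣ (Cfsg.charDegree (ζ : G → ℂ) : ℤ) + 3 * n ζ := by
    intro ζ hζ
    obtain ⟨k, hk⟩ := Cfsg.Agent.H26.exists_nat_classInner_irr
      (Cfsg.Agent.H26.isCharacter_comp (Cfsg.Agent.H26.irr_isCharacter ζ) (P : Subgroup G).subtype)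
      (Cfsg.Agent.H26.oneIrr (P : Subgroup G))
    refine ⟨k, ?_⟩
    have hval : ∀ a : (P : Subgroup G), (ζ : G → ℂ) a =
        (n ζ : ℂ) + if a = 1 then (Cfsg.charDegree (ζ : G → ℂ) : ℂ) - n ζ else 0 := by
      intro a
      by_cases ha : a = 1
      · simp [ha, hd ζ]
      · rw [if_neg ha, add_zero, ← hn, hsing a ?_ ζ hζ]
        rw [hord a a.2 (fun e => ha (Subtype.ext e))]
    simp only [Cfsg.classInner, Function.comp_apply, Subgroup.coe_subtype,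
      Cfsg.Agent.H26.oneIrr_val, map_one, mul_one] at hk
    rw [inv_mul_eq_iff_eq_mul₀ (Nat.cast_ne_zero.2 Nat.card_pos.ne'),
      Finset.sum_congr (s₂ := Finset.univ) (by ext; simp) fun a _ => hval a, Finset.sum_add_distrib, Finset.sum_const,
      Finset.card_univ, ← Nat.card_eq_fintype_card, hP4, Finset.sum_ite_eq', if_pos (Finset.mem_univ _),
      nsmul_eq_mul, Nat.cast_ofNat] at hk
    have : ((Cfsg.charDegree (ζ : G → ℂ) : ℤ) + 3 * n ζ : ℂ) = ((4 * k : ℤ) : ℂ) := by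
      push_cast
      linear_combination hk
    exact_mod_cast this
  -- column sums
  have hmemB : Cfsg.Agent.H26.oneIrr G ∈ B := Cfsg.Agent.H41.sameBlock_refl _
  have hsq : ∑ ζ ∈ Finset.univ.filter (· ∈ B), n ζ ^ 2 = 4 := by
    have h := (Cfsg.Agent.S0947.result 2 M hM z hzpow hz1 1 (by simp)).2 hnc
    have hc : (Nat.card (Subgroup.centralizer ({z} : Set G))).factorization 2 = 2 := by
      refine le_antisymm (((Nat.factorization_le_iff_dvd Nat.card_pos.ne' Nat.card_pos.ne').2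
        (Subgroup.card_subgroup_dvd_card _) 2).trans hfac.le) ?_
      rw [← Nat.prime_two.pow_dvd_iff_le_factorization Nat.card_pos.ne']
      exact (by rw [hP4]; norm_num : 2 ^ 2 ∣ Nat.card (P : Subgroup G)).trans
        (Subgroup.card_dvd_of_le hPC)
    rw [hc, finsum_mem_eq_finite_toFinset_sum _ (Set.toFinite _)] at h
    have e1 : ∀ ζ : Cfsg.IrrCharacter G, ‖(ζ : G → ℂ) (z * ((1 : Subgroup.centralizer
        ({z} : Set G)) : G))‖ ^ 2 = ((n ζ ^ 2 : ℤ) : ℝ) := fun ζ => by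
      rw [Subgroup.coe_one, mul_one, hn, Complex.norm_intCast, sq_abs]
      push_cast
      rfl
    rw [Finset.sum_congr (s₂ := Finset.univ.filter (· ∈ B)) (by ext; simp [hB]) fun ζ _ => e1 ζ] at h
    exact_mod_cast h
  have horth : ∀ y : G, Odd (orderOf y) →
      ∑ ζ ∈ Finset.univ.filter (· ∈ B), (n ζ : ℂ) * (ζ : G → ℂ) y = 0 := by
    intro y hy
    have h := Cfsg.Agent.H40.sum_block_mul_conj_eq_zero hM
      (Cfsg.Agent.H41.isPBlock_principalBlock (M := M) (G := G)) (x := y) (y := z)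
      (fun h2 => (Nat.not_even_iff_odd.2 hy) (even_iff_two_dvd.2 h2)) (by rw [hz2])
    refine Eq.trans ?_ h
    refine Finset.sum_congr (by ext; simp [hB]) fun ζ _ => ?_
    rw [hn, map_intCast, mul_comm]
  have hn1 : n (Cfsg.Agent.H26.oneIrr G) = 1 := by
    have := hn (Cfsg.Agent.H26.oneIrr G)
    rw [Cfsg.Agent.H26.oneIrr_val] at this
    exact_mod_cast this.symm
  have hne0 : ∀ ζ ∈ B, n ζ ≠ 0 := by
    intro ζ hζ h0
    have hdvd : (2 : ℕ) ^ 2 ∣ Cfsg.charDegree (ζ : G → ℂ) := by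
      have := h4 ζ hζ
      rw [h0, mul_zero, add_zero] at this
      exact_mod_cast this
    have hbl := Cfsg.Agent.H40.blockOf_eq_singleton hM ζ
      (hfac.le.trans ((Nat.prime_two.pow_dvd_iff_le_factorization (hdpos ζ).ne').1 hdvd))
    have h1 : Cfsg.Agent.H26.oneIrr G ∈ Cfsg.blockOf M (ζ : G → ℂ) := Cfsg.Agent.H41.sameBlock_symm hζ
    rw [hbl, Set.mem_singleton_iff] at h1
    rw [← h1] at h0
    rw [hn1] at h0
    exact one_ne_zero h0
  set F := (Finset.univ.filter (· ∈ B)).erase (Cfsg.Agent.H26.oneIrr G) with hF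
  have hFm : ∀ ζ, ζ ∈ F ↔ ζ ≠ Cfsg.Agent.H26.oneIrr G ∧ ζ ∈ B := fun ζ => by simp [hF]
  have hins : Finset.univ.filter (· ∈ B) = insert (Cfsg.Agent.H26.oneIrr G) F :=
    (Finset.insert_erase (by simpa using hmemB)).symm
  have hnotin : Cfsg.Agent.H26.oneIrr G ∉ F := Finset.notMem_erase _ _
  have hsqF : ∑ ζ ∈ F, n ζ ^ 2 = 3 := by
    rw [hins, Finset.sum_insert hnotin, hn1] at hsq
    linarith
  have hpm : ∀ ζ ∈ F, n ζ = 1 ∨ n ζ = -1 := by
    intro ζ hζ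
    have h3 : n ζ ^ 2 ≤ 3 := hsqF ▸ Finset.single_le_sum (f := fun ζ => n ζ ^ 2)
      (fun ζ _ => sq_nonneg _) hζ
    have hb : -1 ≤ n ζ ∧ n ζ ≤ 1 := by constructor <;> nlinarith
    have := hne0 ζ ((hFm ζ).1 hζ).2
    omega
  have hcard : F.card = 3 := by
    have : ∑ ζ ∈ F, n ζ ^ 2 = (F.card : ℤ) := by
      rw [Finset.sum_congr rfl (g := fun _ => (1 : ℤ)) fun ζ hζ => by
        rcases hpm ζ hζ with h | h <;> simp [h]]
      simp
    omega
  have hrel : (1 : ℤ) + ∑ ζ ∈ F, n ζ * Cfsg.charDegree (ζ : G → ℂ) = 0 := by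
    have h := horth 1 (by simp)
    rw [hins, Finset.sum_insert hnotin, hn1, Cfsg.Agent.H26.oneIrr_val, Int.cast_one, mul_one] at h
    simp only [hd] at h
    exact_mod_cast h
  obtain ⟨ζ₂, h2F, h2⟩ : ∃ ζ ∈ F, n ζ = 1 := by
    by_contra h
    push_neg at h
    have : ∀ ζ ∈ F, n ζ * (Cfsg.charDegree (ζ : G → ℂ) : ℤ) ≤ -1 := fun ζ hζ => by
      rw [(hpm ζ hζ).resolve_left (h ζ hζ)]
      have := hdpos ζ
      omega
    have := Finset.sum_le_sum this
    rw [Finset.sum_const, hcard] at this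
    simp at this
    omega
  obtain ⟨ζ₄, h4F, h4'⟩ : ∃ ζ ∈ F, n ζ = -1 := by
    by_contra h
    push_neg at h
    have : ∀ ζ ∈ F, 0 ≤ n ζ * (Cfsg.charDegree (ζ : G → ℂ) : ℤ) := fun ζ hζ => by
      rw [(hpm ζ hζ).resolve_right (h ζ hζ)]
      simp
    have := Finset.sum_nonneg this
    omega
  have hne : ζ₂ ≠ ζ₄ := fun e => by rw [e, h4'] at h2; omega
  obtain ⟨ζ₃, h3⟩ := Finset.card_eq_one.1 (show ((F.erase ζ₂).erase ζ₄).card = 1 by
    rw [Finset.card_erase_of_mem (Finset.mem_erase.2 ⟨hne.symm, h4F⟩),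
      Finset.card_erase_of_mem h2F, hcard])
  have h3m : ζ₃ ∈ (F.erase ζ₂).erase ζ₄ := h3 ▸ Finset.mem_singleton_self _
  simp only [Finset.mem_erase] at h3m
  obtain ⟨h34, h32, h3F⟩ := h3m
  have hFeq : F = {ζ₂, ζ₃, ζ₄} := by
    refine (Finset.eq_of_subset_of_card_le ?_ ?_).symm
    · intro a ha
      simp only [Finset.mem_insert, Finset.mem_singleton] at ha
      rcases ha with rfl | rfl | rfl <;> assumption
    · rw [hcard, Finset.card_eq_three.2 ⟨ζ₂, ζ₃, ζ₄, Ne.symm h32, hne, h34, rfl⟩]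
  have hfun : ∀ ζ ∈ F, (ζ : G → ℂ) ≠ fun _ => 1 := fun ζ hζ e =>
    ((hFm ζ).1 hζ).1 (Subtype.ext (e.trans (funext fun g => (Cfsg.Agent.H26.oneIrr_val g).symm)))
  have hval : ∀ ζ ∈ F, ∀ w : G, orderOf w = 2 → (ζ : G → ℂ) w = (n ζ : ℂ) := fun ζ hζ w hw =>
    (hsing w (by rw [hw]) ζ ((hFm ζ).1 hζ).2).trans (hn ζ)
  refine ⟨ζ₂, ζ₃, ζ₄, n ζ₃, hpm ζ₃ h3F, hfun _ h2F, hfun _ h3F, Ne.symm h32, hne, h34, ?_, ?_, ?_, ?_,
    ?_, ?_⟩
  · ext χ
    show χ ∈ B ↔ _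
    have hχ : χ ∈ B ↔ χ ∈ insert (Cfsg.Agent.H26.oneIrr G) F := by rw [← hins]; simp
    rw [hχ, hFeq, Finset.mem_insert, Finset.mem_insert, Finset.mem_insert, Finset.mem_singleton]
    refine or_congr ⟨fun e => ?_, fun e => ?_⟩ Iff.rfl
    · subst e
      exact funext fun g => Cfsg.Agent.H26.oneIrr_val g
    · exact Subtype.ext (e.trans (funext fun g => (Cfsg.Agent.H26.oneIrr_val g).symm))
  · intro w hw
    exact ⟨by rw [hval _ h2F w hw, h2, Int.cast_one], hval _ h3F w hw,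
      by rw [hval _ h4F w hw, h4', Int.cast_neg, Int.cast_one]⟩
  · have := h4 ζ₂ ((hFm _).1 h2F).2
    rw [h2] at this
    omega
  · have := h4 ζ₃ ((hFm _).1 h3F).2
    omega
  · have := h4 ζ₄ ((hFm _).1 h4F).2
    rw [h4'] at this
    omega
  · intro y hy
    have h := horth y hy
    rw [hins, Finset.sum_insert hnotin, hFeq, Finset.sum_insert (by simp [Ne.symm h32, hne]),
      Finset.sum_insert (by simp [h34]), Finset.sum_singleton, hn1, h2, h4',
      Cfsg.Agent.H26.oneIrr_val] at h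
    push_cast at h
    linear_combination h

end Cfsg.Agent.S0948
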