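import Cfsg.Statements.S0519
import Cfsg.Agent.H29.NormalRankOne

set_option autoImplicit false
open Cfsg

namespace Cfsg.Agent.S0519

open scoped commutatorElement

/-- Let P be a finite p-group in which every abelian normal subgroup is cyclic, but which has a non-cyclic abelian
subgroup. Then p = 2 and P is generalized quaternion, dihedral of order at least 16, or quasi-dihedral. -/
theorem result {P : Type*} [Group P] [Finite P] (p : ℕ) [Fact p.Prime]
    (hP : IsPGroup p P) (hn : ∀ A : Subgroup P, A.Normal → IsMulCommutative A → IsCyclic A)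
    (hm : ∃ B : Subgroup P, IsMulCommutative B ∧ ¬ IsCyclic B) :
    p = 2 ∧ ((∃ n : ℕ, Nonempty (P ≃* QuaternionGroup n)) ∨ (∃ n : ℕ, 8 ≤ n ∧ Nonempty (P ≃* DihedralGroup n)) ∨
      Cfsg.IsQuasiDihedral P) := by
  classical
  obtain ⟨A, hAn, hAc, hAmax⟩ := Cfsg.Agent.H24.exists_maximal_normal_abelian P
  have hCA : Subgroup.centralizer (A : Set P) = A :=
    Cfsg.Agent.H24.centralizer_eq_of_maximal_normal_abelian hP hAc hAmax
  have hAcyc := hn A hAn hAc
  obtain ⟨g, hg⟩ := Subgroup.isCyclic_iff_exists_zpowers_eq_top A |>.mp hAcyc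
  subst hg
  obtain ⟨a, ha⟩ := (IsPGroup.iff_orderOf.mp hP) g
  -- conjugation exponents
  have hexp : ∀ y : P, ∃ r : ℤ, y * g * y⁻¹ = g ^ r := fun y => by
    obtain ⟨r, hr⟩ := hAn.conj_mem g (Subgroup.mem_zpowers g) y
    exact ⟨r, hr.symm⟩
  choose r hr using hexp
  have hz : ∀ i j : ℤ, g ^ i = g ^ j ↔ ((p : ℤ) ^ a) ∣ j - i := fun i j => by
    rw [zpow_eq_zpow_iff_modEq, Int.modEq_iff_dvd, ha]
    norm_num
  have hconj : ∀ (y : P) (j : ℤ), y * g ^ j * y⁻¹ = g ^ (r y * j) := fun y j => by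
    rw [zpow_mul, ← hr, conj_zpow]
  have hrmul : ∀ y y' : P, ((p : ℤ) ^ a) ∣ r y * r y' - r (y * y') := fun y y' => by
    rw [← hz, ← hr, ← hconj, ← hr]
    group
  have hr1 : ∀ y : P, y ∉ Subgroup.zpowers g → ¬ ((p : ℤ) ^ a) ∣ r y - 1 := by
    intro y hy hd
    apply hy
    rw [← hCA, Subgroup.mem_centralizer_iff]
    rintro _ ⟨j, rfl⟩
    have h1 : g ^ r y = g ^ (1 : ℤ) := (hz _ _).mpr (by rw [← dvd_neg, neg_sub]; exact hd)
    have h2 := hconj y j
    rw [zpow_mul, h1, zpow_one, mul_inv_eq_iff_eq_mul] at h2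
    exact h2.symm
  have hr1' : ∀ y : P, y ∈ Subgroup.zpowers g → ((p : ℤ) ^ a) ∣ r y - 1 := by
    rintro y ⟨j, rfl⟩
    rw [← hz, ← hr, zpow_one]
    group
  have hab : commutator P ≤ Subgroup.zpowers g := by
    rw [commutator_def, Subgroup.commutator_le]
    intro y _ y' _
    rw [← hCA, Subgroup.mem_centralizer_iff]
    rintro _ ⟨j, rfl⟩
    have key : ∀ u v : P, ∀ i : ℤ, u * (v * g ^ i * v⁻¹) * u⁻¹ = v * (u * g ^ i * u⁻¹) * v⁻¹ :=
      fun u v i => by rw [hconj, hconj, hconj, hconj]; congr 1; ring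
    have h1 := key y y' (r (y⁻¹) * (r (y'⁻¹) * j))
    have hinv : ∀ u : P, ∀ i : ℤ, u⁻¹ * g ^ i * u = g ^ (r u⁻¹ * i) := fun u i => by
      simpa using hconj u⁻¹ i
    have e1 : g ^ (r (y⁻¹) * (r (y'⁻¹) * j)) = y⁻¹ * (y'⁻¹ * g ^ j * y') * y := by
      rw [hinv, hinv]
    rw [e1] at h1
    have h2 : ⁅y, y'⁆ * g ^ j * ⁅y, y'⁆⁻¹ = g ^ j := by
      rw [commutatorElement_def]
      calc y * y' * y⁻¹ * y'⁻¹ * g ^ j * (y * y' * y⁻¹ * y'⁻¹)⁻¹
          = y * (y' * (y⁻¹ * (y'⁻¹ * g ^ j * y') * y) * y'⁻¹) * y⁻¹ := by group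
        _ = y' * (y * (y⁻¹ * (y'⁻¹ * g ^ j * y') * y) * y⁻¹) * y'⁻¹ := h1
        _ = g ^ j := by group
    exact (mul_inv_eq_iff_eq_mul.mp h2).symm
  -- `P` is not cyclic
  obtain ⟨B, hBc, hBn⟩ := hm
  have hne : ∃ y : P, y ∉ Subgroup.zpowers g := by
    by_contra hc
    push Not at hc
    have : IsCyclic P := ⟨g, fun y => hc y⟩
    exact hBn inferInstance
  obtain ⟨x, hx, hxp⟩ : ∃ x : P, x ∉ Subgroup.zpowers g ∧ x ^ p ∈ Subgroup.zpowers g := by
    obtain ⟨y, hy⟩ := hne
    obtain ⟨k, hk⟩ := (IsPGroup.iff_orderOf.mp hP) y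
    have hex : ∃ i, y ^ p ^ i ∈ Subgroup.zpowers g :=
      ⟨k, by rw [← hk, pow_orderOf_eq_one]; exact one_mem _⟩
    have h0 : Nat.find hex ≠ 0 := by
      intro h
      have := Nat.find_spec hex
      rw [h, pow_zero, pow_one] at this
      exact hy this
    refine ⟨y ^ p ^ (Nat.find hex - 1), fun h => ?_, ?_⟩
    · exact Nat.find_min hex (by omega) h
    · rw [← pow_mul, ← pow_succ, Nat.sub_add_cancel (by omega)]
      exact Nat.find_spec hex
  have hprime : p.Prime := Fact.out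
  -- the exponent of an element with `p`-th power in `A` has order dividing `p`
  have hrp : ∀ y : P, y ^ p ∈ Subgroup.zpowers g → ((p : ℤ) ^ a) ∣ (r y) ^ p - 1 := by
    intro y hy
    have hpow : ∀ k : ℕ, y ^ k * g * (y ^ k)⁻¹ = g ^ ((r y) ^ k) := by
      intro k
      induction k with
      | zero => simp
      | succ k ih =>
        rw [pow_succ' (r y), ← hconj, ← ih, pow_succ']
        group
    have h1 : g ^ ((r y) ^ p) = g ^ (r (y ^ p)) := by rw [← hpow, hr]
    have h2 := hr1' _ hy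
    have h3 := (hz _ _).mp h1
    have := dvd_sub h2 h3
    simpa using this
  -- no element acts trivially on `A / Ω₁(A)`
  have hsmall : ∀ y : P, y ∉ Subgroup.zpowers g → y ^ p ∈ Subgroup.zpowers g →
      (p ≠ 2 ∨ 3 ≤ a) → ¬ ((p : ℤ) ^ a) ∣ (r y - 1) * p := by
    intro y hy hyp hbig hd
    refine Cfsg.Agent.H29.no_small_action hn ha hCA hab hy hyp (e := r y - 1) ?_ ?_ hbig
    · rw [hr]; congr 1; ring
    · rw [← zpow_natCast, ← zpow_mul, ← zpow_zero g, hz, zero_sub, dvd_neg]
      exact hd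
  have hp2 : p = 2 := by
    by_contra hp
    apply hsmall x hx hxp (Or.inl hp)
    have hd := hrp x hxp
    rcases Nat.eq_zero_or_pos a with ha0 | ha0
    · subst ha0; simp
    have hdp : (p : ℤ) ∣ r x - 1 := by
      have h1 : (p : ℤ) ∣ (r x) ^ p - 1 := (dvd_pow_self (p : ℤ) (by omega)).trans hd
      rw [← ZMod.intCast_zmod_eq_zero_iff_dvd] at h1 ⊢
      push_cast at h1 ⊢
      rwa [ZMod.pow_card] at h1
    have hndvd : ¬ (p : ℤ) ∣ r x := by
      intro h
      have h1 : (p : ℤ) ∣ 1 := by simpa using dvd_sub h hdp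
      exact hprime.ne_one (by exact_mod_cast Int.eq_one_of_dvd_one (by positivity) h1)
    have hlte := Int.emultiplicity_pow_sub_pow (p := p) hprime (hprime.odd_of_ne_two hp)
      (x := r x) (y := 1) hdp hndvd p
    rw [one_pow] at hlte
    have h2 := le_emultiplicity_of_pow_dvd hd
    rw [hlte] at h2
    have h3 : emultiplicity p p = 1 :=
      (Nat.finiteMultiplicity_iff.mpr ⟨hprime.ne_one, hprime.pos⟩).emultiplicity_self
    rw [h3] at h2
    obtain ⟨b, hb⟩ : ∃ b, a = b + 1 := ⟨a - 1, by omega⟩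
    rw [hb, Nat.cast_add, Nat.cast_one] at h2
    have h4 : (b : ℕ∞) ≤ emultiplicity (p : ℤ) (r x - 1) :=
      (ENat.add_le_add_iff_right (by simp)).mp h2
    rw [hb, pow_succ]
    exact mul_dvd_mul_right (pow_dvd_of_le_emultiplicity h4) _
  subst hp2
  refine ⟨rfl, ?_⟩
  obtain ⟨b, hb⟩ : ∃ b, a = b + 1 := by
    refine ⟨a - 1, ?_⟩
    rcases Nat.eq_zero_or_pos a with ha0 | ha0
    · subst ha0
      exact absurd (by simp) (hr1 x hx)
    · omega
  have h2a : ((2 : ℕ) : ℤ) ^ a = 2 * 2 ^ b := by rw [hb, pow_succ']; norm_num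
  have hodd : ∀ y : P, y ^ 2 ∈ Subgroup.zpowers g → ¬ (2 : ℤ) ∣ r y := by
    intro y hy h
    have h1 : (2 : ℤ) ∣ (r y) ^ 2 - 1 :=
      dvd_trans ⟨2 ^ b, h2a⟩ (hrp y hy)
    have h2 : (2 : ℤ) ∣ (r y) ^ 2 := dvd_pow h two_ne_zero
    omega
  -- involutory exponents are `-1` modulo `2 ^ b`
  have hneg : ∀ y : P, y ∉ Subgroup.zpowers g → y ^ 2 ∈ Subgroup.zpowers g →
      (2 : ℤ) ^ b ∣ r y + 1 ∧ 1 ≤ b := by
    intro y hy hy2
    obtain ⟨t, ht⟩ : ∃ t, r y = 2 * t + 1 :=
      Int.odd_iff.mpr (Int.two_dvd_ne_zero.mp (hodd y hy2))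
    have h1 := hrp y hy2
    rw [h2a] at h1
    rcases Nat.eq_zero_or_pos b with hb0 | hb0
    · exfalso
      apply hr1 y hy
      rw [h2a, hb0, ht]
      simp
    refine ⟨?_, hb0⟩
    obtain ⟨c, hc⟩ : ∃ c, b = c + 1 := ⟨b - 1, by omega⟩
    rcases Int.even_or_odd t with hte | hto
    · -- `t + 1` is odd, so `2 ^ b ∣ 2 * t`
      obtain ⟨s, hs⟩ := hte
      have hcop : IsCoprime ((2 : ℤ) ^ c) (t + 1) := IsCoprime.pow_left ⟨-s, 1, by rw [hs]; ring⟩
      have h3 : 2 * (2 * (2 : ℤ) ^ c) ∣ 2 * (2 * (t * (t + 1))) := by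
        convert h1 using 1
        · rw [hc, pow_succ']
        · rw [ht]; ring
      have h4 : (2 : ℤ) ^ c ∣ t := hcop.dvd_of_dvd_mul_right
        (Int.dvd_of_mul_dvd_mul_left two_ne_zero (Int.dvd_of_mul_dvd_mul_left two_ne_zero h3))
      rcases Nat.lt_or_ge a 3 with ha3 | ha3
      · have : c = 0 := by omega
        subst this
        rw [hc, ht]
        exact ⟨t + 1, by ring⟩
      · exfalso
        refine hsmall y hy hy2 (Or.inr ha3) ?_
        rw [h2a, hc, pow_succ', ht]
        obtain ⟨d, hd⟩ := h4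
        exact ⟨d, by rw [hd]; push_cast; ring⟩
    · obtain ⟨s, hs⟩ := hto
      have hcop : IsCoprime ((2 : ℤ) ^ c) t := IsCoprime.pow_left ⟨-s, 1, by rw [hs]; ring⟩
      have h3 : 2 * (2 * (2 : ℤ) ^ c) ∣ 2 * (2 * (t * (t + 1))) := by
        convert h1 using 1
        · rw [hc, pow_succ']
        · rw [ht]; ring
      obtain ⟨d, hd⟩ : (2 : ℤ) ^ c ∣ t + 1 := hcop.dvd_of_dvd_mul_left
        (Int.dvd_of_mul_dvd_mul_left two_ne_zero (Int.dvd_of_mul_dvd_mul_left two_ne_zero h3))
      rw [hc, pow_succ', ht]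
      exact ⟨d, by linear_combination 2 * hd⟩
  have hb1 : 1 ≤ b := (hneg x hx hxp).2
  -- every element squares into `A`
  have hsq : ∀ y : P, y ^ 2 ∈ Subgroup.zpowers g := by
    intro y
    by_contra hy
    obtain ⟨k, hk⟩ := (IsPGroup.iff_orderOf.mp hP) y
    have hex : ∃ i, y ^ 2 ^ i ∈ Subgroup.zpowers g :=
      ⟨k, by rw [← hk, pow_orderOf_eq_one]; exact one_mem _⟩
    have h2 : 2 ≤ Nat.find hex := by
      by_contra hlt
      have hs := Nat.find_spec hex
      rcases Nat.lt_or_ge (Nat.find hex) 1 with h | h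
      · rw [Nat.lt_one_iff.mp h] at hs
        exact hy (pow_mem (by simpa using hs) 2)
      · rw [show Nat.find hex = 1 by omega] at hs
        exact hy (by simpa using hs)
    obtain ⟨i, hi⟩ : ∃ i, Nat.find hex = i + 2 := ⟨Nat.find hex - 2, by omega⟩
    set u := y ^ 2 ^ i with hu
    have hu2 : u ^ 2 ∉ Subgroup.zpowers g := by
      rw [hu, ← pow_mul, ← pow_succ]
      exact Nat.find_min hex (by omega)
    have hu4 : (u ^ 2) ^ 2 ∈ Subgroup.zpowers g := by
      rw [hu, ← pow_mul, ← pow_mul, show 2 ^ i * (2 * 2) = 2 ^ (i + 2) by ring, ← hi]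
      exact Nat.find_spec hex
    have hr2 : ((2 : ℕ) : ℤ) ^ a ∣ (r u) ^ 2 - r (u ^ 2) := by
      have h := hrmul u u
      rwa [← pow_two, ← pow_two] at h
    obtain ⟨hn1, -⟩ := hneg _ hu2 hu4
    have hodd2 := hodd _ hu4
    rcases Nat.lt_or_ge b 2 with hb2 | hb2
    · -- `A` has order four
      have hb' : b = 1 := by omega
      subst hb'
      apply hr1 _ hu2
      rw [h2a] at hr2 ⊢
      have h4 : (2 : ℤ) ∣ r u ∨ ∃ t, r u = 2 * t + 1 := by
        rcases Int.even_or_odd (r u) with h | ⟨t, ht⟩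
        · exact Or.inl h.two_dvd
        · exact Or.inr ⟨t, ht⟩
      rcases h4 with ⟨t, ht⟩ | ⟨t, ht⟩
      · exfalso
        apply hodd2
        rw [ht, show (2 * t) ^ 2 = 4 * (t * t) by ring] at hr2
        norm_num at hr2
        omega
      · rw [ht, show (2 * t + 1) ^ 2 = 4 * (t * t + t) + 1 by ring] at hr2
        norm_num at hr2 ⊢
        omega
    · have h4b : (4 : ℤ) ∣ 2 ^ b := by
        obtain ⟨c, hc⟩ : ∃ c, b = c + 2 := ⟨b - 2, by omega⟩
        exact ⟨2 ^ c, by rw [hc]; ring⟩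
      have h4a : (4 : ℤ) ∣ (r u) ^ 2 - r (u ^ 2) :=
        dvd_trans (dvd_trans h4b ⟨2, by rw [h2a]; ring⟩) hr2
      have h4n : (4 : ℤ) ∣ r (u ^ 2) + 1 := h4b.trans hn1
      rcases Int.even_or_odd (r u) with ⟨t, ht⟩ | ⟨t, ht⟩
      · rw [ht, show (t + t) ^ 2 = 4 * (t * t) by ring] at h4a
        omega
      · rw [ht, show (2 * t + 1) ^ 2 = 4 * (t * t + t) + 1 by ring] at h4a
        omega
  -- `A` has index two
  have hindex : ∀ y : P, y ∉ Subgroup.zpowers g → x * y ∈ Subgroup.zpowers g := by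
    intro y hy
    by_contra hxy
    obtain ⟨⟨c₁, h1⟩, -⟩ := hneg x hx hxp
    obtain ⟨⟨c₂, h2⟩, -⟩ := hneg y hy (hsq y)
    obtain ⟨⟨c₃, h3⟩, -⟩ := hneg _ hxy (hsq _)
    obtain ⟨c₄, h4⟩ := hrmul x y
    rw [h2a] at h4
    rcases Nat.lt_or_ge b 2 with hb2 | hb2
    · have hb' : b = 1 := by omega
      subst hb'
      apply hr1 _ hxy
      rw [h2a]
      have e1 : r x = 2 * c₁ - 1 := by rw [pow_one] at h1; linarith
      have e2 : r y = 2 * c₂ - 1 := by rw [pow_one] at h2; linarith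
      have hx4 := hr1 x hx
      have hy4 := hr1 y hy
      rw [h2a, e1] at hx4
      rw [h2a, e2] at hy4
      rw [e1, e2] at h4
      norm_num at hx4 hy4 h4 ⊢
      obtain ⟨d₁, hd₁⟩ : ∃ d, c₁ = 2 * d := ⟨c₁ / 2, by omega⟩
      obtain ⟨d₂, hd₂⟩ : ∃ d, c₂ = 2 * d := ⟨c₂ / 2, by omega⟩
      rw [hd₁, hd₂] at h4
      ring_nf at h4
      omega
    · obtain ⟨c, hc⟩ : ∃ c, b = c + 2 := ⟨b - 2, by omega⟩
      have e1 : r x = 2 ^ b * c₁ - 1 := by linarith
      have e2 : r y = 2 ^ b * c₂ - 1 := by linarith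
      have e3 : r (x * y) = 2 ^ b * c₃ - 1 := by linarith
      rw [e1, e2, e3, hc, pow_add] at h4
      ring_nf at h4
      omega
  have hcard : Nat.card P = 2 * 2 ^ a := by
    have hi : (Subgroup.zpowers g).index = 2 := by
      rw [Subgroup.index_eq_two_iff]
      refine ⟨x, fun y => ?_⟩
      have hA : ∀ z, z * z ∈ Subgroup.zpowers g := fun z => by rw [← pow_two]; exact hsq z
      by_cases hy : y ∈ Subgroup.zpowers g
      · refine Or.inr ⟨hy, fun h => hx ?_⟩
        exact (Subgroup.mul_mem_cancel_left _ hy).mp h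
      · refine Or.inl ⟨?_, hy⟩
        have h := hindex y hy
        obtain ⟨i, hi⟩ := h
        simp only at hi
        have h' : y * x = y * (x * y) * y⁻¹ := by group
        rw [h', ← hi]
        exact hAn.conj_mem _ ⟨i, rfl⟩ y
    rw [← Subgroup.card_mul_index (Subgroup.zpowers g), hi, Nat.card_zpowers, ha, mul_comm]
  -- the square of `x`
  obtain ⟨hneg1, -⟩ := hneg x hx hxp
  obtain ⟨c₁, hc₁⟩ := hneg1
  obtain ⟨j, hj⟩ := hxp
  simp only at hj
  have hjd : (2 : ℤ) ^ b ∣ j := by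
    have h := hconj x j
    rw [hj, pow_two, show x * (x * x) * x⁻¹ = x * x by group, ← pow_two, ← hj, hz, h2a] at h
    have e1 : r x * j - j = 2 * ((2 ^ (b - 1) * c₁ - 1) * j) := by
      have : (2 : ℤ) ^ b = 2 * 2 ^ (b - 1) := by rw [← pow_succ']; congr 1; omega
      rw [show r x = 2 ^ b * c₁ - 1 by linarith, this]
      ring
    rw [e1] at h
    have h' := Int.dvd_of_mul_dvd_mul_left two_ne_zero h
    rcases Nat.lt_or_ge b 2 with hb2 | hb2
    · have hb' : b = 1 := by omega
      subst hb'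
      have h4 := hr1 x hx
      rw [h2a, show r x = 2 * c₁ - 1 by rw [pow_one] at hc₁; linarith] at h4
      norm_num at h4 h' ⊢
      obtain ⟨d, hd⟩ : ∃ d, c₁ = 2 * d := ⟨c₁ / 2, by omega⟩
      rw [hd] at h'
      ring_nf at h'
      omega
    · refine IsCoprime.dvd_of_dvd_mul_left (IsCoprime.pow_left ?_) h'
      obtain ⟨c, hc⟩ : ∃ c, b - 1 = c + 1 := ⟨b - 2, by omega⟩
      rw [hc]
      exact ⟨2 ^ c * c₁, -1, by ring⟩
  obtain ⟨i, hi⟩ := hjd
  -- either `x` inverts `g`, or `P` is quasi-dihedral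
  rcases Int.even_or_odd c₁ with ⟨d, hd⟩ | ⟨d, hd⟩
  · have hinv : x * g * x⁻¹ = g⁻¹ := by
      rw [hr, ← zpow_neg_one, hz, h2a]
      exact ⟨-d, by rw [hd] at hc₁; linarith⟩
    rcases Int.even_or_odd i with ⟨l, hl⟩ | ⟨l, hl⟩
    · have hx1 : x * x = 1 := by
        rw [← pow_two, ← hj, ← zpow_zero g, hz, h2a]
        exact ⟨-l, by rw [hi, hl]; ring⟩
      refine Or.inr (Or.inl ⟨2 ^ a, ?_, Cfsg.Agent.H6.nonempty_equiv_dihedral (by positivity)
        ha hx1 hinv hx hcard⟩)
      -- order eight would give a normal four-group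
      by_contra hlt
      have ha2 : a = 2 := by
        rcases Nat.lt_or_ge a 3 with h | h
        · omega
        · exact absurd (le_trans (le_refl 8) (by
            calc 8 = 2 ^ 3 := rfl
              _ ≤ 2 ^ a := Nat.pow_le_pow_right two_pos h)) hlt
      have hg4 : g ^ 4 = 1 := by rw [← pow_orderOf_eq_one g, ha, ha2]; rfl
      have hgx : ∀ k : ℕ, x * g ^ k * x⁻¹ = (g ^ k)⁻¹ := fun k => by
        rw [← conj_pow, hinv, inv_pow]
      have hg2 : (g ^ 2)⁻¹ = g ^ 2 := inv_eq_of_mul_eq_one_right (by rw [← pow_add]; exact hg4)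
      have hx2c : x * g ^ 2 = g ^ 2 * x := by
        have h := hgx 2
        rw [hg2, mul_inv_eq_iff_eq_mul] at h
        exact h
      let K := Subgroup.zpowers (g ^ 2) ⊔ Subgroup.zpowers x
      let : Fintype K := Fintype.ofFinite _
      have hKc : IsMulCommutative K := by
        apply Cfsg.Agent.H24.isMulCommutative_sup_zpowers inferInstance
        rw [Subgroup.mem_centralizer_iff]
        rintro _ ⟨k, rfl⟩
        exact (Commute.zpow_left (show Commute (g ^ 2) x from hx2c.symm) k).eq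
      have hKi : K.index = 2 ∨ K.index = 1 := by
        have h1 : 4 ≤ Nat.card K := by
          have hsub : ({1, g ^ 2, x, g ^ 2 * x} : Finset P) ⊆ (K : Set P).toFinset := by
            intro w hw
            simp only [Finset.mem_insert, Finset.mem_singleton] at hw
            rw [Set.mem_toFinset]
            have h2 : g ^ 2 ∈ K := Subgroup.mem_sup_left (Subgroup.mem_zpowers _)
            have h3 : x ∈ K := Subgroup.mem_sup_right (Subgroup.mem_zpowers _)
            rcases hw with rfl | rfl | rfl | rfl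
            exacts [one_mem K, h2, h3, mul_mem h2 h3]
          have h4 := Finset.card_le_card hsub
          rw [Set.toFinset_card, ← Nat.card_eq_fintype_card] at h4
          refine le_trans ?_ h4
          have hgne : g ^ 2 ≠ 1 := by
            intro h
            have := orderOf_dvd_of_pow_eq_one h
            rw [ha, ha2] at this
            norm_num at this
          have hxne : x ≠ 1 := fun h => hx (h ▸ one_mem _)
          have hgxne : g ^ 2 ≠ x := fun h => hx (h ▸ Subgroup.pow_mem _ (Subgroup.mem_zpowers g) 2)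
          have hgx1 : g ^ 2 * x ≠ 1 := fun h => hgxne (by
            have := inv_eq_of_mul_eq_one_right h
            rw [hg2] at this
            exact this)
          rw [Finset.card_insert_of_notMem, Finset.card_insert_of_notMem,
            Finset.card_insert_of_notMem, Finset.card_singleton]
          · simpa using fun h => hgne h
          · simp only [Finset.mem_insert, Finset.mem_singleton, not_or]
            exact ⟨hgxne, fun h => hxne (by simpa using h)⟩
          · simp only [Finset.mem_insert, Finset.mem_singleton, not_or]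
            exact ⟨Ne.symm hgne, Ne.symm hxne, Ne.symm hgx1⟩
        have h5 := Subgroup.card_mul_index K
        rw [hcard, ha2] at h5
        have h6 : 0 < K.index := Nat.pos_of_ne_zero Subgroup.index_ne_zero_of_finite
        have h7 : 4 * K.index ≤ 8 := le_trans (Nat.mul_le_mul_right _ h1) h5.le
        omega
      have hKn : K.Normal := by
        rcases hKi with h | h
        · exact Subgroup.normal_of_index_eq_two h
        · rw [Subgroup.index_eq_one.mp h]; infer_instance
      have hKcyc : IsCyclic K := hn K hKn hKc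
      have hcount := IsCyclic.card_pow_eq_one_le (α := K) (n := 2) two_pos
      let z₁ : K := ⟨g ^ 2, Subgroup.mem_sup_left (Subgroup.mem_zpowers _)⟩
      let z₂ : K := ⟨x, Subgroup.mem_sup_right (Subgroup.mem_zpowers _)⟩
      have hne1 : z₁ ≠ 1 := fun h => by
        have h' : g ^ 2 = 1 := congrArg Subtype.val h
        have := orderOf_dvd_of_pow_eq_one h'
        rw [ha, ha2] at this
        norm_num at this
      have hne2 : z₂ ≠ 1 := fun h => hx (by
        have h' : x = 1 := congrArg Subtype.val h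
        rw [h']; exact one_mem _)
      have hne3 : z₁ ≠ z₂ := fun h => hx (by
        have h' : g ^ 2 = x := congrArg Subtype.val h
        rw [← h']; exact Subgroup.pow_mem _ (Subgroup.mem_zpowers g) 2)
      have hsub : ({1, z₁, z₂} : Finset K) ⊆ Finset.univ.filter (fun w : K => w ^ 2 = 1) := by
        intro w hw
        simp only [Finset.mem_insert, Finset.mem_singleton] at hw
        refine Finset.mem_filter.mpr ⟨Finset.mem_univ _, ?_⟩
        rcases hw with rfl | rfl | rfl
        · simp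
        · exact Subtype.ext (by simpa [z₁, ← pow_mul] using hg4)
        · exact Subtype.ext (by simpa [z₂, pow_two] using hx1)
      have h3 := (Finset.card_le_card hsub).trans hcount
      rw [Finset.card_insert_of_notMem (by simp [Ne.symm hne1, Ne.symm hne2]),
        Finset.card_insert_of_notMem (by simp [hne3]), Finset.card_singleton] at h3
      omega
    · refine Or.inl ⟨2 ^ b, Cfsg.Agent.H6.nonempty_equiv_quaternion (by positivity)
        (by rw [ha, hb, pow_succ']) ?_ hinv hx (by rw [hcard, hb]; ring)⟩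
      rw [← pow_two, ← hj, ← zpow_natCast, hz, h2a]
      push_cast
      exact ⟨-l, by rw [hi, hl]; ring⟩
  · -- `r x = -1 + 2 ^ b` modulo `2 ^ a`
    have hb2 : 2 ≤ b := by
      by_contra h
      have hb' : b = 1 := by omega
      subst hb'
      apply hr1 x hx
      rw [h2a, show r x = 2 * c₁ - 1 by rw [pow_one] at hc₁; linarith, hd]
      norm_num
      omega
    refine Or.inr (Or.inr ⟨a, by omega, by rw [hcard, pow_succ'], g, ?_⟩)
    have hcast : ((2 ^ (a - 1) - 1 : ℕ) : ℤ) = 2 ^ b - 1 := by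
      rw [Nat.cast_sub Nat.one_le_two_pow, hb, Nat.add_sub_cancel]
      push_cast
      rfl
    rcases Int.even_or_odd i with ⟨l, hl⟩ | ⟨l, hl⟩
    · refine ⟨x, ha, orderOf_eq_prime ?_ (fun h => hx (h ▸ one_mem _)), ?_⟩
      · rw [← hj, ← zpow_zero g, hz, h2a]
        exact ⟨-l, by rw [hi, hl]; ring⟩
      · rw [hr, ← zpow_natCast, hz, hcast, h2a]
        exact ⟨-d, by rw [hd] at hc₁; linarith⟩
    · refine ⟨g * x, ha, orderOf_eq_prime ?_ (fun h => hx ?_), ?_⟩
      · have e1 : (g * x) ^ 2 = g * (x * g * x⁻¹) * x ^ 2 := by rw [pow_two, pow_two]; group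
        rw [e1, hr, ← hj, ← zpow_one_add, ← zpow_add, ← zpow_zero g, hz, h2a]
        exact ⟨-(d + l + 1), by rw [hi, hl]; rw [hd] at hc₁; linear_combination -hc₁⟩
      · rw [show x = g⁻¹ * (g * x) by group, h, mul_one]
        exact inv_mem (Subgroup.mem_zpowers g)
      · rw [show g * x * g * (g * x)⁻¹ = g * (x * g * x⁻¹) * g⁻¹ by group, hr,
          (Commute.self_zpow g (r x)).eq, mul_inv_cancel_right, ← zpow_natCast, hz, hcast, h2a]
        exact ⟨-d, by rw [hd] at hc₁; linarith⟩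

end Cfsg.Agent.S0519
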