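import Cfsg.Statements.S3279
import Cfsg.Agent.H28.ZStar
import Cfsg.Agent.H76.PGroupFixed
import Cfsg.Agent.S0111
import Cfsg.Agent.S0519
import Cfsg.Agent.H28.TwoRankOne

set_option autoImplicit false
open Cfsg

namespace Cfsg.Agent.S3279

universe v

theorem sq_one_of_two {G : Type v} [Group G] {u : G} (h : orderOf u = 2) : u * u = 1 := by
  have := pow_orderOf_eq_one u
  rwa [h, pow_two] at this

theorem oconj {G : Type v} [Group G] (x g : G) : orderOf (g * x * g⁻¹) = orderOf x := by
  simpa using MulEquiv.orderOf_eq (MulAut.conj g) x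

theorem two_of_sq_one {G : Type v} [Group G] {u : G} (h : u * u = 1) (h1 : u ≠ 1) : orderOf u = 2 :=
  have : Fact (Nat.Prime 2) := ⟨Nat.prime_two⟩
  orderOf_eq_prime (by rw [pow_two, h]) h1

/-- An involution `y` whose centraliser has at most the three involutions of a four-group. -/
def Few {G : Type v} [Group G] (y : G) : Prop :=
  orderOf y = 2 ∧ ∀ z u : G, orderOf z = 2 → orderOf u = 2 → Commute y z → Commute y u → z ≠ y →
    u = y ∨ u = z ∨ u = y * z

theorem Few.conj {G : Type v} [Group G] {y : G} (h : Few y) (g : G) : Few (g * y * g⁻¹) := by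
  have key : ∀ a : G, Commute (g * y * g⁻¹) a → Commute y (g⁻¹ * a * g) := fun a ha => by
    simpa [mul_assoc] using ha.map (MulAut.conj g⁻¹).toMonoidHom
  refine ⟨by rw [oconj]; exact h.1, fun z u hz hu hyz hyu hne => ?_⟩
  have oz : orderOf (g⁻¹ * z * g) = 2 := by simpa [hz] using oconj z g⁻¹
  have ou : orderOf (g⁻¹ * u * g) = 2 := by simpa [hu] using oconj u g⁻¹
  have e : ∀ a b : G, g⁻¹ * a * g = b → a = g * b * g⁻¹ := fun a b hab => by rw [← hab]; group
  rcases h.2 _ _ oz ou (key z hyz) (key u hyu) (fun he => hne (e _ _ he)) with h1 | h1 | h1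
  · exact Or.inl (e _ _ h1)
  · exact Or.inr (Or.inl (by rw [e _ _ h1]; group))
  · exact Or.inr (Or.inr (by rw [e _ _ h1]; group))

/-- In a simple group with a non-central element, no involution is isolated. -/
theorem not_isolated {G : Type v} [Group G] [Finite G] [IsSimpleGroup G] {t x : G}
    (hx : orderOf x = 2) (hxc : ∃ s, ¬ Commute s x) (P : Sylow 2 G) (ht : orderOf t = 2)
    (h : ∀ g : G, g * t * g⁻¹ ∈ P → g * t * g⁻¹ = t) : False := by
  have h0 : Cfsg.pPrimeCore 2 G = ⊥ := by
    refine le_bot_iff.mp (sSup_le ?_)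
    rintro N ⟨hN, hco⟩
    rcases hN.eq_bot_or_eq_top with h1 | h1
    · exact le_of_eq h1
    · exfalso
      rw [h1, Subgroup.card_top] at hco
      exact (Nat.Prime.coprime_iff_not_dvd Nat.prime_two).mp hco.symm (hx ▸ orderOf_dvd_natCard x)
  have hiso := Cfsg.Agent.H28.isIsolatedInvolution_of_sylow P ht h
  have hmem : t ∈ Subgroup.center G := by
    rw [Subgroup.mem_center_iff]
    intro g
    have h1 := Cfsg.Agent.H28.zStar hiso g
    rw [h0, Subgroup.mem_bot] at h1
    calc g * t = (t * g * t⁻¹ * g⁻¹) * (g * t) := by rw [h1, one_mul]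
      _ = t * g := by group
  rcases (inferInstance : (Subgroup.center G).Normal).eq_bot_or_eq_top with h1 | h1
  · rw [h1, Subgroup.mem_bot] at hmem
    rw [hmem, orderOf_one] at ht
    omega
  · obtain ⟨s, hs⟩ := hxc
    exact hs (Subgroup.mem_center_iff.mp (h1 ▸ Subgroup.mem_top x) s)

/-- In a simple group a non-central involution is fused into every index two subgroup of a Sylow
2-subgroup. -/
theorem fused {G : Type v} [Group G] [Finite G] [IsSimpleGroup G] (S : Sylow 2 G) (Q : Subgroup G)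
    (hQS : Q ≤ (S : Subgroup G)) (hQi : Q.relIndex (S : Subgroup G) = 2) {u : G} (hu : orderOf u = 2)
    (huS : u ∈ (S : Subgroup G)) (huQ : u ∉ Q) (hnc : ∃ s, ¬ Commute s u) :
    ∃ g : G, g * u * g⁻¹ ∈ Q := by
  rcases Cfsg.Agent.S0111.result S Q hQS hQi u hu huS huQ with ⟨M, hM, hMi, huM⟩ | h
  · exfalso
    rcases hM.eq_bot_or_eq_top with h1 | h1
    · rw [h1, Subgroup.index_bot] at hMi
      have : IsCyclic G := have : Fact (Nat.Prime 2) := ⟨Nat.prime_two⟩
        isCyclic_of_prime_card hMi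
      obtain ⟨s, hs⟩ := hnc
      exact hs ((IsCyclic.commGroup (α := G)).mul_comm s u)
    · rw [h1, Subgroup.index_top] at hMi
      omega
  · exact h

/-- Case of a four group `⟨x, z⟩` normalised by the Sylow subgroup. -/
theorem caseA {G : Type v} [Group G] [Finite G] [IsSimpleGroup G] (S : Sylow 2 G) {x z : G}
    (hF : Few x) (hxS : x ∈ (S : Subgroup G)) (hzS : z ∈ (S : Subgroup G)) (hz : orderOf z = 2)
    (hzc : ∀ s ∈ (S : Subgroup G), Commute s z) (hne : x ≠ z)
    (hn : ∀ s ∈ (S : Subgroup G), s * x * s⁻¹ = x ∨ s * x * s⁻¹ = x * z) :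
    ∃ g : G, g * x * g⁻¹ ∈ (S : Subgroup G) ∧ ∀ s ∈ (S : Subgroup G), Commute s (g * x * g⁻¹) := by
  by_contra hno
  push Not at hno
  have : Fact (Nat.Prime 2) := ⟨Nat.prime_two⟩
  have hx := hF.1
  have hzz := sq_one_of_two hz
  have hxz : Commute x z := hzc x hxS
  -- x is not conjugate to z
  have hncz : ∀ g : G, g * x * g⁻¹ ≠ z := fun g hg => by
    obtain ⟨s, hs, hsn⟩ := hno g (hg ▸ hzS)
    exact hsn (hg ▸ hzc s hs)
  obtain ⟨s0, hs0, hs0n⟩ := hno 1 (by simpa using hxS)
  have hs0x : s0 * x * s0⁻¹ = x * z := (hn s0 hs0).resolve_left (fun h => hs0n (by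
    simpa [Commute, SemiconjBy] using mul_inv_eq_iff_eq_mul.mp h))
  have hs0n' : ¬ Commute s0 x := fun h => by
    have : s0 * x * s0⁻¹ = x := mul_inv_eq_iff_eq_mul.mpr h
    rw [this] at hs0x
    exact absurd (left_eq_mul.mp hs0x) (fun h1 => by rw [h1, orderOf_one] at hz; omega)
  have hnc : ∃ s, ¬ Commute s x := ⟨s0, hs0n'⟩
  -- an element of S commuting with x
  have hinv : ∀ u ∈ (S : Subgroup G), orderOf u = 2 → Commute x u → u = x ∨ u = z ∨ u = x * z :=
    fun u _ hu hc => hF.2 z u hz hu hxz hc hne.symm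
  have hncz' : ∀ g : G, g * (x * z) * g⁻¹ ≠ z := fun g hg => hncz (g * s0) (by
    rw [← hs0x] at hg; rw [← hg]; group)
  -- z is not isolated
  obtain ⟨g, hwS, hwz⟩ : ∃ g : G, g * z * g⁻¹ ∈ (S : Subgroup G) ∧ g * z * g⁻¹ ≠ z := by
    by_contra hcon
    push Not at hcon
    exact not_isolated hx hnc S hz hcon
  obtain ⟨w, hw_def⟩ : ∃ w, w = g * z * g⁻¹ := ⟨_, rfl⟩
  rw [← hw_def] at hwS hwz
  have hw : orderOf w = 2 := by rw [hw_def, oconj, hz]
  have hww := sq_one_of_two hw
  -- a conjugate of z other than z does not commute with x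
  have hbad : ∀ k : G, k * z * k⁻¹ ∈ (S : Subgroup G) → k * z * k⁻¹ ≠ z →
      ¬ Commute x (k * z * k⁻¹) := by
    intro k hk hk1 hc
    rcases hinv _ hk (by rw [oconj, hz]) hc with h1 | h1 | h1
    · exact hncz k⁻¹ (by rw [← h1]; group)
    · exact hk1 h1
    · exact hncz' k⁻¹ (by rw [← h1]; group)
  have hwx : ¬ Commute x w := hw_def ▸ hbad g (hw_def ▸ hwS) (hw_def ▸ hwz)
  -- S acts on `{x, x z}` through a group of order two
  have hmove : ∀ s ∈ (S : Subgroup G), ¬ Commute s x → s * x * s⁻¹ = x * z := fun s hs h =>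
    (hn s hs).resolve_left (fun h1 => h (mul_inv_eq_iff_eq_mul.mp h1))
  have htwo : ∀ s ∈ (S : Subgroup G), ∀ t ∈ (S : Subgroup G), ¬ Commute s x → ¬ Commute t x →
      Commute (s * t) x := by
    intro s hs t ht h1 h2
    have e1 := hmove s hs h1
    have e2 := hmove t ht h2
    refine mul_inv_eq_iff_eq_mul.mp ?_
    calc s * t * x * (s * t)⁻¹ = s * (t * x * t⁻¹) * s⁻¹ := by group
      _ = s * x * s⁻¹ * (s * z * s⁻¹) := by rw [e2]; group
      _ = x * z * z := by rw [e1, mul_inv_eq_iff_eq_mul.mpr (hzc s hs)]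
      _ = x := by rw [mul_assoc, hzz, mul_one]
  have hwmove : w * x * w⁻¹ = x * z := hmove w hwS (fun h => hwx h.symm)
  have hwz' : w * z * w⁻¹ = z := mul_inv_eq_iff_eq_mul.mpr (hzc w hwS)
  -- the elements commuting with x and w
  have hexp : ∀ b ∈ (S : Subgroup G), Commute b x → Commute b w → b = 1 ∨ b = z := by
    intro b hb hbx hbw
    by_cases hb2 : b * b = 1
    · by_cases hb1 : b = 1
      · exact Or.inl hb1
      right
      rcases hinv b hb (two_of_sq_one hb2 hb1) hbx.symm with h1 | h1 | h1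
      · exact absurd (h1 ▸ hbw) hwx
      · exact h1
      · exfalso
        subst h1
        refine hwx ?_
        have := hbw.mul_left (hzc w hwS).symm
        rwa [mul_assoc, hzz, mul_one] at this
    exfalso
    -- an element of order four squaring to z
    obtain ⟨m, hm⟩ : ∃ m, orderOf b = 2 ^ m := by
      obtain ⟨m, hm⟩ := S.2 ⟨b, hb⟩
      have : b ^ (2 ^ m) = 1 := by simpa using congrArg Subtype.val hm
      obtain ⟨k, -, hk⟩ := (Nat.dvd_prime_pow Nat.prime_two).mp (orderOf_dvd_of_pow_eq_one this)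
      exact ⟨k, hk⟩
    have hm2 : 2 ≤ m := by
      by_contra hc
      refine hb2 ?_
      have hd : orderOf b ∣ 2 := by
        rw [hm]; exact (pow_dvd_pow 2 (Nat.lt_succ_iff.mp (not_le.mp hc))).trans (by norm_num)
      rw [← pow_two]; exact orderOf_dvd_iff_pow_eq_one.mp hd
    obtain ⟨c, hc⟩ : ∃ c, c = b ^ (2 ^ (m - 2)) := ⟨_, rfl⟩
    have hc4 : orderOf c = 4 := by
      rw [hc, orderOf_pow_of_dvd (by positivity) (by rw [hm]; exact pow_dvd_pow 2 (by omega)), hm,
        Nat.pow_div (by omega) (by norm_num)]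
      rw [show m - (m - 2) = 2 by omega]
    have hcS : c ∈ (S : Subgroup G) := hc ▸ pow_mem hb _
    have hcw : Commute c w := hc ▸ hbw.pow_left _
    have hcx : Commute c x := hc ▸ hbx.pow_left _
    have hc2 : orderOf (c * c) = 2 := by
      rw [← pow_two, orderOf_pow' c two_ne_zero, hc4]; norm_num
    have hcz : c * c = z := by
      rcases hinv _ (mul_mem hcS hcS) hc2 (hcx.mul_left hcx).symm with h1 | h1 | h1
      · exact absurd (h1 ▸ hcw.mul_left hcw) hwx
      · exact h1
      · exfalso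
        refine hwx ?_
        have := (h1 ▸ hcw.mul_left hcw : Commute (x * z) w).mul_left (hzc w hwS).symm
        rwa [mul_assoc, hzz, mul_one] at this
    -- move `⟨c⟩` into S by an element taking w to z
    obtain ⟨c1, hc1⟩ : ∃ c1, c1 = g⁻¹ * c * g := ⟨_, rfl⟩
    have hc1z : Commute c1 z := by
      have := hcw.map (MulAut.conj g⁻¹).toMonoidHom
      simp only [MulEquiv.coe_toMonoidHom, MulAut.conj_apply, inv_inv] at this
      rw [show g⁻¹ * w * g = z by rw [hw_def]; group] at this
      rwa [hc1]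
    have hSC : (S : Subgroup G) ≤ Subgroup.centralizer ({z} : Set G) := fun s hs =>
      Subgroup.mem_centralizer_singleton_iff.mpr (hzc s hs).eq
    have hc1C : c1 ∈ Subgroup.centralizer ({z} : Set G) :=
      Subgroup.mem_centralizer_singleton_iff.mpr hc1z.eq
    let C := Subgroup.centralizer ({z} : Set G)
    have hp : IsPGroup 2 ↥(Subgroup.zpowers (⟨c1, hc1C⟩ : ↥C)) := by
      refine IsPGroup.of_card (n := 2) ?_
      rw [Nat.card_zpowers, Subgroup.orderOf_mk, hc1]
      have := oconj c g⁻¹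
      rw [inv_inv] at this
      rw [this, hc4]; norm_num
    obtain ⟨P, hP⟩ := hp.exists_le_sylow
    obtain ⟨k, hk⟩ := MulAction.exists_smul_eq ↥C P (S.subtype hSC)
    have hkc : (k : G) * c1 * (k : G)⁻¹ ∈ (S : Subgroup G) := by
      have h1 : k * ⟨c1, hc1C⟩ * k⁻¹ ∈ ((k • P : Sylow 2 ↥C) : Subgroup ↥C) :=
        ⟨_, hP (Subgroup.mem_zpowers _), rfl⟩
      rw [hk, Sylow.coe_subtype, Subgroup.mem_subgroupOf] at h1
      simpa using h1
    obtain ⟨h, hh⟩ : ∃ h, h = (k : G) * g⁻¹ := ⟨_, rfl⟩
    have hhw : h * w * h⁻¹ = z := by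
      have hk' : Commute (k : G) z := Subgroup.mem_centralizer_singleton_iff.mp k.2
      calc h * w * h⁻¹ = (k : G) * z * (k : G)⁻¹ := by rw [hh, hw_def]; group
        _ = z := mul_inv_eq_iff_eq_mul.mpr hk'
    have hd : h * c * h⁻¹ ∈ (S : Subgroup G) := by
      rw [hh]; convert hkc using 1; rw [hc1]; group
    have hsq : h * z * h⁻¹ = (h * c * h⁻¹) * (h * c * h⁻¹) := by rw [← hcz]; group
    refine hbad h (hsq ▸ mul_mem hd hd) (fun he => hwz ?_) ?_
    · have h3 := hhw.trans he.symm
      simpa using h3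
    · rw [hsq]
      by_cases h4 : Commute (h * c * h⁻¹) x
      · exact (h4.mul_left h4).symm
      · exact (htwo _ hd _ hd h4 h4).symm
  -- V = C_S(x)
  have hM : ∀ b ∈ (S : Subgroup G), Commute b x → b = 1 ∨ b = x ∨ b = z ∨ b = x * z := by
    by_contra hcon
    push Not at hcon
    obtain ⟨b, hb, hbx, hb'⟩ := hcon
    let x' : ↥(S : Subgroup G) := ⟨x, hxS⟩
    let z' : ↥(S : Subgroup G) := ⟨z, hzS⟩
    let V : Subgroup ↥(S : Subgroup G) := Subgroup.closure {x', z'}
    have hV : ∀ v ∈ V, (v : G) = 1 ∨ (v : G) = x ∨ (v : G) = z ∨ (v : G) = x * z := by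
      intro v hv
      have hxx := sq_one_of_two hx
      have hzx : z * x = x * z := hxz.symm.eq
      induction hv using Subgroup.closure_induction with
      | mem a ha =>
        rcases ha with rfl | rfl
        · exact Or.inr (Or.inl rfl)
        · exact Or.inr (Or.inr (Or.inl rfl))
      | one => exact Or.inl rfl
      | mul a b _ _ iha ihb =>
        rw [Subgroup.coe_mul]
        have hxxa : ∀ c, x * (x * c) = c := fun c => by rw [← mul_assoc, hxx, one_mul]
        have hzxa : ∀ c, z * (x * c) = x * (z * c) := fun c => by rw [← mul_assoc, hzx, mul_assoc]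
        rcases iha with h1 | h1 | h1 | h1 <;> rcases ihb with h2 | h2 | h2 | h2 <;>
          simp [h1, h2, hxx, hzz, hzx, hxxa, hzxa, mul_assoc]
      | inv a _ iha =>
        rw [Subgroup.coe_inv]
        have hxi : x⁻¹ = x := inv_eq_of_mul_eq_one_right hxx
        have hzi : z⁻¹ = z := inv_eq_of_mul_eq_one_right hzz
        rcases iha with h1 | h1 | h1 | h1 <;> simp [h1, hxi, hzi, hzx]
    have hVx : x' ∈ V := Subgroup.subset_closure (Or.inl rfl)
    have hVz : z' ∈ V := Subgroup.subset_closure (Or.inr rfl)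
    have : V.Normal := by
      refine ⟨fun v hv s => ?_⟩
      have hxz' : x' * z' ∈ V := mul_mem hVx hVz
      induction hv using Subgroup.closure_induction with
      | mem a ha =>
        rcases ha with rfl | rfl
        · rcases hn _ s.2 with h1 | h1
          · convert hVx using 1; exact Subtype.ext h1
          · convert hxz' using 1; exact Subtype.ext h1
        · convert hVz using 1; exact Subtype.ext (mul_inv_eq_iff_eq_mul.mpr (hzc _ s.2))
      | one => simp
      | mul a b _ _ iha ihb =>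
        rw [show s * (a * b) * s⁻¹ = s * a * s⁻¹ * (s * b * s⁻¹) by group]
        exact mul_mem iha ihb
      | inv a _ iha =>
        rw [show s * a⁻¹ * s⁻¹ = (s * a * s⁻¹)⁻¹ by group]
        exact inv_mem iha
    let M : Subgroup ↥(S : Subgroup G) := Subgroup.centralizer {x'}
    have hMn : M.Normal := by
      refine ⟨fun a ha s => ?_⟩
      rw [Subgroup.mem_centralizer_singleton_iff] at ha ⊢
      have hax : Commute (a : G) x := congrArg Subtype.val ha
      apply Subtype.ext
      show Commute ((s : G) * a * (s : G)⁻¹) x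
      have haz : Commute (a : G) z := hzc _ a.2
      have e : ∀ y : G, Commute (a : G) y → Commute ((s : G) * a * (s : G)⁻¹) ((s : G) * y * (s : G)⁻¹) :=
        fun y hy => by simpa using hy.map (MulAut.conj (s : G)).toMonoidHom
      rcases hn _ s.2 with h1 | h1
      · simpa [h1] using e x hax
      · have := (e x hax).mul_right (e z haz)
        rwa [h1, mul_inv_eq_iff_eq_mul.mpr (hzc _ s.2), mul_assoc x z z, hzz, mul_one] at this
    let π := QuotientGroup.mk' V
    have : (M.map π).Normal := hMn.map π (QuotientGroup.mk'_surjective V)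
    have hne0 : M.map π ≠ ⊥ := by
      intro h0
      have h1 : π ⟨b, hb⟩ ∈ M.map π :=
        ⟨_, Subgroup.mem_centralizer_singleton_iff.mpr (Subtype.ext hbx.eq), rfl⟩
      rw [h0, Subgroup.mem_bot] at h1
      have h2 := hV _ ((QuotientGroup.eq_one_iff _).mp h1)
      rcases h2 with h2 | h2 | h2 | h2
      exacts [hb'.1 h2, hb'.2.1 h2, hb'.2.2.1 h2, hb'.2.2.2 h2]
    obtain ⟨q, hq, hq1, hqc⟩ :=
      Cfsg.Agent.H76.exists_central_mem (S.2.to_quotient V) (M.map π) hne0
    obtain ⟨k, hk⟩ := S.2.to_quotient V q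
    obtain ⟨l, -, hl⟩ := (Nat.dvd_prime_pow Nat.prime_two).mp (orderOf_dvd_of_pow_eq_one hk)
    have hl0 : l ≠ 0 := fun h => hq1 (orderOf_eq_one_iff.mp (by rw [hl, h, pow_zero]))
    obtain ⟨m, hm, hmq⟩ := pow_mem hq (2 ^ (l - 1))
    have hq2 : orderOf (q ^ 2 ^ (l - 1)) = 2 := by
      rw [orderOf_pow_of_dvd (by positivity) (by rw [hl]; exact pow_dvd_pow 2 (by omega)), hl,
        Nat.pow_div (by omega) (by norm_num), show l - (l - 1) = 1 by omega, pow_one]
    rw [← hmq] at hq2
    have hπc : ∀ s, π m * π s = π s * π m := fun s => by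
      rw [hmq]; exact ((Subgroup.mem_center_iff.mp (pow_mem hqc _)) (π s)).symm
    have hmV : m ∉ V := fun h => by
      rw [show π m = 1 from (QuotientGroup.eq_one_iff m).mpr h, orderOf_one] at hq2; omega
    have hmm : m * m ∈ V := by
      refine (QuotientGroup.eq_one_iff _).mp ?_
      have := pow_orderOf_eq_one (π m)
      rwa [hq2, pow_two, ← map_mul] at this
    have hmw : m⁻¹ * (⟨w, hwS⟩ * m * (⟨w, hwS⟩ : ↥(S : Subgroup G))⁻¹) ∈ V := by
      refine (QuotientGroup.eq_one_iff _).mp ?_
      show π (m⁻¹ * (⟨w, hwS⟩ * m * (⟨w, hwS⟩ : ↥(S : Subgroup G))⁻¹)) = 1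
      rw [map_mul, map_mul, map_mul, map_inv, map_inv, ← hπc ⟨w, hwS⟩]
      group
    have hmx : Commute (m : G) x :=
      congrArg Subtype.val (Subgroup.mem_centralizer_singleton_iff.mp hm)
    have hmz : Commute (m : G) z := hzc _ m.2
    have hmV' : ∀ v, ((v = 1 ∨ v = x ∨ v = z ∨ v = x * z) → (m : G) ≠ v) := by
      rintro v h rfl
      refine hmV ?_
      rcases h with h | h | h | h
      · convert one_mem V using 1; exact Subtype.ext h
      · convert hVx using 1; exact Subtype.ext h
      · convert hVz using 1; exact Subtype.ext h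
      · convert mul_mem hVx hVz using 1; exact Subtype.ext h
    have hmm' : (m : G) * m = 1 → False := fun h => by
      rcases hinv _ m.2 (two_of_sq_one h (hmV' 1 (Or.inl rfl))) hmx.symm with h1 | h1 | h1
      exacts [hmV' _ (Or.inr (Or.inl rfl)) h1, hmV' _ (Or.inr (Or.inr (Or.inl rfl))) h1,
        hmV' _ (Or.inr (Or.inr (Or.inr rfl))) h1]
    obtain ⟨v, hv, hwmw⟩ : ∃ v, (v = 1 ∨ v = x ∨ v = z ∨ v = x * z) ∧
        w * (m : G) * w⁻¹ = (m : G) * v :=
      ⟨_, hV _ hmw, by simp only [Subgroup.coe_mul, Subgroup.coe_inv]; group⟩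
    have hmzz : (m : G) * m = z := by
      have hmv : Commute (m : G) v := by
        rcases hv with h | h | h | h <;> rw [h]
        exacts [Commute.one_right _, hmx, hmz, hmx.mul_right hmz]
      have hvv : v * v = 1 := by
        rcases hv with h | h | h | h <;> rw [h]
        exacts [one_mul _, sq_one_of_two hx, hzz,
          by rw [hxz.symm.mul_mul_mul_comm, sq_one_of_two hx, hzz, one_mul]]
      have hfix : w * ((m : G) * m) * w⁻¹ = (m : G) * m := by
        rw [show w * ((m : G) * m) * w⁻¹ = (w * m * w⁻¹) * (w * m * w⁻¹) by group, hwmw,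
          hmv.symm.mul_mul_mul_comm, hvv, mul_one]
      rcases hexp _ (mul_mem m.2 m.2) (hmx.mul_left hmx)
        (mul_inv_eq_iff_eq_mul.mp hfix).symm with h1 | h1
      · exact (hmm' h1).elim
      · exact h1
    have hwin : w⁻¹ = w := inv_eq_of_mul_eq_one_right hww
    have hxx := sq_one_of_two hx
    have hback : w * (w * (m : G) * w⁻¹) * w⁻¹ = m := by
      rw [hwin, show w * (w * (m : G) * w) * w = (w * w) * m * (w * w) by group, hww]; simp
    rw [hwmw, show w * ((m : G) * v) * w⁻¹ = (w * m * w⁻¹) * (w * v * w⁻¹) by group, hwmw] at hback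
    rcases hv with h | h | h | h <;> rw [h] at hwmw hback
    · rw [mul_one] at hwmw
      rcases hexp _ m.2 hmx (mul_inv_eq_iff_eq_mul.mp hwmw).symm with h1 | h1
      exacts [hmV' 1 (Or.inl rfl) h1, hmV' _ (Or.inr (Or.inr (Or.inl rfl))) h1]
    · rw [hwmove, mul_assoc, ← mul_assoc x x z, hxx, one_mul] at hback
      exact absurd (mul_eq_left.mp hback) (fun h1 => by rw [h1, orderOf_one] at hz; omega)
    · have hfix : w * ((m : G) * x) * w⁻¹ = (m : G) * x := by
        rw [show w * ((m : G) * x) * w⁻¹ = (w * m * w⁻¹) * (w * x * w⁻¹) by group, hwmw, hwmove,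
          hxz.eq, mul_assoc, ← mul_assoc z z x, hzz, one_mul]
      rcases hexp _ (mul_mem m.2 hxS) (hmx.mul_left (Commute.refl x))
        (mul_inv_eq_iff_eq_mul.mp hfix).symm with h1 | h1
      · exact hmV' x (Or.inr (Or.inl rfl)) (by
          calc (m : G) = (m : G) * x * x := by rw [mul_assoc, hxx, mul_one]
            _ = x := by rw [h1, one_mul])
      · exact hmV' (x * z) (Or.inr (Or.inr (Or.inr rfl))) (by
          calc (m : G) = (m : G) * x * x := by rw [mul_assoc, hxx, mul_one]
            _ = z * x := by rw [h1]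
            _ = x * z := hxz.symm.eq)
    · rw [show w * (x * z) * w⁻¹ = (w * x * w⁻¹) * (w * z * w⁻¹) by group, hwmove, hwz',
        mul_assoc x z z, hzz, mul_one, hxz.eq, mul_assoc, mul_assoc z x x, hxx, mul_one] at hback
      exact absurd (mul_eq_left.mp hback) (fun h1 => by rw [h1, orderOf_one] at hz; omega)
  -- now S has order eight; use transfer with `C_S(w)`
  let Q : Subgroup G := (S : Subgroup G) ⊓ Subgroup.centralizer ({w} : Set G)
  have hQmem : ∀ b ∈ (S : Subgroup G), (b ∈ Q ↔ Commute b w) := fun b hb =>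
    ⟨fun h => Subgroup.mem_centralizer_singleton_iff.mp h.2,
      fun h => ⟨hb, Subgroup.mem_centralizer_singleton_iff.mpr h.eq⟩⟩
  have hxw : x * w * x⁻¹ = z * w := by
    have e2 : w * x = x * z * w := mul_inv_eq_iff_eq_mul.mp hwmove
    rw [inv_eq_of_mul_eq_one_right (sq_one_of_two hx)]
    calc x * w * x = x * (x * z * w) := by rw [mul_assoc, e2]
      _ = (x * x) * (z * w) := by group
      _ = z * w := by rw [sq_one_of_two hx, one_mul]
  have hxwn : ¬ Commute x w := hwx
  have hQin : ∀ b ∈ Q, b = 1 ∨ b = z ∨ b = w ∨ b = z * w := by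
    intro b hb
    have hbw := (hQmem b hb.1).mp hb
    by_cases hbx : Commute b x
    · rcases hexp b hb.1 hbx hbw with h | h
      · exact Or.inl h
      · exact Or.inr (Or.inl h)
    · have hwx' : ¬ Commute w x := fun h => hwx h.symm
      rcases hexp (b * w) (mul_mem hb.1 hwS) (htwo b hb.1 w hwS hbx hwx')
        (hbw.mul_left (Commute.refl w)) with h | h
      · refine Or.inr (Or.inr (Or.inl ?_))
        calc b = b * w * w := by rw [mul_assoc, hww, mul_one]
          _ = w := by rw [h, one_mul]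
      · refine Or.inr (Or.inr (Or.inr ?_))
        calc b = b * w * w := by rw [mul_assoc, hww, mul_one]
          _ = z * w := by rw [h]
  have hQi : Q.relIndex (S : Subgroup G) = 2 := by
    rw [Subgroup.relIndex, Subgroup.index_eq_two_iff_exists_notMem_and]
    refine ⟨⟨x, hxS⟩, fun h => hxwn ((hQmem x hxS).mp (Subgroup.mem_subgroupOf.mp h)), fun b => ?_⟩
    simp only [Subgroup.mem_subgroupOf, Subgroup.coe_mul]
    rw [hQmem _ b.2, hQmem _ (mul_mem b.2 hxS)]
    have h1 : Commute (1 : G) w := Commute.one_left w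
    have hzw : Commute z w := (hzc w hwS).symm
    have hxx := sq_one_of_two hx
    have key : ∀ a : G, a = 1 ∨ a = x ∨ a = z ∨ a = x * z → Commute (a * x) w ∨ Commute a w := by
      rintro a (rfl | rfl | rfl | rfl)
      · exact Or.inr h1
      · exact Or.inl (by rw [hxx]; exact h1)
      · exact Or.inr hzw
      · exact Or.inl (by rw [mul_assoc, hxz.symm.eq, ← mul_assoc, hxx, one_mul]; exact hzw)
    by_cases hbx : Commute (b : G) x
    · exact key _ (hM _ b.2 hbx)
    · have hwx' : ¬ Commute w x := fun h => hwx h.symm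
      obtain ⟨a, ha, hab⟩ : ∃ a, (a = 1 ∨ a = x ∨ a = z ∨ a = x * z) ∧ (b : G) = a * w :=
        ⟨_, hM _ (mul_mem b.2 hwS) (htwo _ b.2 w hwS hbx hwx'),
          by rw [mul_assoc, hww, mul_one]⟩
      rcases key a ha with h | h
      · refine Or.inl ?_
        rw [hab, show a * w * x = a * x * (x⁻¹ * w * x) by group,
          show x⁻¹ * w * x = z * w by
            rw [← hxw, inv_eq_of_mul_eq_one_right (sq_one_of_two hx)]]
        exact h.mul_left (hzw.mul_left (Commute.refl w))
      · exact Or.inr (hab ▸ h.mul_left (Commute.refl w))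
  obtain ⟨k, hk⟩ := fused S Q inf_le_left hQi hx hxS (fun h => hxwn ((hQmem x hxS).mp h)) hnc
  have ho : orderOf (k * x * k⁻¹) = 2 := by rw [oconj, hx]
  rcases hQin _ hk with h | h | h | h
  · rw [h, orderOf_one] at ho; omega
  · exact hncz k h
  · exact hncz (g⁻¹ * k) (by
      calc g⁻¹ * k * x * (g⁻¹ * k)⁻¹ = g⁻¹ * (k * x * k⁻¹) * g := by group
        _ = z := by rw [h, hw_def]; group)
  · exact hncz (g⁻¹ * x⁻¹ * k) (by
      calc g⁻¹ * x⁻¹ * k * x * (g⁻¹ * x⁻¹ * k)⁻¹ = g⁻¹ * (x⁻¹ * (k * x * k⁻¹) * x) * g := by group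
        _ = g⁻¹ * w * g := by rw [h, ← hxw]; group
        _ = z := by rw [hw_def]; group)

/-- Some conjugate of an involution with few commuting involutions is central in the Sylow
subgroup. -/
theorem exists_central_conj {G : Type v} [Group G] [Finite G] [IsSimpleGroup G] (S : Sylow 2 G)
    {x : G} (hF : Few x) (hxS : x ∈ (S : Subgroup G)) :
    ∃ g : G, g * x * g⁻¹ ∈ (S : Subgroup G) ∧ ∀ s ∈ (S : Subgroup G), Commute s (g * x * g⁻¹) := by
  by_contra hno
  push Not at hno
  have : Fact (Nat.Prime 2) := ⟨Nat.prime_two⟩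
  have hx := hF.1
  obtain ⟨s0, hs0, hs0n⟩ := hno 1 (by simpa using hxS)
  rw [one_mul, inv_one, mul_one] at hs0n
  have hnc : ∃ s, ¬ Commute s x := ⟨s0, hs0n⟩
  -- a cyclic subgroup of index two leads to a contradiction
  have hcyc : ∀ c : ↥(S : Subgroup G), orderOf c * 2 = Nat.card ↥(S : Subgroup G) → False := by
    intro c hc
    let C := Subgroup.zpowers c
    have hCi : C.index = 2 := by
      have := C.card_mul_index
      rw [Nat.card_zpowers, ← hc] at this
      exact Nat.eq_of_mul_eq_mul_left (orderOf_pos c) this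
    have hCn : C.Normal := Subgroup.normal_of_index_eq_two hCi
    -- an involution of C is central in S
    have huniq : ∀ u : ↥(S : Subgroup G), u ∈ C → orderOf u = 2 → ∀ s, Commute s u := by
      intro u hu ho s
      have h1 := hCn.conj_mem u hu s
      have h2 : orderOf (s * u * s⁻¹) = 2 := by rw [oconj, ho]
      classical
      have := Fintype.ofFinite ↥C
      have h3 := IsCyclic.card_pow_eq_one_le (α := ↥C) (n := 2) two_pos
      have h4 : (⟨s * u * s⁻¹, h1⟩ : ↥C) = ⟨u, hu⟩ := by
        by_contra hne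
        have hsub : ({1, ⟨s * u * s⁻¹, h1⟩, ⟨u, hu⟩} : Finset ↥C) ⊆
            Finset.univ.filter (fun a : ↥C => a ^ 2 = 1) := by
          intro a ha
          simp only [Finset.mem_insert, Finset.mem_singleton] at ha
          simp only [Finset.mem_filter, Finset.mem_univ, true_and]
          rcases ha with rfl | rfl | rfl
          · simp
          · exact Subtype.ext (by simpa [h2] using pow_orderOf_eq_one (s * u * s⁻¹))
          · exact Subtype.ext (by simpa [ho] using pow_orderOf_eq_one u)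
        have h5 := (Finset.card_le_card hsub).trans h3
        rw [Finset.card_insert_of_notMem, Finset.card_insert_of_notMem, Finset.card_singleton]
          at h5
        · omega
        · simpa using hne
        · simp only [Finset.mem_insert, Finset.mem_singleton, not_or]
          constructor <;> intro he <;> have he' := congrArg (fun a : ↥C => orderOf (a : ↥(S : Subgroup G))) he
          · simp [h2] at he'
          · simp [ho] at he'
      exact mul_inv_eq_iff_eq_mul.mp (congrArg Subtype.val h4)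
    have hxC : (⟨x, hxS⟩ : ↥(S : Subgroup G)) ∉ C := fun h =>
      hs0n (congrArg Subtype.val
        (huniq _ h (by rw [Subgroup.orderOf_mk]; exact hx) ⟨s0, hs0⟩).eq)
    have hQi : (C.map (S : Subgroup G).subtype).relIndex (S : Subgroup G) = 2 := by
      rw [Subgroup.relIndex, Subgroup.subgroupOf,
        Subgroup.comap_map_eq_self_of_injective (Subgroup.subtype_injective _), hCi]
    obtain ⟨g, u, hu, hug⟩ := fused S _ (Subgroup.map_subtype_le C) hQi hx hxS (by
      rintro ⟨a, ha, hax⟩
      exact hxC ((Subtype.ext (by simpa using hax) : a = ⟨x, hxS⟩) ▸ ha)) hnc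
    have hug' : (u : G) = g * x * g⁻¹ := hug
    obtain ⟨s, hs, hsn⟩ := hno g (hug' ▸ u.2)
    have := huniq u hu (by rw [← Subgroup.orderOf_coe, hug', oconj, hx]) ⟨s, hs⟩
    exact hsn (hug' ▸ congrArg Subtype.val this.eq)
  by_cases hW : ∀ A : Subgroup ↥(S : Subgroup G), A.Normal → IsMulCommutative A → IsCyclic A
  · -- no normal four group
    have : Nontrivial ↥(S : Subgroup G) := by
      refine ⟨⟨⟨x, hxS⟩, 1, fun h => ?_⟩⟩
      have h' : x = 1 := congrArg Subtype.val h
      rw [h', orderOf_one] at hx; omega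
    obtain ⟨z, -, hz1, hzc⟩ := Cfsg.Agent.H76.exists_central_mem S.2
      (⊤ : Subgroup ↥(S : Subgroup G)) (by simp)
    obtain ⟨k, hk⟩ := S.2 z
    obtain ⟨l, -, hl⟩ := (Nat.dvd_prime_pow Nat.prime_two).mp (orderOf_dvd_of_pow_eq_one hk)
    have hl0 : l ≠ 0 := fun h => hz1 (orderOf_eq_one_iff.mp (by rw [hl, h, pow_zero]))
    obtain ⟨z0, hz0⟩ : ∃ z0, z0 = z ^ 2 ^ (l - 1) := ⟨_, rfl⟩
    have hz02 : orderOf z0 = 2 := by
      rw [hz0, orderOf_pow_of_dvd (by positivity) (by rw [hl]; exact pow_dvd_pow 2 (by omega)), hl,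
        Nat.pow_div (by omega) (by norm_num), show l - (l - 1) = 1 by omega, pow_one]
    have hz0c : z0 ∈ Subgroup.center ↥(S : Subgroup G) := hz0 ▸ pow_mem hzc _
    let x' : ↥(S : Subgroup G) := ⟨x, hxS⟩
    have hx' : orderOf x' = 2 := by rw [Subgroup.orderOf_mk]; exact hx
    have hxz : x' ≠ z0 := fun h =>
      hs0n (congrArg Subtype.val
        (Subgroup.mem_center_iff.mp (show x' ∈ Subgroup.center _ from h ▸ hz0c) ⟨s0, hs0⟩))
    obtain ⟨-, hq⟩ := Cfsg.Agent.S0519.result 2 S.2 hW ⟨Subgroup.closure {x', z0}, by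
      have hk : ∀ a ∈ ({x', z0} : Set ↥(S : Subgroup G)), ∀ b ∈ ({x', z0} : Set ↥(S : Subgroup G)),
          a * b = b * a := by
        rintro a (rfl | rfl) b (rfl | rfl)
        exacts [rfl, Subgroup.mem_center_iff.mp hz0c _, (Subgroup.mem_center_iff.mp hz0c _).symm, rfl]
      exact Subgroup.isMulCommutative_closure hk, by
      intro hc
      classical
      have := Fintype.ofFinite ↥(Subgroup.closure {x', z0})
      have h3 := IsCyclic.card_pow_eq_one_le (α := ↥(Subgroup.closure {x', z0})) (n := 2) two_pos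
      let a : ↥(Subgroup.closure {x', z0}) := ⟨x', Subgroup.subset_closure (Or.inl rfl)⟩
      let b : ↥(Subgroup.closure {x', z0}) := ⟨z0, Subgroup.subset_closure (Or.inr rfl)⟩
      have hsub : ({1, a, b} : Finset _) ⊆
          Finset.univ.filter (fun c : ↥(Subgroup.closure {x', z0}) => c ^ 2 = 1) := by
        intro c hc
        simp only [Finset.mem_insert, Finset.mem_singleton] at hc
        simp only [Finset.mem_filter, Finset.mem_univ, true_and]
        rcases hc with rfl | rfl | rfl
        · simp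
        · exact Subtype.ext (show x' ^ 2 = 1 from orderOf_dvd_iff_pow_eq_one.mp hx'.dvd)
        · exact Subtype.ext (show z0 ^ 2 = 1 from orderOf_dvd_iff_pow_eq_one.mp hz02.dvd)
      have h5 := (Finset.card_le_card hsub).trans h3
      rw [Finset.card_insert_of_notMem, Finset.card_insert_of_notMem, Finset.card_singleton] at h5
      · omega
      · simpa [a, b] using hxz
      · simp only [Finset.mem_insert, Finset.mem_singleton, not_or]
        constructor <;> intro he
        · have := congrArg Subtype.val he; simp only [OneMemClass.coe_one, a] at this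
          rw [← this, orderOf_one] at hx'; omega
        · have := congrArg Subtype.val he; simp only [OneMemClass.coe_one, b] at this
          rw [← this, orderOf_one] at hz02; omega⟩
    rcases hq with ⟨n, ⟨e⟩⟩ | ⟨n, hn, ⟨e⟩⟩ | ⟨n, hn, hcard, a, b, ha, -, -⟩
    · have hn : n ≠ 0 := by
        rintro rfl
        have : Finite (QuaternionGroup 0) := Finite.of_equiv _ e.toEquiv
        have : Finite ℤ := Finite.of_injective (fun i : ℤ => (QuaternionGroup.a i : QuaternionGroup 0))
          (fun i j h => by injection h)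
        exact not_finite ℤ
      have : NeZero n := ⟨hn⟩
      refine hcyc (e.symm (QuaternionGroup.a 1)) ?_
      rw [e.symm.orderOf_eq, QuaternionGroup.orderOf_a_one, Nat.card_congr e.toEquiv,
        Nat.card_eq_fintype_card, QuaternionGroup.card]
      ring
    · have : NeZero n := ⟨by omega⟩
      refine hcyc (e.symm (DihedralGroup.r 1)) ?_
      rw [e.symm.orderOf_eq, DihedralGroup.orderOf_r_one, Nat.card_congr e.toEquiv,
        DihedralGroup.nat_card]
      ring
    · exact hcyc a (by rw [ha, hcard, pow_succ])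
  -- a normal four group
  push Not at hW
  obtain ⟨A, hAn, hAc, hAnc⟩ := hW
  let W : Subgroup ↥(S : Subgroup G) :=
    { carrier := {a | a ∈ A ∧ a * a = 1}
      one_mem' := ⟨one_mem A, one_mul 1⟩
      mul_mem' := by
        rintro a b ⟨ha, ha2⟩ ⟨hb, hb2⟩
        refine ⟨mul_mem ha hb, ?_⟩
        have hab : Commute b a := congrArg Subtype.val (hAc.is_comm.comm (⟨b, hb⟩ : ↥A) ⟨a, ha⟩)
        rw [hab.mul_mul_mul_comm, ha2, hb2, one_mul]
      inv_mem' := by
        rintro a ⟨ha, ha2⟩
        exact ⟨inv_mem ha, by rw [← mul_inv_rev, ha2, inv_one]⟩ }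
  have : W.Normal := ⟨fun a ha s => ⟨hAn.conj_mem a ha.1 s, by
    rw [show s * a * s⁻¹ * (s * a * s⁻¹) = s * (a * a) * s⁻¹ by group, ha.2]; simp⟩⟩
  have hWtwo : ¬ ∀ u ∈ W, ∀ v ∈ W, u ≠ 1 → v ≠ 1 → u = v := by
    intro hall
    refine hAnc ?_
    have hex : ∃ z0 : ↥(S : Subgroup G), ∀ u ∈ A, orderOf u = 2 → u = z0 := by
      by_cases h : ∃ u ∈ A, orderOf u = 2
      · obtain ⟨u, hu, hu2⟩ := h
        refine ⟨u, fun v hv hv2 => hall v ⟨hv, sq_one_of_two hv2⟩ u ⟨hu, sq_one_of_two hu2⟩ ?_ ?_⟩
        all_goals intro he; subst he; simp at *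
      · exact ⟨1, fun v hv hv2 => absurd ⟨v, hv, hv2⟩ h⟩
    obtain ⟨z0, hz0⟩ := hex
    rcases Cfsg.Agent.H28.cyclic_or_quat_of_unique (S.2.to_subgroup A) hz0 with h | ⟨n, ⟨e⟩⟩
    · exact h
    · exfalso
      have h1 := congrArg e (hAc.is_comm.comm (e.symm (QuaternionGroup.a 1)) (e.symm (QuaternionGroup.xa 0)))
      rw [map_mul, map_mul, e.apply_symm_apply, e.apply_symm_apply,
        QuaternionGroup.a_mul_xa, QuaternionGroup.xa_mul_a, QuaternionGroup.xa.injEq] at h1
      have h2 : ((2 : ℕ) : ZMod (2 * 2 ^ (n + 1))) = 0 := by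
        push_cast
        linear_combination -h1
      rw [ZMod.natCast_eq_zero_iff] at h2
      have := Nat.le_of_dvd two_pos h2
      rw [pow_succ] at this
      have := Nat.one_le_two_pow (n := n)
      omega
  push Not at hWtwo
  obtain ⟨u1, hu1, u2, hu2, hu11, hu21, hu12⟩ := hWtwo
  obtain ⟨z, hzW, hz1, hzc⟩ := Cfsg.Agent.H76.exists_central_mem S.2 W (fun h => hu11 (by
    rwa [h, Subgroup.mem_bot] at hu1))
  let Z : Subgroup ↥(S : Subgroup G) := Subgroup.zpowers z
  have : Z.Normal := ⟨fun a ha s => by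
    obtain ⟨i, rfl⟩ := ha
    rw [Subgroup.mem_center_iff.mp (zpow_mem hzc i) s, mul_inv_cancel_right]
    exact ⟨i, rfl⟩⟩
  have hZ : ∀ a ∈ Z, a = 1 ∨ a = z := by
    intro a ha
    obtain ⟨i, rfl⟩ := ha
    have hz2 : z ^ (2 : ℤ) = 1 := by rw [zpow_two]; exact hzW.2
    rcases Int.even_or_odd i with ⟨j, rfl⟩ | ⟨j, rfl⟩
    · exact Or.inl (by show z ^ (j + j) = 1; rw [← two_mul, zpow_mul, hz2, one_zpow])
    · exact Or.inr (by show z ^ (2 * j + 1) = z; rw [zpow_add, zpow_mul, hz2, one_zpow, one_mul, zpow_one])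
  have : (W.map (QuotientGroup.mk' Z)).Normal :=
    (inferInstance : W.Normal).map _ (QuotientGroup.mk'_surjective Z)
  obtain ⟨q, hq, hq1, hqc⟩ := Cfsg.Agent.H76.exists_central_mem (S.2.to_quotient Z)
    (W.map (QuotientGroup.mk' Z)) (by
      intro h0
      have key : ∀ u ∈ W, u ≠ 1 → u = z := fun u hu hu' => by
        have h1 : QuotientGroup.mk' Z u ∈ W.map (QuotientGroup.mk' Z) := ⟨u, hu, rfl⟩
        rw [h0, Subgroup.mem_bot] at h1
        exact (hZ u ((QuotientGroup.eq_one_iff u).mp h1)).resolve_left hu'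
      exact hu12 ((key u1 hu1 hu11).trans (key u2 hu2 hu21).symm))
  obtain ⟨w0, hw0, rfl⟩ := hq
  have hw0Z : w0 ∉ Z := fun h => hq1 ((QuotientGroup.eq_one_iff w0).mpr h)
  have hconj : ∀ s : ↥(S : Subgroup G), s * w0 * s⁻¹ = w0 ∨ s * w0 * s⁻¹ = w0 * z := by
    intro s
    have h1 : w0⁻¹ * (s * w0 * s⁻¹) ∈ Z := by
      refine (QuotientGroup.eq_one_iff _).mp ?_
      show QuotientGroup.mk' Z _ = 1
      rw [map_mul, map_mul, map_mul, map_inv, map_inv,
        (Subgroup.mem_center_iff.mp hqc (QuotientGroup.mk' Z s))]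
      group
    rcases hZ _ h1 with h | h
    · exact Or.inl (inv_mul_eq_one.mp h).symm
    · exact Or.inr (inv_mul_eq_iff_eq_mul.mp h)
  have hz : orderOf (z : G) = 2 := by
    rw [Subgroup.orderOf_coe]; exact two_of_sq_one hzW.2 hz1
  have hw : orderOf (w0 : G) = 2 := by
    rw [Subgroup.orderOf_coe]
    exact two_of_sq_one hw0.2 (fun h => hw0Z (h ▸ one_mem Z))
  have hzc' : ∀ s ∈ (S : Subgroup G), Commute s (z : G) := fun s hs =>
    congrArg Subtype.val (Subgroup.mem_center_iff.mp hzc ⟨s, hs⟩)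
  have hwz : (w0 : G) ≠ z := fun h => hw0Z (by rw [Subtype.ext h]; exact Subgroup.mem_zpowers z)
  have hwn : ∀ s ∈ (S : Subgroup G), s * (w0 : G) * s⁻¹ = w0 ∨ s * (w0 : G) * s⁻¹ = w0 * z :=
    fun s hs => (hconj ⟨s, hs⟩).imp (congrArg Subtype.val) (congrArg Subtype.val)
  -- reduce to caseA for a conjugate `y` of x
  have hfin : ∀ (k : G), k * x * k⁻¹ ∈ (S : Subgroup G) → Commute (k * x * k⁻¹) (z : G) →
      Commute (k * x * k⁻¹) (w0 : G) → False := by
    intro k hk hkz hkw
    have hFy := hF.conj k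
    obtain ⟨y, hy⟩ : ∃ y, y = k * x * k⁻¹ := ⟨_, rfl⟩
    rw [← hy] at hk hkz hkw hFy
    have hyz : y ≠ z := fun h => by
      obtain ⟨s, hs, hsn⟩ := hno k (hy ▸ hk)
      exact hsn (hy ▸ h ▸ hzc' s hs)
    have hn : ∀ s ∈ (S : Subgroup G), s * y * s⁻¹ = y ∨ s * y * s⁻¹ = y * z := by
      rcases hFy.2 z w0 hz hw hkz hkw hyz.symm with h | h | h
      · exact h ▸ hwn
      · exact absurd h hwz
      · have hy' : y = (w0 : G) * z := by
          rw [h, mul_assoc, sq_one_of_two hz, mul_one]
        intro s hs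
        have hsz : s * (z : G) * s⁻¹ = z := mul_inv_eq_iff_eq_mul.mpr (hzc' s hs)
        rw [hy', show s * ((w0 : G) * z) * s⁻¹ = s * w0 * s⁻¹ * (s * (z : G) * s⁻¹) by group, hsz]
        exact (hwn s hs).imp (fun e => by rw [e]) (fun e => by rw [e])
    obtain ⟨g, hg1, hg2⟩ := caseA S hFy hk z.2 hz hzc' hyz hn
    have e : g * y * g⁻¹ = g * k * x * (g * k)⁻¹ := by rw [hy]; group
    obtain ⟨s, hs, hsn⟩ := hno (g * k) (e ▸ hg1)
    exact hsn (e ▸ hg2 s hs)
  by_cases hxw : Commute x (w0 : G)
  · exact hfin 1 (by simpa using hxS) (by simpa using hzc' x hxS) (by simpa using hxw)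
  let Q : Subgroup G := (S : Subgroup G) ⊓ Subgroup.centralizer ({(w0 : G)} : Set G)
  have hQi : Q.relIndex (S : Subgroup G) = 2 := by
    rw [Subgroup.relIndex, Subgroup.index_eq_two_iff_exists_notMem_and]
    refine ⟨⟨x, hxS⟩, fun h => hxw (Subgroup.mem_centralizer_singleton_iff.mp
      (Subgroup.mem_subgroupOf.mp h).2), fun b => ?_⟩
    simp only [Subgroup.mem_subgroupOf, Subgroup.coe_mul]
    by_cases hb : Commute (b : G) w0
    · exact Or.inr ⟨b.2, Subgroup.mem_centralizer_singleton_iff.mpr hb.eq⟩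
    refine Or.inl ⟨mul_mem b.2 hxS, Subgroup.mem_centralizer_singleton_iff.mpr ?_⟩
    have e1 := (hwn x hxS).resolve_left (fun h => hxw (mul_inv_eq_iff_eq_mul.mp h))
    have e2 := (hwn b b.2).resolve_left (fun h => hb (mul_inv_eq_iff_eq_mul.mp h))
    refine mul_inv_eq_iff_eq_mul.mp ?_
    calc (b : G) * x * w0 * ((b : G) * x)⁻¹ = (b : G) * (x * w0 * x⁻¹) * (b : G)⁻¹ := by group
      _ = ((b : G) * w0 * (b : G)⁻¹) * ((b : G) * z * (b : G)⁻¹) := by rw [e1]; group
      _ = (w0 : G) := by
        rw [e2, mul_inv_eq_iff_eq_mul.mpr (hzc' b b.2), mul_assoc, sq_one_of_two hz, mul_one]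
  obtain ⟨k, hk⟩ := fused S Q inf_le_left hQi hx hxS
    (fun h => hxw (Subgroup.mem_centralizer_singleton_iff.mp h.2)) hnc
  exact hfin k hk.1 (hzc' _ hk.1) (Subgroup.mem_centralizer_singleton_iff.mp hk.2)

/-- Let G be a finite simple group and x an involution of G whose centralizer contains at most three involutions. Then C_G(x) contains a Sylow 2-subgroup of G, and all involutions of G are conjugate. -/
theorem result {G : Type*} [Group G] [Finite G] [IsSimpleGroup G] (x : G) (hx : orderOf x = 2)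
    (h3 : Nat.card {u : ↥(Subgroup.centralizer ({x} : Set G)) // orderOf u = 2} ≤ 3) :
    (∃ S : Sylow 2 G, (S : Subgroup G) ≤ Subgroup.centralizer ({x} : Set G)) ∧
      ∀ u v : G, orderOf u = 2 → orderOf v = 2 → IsConj u v := by
  have : Fact (Nat.Prime 2) := ⟨Nat.prime_two⟩
  have hF : Few x := by
    refine ⟨hx, fun z u hz hu hxz hxu hne => ?_⟩
    by_contra hcon
    push Not at hcon
    obtain ⟨h1, h2, h3'⟩ := hcon
    have hxz2 : orderOf (x * z) = 2 := by
      refine two_of_sq_one ?_ (fun h => hne ?_)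
      · rw [hxz.symm.mul_mul_mul_comm, sq_one_of_two hx, sq_one_of_two hz, one_mul]
      · calc z = (x * x) * z := by rw [sq_one_of_two hx, one_mul]
          _ = x := by rw [mul_assoc, h, mul_one]
    have hm : ∀ a : G, Commute x a → a ∈ Subgroup.centralizer ({x} : Set G) := fun a ha =>
      Subgroup.mem_centralizer_singleton_iff.mpr ha.symm.eq
    let f : Fin 4 → {u : ↥(Subgroup.centralizer ({x} : Set G)) // orderOf u = 2} :=
      ![⟨⟨x, hm x (Commute.refl x)⟩, by rw [Subgroup.orderOf_mk]; exact hx⟩,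
        ⟨⟨z, hm z hxz⟩, by rw [Subgroup.orderOf_mk]; exact hz⟩,
        ⟨⟨u, hm u hxu⟩, by rw [Subgroup.orderOf_mk]; exact hu⟩,
        ⟨⟨x * z, hm _ ((Commute.refl x).mul_right hxz)⟩, by rw [Subgroup.orderOf_mk]; exact hxz2⟩]
    have hne1 : x * z ≠ x := fun h => by
      rw [mul_eq_left.mp h, orderOf_one] at hz; omega
    have hne2 : x * z ≠ z := fun h => by
      rw [mul_eq_right.mp h, orderOf_one] at hx; omega
    have hf : Function.Injective f := by
      intro i j hij
      have := congrArg (fun a => ((a.1 : ↥(Subgroup.centralizer ({x} : Set G))) : G)) hij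
      fin_cases i <;> fin_cases j <;> simp [f] at this ⊢ <;>
        first
        | exact absurd this hne | exact absurd this.symm hne
        | exact absurd this h1 | exact absurd this.symm h1
        | exact absurd this h2 | exact absurd this.symm h2
        | exact absurd this h3' | exact absurd this.symm h3'
        | exact absurd this hne1 | exact absurd this.symm hne1
        | exact absurd this hne2 | exact absurd this.symm hne2
        | (rw [this, orderOf_one] at hz; omega) | (rw [this, orderOf_one] at hx; omega)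
    have := Nat.card_le_card_of_injective f hf
    simp at this
    omega
  by_cases hab : ∀ a b : G, a * b = b * a
  · have hcard : Nat.card G = 2 := by
      have hN : (Subgroup.zpowers x).Normal :=
        ⟨fun a ha b => by rw [hab b a, mul_inv_cancel_right]; exact ha⟩
      rcases hN.eq_bot_or_eq_top with h | h
      · rw [Subgroup.zpowers_eq_bot] at h
        rw [h, orderOf_one] at hx; omega
      · rw [← Subgroup.card_top (G := G), ← h, Nat.card_zpowers, hx]
    refine ⟨?_, fun u v hu hv => ?_⟩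
    · obtain ⟨S⟩ : Nonempty (Sylow 2 G) := inferInstance
      exact ⟨S, fun s _ => Subgroup.mem_centralizer_singleton_iff.mpr (hab s x)⟩
    · obtain ⟨a, b, hne, huniv⟩ := Nat.card_eq_two_iff.mp hcard
      have : u = v := by
        have h1u : u ≠ 1 := fun h => by rw [h, orderOf_one] at hu; omega
        have h1v : v ≠ 1 := fun h => by rw [h, orderOf_one] at hv; omega
        have hmu : ∀ t : G, t = a ∨ t = b := fun t => by
          have : t ∈ ({a, b} : Set G) := huniv ▸ Set.mem_univ t
          simpa using this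
        rcases hmu u with rfl | rfl <;> rcases hmu v with rfl | rfl <;>
          rcases hmu 1 with h1 | h1 <;> simp_all
      exact this ▸ IsConj.refl u
  push Not at hab
  have hnc : ∀ y : G, orderOf y = 2 → ∃ s, ¬ Commute s y := by
    intro y hy
    by_contra hcon
    push Not at hcon
    rcases (inferInstance : (Subgroup.center G).Normal).eq_bot_or_eq_top with h | h
    · have hm : y ∈ Subgroup.center G := Subgroup.mem_center_iff.mpr fun s => hcon s
      rw [h, Subgroup.mem_bot] at hm
      rw [hm, orderOf_one] at hy; omega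
    · obtain ⟨a, b, hab'⟩ := hab
      exact hab' (Subgroup.mem_center_iff.mp (h ▸ Subgroup.mem_top b) a)
  obtain ⟨S, hS⟩ := (IsPGroup.of_card (n := 1)
    (by rw [Nat.card_zpowers, hx, pow_one]) : IsPGroup 2 ↥(Subgroup.zpowers x)).exists_le_sylow
  obtain ⟨g, hgS, hgc⟩ := exists_central_conj S hF (hS (Subgroup.mem_zpowers x))
  obtain ⟨y, hy⟩ : ∃ y, y = g * x * g⁻¹ := ⟨_, rfl⟩
  rw [← hy] at hgS hgc
  have hFy : Few y := hy ▸ hF.conj g
  have hxy : IsConj x y := isConj_iff.mpr ⟨g, hy.symm⟩
  refine ⟨⟨g⁻¹ • S, fun a ha => ?_⟩, ?_⟩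
  · obtain ⟨s, hs, rfl⟩ := ha
    rw [Subgroup.mem_centralizer_singleton_iff]
    show Commute ((MulAut.conj g⁻¹) s) x
    have := (hgc s hs).map (MulAut.conj g⁻¹).toMonoidHom
    simpa [hy, mul_assoc] using this
  -- all involutions are conjugate
  have hall : ∀ a ∈ (S : Subgroup G), orderOf a = 2 → IsConj y a := by
    intro a ha ha2
    by_contra hcon
    have hay : a ≠ y := fun h => hcon (h ▸ IsConj.refl y)
    have hinv : ∀ u ∈ (S : Subgroup G), orderOf u = 2 → u = y ∨ u = a ∨ u = y * a := fun u hu hu2 =>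
      hFy.2 a u ha2 hu2 (hgc a ha).symm (hgc u hu).symm hay
    have hord : ∀ (t k : G), orderOf t = 2 → orderOf (k * t * k⁻¹) = 2 := fun t k h => by
      rw [oconj, h]
    by_cases hya : IsConj y (y * a)
    · refine not_isolated hx (hnc x hx) S ha2 fun k hk => ?_
      rcases hinv _ hk (hord a k ha2) with h | h | h
      · exact absurd (IsConj.symm (isConj_iff.mpr ⟨k, h⟩)) hcon
      · exact h
      · exact absurd (hya.trans (IsConj.symm (isConj_iff.mpr ⟨k, h⟩))) hcon
    · refine not_isolated hx (hnc x hx) S hFy.1 fun k hk => ?_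
      rcases hinv _ hk (hord y k hFy.1) with h | h | h
      · exact h
      · exact absurd (isConj_iff.mpr ⟨k, h⟩) hcon
      · exact absurd (isConj_iff.mpr ⟨k, h⟩) hya
  have hall' : ∀ u : G, orderOf u = 2 → IsConj y u := by
    intro u hu
    obtain ⟨P, hP⟩ := (IsPGroup.of_card (n := 1)
      (by rw [Nat.card_zpowers, hu, pow_one]) : IsPGroup 2 ↥(Subgroup.zpowers u)).exists_le_sylow
    obtain ⟨k, hk⟩ := MulAction.exists_smul_eq G P S
    have hm : k * u * k⁻¹ ∈ (S : Subgroup G) := by
      rw [← hk]; exact ⟨u, hP (Subgroup.mem_zpowers u), rfl⟩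
    exact (hall _ hm (by rw [oconj, hu])).trans
      (IsConj.symm (isConj_iff.mpr ⟨k, rfl⟩))
  exact fun u v hu hv => (hall' u hu).symm.trans (hall' v hv)

end Cfsg.Agent.S3279
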