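import Cfsg.Statements.S4479
import Cfsg.Agent.H56.KleinFour

set_option autoImplicit false
open Cfsg

namespace Cfsg.Agent.S4479

/-- An order formula from the principal 2-block. Let G be a finite group of order 4·g₀ with g₀ odd having no normal 2-complement (no normal subgroup of order g₀); let P be a Sylow 2-subgroup, J an involution of P, and fix a maximal ideal M of the algebraic integers containing 2. Suppose the principal 2-block consists of the principal character and three further distinct characters χ₁, χ₂, χ₃ of degrees x₁, x₂, x₃, with χ_i(J) = ε_i = ±1. Then, writing c(J) and c(P) for the orders of the centralizers of J and of P, the order of G equals 8·α·c(J)³/c(P)² with α = x₁x₂x₃ / ((x₁ + ε₁)(x₂ + ε₂)(x₃ + ε₃)). -/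
theorem result {G : Type*} [Group G] [Finite G] (M : Ideal Cfsg.AlgInt) (hM : Cfsg.IsPModular 2 M) (g₀ : ℕ) (hg₀ : Odd g₀) (hG : Nat.card G = 4 * g₀) (hnc : ¬ ∃ N : Subgroup G, N.Normal ∧ Nat.card N = g₀) (P : Sylow 2 G) (J : G) (hJ : J ∈ (P : Subgroup G)) (hJ2 : orderOf J = 2) (χ₁ χ₂ χ₃ : Cfsg.IrrCharacter G) (ε₁ ε₂ ε₃ : ℤ) (hB : Cfsg.principalBlock M G = {χ : Cfsg.IrrCharacter G | (χ : G → ℂ) = (fun _ => 1) ∨ χ = χ₁ ∨ χ = χ₂ ∨ χ = χ₃}) (hdist : (χ₁ : G → ℂ) ≠ (fun _ => 1) ∧ (χ₂ : G → ℂ) ≠ (fun _ => 1) ∧ (χ₃ : G → ℂ) ≠ (fun _ => 1) ∧ χ₁ ≠ χ₂ ∧ χ₁ ≠ χ₃ ∧ χ₂ ≠ χ₃) (hε : (ε₁ = 1 ∨ ε₁ = -1) ∧ (ε₂ = 1 ∨ ε₂ = -1) ∧ (ε₃ = 1 ∨ ε₃ = -1)) (hval : (χ₁ : G → ℂ) J = ε₁ ∧ (χ₂ : G → ℂ) J = ε₂ ∧ (χ₃ : G → ℂ) J = ε₃) : (Nat.card G : ℚ) = 8 * (((Cfsg.charDegree (χ₁ : G → ℂ) : ℚ) * Cfsg.charDegree (χ₂ : G → ℂ) * Cfsg.charDegree (χ₃ : G → ℂ)) / ((Cfsg.charDegree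 (χ₁ : G → ℂ) + ε₁) * (Cfsg.charDegree (χ₂ : G → ℂ) + ε₂) * (Cfsg.charDegree (χ₃ : G → ℂ) + ε₃))) * (Nat.card (Subgroup.centralizer ({J} : Set G)) : ℚ) ^ 3 / (Nat.card (Subgroup.centralizer ((P : Subgroup G) : Set G)) : ℚ) ^ 2 := by
  classical
  haveI := Fintype.ofFinite G
  obtain ⟨h1, h2⟩ := Cfsg.Agent.H56.klein_order_eq M hM hg₀ hG hnc P J hJ hJ2 χ₁ χ₂ χ₃ ε₁ ε₂ ε₃
    hB hdist hε hval
  rw [Cfsg.Agent.H43.irr_charDegree_spec, Cfsg.Agent.H43.irr_charDegree_spec,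
    Cfsg.Agent.H43.irr_charDegree_spec] at h1 h2
  have p1 : ((Cfsg.charDegree χ₁.1 : ℕ) : ℂ) ≠ 0 :=
    Nat.cast_ne_zero.2 (Cfsg.Agent.H43.irr_charDegree_pos χ₁).ne'
  have p2 : ((Cfsg.charDegree χ₂.1 : ℕ) : ℂ) ≠ 0 :=
    Nat.cast_ne_zero.2 (Cfsg.Agent.H43.irr_charDegree_pos χ₂).ne'
  have p3 : ((Cfsg.charDegree χ₃.1 : ℕ) : ℂ) ≠ 0 :=
    Nat.cast_ne_zero.2 (Cfsg.Agent.H43.irr_charDegree_pos χ₃).ne'
  generalize (Cfsg.charDegree χ₁.1 : ℕ) = a at *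
  generalize (Cfsg.charDegree χ₂.1 : ℕ) = b at *
  generalize (Cfsg.charDegree χ₃.1 : ℕ) = c at *
  have hkey : ((a : ℂ) + ε₁) * ((b : ℂ) + ε₂) * ((c : ℂ) + ε₃) =
      (a : ℂ) * b * c * (1 + ε₁ / a + ε₂ / b + ε₃ / c) := by
    have s1 : (ε₁ : ℂ) ^ 2 = 1 := by rcases hε.1 with rfl | rfl <;> norm_num
    have s2 : (ε₂ : ℂ) ^ 2 = 1 := by rcases hε.2.1 with rfl | rfl <;> norm_num
    have s3 : (ε₃ : ℂ) ^ 2 = 1 := by rcases hε.2.2 with rfl | rfl <;> norm_num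
    field_simp
    linear_combination (ε₁ : ℂ) * ε₂ * ε₃ * h1 - (ε₂ : ℂ) * ε₃ * a * s1 -
      (ε₁ : ℂ) * ε₃ * b * s2 - (ε₁ : ℂ) * ε₂ * c * s3
  have hc : (Nat.card (Subgroup.centralizer ({J} : Set G)) : ℂ) ≠ 0 :=
    Nat.cast_ne_zero.2 Nat.card_pos.ne'
  have hp : (Nat.card (Subgroup.centralizer ((P : Subgroup G) : Set G)) : ℂ) ≠ 0 :=
    Nat.cast_ne_zero.2 Nat.card_pos.ne'
  generalize (1 : ℂ) + ε₁ / a + ε₂ / b + ε₃ / c = S at h2 hkey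
  have hS : S ≠ 0 := by
    rintro rfl
    rw [mul_zero, eq_comm, div_eq_zero_iff] at h2
    rcases h2 with h | h
    · exact hc (by simpa using h)
    · exact hp (by simpa using h)
  have hQ : (Nat.card G : ℂ) = 8 * ((a : ℂ) * b * c /
      (((a : ℂ) + ε₁) * ((b : ℂ) + ε₂) * ((c : ℂ) + ε₃))) *
      (Nat.card (Subgroup.centralizer ({J} : Set G)) : ℂ) ^ 3 /
      (Nat.card (Subgroup.centralizer ((P : Subgroup G) : Set G)) : ℂ) ^ 2 := by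
    rw [hkey]
    field_simp at h2 ⊢
    linear_combination h2
  apply Rat.cast_injective (α := ℂ)
  push_cast
  exact hQ

end Cfsg.Agent.S4479
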