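import Cfsg.Statements.S3278
import Cfsg.Agent.S3279
import Cfsg.Agent.S0948
import Cfsg.Agent.S4479
import Cfsg.Agent.H42.MaxIdeal

set_option autoImplicit false
open Cfsg

namespace Cfsg.Agent.S3278

/-- Let G be a finite simple group with an involution x such that a Sylow 2-subgroup of C_G(x) is a Klein four-group which is normal in C_G(x). Then G is isomorphic to the alternating group of degree 5 (that is, to PSL(2, 5)). -/
theorem result {G : Type*} [Group G] [Finite G] [IsSimpleGroup G] (x : G) (hx : orderOf x = 2)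
    (S₀ : Subgroup G) (hle : S₀ ≤ Subgroup.centralizer ({x} : Set G)) (hK : IsKleinFour ↥S₀)
    (hodd : ¬ 2 ∣ S₀.relIndex (Subgroup.centralizer ({x} : Set G))) (hn : (S₀.subgroupOf (Subgroup.centralizer ({x} : Set G))).Normal) :
    Nonempty (G ≃* ↥(alternatingGroup (Fin 5))) := by
  classical
  have : Fact (Nat.Prime 2) := ⟨Nat.prime_two⟩
  obtain ⟨C, hC⟩ : ∃ C, C = Subgroup.centralizer ({x} : Set G) := ⟨_, rfl⟩
  rw [← hC] at hle hodd hn
  have hS0card : Nat.card ↥S₀ = 4 := hK.card_four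
  have hS0sq : ∀ a ∈ S₀, a * a = 1 := fun a ha =>
    congrArg Subtype.val (hK.mul_self ⟨a, ha⟩)
  have hS0comm : ∀ a ∈ S₀, ∀ b ∈ S₀, a * b = b * a := fun a ha b hb => by
    have hinv : ∀ c ∈ S₀, c⁻¹ = c := fun c hc => inv_eq_of_mul_eq_one_right (hS0sq c hc)
    calc a * b = (a * b)⁻¹ := (hinv _ (mul_mem ha hb)).symm
      _ = b * a := by rw [mul_inv_rev, hinv a ha, hinv b hb]
  have hmemC : ∀ g : G, g ∈ C ↔ Commute g x := fun g => by
    rw [hC, Subgroup.mem_centralizer_singleton_iff]; exact Iff.rfl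
  -- 2-elements of `C` lie in `S₀`
  have htwo : ∀ u ∈ C, ∀ j : ℕ, u ^ 2 ^ j = 1 → u ∈ S₀ := by
    intro u hu j hj
    let N : Subgroup ↥C := S₀.subgroupOf C
    have : N.Normal := hn
    have h1 : (QuotientGroup.mk' N ⟨u, hu⟩) ^ 2 ^ j = 1 := by
      rw [← map_pow]
      have : (⟨u, hu⟩ : ↥C) ^ 2 ^ j = 1 := Subtype.ext (by simpa using hj)
      rw [this, map_one]
    have h2 : orderOf (QuotientGroup.mk' N ⟨u, hu⟩) ∣ N.index := orderOf_dvd_natCard _
    have h3 : Nat.Coprime (2 ^ j) N.index :=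
      ((Nat.Prime.coprime_iff_not_dvd Nat.prime_two).mpr hodd).pow_left j
    have h4 := Nat.eq_one_of_dvd_coprimes h3 (orderOf_dvd_of_pow_eq_one h1) h2
    rw [orderOf_eq_one_iff] at h4
    exact Subgroup.mem_subgroupOf.mp ((QuotientGroup.eq_one_iff (N := N) ⟨u, hu⟩).mp h4)
  have hxS0 : x ∈ S₀ := htwo x ((hmemC x).mpr (Commute.refl x)) 1 (by
    rw [pow_one, ← hx, pow_orderOf_eq_one])
  have hinv : ∀ u ∈ C, orderOf u = 2 → u ∈ S₀ := fun u hu ho => htwo u hu 1 (by
    rw [pow_one, ← ho, pow_orderOf_eq_one])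
  -- `C` has at most three involutions
  have h3 : Nat.card {u : ↥(Subgroup.centralizer ({x} : Set G)) // orderOf u = 2} ≤ 3 := by
    have hk : Nat.card {v : ↥S₀ // v ≠ 1} = 3 := by
      have := Fintype.ofFinite ↥S₀
      rw [Nat.card_eq_fintype_card, Fintype.card_subtype_compl, Fintype.card_subtype_eq,
        ← Nat.card_eq_fintype_card, hS0card]
    rw [← hk]
    refine Nat.card_le_card_of_injective (fun u => ⟨⟨(u.1 : G), hinv _ (by rw [hC]; exact u.1.2)
      (by rw [Subgroup.orderOf_coe]; exact u.2)⟩, fun h => ?_⟩) (fun u v h => ?_)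
    · have h1 : u.1 = 1 := Subtype.ext (congrArg (fun a : ↥S₀ => (a : G)) h)
      have := u.2
      rw [h1, orderOf_one] at this; omega
    · exact Subtype.ext (Subtype.ext (congrArg (fun a => ((a.1 : ↥S₀) : G)) h))
  obtain ⟨⟨P, hP⟩, hone⟩ := Cfsg.Agent.S3279.result x hx h3
  -- `S₀` is the Sylow subgroup
  have hPS0 : (P : Subgroup G) = S₀ := by
    refine le_antisymm (fun u hu => ?_) ?_
    · obtain ⟨j, hj⟩ := P.2 ⟨u, hu⟩
      exact htwo u (hC ▸ hP hu) j (by simpa using congrArg Subtype.val hj)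
    · obtain ⟨Q, hQ⟩ := (IsPGroup.of_card (n := 2) (by rw [hS0card]; norm_num) :
        IsPGroup 2 ↥S₀).exists_le_sylow
      have hPQ : (P : Subgroup G) ≤ Q := by
        refine le_trans (fun u hu => ?_) hQ
        obtain ⟨j, hj⟩ := P.2 ⟨u, hu⟩
        exact htwo u (hC ▸ hP hu) j (by simpa using congrArg Subtype.val hj)
      rw [← P.3 Q.2 hPQ]; exact hQ
  -- `C` centralises `S₀`
  have hCc : Subgroup.centralizer (S₀ : Set G) = C := by
    refine le_antisymm (fun g hg => (hmemC g).mpr ?_) (fun c hc => ?_)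
    · exact (Subgroup.mem_centralizer_iff.mp hg x hxS0).symm
    rw [Subgroup.mem_centralizer_iff]
    intro a ha
    by_contra hne
    have hcx := (hmemC c).mp hc
    obtain ⟨j, n, hodd', hn'⟩ := Nat.exists_eq_two_pow_mul_odd (orderOf_pos c).ne'
    have hca : c * a * c⁻¹ ∈ S₀ := hn.conj_mem ⟨a, hle ha⟩ ha ⟨c, hc⟩
    have ha1 : a ≠ 1 := fun h => hne (by simp [h])
    have hax : a ≠ x := fun h => hne (h ▸ hcx.eq.symm)
    -- the elements of `S₀`
    have hS0 : ∀ b ∈ S₀, b = 1 ∨ b = x ∨ b = a ∨ b = x * a := by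
      intro b hb
      by_contra hcon
      push Not at hcon
      have hx1 : x ≠ 1 := fun h => by rw [h, orderOf_one] at hx; omega
      have hxa1 : x * a ≠ 1 := fun h => hax (by
        calc a = x * x * a := by rw [hS0sq x hxS0, one_mul]
          _ = x := by rw [mul_assoc, h, mul_one])
      let f : Fin 5 → ↥S₀ := ![⟨1, one_mem _⟩, ⟨x, hxS0⟩, ⟨a, ha⟩, ⟨x * a, mul_mem hxS0 ha⟩, ⟨b, hb⟩]
      have hf : Function.Injective f := by
        intro i k hik
        have := congrArg Subtype.val hik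
        obtain ⟨hb1, hbx, hba, hbxa⟩ := hcon
        have hxxa : x * a ≠ x := fun h => ha1 (mul_eq_left.mp h)
        have hxaa : x * a ≠ a := fun h => hx1 (mul_eq_right.mp h)
        fin_cases i <;> fin_cases k <;> simp [f] at this ⊢ <;>
          first
          | exact absurd this hx1 | exact absurd this.symm hx1
          | exact absurd this ha1 | exact absurd this.symm ha1
          | exact absurd this hxa1 | exact absurd this.symm hxa1
          | exact absurd this hax | exact absurd this.symm hax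
          | exact absurd this hb1 | exact absurd this.symm hb1
          | exact absurd this hbx | exact absurd this.symm hbx
          | exact absurd this hba | exact absurd this.symm hba
          | exact absurd this hbxa | exact absurd this.symm hbxa
          | exact absurd this hxxa | exact absurd this.symm hxxa
          | exact absurd this hxaa | exact absurd this.symm hxaa
      have := Nat.card_le_card_of_injective f hf
      simp [hS0card] at this
    have hcax : c * a * c⁻¹ = x * a := by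
      rcases hS0 _ hca with h | h | h | h
      · exact absurd (conj_eq_one_iff.mp h) ha1
      · exfalso; apply hax
        calc a = c⁻¹ * (c * a * c⁻¹) * c := by group
          _ = x := by rw [h, mul_assoc, ← hcx.eq, inv_mul_cancel_left]
      · exact absurd (mul_inv_eq_iff_eq_mul.mp h).symm hne
      · exact h
    have hd : c ^ n ∈ S₀ := htwo _ (pow_mem hc n) j (by
      rw [← pow_mul, mul_comm, ← hn', pow_orderOf_eq_one])
    have hpow : ∀ k : ℕ, c ^ k * a * (c ^ k)⁻¹ = x ^ k * a := by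
      intro k
      induction k with
      | zero => simp
      | succ k ih =>
        calc c ^ (k + 1) * a * (c ^ (k + 1))⁻¹ = c * (c ^ k * a * (c ^ k)⁻¹) * c⁻¹ := by
              rw [pow_succ']; group
          _ = c * x ^ k * (a * c⁻¹) := by rw [ih]; group
          _ = x ^ k * (c * a * c⁻¹) := by rw [(hcx.pow_right k).eq]; group
          _ = x ^ (k + 1) * a := by rw [hcax, pow_succ, mul_assoc]
    have h5 := hpow n
    rw [hS0comm _ hd a ha, mul_inv_cancel_right] at h5
    have h6 : x ^ n = 1 := mul_eq_right.mp h5.symm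
    have h7 := orderOf_dvd_of_pow_eq_one h6
    rw [hx] at h7
    obtain ⟨m, hm⟩ := hodd'
    omega
  -- the order formula
  obtain ⟨M, hM⟩ := Cfsg.Agent.H42.exists_isPModular Nat.prime_two
  have hKP : IsKleinFour ↥(P : Subgroup G) := hPS0 ▸ hK
  obtain ⟨ζ₂, ζ₃, ζ₄, ε, hε, hn2, hn3, h23, h24, h34, hB, hval, hd2, hd3, hd4, hy⟩ :=
    Cfsg.Agent.S0948.result M hM P hKP hone
  have hPcard : Nat.card ↥(P : Subgroup G) = 4 := hKP.card_four
  obtain ⟨hz2, hz3, hz4⟩ := hval x hx
  have hn4 : (ζ₄ : G → ℂ) ≠ (fun _ => 1) := fun h => by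
    rw [h] at hz4
    norm_num at hz4
  have hG : Nat.card G = 4 * (P : Subgroup G).index := by
    rw [← hPcard, Subgroup.card_mul_index]
  have hg0 : Odd (P : Subgroup G).index :=
    Nat.odd_iff.mpr (Nat.two_dvd_ne_zero.mp P.not_dvd_index)
  have hGne : Nat.card G ≠ 4 := by
    intro h4
    have htop : S₀ = ⊤ := Subgroup.eq_top_of_card_eq _ (by rw [hS0card, h4])
    have hN : (Subgroup.zpowers x).Normal := ⟨fun u hu g => by
      rw [hS0comm g (htop ▸ Subgroup.mem_top g) u (htop ▸ Subgroup.mem_top u),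
        mul_inv_cancel_right]
      exact hu⟩
    rcases hN.eq_bot_or_eq_top with h | h
    · rw [Subgroup.zpowers_eq_bot] at h
      rw [h, orderOf_one] at hx; omega
    · have := congrArg (fun H : Subgroup G => Nat.card ↥H) h
      simp only [Nat.card_zpowers, Subgroup.card_top] at this
      omega
  have hnc : ¬ ∃ N : Subgroup G, N.Normal ∧ Nat.card N = (P : Subgroup G).index := by
    rintro ⟨N, hN, hNc⟩
    rcases hN.eq_bot_or_eq_top with h | h
    · rw [h, Subgroup.card_bot] at hNc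
      rw [← hNc, mul_one] at hG
      exact hGne hG
    · rw [h, Subgroup.card_top] at hNc
      have : 0 < Nat.card G := Nat.card_pos
      omega
  have hJ : x ∈ (P : Subgroup G) := hPS0 ▸ hxS0
  have hform := Cfsg.Agent.S4479.result M hM _ hg0 hG hnc P x hJ hx ζ₂ ζ₃ ζ₄ 1 ε (-1) hB
    ⟨hn2, hn3, hn4, h23, h24, h34⟩ ⟨Or.inl rfl, hε, Or.inr rfl⟩
    ⟨by rw [hz2]; simp, hz3, by rw [hz4]; simp⟩
  rw [hPS0, hCc, ← hC] at hform
  obtain ⟨c, hc⟩ : ∃ c, c = Nat.card ↥C := ⟨_, rfl⟩
  obtain ⟨k, hk⟩ : ∃ k, k = C.index := ⟨_, rfl⟩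
  have hck : c * k = Nat.card G := by rw [hc, hk, Subgroup.card_mul_index]
  have hcpos : 0 < c := hc ▸ Nat.card_pos
  rw [← hc, ← hck] at hform
  have hk18 : k < 18 := by
    obtain ⟨a, ha⟩ : ∃ a : ℕ, a = Cfsg.charDegree (ζ₂ : G → ℂ) := ⟨_, rfl⟩
    obtain ⟨b, hb⟩ : ∃ b : ℕ, b = Cfsg.charDegree (ζ₃ : G → ℂ) := ⟨_, rfl⟩
    obtain ⟨d, hd⟩ : ∃ d : ℕ, d = Cfsg.charDegree (ζ₄ : G → ℂ) := ⟨_, rfl⟩
    simp only [← ha, ← hb, ← hd] at hform hd2 hd3 hd4
    have hd3' : 3 ≤ d := by omega
    have hb3 : (ε = 1 ∧ 1 ≤ b) ∨ (ε = -1 ∧ 3 ≤ b) := by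
      rcases hε with h | h <;> subst h
      · left; exact ⟨rfl, by omega⟩
      · right; exact ⟨rfl, by omega⟩
    have ha1 : 1 ≤ a := by omega
    have hcq : (0 : ℚ) < c := by exact_mod_cast hcpos
    have hA : (a : ℚ) / ((a : ℚ) + 1) < 1 := by
      rw [div_lt_one (by positivity)]; linarith
    have hD : (d : ℚ) / ((d : ℚ) + ((-1 : ℤ) : ℚ)) ≤ 3 / 2 := by
      have : (3 : ℚ) ≤ d := by exact_mod_cast hd3'
      push_cast
      rw [div_le_iff₀ (by linarith)]; linarith
    have hD0 : (0 : ℚ) < (d : ℚ) / ((d : ℚ) + ((-1 : ℤ) : ℚ)) := by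
      have : (3 : ℚ) ≤ d := by exact_mod_cast hd3'
      push_cast
      exact div_pos (by linarith) (by linarith)
    have hBb : (b : ℚ) / ((b : ℚ) + (ε : ℚ)) ≤ 3 / 2 ∧ (0 : ℚ) < (b : ℚ) / ((b : ℚ) + (ε : ℚ)) := by
      rcases hb3 with ⟨rfl, h⟩ | ⟨rfl, h⟩
      · have : (1 : ℚ) ≤ b := by exact_mod_cast h
        push_cast
        exact ⟨by rw [div_le_iff₀ (by linarith)]; linarith, div_pos (by linarith) (by linarith)⟩
      · have : (3 : ℚ) ≤ b := by exact_mod_cast h
        push_cast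
        exact ⟨by rw [div_le_iff₀ (by linarith)]; linarith, div_pos (by linarith) (by linarith)⟩
    have hA0 : (0 : ℚ) ≤ (a : ℚ) / ((a : ℚ) + 1) := by positivity
    have hkq : (k : ℚ) = 8 * ((a : ℚ) / ((a : ℚ) + 1) * ((b : ℚ) / ((b : ℚ) + (ε : ℚ))) *
        ((d : ℚ) / ((d : ℚ) + ((-1 : ℤ) : ℚ)))) := by
      apply mul_left_cancel₀ hcq.ne'
      rw [Nat.cast_mul] at hform
      rw [hform]
      simp only [Int.cast_one, div_mul_div_comm]
      field_simp
    have hlt : (k : ℚ) < 18 := by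
      rw [hkq]
      have h1 : (a : ℚ) / ((a : ℚ) + 1) * ((b : ℚ) / ((b : ℚ) + (ε : ℚ))) < 1 * (3 / 2) :=
        lt_of_lt_of_le (mul_lt_mul_of_pos_right hA hBb.2) (by linarith [hBb.1])
      have h2 := mul_lt_mul_of_pos_right h1 hD0
      nlinarith
    exact_mod_cast hlt
  -- the normaliser of `S₀`
  obtain ⟨N, hN⟩ : ∃ N, N = Subgroup.normalizer (S₀ : Set G) := ⟨_, rfl⟩
  have hCN : C ≤ N := by
    rw [hN, ← hCc]; exact Subgroup.centralizer_le_normalizer _
  have hkodd : Odd k := by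
    refine Nat.odd_iff.mpr (Nat.two_dvd_ne_zero.mp fun h => P.not_dvd_index (h.trans ?_))
    rw [hk]
    exact Subgroup.index_dvd_of_le (hPS0 ▸ hle)
  have hNC : 3 ≤ C.relIndex N := by
    have hd : Odd (C.relIndex N) :=
      Odd.of_dvd_nat hkodd (hk ▸ Dvd.intro _ (Subgroup.relIndex_mul_index hCN))
    obtain ⟨a, ha, hax⟩ : ∃ a ∈ S₀, orderOf a = 2 ∧ a ≠ x := by
      obtain ⟨a, ha⟩ : ∃ a : ↥S₀, a ∉ ({1, ⟨x, hxS0⟩} : Finset ↥S₀) := by
        by_contra hcon
        push Not at hcon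
        have := Fintype.ofFinite ↥S₀
        have h1 := Finset.card_le_card (fun a _ => hcon a : (Finset.univ : Finset ↥S₀) ⊆ _)
        rw [Finset.card_univ, ← Nat.card_eq_fintype_card, hS0card] at h1
        exact absurd (h1.trans Finset.card_le_two) (by omega)
      simp only [Finset.mem_insert, Finset.mem_singleton, not_or] at ha
      refine ⟨a, a.2, ?_, fun h => ha.2 (Subtype.ext h)⟩
      refine orderOf_eq_prime ?_ (fun h => ha.1 (Subtype.ext h))
      rw [pow_two]; exact hS0sq _ a.2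
    obtain ⟨g, hg⟩ := isConj_iff.mp (hone x a hx hax.1)
    have : IsMulCommutative ↥(P : Subgroup G) := ⟨⟨fun u v => Subtype.ext
      (hS0comm _ (hPS0 ▸ u.2) _ (hPS0 ▸ v.2))⟩⟩
    obtain ⟨n, hn', hne⟩ := P.conj_eq_normalizer_conj_of_mem x g⁻¹ hJ
      (by rw [inv_inv, hg]; show a ∈ (P : Subgroup G); rw [hPS0]; exact ha)
    rw [inv_inv, hg] at hne
    have hnN : n ∈ N := by rw [hN, ← hPS0]; exact hn'
    have hnC : n ∉ C := fun h => hax.2 (by
      rw [hne, mul_assoc, ← ((hmemC n).mp h).eq, inv_mul_cancel_left])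
    have h1 : C.relIndex N ≠ 1 := fun h => hnC (Subgroup.relIndex_eq_one.mp h hnN)
    obtain ⟨m, hm⟩ := hd
    omega
  have hNi : C.relIndex N * N.index = k := by rw [hk]; exact Subgroup.relIndex_mul_index hCN
  have hcore : N.normalCore = ⊥ := by
    refine N.normalCore_normal.eq_bot_or_eq_top.resolve_right fun h => ?_
    have hNt : N = ⊤ := top_le_iff.mp (h ▸ Subgroup.normalCore_le N)
    have hnS : S₀.Normal := Subgroup.normalizer_eq_top_iff.mp (hN ▸ hNt)
    rcases hnS.eq_bot_or_eq_top with h | h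
    · rw [h, Subgroup.card_bot] at hS0card; omega
    · exact hGne (by rw [← Subgroup.card_top (G := G), ← h, hS0card])
  have hker : Function.Injective (MulAction.toPermHom G (G ⧸ N)) := by
    rw [← MonoidHom.ker_eq_bot_iff, ← Subgroup.normalCore_eq_ker, hcore]
  have hdvd : Nat.card G ∣ N.index.factorial := by
    have h1 := Subgroup.card_dvd_of_injective _ hker
    rwa [Nat.card_perm] at h1
  have h4c : 4 ∣ c := by
    rw [hc, ← hS0card]; exact Subgroup.card_dvd_of_le hle
  have h4 : 4 ∣ Nat.card G := ⟨_, hG⟩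
  have hN5 : N.index = 5 := by
    have hodd' : Odd N.index := Odd.of_dvd_nat hkodd ⟨_, by rw [← hNi]; ring⟩
    have hle5 : N.index ≤ 5 := by nlinarith
    have hd := h4.trans hdvd
    obtain ⟨m, hm⟩ := hodd'
    rcases (show N.index = 1 ∨ N.index = 3 ∨ N.index = 5 by omega) with h | h | h
    · rw [h] at hd; norm_num at hd
    · rw [h] at hd; norm_num [Nat.factorial] at hd
    · exact h
  have hge : 60 ≤ Nat.card G := by
    have : 4 ≤ c := Nat.le_of_dvd hcpos h4c
    nlinarith
  -- the embedding into `A₅`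
  obtain ⟨e⟩ : Nonempty (G ⧸ N ≃ Fin 5) := ⟨(Finite.equivFin (G ⧸ N)).trans (finCongr (by
    rw [← Subgroup.index_eq_card, hN5]))⟩
  let φ : G →* Equiv.Perm (Fin 5) := e.permCongrHom.toMonoidHom.comp (MulAction.toPermHom G (G ⧸ N))
  have hφ : Function.Injective φ := e.permCongrHom.injective.comp hker
  have halt : ∀ g, φ g ∈ alternatingGroup (Fin 5) := by
    intro g
    rw [Equiv.Perm.mem_alternatingGroup]
    rcases (MonoidHom.normal_ker (Equiv.Perm.sign.comp φ)).eq_bot_or_eq_top with h | h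
    · exfalso
      have := Nat.card_le_card_of_injective _ ((MonoidHom.ker_eq_bot_iff _).mp h)
      simp at this
      omega
    · exact MonoidHom.mem_ker.mp (h ▸ Subgroup.mem_top g : g ∈ (Equiv.Perm.sign.comp φ).ker)
  let ψ : G →* ↥(alternatingGroup (Fin 5)) := φ.codRestrict _ halt
  have hψ : Function.Injective ψ := fun a b h => hφ (congrArg Subtype.val h)
  refine ⟨MulEquiv.ofBijective ψ ((Nat.bijective_iff_injective_and_card _).mpr ⟨hψ, ?_⟩)⟩
  have hle' := Nat.card_le_card_of_injective _ hψ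
  rw [nat_card_alternatingGroup] at hle' ⊢
  simp [Nat.factorial] at hle' ⊢
  omega

end Cfsg.Agent.S3278
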