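import Cfsg.Statements.S0811
import Cfsg.Agent.H6.DihedralMax

set_option autoImplicit false
open Cfsg

namespace Cfsg.Agent.S0811

open Cfsg.Agent.H6 Matrix MatrixGroups

/-- For q ∉ {2, 7, 9}, PSL_2(q) has a maximal subgroup isomorphic to the dihedral group of order 2(q + 1)/d, d = gcd(2, q − 1). -/
theorem result {F : Type*} [Field F] [Fintype F] {q : ℕ} (hF : Fintype.card F = q) (hq : q ∉ ({2, 7, 9} : Finset ℕ)) : ∃ H : Subgroup (Matrix.ProjectiveSpecialLinearGroup (Fin 2) F), IsCoatom H ∧ Nonempty (H ≃* DihedralGroup ((q + 1) / Nat.gcd 2 (q - 1))) := by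
  simp only [Finset.mem_insert, Finset.mem_singleton, not_or] at hq
  obtain ⟨t, hs⟩ := exists_not_split (F := F)
  have ht : tr (comp t) ^ 2 ≠ 4 := by rw [tr_comp]; exact sq_ne_four_of_not_split hs
  have hn : Nat.card (tor (comp t)) = (q + 1) / Nat.gcd 2 (q - 1) := by
    rcases card_tor_ss hF ht with ⟨h, -⟩ | ⟨-, h⟩
    · rw [tr_comp] at h; exact absurd h hs
    · exact h
  refine ⟨torDih (comp t), ?_, hn ▸ nonempty_torDih_equiv ht⟩
  have hq2 : 2 ≤ q := hF ▸ Fintype.one_lt_card
  rcases Nat.mod_two_eq_zero_or_one q with h | h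
  · rw [(Nat.prime_two.coprime_iff_not_dvd).2 (by omega), Nat.div_one] at hn
    exact isCoatom_torDih hF ht (by omega) (by omega) (by omega)
  · rw [Nat.gcd_eq_left (show 2 ∣ q - 1 by omega)] at hn
    by_cases h3 : q = 3
    · -- `PSL₂(3)` has order 12, and a four group is maximal
      subst h3
      have hD : Nat.card (torDih (comp t)) = 4 := by rw [card_torDih ht, hn]
      have hP : Nat.card PSL(2, F) = 12 := by
        have := card_psl2_mul (F := F) hF
        norm_num [-Nat.card_eq_fintype_card] at this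
        omega
      refine ⟨fun e => ?_, fun H hlt => ?_⟩
      · rw [e, Subgroup.card_top, hP] at hD; omega
      · have h1 : 4 ∣ Nat.card H := hD ▸ Subgroup.card_dvd_of_le hlt.le
        have h2 : Nat.card H ∣ 12 := hP ▸ Subgroup.card_subgroup_dvd_card H
        have h3 : Nat.card H ≠ 4 := fun e =>
          hlt.ne (Subgroup.eq_of_le_of_card_ge hlt.le (by rw [hD, e]))
        refine Subgroup.eq_top_of_card_eq _ ?_
        rw [hP]
        have := Nat.le_of_dvd (by norm_num) h2
        interval_cases Nat.card H <;> omega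
    · exact isCoatom_torDih hF ht (by omega) (by omega) (by omega)

end Cfsg.Agent.S0811
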