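import Cfsg.Statements.S0812
import Cfsg.Agent.H6.DihedralMax

set_option autoImplicit false
open Cfsg

namespace Cfsg.Agent.S0812

open Cfsg.Agent.H6 Matrix MatrixGroups

/-- For q ∉ {2, 3, 5, 7, 9, 11}, PSL_2(q) has a maximal subgroup isomorphic to the dihedral group of order 2(q − 1)/d, d = gcd(2, q − 1). -/
theorem result {F : Type*} [Field F] [Fintype F] {q : ℕ} (hF : Fintype.card F = q) (hq : q ∉ ({2, 3, 5, 7, 9, 11} : Finset ℕ)) : ∃ H : Subgroup (Matrix.ProjectiveSpecialLinearGroup (Fin 2) F), IsCoatom H ∧ Nonempty (H ≃* DihedralGroup ((q - 1) / Nat.gcd 2 (q - 1))) := by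
  simp only [Finset.mem_insert, Finset.mem_singleton, not_or] at hq
  classical
  have hq2 : 2 ≤ q := hF ▸ Fintype.one_lt_card
  obtain ⟨u, hu⟩ := IsCyclic.exists_ofOrder_eq_natCard (α := Fˣ)
  rw [Nat.card_units, Nat.card_eq_fintype_card, hF] at hu
  have ht : tr (diagSL u) ^ 2 ≠ 4 := by
    rw [tr_diagSL]
    intro h
    have h0 : ((u : F) - (u⁻¹ : Fˣ)) ^ 2 = 0 := by
      linear_combination h - 4 * u.mul_inv
    have h1 : u ^ 2 = 1 := by
      rw [sq, mul_eq_one_iff_eq_inv]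
      exact Units.ext (sub_eq_zero.1 (pow_eq_zero_iff two_ne_zero |>.1 h0))
    have := orderOf_le_of_pow_eq_one two_pos h1
    omega
  have hn : Nat.card (tor (diagSL u)) = (q - 1) / Nat.gcd 2 (q - 1) := by
    rcases card_tor_ss hF ht with ⟨-, h⟩ | ⟨h, -⟩
    · exact h
    · refine absurd ⟨(u : F), ?_⟩ h
      rw [tr_diagSL]
      linear_combination (-1 : F) * u.mul_inv
  refine ⟨torDih (diagSL u), ?_, hn ▸ nonempty_torDih_equiv ht⟩
  rcases Nat.mod_two_eq_zero_or_one q with h | h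
  · rw [(Nat.prime_two.coprime_iff_not_dvd).2 (by omega), Nat.div_one] at hn
    exact isCoatom_torDih hF ht (by omega) (by omega) (by omega)
  · rw [Nat.gcd_eq_left (show 2 ∣ q - 1 by omega)] at hn
    exact isCoatom_torDih hF ht (by omega) (by omega) (by omega)

end Cfsg.Agent.S0812
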