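import Cfsg.Statements.S3433
import Cfsg.Agent.H86.OneToFive.Order360
import Cfsg.Agent.H86.OneToFive.Seven
import Cfsg.Agent.H55.FittingHall
import Cfsg.Agent.S3331
import Cfsg.Agent.S0497


set_option autoImplicit false
open Cfsg

namespace Cfsg.Agent.S3433

open Cfsg.Agent.H86.OneToFive

/-- The case of Sylow 3-subgroups of order three. -/
theorem of_sylow_three {G : Type*} [Group G] [Finite G] (h5 : OrderLeFive G) (P : Sylow 3 G)
    (hP : Nat.card P = 3) (h4 : 4 ∣ Nat.card G) (hy : ∃ y : G, orderOf y = 5) :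
    ∃ (N : Subgroup G) (_ : N.Normal), Cfsg.IsElementaryAbelian 2 N ∧
      Nonempty (G ⧸ N ≃* ↥(alternatingGroup (Fin 5))) := by
  have : Fact (Nat.Prime 3) := ⟨Nat.prime_three⟩
  have : IsCyclic P := isCyclic_of_prime_card hP
  obtain ⟨x, hx⟩ := IsCyclic.exists_ofOrder_eq_natCard (α := P)
  rw [hP, ← Subgroup.orderOf_coe] at hx
  have hPx : (P : Subgroup G) = Subgroup.zpowers (x : G) :=
    (Subgroup.eq_of_le_of_card_ge (Subgroup.zpowers_le.2 x.2)
      (by rw [Nat.card_zpowers, hx, hP])).symm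
  have hC : Subgroup.centralizer ((P : Subgroup G) : Set G) = (P : Subgroup G) := by
    refine le_antisymm (fun g hg => ?_) (fun g hg a ha => ?_)
    · have hxg : Commute (x : G) g := hg x x.2
      have hgN : g ∈ Subgroup.normalizer ((P : Subgroup G) : Set G) := by
        rw [Subgroup.mem_normalizer_iff]
        refine fun a => ⟨fun ha => ?_, fun ha => ?_⟩
        · rwa [show g * a = a * g from (hg a ha).symm, mul_inv_cancel_right]
        · have e : a = g * a * g⁻¹ := by
            have := hg _ ha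
            calc a = g⁻¹ * (g * a * g⁻¹ * g) := by group
              _ = g * a * g⁻¹ := by rw [this]; group
          rwa [e]
      rcases orderOf_commute_three h5 hx hxg with h | h
      · rw [orderOf_eq_one_iff.1 h]; exact one_mem _
      · exact Cfsg.Agent.H31.mem_sylow_of_mem_normalizer P hgN (k := 1) (by rw [h, pow_one])
    · rw [hPx] at hg ha
      obtain ⟨i, rfl⟩ := hg
      obtain ⟨j, rfl⟩ := ha
      exact ((Commute.refl (x : G)).zpow_zpow j i).eq
  rcases Cfsg.Agent.S3331.result (P : Subgroup G) hP hC with ⟨N, hN, hnil, hco, hq⟩ | ⟨N, hN, h1, h2, hq⟩ | ⟨⟨e⟩⟩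
  · exfalso
    obtain ⟨y, hy⟩ := hy
    have hidx : N.index = 3 ∨ N.index = 6 := by
      rcases hq with h | ⟨⟨e⟩⟩
      · exact Or.inl h
      · exact Or.inr ((Nat.card_congr e.toEquiv).trans (by rw [Nat.card_perm, Nat.card_fin]; rfl))
    have hyN : y ∈ N := by
      rw [← QuotientGroup.eq_one_iff, ← orderOf_eq_one_iff]
      have h1 : orderOf (y : G ⧸ N) ∣ 5 := hy ▸ orderOf_map_dvd (QuotientGroup.mk' N) y
      have h2 : orderOf (y : G ⧸ N) ∣ N.index := orderOf_dvd_natCard _
      rcases (Nat.dvd_prime Nat.prime_five).1 h1 with h | h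
      · exact h
      · rw [h] at h2; rcases hidx with h' | h' <;> rw [h'] at h2 <;> norm_num at h2
    have h2N : ¬ 2 ∣ Nat.card N := fun h => by
      have : Fact (Nat.Prime 2) := ⟨Nat.prime_two⟩
      obtain ⟨a, ha⟩ := exists_prime_orderOf_dvd_card' 2 h
      have hco' : (orderOf a).Coprime (orderOf (⟨y, hyN⟩ : N)) := by
        rw [ha, Subgroup.orderOf_mk, hy]; norm_num
      have hcomm : Commute (a : G) y :=
        (Cfsg.Agent.H55.commute_of_coprime_orderOf hnil hco').map N.subtype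
      refine not_coprime_of_commute h5 hcomm ?_ (by omega) ?_
      · rw [Subgroup.orderOf_coe, ha]; norm_num
      · rw [Subgroup.orderOf_coe, ha, hy]; norm_num
    have h3 : Nat.card N * N.index = Nat.card G := N.card_mul_index
    rw [← h3] at h4
    have hcop : Nat.Coprime 4 (Nat.card N) :=
      Nat.Coprime.pow_left 2 (Nat.prime_two.coprime_iff_not_dvd.2 h2N)
    have := hcop.dvd_of_dvd_mul_left h4
    rcases hidx with h | h <;> rw [h] at this <;> norm_num at this
  · exact ⟨N, hN, ⟨h1, h2⟩, hq⟩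
  · exfalso
    have : Fact (Nat.Prime 7) := ⟨by norm_num⟩
    obtain ⟨g, hg⟩ := exists_orderOf_seven
    have := h5 (e.symm g)
    rw [MulEquiv.orderOf_eq, hg] at this
    omega

/-- A finite group whose set of element orders is exactly {1, 2, 3, 4, 5} is isomorphic to the alternating group of degree 6, or has a normal elementary abelian 2-subgroup with quotient isomorphic to the alternating group of degree 5. -/
theorem result {G : Type*} [Group G] [Finite G] (h : Set.range (orderOf : G → ℕ) = {k : ℕ | 1 ≤ k ∧ k ≤ 5}) :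
    Nonempty (G ≃* ↥(alternatingGroup (Fin 6))) ∨
      ∃ (N : Subgroup G) (_ : N.Normal), Cfsg.IsElementaryAbelian 2 N ∧ Nonempty (G ⧸ N ≃* ↥(alternatingGroup (Fin 5))) := by

  have h5 : OrderLeFive G := fun g => ((h ▸ Set.mem_range_self g : orderOf g ∈ {k : ℕ | 1 ≤ k ∧ k ≤ 5})).2
  have hex : ∀ k, 1 ≤ k → k ≤ 5 → ∃ g : G, orderOf g = k := fun k h1 h2 =>
    Set.mem_range.1 (h.symm ▸ (show k ∈ {k : ℕ | 1 ≤ k ∧ k ≤ 5} from ⟨h1, h2⟩))
  have : Fact (Nat.Prime 3) := ⟨Nat.prime_three⟩
  obtain ⟨P⟩ := (inferInstance : Nonempty (Sylow 3 G))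
  obtain ⟨x, hx⟩ := hex 3 (by norm_num) (by norm_num)
  obtain ⟨b, hb⟩ := IsPGroup.iff_card.1 P.2
  have h3 : 3 ∣ Nat.card P := P.dvd_card_of_dvd_card (hx ▸ orderOf_dvd_natCard x)
  have hb0 : b ≠ 0 := fun h => by rw [hb, h] at h3; norm_num at h3
  rcases eq_or_ne b 1 with hb1 | hb1
  · obtain ⟨g, hg⟩ := hex 4 (by norm_num) (by norm_num)
    exact Or.inr (of_sylow_three h5 P (by rw [hb, hb1, pow_one]) (hg ▸ orderOf_dvd_natCard g)
      (hex 5 (by norm_num) le_rfl))
  · left
    have hP : 9 ≤ Nat.card P := by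
      rw [hb]
      calc 9 = 3 ^ 2 := rfl
        _ ≤ 3 ^ b := Nat.pow_le_pow_right (by norm_num) (by omega)
    obtain ⟨y, hy⟩ := hex 5 (by norm_num) le_rfl
    have h5G : 5 ∣ Nat.card G := hy ▸ orderOf_dvd_natCard y
    have hinv := hex 2 (by norm_num) (by norm_num)
    have := isSimple_of_nine_le h5 P hP h5G hinv
    exact Cfsg.Agent.S0497.result (card_eq_360 h5 P hP h5G hinv).1

end Cfsg.Agent.S3433
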