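import Cfsg.Statements.S0728
import Mathlib

set_option autoImplicit false
open Cfsg

namespace Cfsg.Agent.S0728

/-- In a sharply triply transitive group of even degree at least 6 (degree `q + 1`, `q` odd), a two-point stabiliser has at most one subgroup of order 3. -/
theorem result {α : Type*} [Fintype α] [DecidableEq α] (heven : Even (Fintype.card α)) (h6 : 6 ≤ Fintype.card α) (G : Subgroup (Equiv.Perm α)) (h3 : MulAction.IsMultiplyPretransitive G α 3) (hsharp : ∀ x : Fin 3 ↪ α, MulAction.stabilizer G x = ⊥) {a b : α} (hab : a ≠ b) (A B : Subgroup G) (hA : A ≤ MulAction.stabilizer G a ⊓ MulAction.stabilizer G b) (hB : B ≤ MulAction.stabilizer G a ⊓ MulAction.stabilizer G b) (hA3 : Nat.card A = 3) (hB3 : Nat.card B = 3) : A = B := by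
  classical
  by_contra hAB
  have hhom := h3
  set n := Fintype.card α with hn
  let U : Finset G := Finset.univ.filter fun x => x ^ 3 = 1 ∧ x ≠ 1 ∧ (x • a = a ∧ x • b = b)
  have h2t : ∀ c d : α, c ≠ d → ∃ g : G, g • a = c ∧ g • b = d := by
    have : MulAction.IsMultiplyPretransitive G α 2 :=
      MulAction.isMultiplyPretransitive_of_le (n := 3) (by norm_num) (by rw [Nat.card_eq_fintype_card]; omega)
    exact fun c d hcd => MulAction.is_two_pretransitive_iff.1 this hab hcd
  choose! γ hγ using h2t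
  have h3fix : ∀ (g : G) (u v w : α), u ≠ v → u ≠ w → v ≠ w → g • u = u → g • v = v → g • w = w → g = 1 := by
    intro g u v w huv huw hvw hu hv hw
    have hinj : Function.Injective ![u, v, w] := by
      intro i j hij
      fin_cases i <;> fin_cases j <;> simp_all
    have hmem : g ∈ MulAction.stabilizer G (⟨![u, v, w], hinj⟩ : Fin 3 ↪ α) := by
      rw [MulAction.mem_stabilizer_iff]
      ext i
      fin_cases i
      · exact congrArg _ rfl |>.trans hu
      · exact congrArg _ rfl |>.trans hv
      · exact congrArg _ rfl |>.trans hw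
    rwa [hsharp, Subgroup.mem_bot] at hmem
  let P : Finset ((α × α) × (G × α)) :=
    Finset.univ.filter fun q => q.1.1 ≠ q.1.2 ∧ q.2.1 ∈ U ∧ (γ q.1.1 q.1.2 * q.2.1 * (γ q.1.1 q.1.2)⁻¹) • q.2.2 ≠ q.2.2
  let T : Finset (α × α × α) := Finset.univ.filter fun q => q.1 ≠ q.2.1 ∧ q.1 ≠ q.2.2 ∧ q.2.1 ≠ q.2.2
  let F : (α × α) × (G × α) → α × α × α := fun q =>
    let e := γ q.1.1 q.1.2 * q.2.1 * (γ q.1.1 q.1.2)⁻¹
    (q.2.2, e • q.2.2, e • e • q.2.2)
  have hU : 3 ≤ U.card := by
    have hmem : ∀ C : Subgroup G, C ≤ MulAction.stabilizer G a ⊓ MulAction.stabilizer G b → Nat.card C = 3 →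
        ∀ x ∈ C, x ≠ 1 → x ∈ U := by
      intro C hC hC3 x hx hx1
      simp only [U, Finset.mem_filter, Finset.mem_univ, true_and]
      have := pow_card_eq_one' (x := (⟨x, hx⟩ : C))
      rw [hC3] at this
      exact ⟨congrArg Subtype.val this, hx1, Subgroup.mem_inf.1 (hC hx)⟩
    obtain ⟨y, hy⟩ : ∃ y, y ∈ B ∧ y ∉ A := by
      by_contra h
      push Not at h
      exact hAB (Subgroup.eq_of_le_of_card_ge h (by rw [hA3, hB3])).symm
    have hAc : ((A : Set G).toFinset.erase 1).card = 2 := by
      rw [Finset.card_erase_of_mem (by simp), Set.toFinset_card, ← Nat.card_eq_fintype_card, SetLike.coe_sort_coe, hA3]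
    calc 3 = (insert y ((A : Set G).toFinset.erase 1)).card := by
            rw [Finset.card_insert_of_notMem (by simp [hy.2]), hAc]
      _ ≤ U.card := Finset.card_le_card fun z hz => by
            rcases Finset.mem_insert.1 hz with rfl | hz
            · exact hmem B hB hB3 _ hy.1 (fun e => hy.2 (e ▸ A.one_mem))
            · simp only [Finset.mem_erase, Set.mem_toFinset, SetLike.mem_coe] at hz
              exact hmem A hA hA3 _ hz.2 hz.1
  have hfix : ∀ u v : α, u ≠ v → ∀ x ∈ U, ∀ d : α, (γ u v * x * (γ u v)⁻¹) • d = d ↔ d = u ∨ d = v := by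
    intro u v huv x hx d
    simp only [U, Finset.mem_filter, Finset.mem_univ, true_and] at hx
    obtain ⟨g1, g2⟩ := hγ u v huv
    rw [mul_smul, mul_smul, ← eq_inv_smul_iff]
    constructor
    · intro h
      by_contra hc
      push Not at hc
      refine hx.2.1 (h3fix x a b ((γ u v)⁻¹ • d) hab ?_ ?_ hx.2.2.1 hx.2.2.2 h)
      · intro e; apply hc.1; rw [← g1, e, smul_inv_smul]
      · intro e; apply hc.2; rw [← g2, e, smul_inv_smul]
    · rintro (rfl | rfl)
      · rw [inv_smul_eq_iff.2 g1.symm, hx.2.2.1]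
      · rw [inv_smul_eq_iff.2 g2.symm, hx.2.2.2]
  have hP : P.card = n * (n - 1) * U.card * (n - 2) := by
    rw [show P.card = ∑ q ∈ (Finset.univ.filter fun q : α × α => q.1 ≠ q.2) ×ˢ U, (n - 2) from ?_]
    · rw [Finset.sum_const, smul_eq_mul, Finset.card_product]
      congr 2
      rw [show (Finset.univ.filter fun q : α × α => q.1 ≠ q.2) = (Finset.univ : Finset α).offDiag by ext; simp,
        Finset.offDiag_card, Finset.card_univ, ← hn, show n * n - n = n * (n - 1) by rw [Nat.mul_sub, mul_one]]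
    · rw [Finset.card_eq_sum_card_fiberwise (f := fun q => (q.1, q.2.1)) (t := (Finset.univ.filter fun q : α × α => q.1 ≠ q.2) ×ˢ U)
        (fun q hq => by simp only [P, Finset.coe_filter, Finset.mem_univ, true_and, Set.mem_setOf_eq] at hq; simp [hq.1, hq.2.1])]
      refine Finset.sum_congr rfl fun q hq => ?_
      simp only [Finset.mem_product, Finset.mem_filter, Finset.mem_univ, true_and] at hq
      rw [show n - 2 = (({q.1.1, q.1.2} : Finset α)ᶜ).card by rw [Finset.card_compl, Finset.card_pair hq.1]]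
      refine Finset.card_bij (fun z _ => z.2.2) ?_ ?_ ?_
      · intro z hz
        simp only [P, Finset.mem_filter, Finset.mem_univ, true_and] at hz
        obtain ⟨⟨-, -, hz1⟩, rfl⟩ := hz
        simpa [hfix _ _ hq.1 _ hq.2] using hz1
      · intro z hz z' hz' h
        simp only [P, Finset.mem_filter] at hz hz'
        have e := hz.2.trans hz'.2.symm
        simp only [Prod.mk.injEq] at e
        exact Prod.ext e.1 (Prod.ext e.2 h)
      · intro d hd
        refine ⟨(q.1, q.2, d), ?_, rfl⟩
        simp only [P, Finset.mem_filter, Finset.mem_univ, true_and]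
        exact ⟨⟨hq.1, hq.2, by simpa [hfix _ _ hq.1 _ hq.2] using hd⟩, trivial⟩
  have hcube : ∀ u v : α, ∀ x ∈ U, (γ u v * x * (γ u v)⁻¹) ^ 3 = 1 := by
    intro u v x hx
    simp only [U, Finset.mem_filter] at hx
    rw [conj_pow, hx.2.1, mul_one, mul_inv_cancel]
  have hFT : ∀ q ∈ P, F q ∈ T := by
    rintro ⟨⟨u, v⟩, x, d⟩ hq
    simp only [P, Finset.mem_filter, Finset.mem_univ, true_and] at hq
    have hc := hcube u v x hq.2.1
    set e := γ u v * x * (γ u v)⁻¹ with he
    simp only [F, T, Finset.mem_filter, Finset.mem_univ, true_and, ← he]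
    have hne := hq.2.2
    refine ⟨fun h => hne h.symm, fun h => hne ?_, fun h => hne (smul_left_cancel e h.symm)⟩
    calc e • d = e • (e • (e • d)) := by rw [← h]
      _ = (e ^ 3) • d := by rw [pow_succ, pow_two, smul_smul, smul_smul, mul_assoc]
      _ = d := by rw [hc, one_smul]
  have hT : T.card = n * (n - 1) * (n - 2) := by
    rw [Finset.card_eq_sum_card_fiberwise (f := fun q : α × α × α => (q.1, q.2.1)) (t := (Finset.univ : Finset α).offDiag)
      (fun q hq => by simp only [T, Finset.coe_filter, Finset.mem_univ, true_and, Set.mem_setOf_eq] at hq; simp [hq.1])]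
    rw [Finset.sum_const_nat (m := n - 2)]
    · rw [Finset.offDiag_card, Finset.card_univ, ← hn, show n * n - n = n * (n - 1) by rw [Nat.mul_sub, mul_one]]
    · intro q hq
      simp only [Finset.mem_offDiag, Finset.mem_univ, true_and] at hq
      rw [show n - 2 = (({q.1, q.2} : Finset α)ᶜ).card by rw [Finset.card_compl, Finset.card_pair hq]]
      refine Finset.card_bij (fun z _ => z.2.2) ?_ ?_ ?_
      · intro z hz
        simp only [T, Finset.mem_filter, Finset.mem_univ, true_and] at hz
        obtain ⟨⟨-, h1, h2⟩, rfl⟩ := hz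
        simp [Ne.symm h1, Ne.symm h2]
      · intro z hz z' hz' h
        simp only [T, Finset.mem_filter] at hz hz'
        have e := hz.2.trans hz'.2.symm
        simp only [Prod.mk.injEq] at e
        exact Prod.ext e.1 (Prod.ext e.2 h)
      · intro d hd
        simp only [Finset.mem_compl, Finset.mem_insert, Finset.mem_singleton, not_or] at hd
        refine ⟨(q.1, q.2, d), ?_, rfl⟩
        simp only [T, Finset.mem_filter, Finset.mem_univ, true_and]
        exact ⟨⟨hq, Ne.symm hd.1, Ne.symm hd.2⟩, trivial⟩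
  have hle : P.card ≤ 2 * T.card := by
    refine Finset.card_le_mul_card_image_of_maps_to hFT 2 fun z hz => ?_
    simp only [T, Finset.mem_filter, Finset.mem_univ, true_and] at hz
    rcases (P.filter fun q => F q = z).eq_empty_or_nonempty with h | ⟨⟨⟨u, v⟩, x, d⟩, h⟩
    · simp [h]
    refine le_trans (Finset.card_le_card (t := ({((u, v), ((γ u v)⁻¹ * (γ u v * x * (γ u v)⁻¹) * γ u v, d)),
      ((v, u), ((γ v u)⁻¹ * (γ u v * x * (γ u v)⁻¹) * γ v u, d))} : Finset _)) ?_) Finset.card_le_two
    rintro ⟨⟨u', v'⟩, x', d'⟩ h'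
    simp only [Finset.mem_filter, P, Finset.mem_univ, true_and, F] at h h'
    obtain ⟨⟨huv, hx, hd⟩, hz1⟩ := h
    obtain ⟨⟨huv', hx', hd'⟩, hz2⟩ := h'
    set e := γ u v * x * (γ u v)⁻¹ with he
    set e' := γ u' v' * x' * (γ u' v')⁻¹ with he'
    rw [← hz1] at hz2 hz
    simp only [Prod.mk.injEq] at hz2
    obtain ⟨rfl, h2, h3'⟩ := hz2
    simp only at hz
    have hee : e' = e := by
      rw [← inv_mul_eq_one]
      have hc : e ^ 3 = 1 := hcube u v x hx
      have hc' : e' ^ 3 = 1 := hcube u' v' x' hx'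
      refine h3fix _ d' (e • d') (e • e • d') hz.1 hz.2.1 hz.2.2 ?_ ?_ ?_
      · rw [mul_smul, inv_smul_eq_iff, h2]
      · rw [mul_smul, inv_smul_eq_iff, ← h3', h2]
      · rw [mul_smul, inv_smul_eq_iff]
        calc e • e • e • d' = (e ^ 3) • d' := by rw [pow_succ, pow_two, smul_smul, smul_smul, mul_assoc]
          _ = (e' ^ 3) • d' := by rw [hc, hc']
          _ = e' • e • e • d' := by rw [← h3', pow_succ, pow_two, smul_smul, smul_smul, mul_assoc]
    have hu' : u' = u ∨ u' = v := (hfix u v huv x hx u').1 (by rw [← he, ← hee, he', (hfix u' v' huv' x' hx' u')]; exact Or.inl rfl)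
    have hv' : v' = u ∨ v' = v := (hfix u v huv x hx v').1 (by rw [← he, ← hee, he', (hfix u' v' huv' x' hx' v')]; exact Or.inr rfl)
    have hx'' : x' = (γ u' v')⁻¹ * e * γ u' v' := by rw [← hee, he']; group
    rw [Finset.mem_insert, Finset.mem_singleton]
    rcases hu' with hu' | hu' <;> rcases hv' with hv' | hv'
    · exact absurd (hu'.trans hv'.symm) huv'
    · exact Or.inl (by rw [hx'', hu', hv'])
    · exact Or.inr (by rw [hx'', hu', hv'])
    · exact absurd (hu'.trans hv'.symm) huv'
  rw [hP, hT] at hle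
  have hpos : 0 < n * (n - 1) * (n - 2) := Nat.mul_pos (Nat.mul_pos (by omega) (by omega)) (by omega)
  nlinarith

end Cfsg.Agent.S0728
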