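import Cfsg.Statements.S0340
import Cfsg.Agent.H7.ZassClassify
import Cfsg.Agent.S0885
import Cfsg.Agent.S1147
-- import your own Cfsg.Agent.* helpers here

set_option autoImplicit false
open Cfsg

namespace Cfsg.Agent.S0340

/-- Classification of Zassenhaus groups, simple case, order-level form: a finite simple Zassenhaus group is
isomorphic to `PSL₂(F)` for some finite field `F` or is simple of Suzuki order. -/
theorem result {G Ω : Type*} [Group G] [Finite G] [MulAction G Ω]
    [Finite Ω] (hZ : Cfsg.IsZassenhausGroup G Ω) [IsSimpleGroup G] :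
    (∃ (F : Type) (_ : Field F) (_ : Fintype F), Nonempty (G ≃* Matrix.ProjectiveSpecialLinearGroup (Fin 2) F)) ∨ Cfsg.IsSuzuki G := by
  haveI := Fintype.ofFinite Ω
  obtain ⟨g, -, a, b, hab, -, -⟩ := hZ.2.2.2.1
  obtain ⟨U, K, -⟩ := (Cfsg.Agent.H7.ZHyp.of_zassenhaus hZ).exists_ZK hab
  have hU := K.card_U
  rw [Nat.card_eq_fintype_card (α := Ω)] at hU
  refine Cfsg.Agent.H7.simple_cases K (fun ho => ?_) (fun h2 hna => ?_)
  · rcases Cfsg.Agent.S0885.result hZ hab (Nat.card U) _ hU.symm rfl ho U K.le hU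
      (fun u hu u1 c hc => by by_contra hca; exact u1 (K.free hu hca hc)) with h | ⟨h, hna, -⟩
    · exact Or.inl (by omega)
    · exact Or.inr ⟨h, hna⟩
  · obtain ⟨u, v, huv⟩ := hna
    obtain ⟨n, hn, hn1, hΩ, -, hd, -⟩ := Cfsg.Agent.S1147.result hZ hab U K.le K.conj K.reg h2
      ⟨u, u.2, v, v.2, fun e => huv (Subtype.ext e)⟩
    obtain ⟨m, rfl⟩ := hn
    refine ⟨inferInstance, m, by omega, ?_⟩
    rw [K.card_group, hd, hΩ]
    rw [Nat.card_eq_fintype_card.symm.trans hΩ] at hU
    rw [show Nat.card U = 2 ^ (2 * (2 * m + 1)) by omega]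
    ring

end Cfsg.Agent.S0340
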