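import Cfsg.Statements.S4034
import Cfsg.Agent.H86.Basic
import Cfsg.Agent.H86.SylowTI
import Cfsg.Agent.H86.Hereditary
import Cfsg.Agent.H19.Hall
import Cfsg.Agent.H19.Fitting
import Cfsg.Agent.H25.Burnside
import Cfsg.Agent.H32.Basic


set_option autoImplicit false
open Cfsg

namespace Cfsg.Agent.S4034

open scoped Pointwise

universe u

/-- All `p`-regular class sizes are powers of `p`. -/
def RegClassPow (p : ℕ) (H : Type u) [Group H] : Prop :=
  ∀ x : H, (orderOf x).Coprime p → ∃ k : ℕ, (Subgroup.centralizer ({x} : Set H)).index = p ^ k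

/-- There is an abelian `p`-complement. -/
def HasAbComplement (p : ℕ) (H : Type u) [Group H] : Prop :=
  ∃ A : Subgroup H, IsMulCommutative A ∧ ¬ p ∣ Nat.card A ∧ ∃ k : ℕ, A.index = p ^ k

theorem regClassPow_sub {p : ℕ} (hp : p.Prime) (H : Type u) [Group H] [Finite H] (N : Subgroup H) [N.Normal]
    (h : RegClassPow p H) : RegClassPow p N := by
  intro x hx
  obtain ⟨k, hk⟩ := h (x : H) (by rwa [Subgroup.orderOf_coe])
  have he : Subgroup.centralizer ({x} : Set N) = (Subgroup.centralizer ({(x : H)} : Set H)).subgroupOf N := by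
    ext y
    rw [Subgroup.mem_subgroupOf, Subgroup.mem_centralizer_singleton_iff, Subgroup.mem_centralizer_singleton_iff,
      ← Subtype.coe_inj]
    rfl
  obtain ⟨i, -, hi⟩ := (Nat.dvd_prime_pow hp).1 (hk ▸ H32.relIndex_dvd_index' (Subgroup.centralizer ({(x : H)} : Set H)) N)
  exact ⟨i, by rw [he]; exact hi⟩

theorem regClassPow_quot {p : ℕ} (hp : p.Prime) (H : Type u) [Group H] [Finite H] (N : Subgroup H) [N.Normal]
    (h : RegClassPow p H) : RegClassPow p (H ⧸ N) := by
  intro x hx
  obtain ⟨g, rfl⟩ := QuotientGroup.mk'_surjective N x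
  obtain ⟨y, z, hy, hz, hyz, ⟨a, ha⟩, hzp⟩ := H86.exists_pPart_mul_pPrimePart g (isOfFinOrder_of_finite g) hp
  set π := QuotientGroup.mk' N
  have hy1 : π y = 1 := by
    rw [← orderOf_eq_one_iff]
    have h1 : orderOf (π y) ∣ orderOf (π g) := by
      obtain ⟨i, rfl⟩ := Subgroup.mem_zpowers_iff.1 hy
      rw [← Nat.card_zpowers (π g)]
      exact Subgroup.orderOf_dvd_natCard _ (Subgroup.mem_zpowers_iff.2 ⟨i, (map_zpow π g i).symm⟩)
    exact Nat.eq_one_of_dvd_coprimes ((hx.pow_right a).symm) (ha ▸ orderOf_map_dvd π y) h1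
  have hgz : π g = π z := by rw [← hyz, map_mul, hy1, one_mul]
  obtain ⟨k, hk⟩ := h z hzp
  rw [hgz]
  have hle : (Subgroup.centralizer ({z} : Set H)).map π ≤ Subgroup.centralizer ({π z} : Set (H ⧸ N)) := by
    rintro _ ⟨c, hc, rfl⟩
    rw [Subgroup.mem_centralizer_singleton_iff, ← map_mul, ← map_mul, Subgroup.mem_centralizer_singleton_iff.1 hc]
  obtain ⟨i, -, hi⟩ := (Nat.dvd_prime_pow hp).1 (hk ▸ ((Subgroup.index_dvd_of_le hle).trans
    (Subgroup.index_map_dvd _ (QuotientGroup.mk'_surjective N))))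
  exact ⟨i, hi⟩

theorem hasAbComplement_sub {p : ℕ} (hp : p.Prime) (H : Type u) [Group H] [Finite H] (N : Subgroup H) [N.Normal]
    (h : HasAbComplement p H) : HasAbComplement p N := by
  obtain ⟨A, hA, hAp, k, hk⟩ := h
  obtain ⟨i, -, hi⟩ := (Nat.dvd_prime_pow hp).1 (hk ▸ H32.relIndex_dvd_index' A N)
  refine ⟨A.subgroupOf N, ⟨⟨fun a b => ?_⟩⟩, fun hd => hAp (hd.trans ?_), i, hi⟩
  · refine Subtype.ext (Subtype.ext ?_)
    have h1 := congrArg Subtype.val (hA.is_comm.comm ⟨((a : N) : H), a.2⟩ ⟨((b : N) : H), b.2⟩)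
    exact h1
  · rw [← Subgroup.inf_subgroupOf_right, Nat.card_congr (Subgroup.subgroupOfEquivOfLe inf_le_right).toEquiv]
    exact Subgroup.card_dvd_of_le inf_le_left

theorem hasAbComplement_quot {p : ℕ} (hp : p.Prime) (H : Type u) [Group H] [Finite H] (N : Subgroup H) [N.Normal]
    (h : HasAbComplement p H) : HasAbComplement p (H ⧸ N) := by
  obtain ⟨A, hA, hAp, k, hk⟩ := h
  obtain ⟨i, -, hi⟩ := (Nat.dvd_prime_pow hp).1 (hk ▸ Subgroup.index_map_dvd A (QuotientGroup.mk'_surjective N))
  refine ⟨A.map (QuotientGroup.mk' N), ⟨⟨?_⟩⟩, fun hd => hAp (hd.trans (Subgroup.card_map_dvd A _)), i, hi⟩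
  rintro ⟨_, a, ha, rfl⟩ ⟨_, b, hb, rfl⟩
  refine Subtype.ext ?_
  show QuotientGroup.mk' N a * QuotientGroup.mk' N b = QuotientGroup.mk' N b * QuotientGroup.mk' N a
  rw [← map_mul, ← map_mul]
  exact congrArg _ (congrArg Subtype.val (hA.is_comm.comm ⟨a, ha⟩ ⟨b, hb⟩))

/-- A simple group with an element of prime power class size different from the identity is solvable. -/
theorem solvable_of_class (H : Type u) [Group H] [Finite H] [IsSimpleGroup H] {p k : ℕ} (hp : p.Prime) {g : H}
    (hg : g ≠ 1) (hc : (Subgroup.centralizer ({g} : Set H)).index = p ^ k) : Group.IsSolvable H := by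
  haveI := Fact.mk (H25.prime_card_of_simple_of_primePow_class hp hg hc)
  haveI : IsCyclic H := isCyclic_of_prime_card rfl
  exact Group.isSolvable_of_comm IsCyclic.commGroup.mul_comm

theorem exists_regular_ne_one {p : ℕ} (hp : p.Prime) (H : Type u) [Group H] [Finite H] (h : ¬ Group.IsSolvable H) :
    ∃ g : H, g ≠ 1 ∧ (orderOf g).Coprime p := by
  haveI := Fact.mk hp
  by_contra hc
  push Not at hc
  have hP : IsPGroup p H := by
    rw [IsPGroup.iff_card]
    refine ⟨_, Nat.eq_prime_pow_of_unique_prime_dvd Nat.card_pos.ne' fun {q} hq hd => ?_⟩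
    haveI := Fact.mk hq
    obtain ⟨g, hg⟩ := exists_prime_orderOf_dvd_card' q hd
    by_contra hne
    exact hc g (fun h1 => by rw [h1, orderOf_one] at hg; exact hq.ne_one hg.symm)
      (hg ▸ (Nat.coprime_primes hq hp).2 hne)
  haveI := hP.isNilpotent
  exact h inferInstance

/-- A normal subgroup of order prime to the index of a subgroup lies in it. -/
theorem le_of_coprime_index {H : Type u} [Group H] [Finite H] (N A : Subgroup H) [N.Normal]
    (h : (Nat.card N).Coprime A.index) : N ≤ A := by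
  rw [← Subgroup.relIndex_eq_one]
  refine Nat.eq_one_of_dvd_coprimes h ?_ (H32.relIndex_dvd_index' A N)
  exact Subgroup.index_dvd_card (A.subgroupOf N)

/-- A subgroup whose index is the full `p`-part has order prime to `p`. -/
theorem not_dvd_of_index {p : ℕ} (hp : p.Prime) {H : Type u} [Group H] [Finite H] (A : Subgroup H)
    (hA : A.index = p ^ (Nat.card H).factorization p) : ¬ p ∣ Nat.card A := by
  intro hd
  refine Nat.pow_succ_factorization_not_dvd (Nat.card_pos (α := H)).ne' hp ?_
  have h1 := A.card_mul_index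
  rw [hA] at h1
  calc p ^ ((Nat.card H).factorization p + 1) = p * p ^ (Nat.card H).factorization p := pow_succ' _ _
    _ ∣ Nat.card A * p ^ (Nat.card H).factorization p := Nat.mul_dvd_mul hd dvd_rfl
    _ = Nat.card H := h1

/-- In a solvable group, each `p`-regular element with `p`-power class size centralizes a `p`-complement. -/
theorem exists_complement_centralized {p : ℕ} (hp : p.Prime) (H : Type u) [Group H] [Finite H] [Group.IsSolvable H]
    {x : H} (hx : (orderOf x).Coprime p) {k : ℕ} (hk : (Subgroup.centralizer ({x} : Set H)).index = p ^ k) :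
    ∃ A : Subgroup H, x ∈ A ∧ A ≤ Subgroup.centralizer ({x} : Set H) ∧ ¬ p ∣ Nat.card A ∧ ∃ i : ℕ, A.index = p ^ i := by
  set C := Subgroup.centralizer ({x} : Set H)
  obtain ⟨A, hA⟩ := H19.exists_pComplement (G := C) hp
  have hxC : x ∈ C := Subgroup.mem_centralizer_singleton_iff.2 rfl
  haveI : (Subgroup.zpowers (⟨x, hxC⟩ : C)).Normal := by
    refine ⟨fun n hn c => ?_⟩
    obtain ⟨i, rfl⟩ := Subgroup.mem_zpowers_iff.1 hn
    have : Commute c (⟨x, hxC⟩ : C) := Subtype.ext (Subgroup.mem_centralizer_singleton_iff.1 c.2)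
    rw [(this.zpow_right i).eq, mul_inv_cancel_right]
    exact Subgroup.zpow_mem _ (Subgroup.mem_zpowers _) i
  have hxA := le_of_coprime_index (Subgroup.zpowers (⟨x, hxC⟩ : C)) A (by
    rw [Nat.card_zpowers, Subgroup.orderOf_mk, hA]; exact hx.pow_right _) (Subgroup.mem_zpowers _)
  refine ⟨A.map C.subtype, ⟨⟨x, hxC⟩, hxA, rfl⟩, Subgroup.map_subtype_le _, ?_,
    (Nat.card C).factorization p + k, ?_⟩
  · rw [Subgroup.card_subtype]
    exact not_dvd_of_index hp A hA
  · rw [Subgroup.index_map_subtype, hA, hk, ← pow_add]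

theorem card_eq_of_complements {p : ℕ} (hp : p.Prime) {H : Type u} [Group H] [Finite H] {A B : Subgroup H}
    {a b : ℕ} (hA : ¬ p ∣ Nat.card A) (hB : ¬ p ∣ Nat.card B) (ha : A.index = p ^ a) (hb : B.index = p ^ b) :
    Nat.card A = Nat.card B := by
  have h : Nat.card A * p ^ a = Nat.card B * p ^ b := by rw [← ha, ← hb, A.card_mul_index, B.card_mul_index]
  exact dvd_antisymm ((((hp.coprime_iff_not_dvd.2 hA).pow_left b).symm).dvd_of_dvd_mul_right ⟨p ^ a, h.symm⟩)
    ((((hp.coprime_iff_not_dvd.2 hB).pow_left a).symm).dvd_of_dvd_mul_right ⟨p ^ b, h⟩)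

theorem abelian_complement_of_regClassPow {p : ℕ} (hp : p.Prime) : ∀ (n : ℕ) (H : Type u) [Group H] [Finite H]
    [Group.IsSolvable H], Nat.card H ≤ n → RegClassPow p H → HasAbComplement p H := by
  intro n
  induction n with
  | zero => intro H _ _ _ hn _; exact absurd (Nat.card_pos (α := H)) (by omega)
  | succ n ih =>
    intro H _ _ _ hn hQ
    obtain ⟨A, hA⟩ := H19.exists_pComplement (G := H) hp
    have hAp : ¬ p ∣ Nat.card A := not_dvd_of_index hp A hA
    refine ⟨A, ?_, hAp, _, hA⟩
    haveI := Fact.mk hp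
    by_cases hO : Cfsg.pCore p H = ⊥
    · haveI := H19.fitting_normal H
      set F := Cfsg.fittingSubgroup H with hF
      have hFle : ∀ B : Subgroup H, (∃ i, B.index = p ^ i) → F ≤ B := by
        rintro B ⟨i, hi⟩
        rw [hF, H19.fitting_eq_iSup_pCore]
        refine iSup_le fun q => ?_
        haveI := Fact.mk q.2
        by_cases hqp : (q : ℕ) = p
        · rw [hqp, hO]; exact bot_le
        · haveI := H19.pCore_normal (q : ℕ) H
          obtain ⟨j, hj⟩ := IsPGroup.iff_card.1 (H19.pCore_isPGroup (G := H) (q : ℕ))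
          exact le_of_coprime_index _ B (by rw [hj, hi]; exact Nat.coprime_pow_primes j i q.2 hp hqp)
      have hcen : ∀ x : H, (orderOf x).Coprime p → x ∈ F := by
        intro x hx
        obtain ⟨k, hk⟩ := hQ x hx
        obtain ⟨B, -, hBC, -, hBi⟩ := exists_complement_centralized hp H hx hk
        refine H19.centralizer_fitting_le ?_
        rw [Subgroup.mem_centralizer_iff]
        intro f hf
        exact Subgroup.mem_centralizer_singleton_iff.1 (hBC (hFle B hBi hf))
      have hreg : ∀ x ∈ A, (orderOf x).Coprime p := fun x hx =>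
        (hp.coprime_iff_not_dvd.2 fun hd => hAp (hd.trans (Subgroup.orderOf_dvd_natCard _ hx))).symm
      have hAF : A = F := le_antisymm (fun x hx => hcen x (hreg x hx)) (hFle A ⟨_, hA⟩)
      refine ⟨⟨fun a b => ?_⟩⟩
      obtain ⟨k, hk⟩ := hQ a (hreg a a.2)
      obtain ⟨B, -, hBC, hBp, i, hBi⟩ := exists_complement_centralized hp H (hreg a a.2) hk
      have hAB : A = B := Subgroup.eq_of_le_of_card_ge (hAF ▸ hFle B ⟨i, hBi⟩)
        (card_eq_of_complements hp hBp hAp hBi hA).le
      have hbB : (b : H) ∈ B := (le_of_eq hAB) b.2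
      have hb := hBC hbB
      exact Subtype.ext (Subgroup.mem_centralizer_singleton_iff.1 hb).symm
    · haveI := H19.pCore_normal p H
      set P := Cfsg.pCore p H
      have hlt : Nat.card (H ⧸ P) ≤ n := by
        rw [← Subgroup.index_eq_card]
        have h3 := P.card_mul_index
        have h4 : 1 < Nat.card P := lt_of_le_of_ne Nat.card_pos fun h => hO (Subgroup.eq_bot_of_card_eq P h.symm)
        have h5 : 0 < P.index := Nat.pos_of_ne_zero Subgroup.index_ne_zero_of_finite
        nlinarith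
      obtain ⟨B, hB, hBp, i, hBi⟩ := ih (H ⧸ P) hlt (regClassPow_quot hp H P hQ)
      obtain ⟨j, hj⟩ := IsPGroup.iff_card.1 (H19.pCore_isPGroup (G := H) p)
      have hinf : A ⊓ P = ⊥ := (inf_comm A P).trans (H19.inf_eq_bot_of_isPGroup_coprime (p := p)
        (H19.pCore_isPGroup (G := H) p) ((hp.coprime_iff_not_dvd.2 hAp).symm))
      set π := QuotientGroup.mk' P
      set A' := A.map π
      have hA'p : ¬ p ∣ Nat.card A' := fun hd => hAp (hd.trans (Subgroup.card_map_dvd A _))
      obtain ⟨l, -, hl⟩ := (Nat.dvd_prime_pow hp).1 (hA ▸ Subgroup.index_map_dvd A (QuotientGroup.mk'_surjective P))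
      have hcard := card_eq_of_complements hp hA'p hBp hl hBi
      obtain ⟨g, hg⟩ := H19.hall_conj (G := H ⧸ P) (m := Nat.card A') (n := A'.index) A'.card_mul_index.symm
        (by rw [hl]; exact ((hp.coprime_iff_not_dvd.2 hA'p).pow_left l).symm) (H := B) (K := A') hcard.symm rfl
      refine ⟨⟨fun a b => ?_⟩⟩
      have key : π ((a : H) * b) = π ((b : H) * a) := by
        have ha : π a ∈ MulAut.conj g • B := hg ▸ ⟨a, a.2, rfl⟩
        have hb : π b ∈ MulAut.conj g • B := hg ▸ ⟨b, b.2, rfl⟩
        rw [H86.mem_conj_smul_iff] at ha hb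
        have h1 := congrArg Subtype.val (hB.is_comm.comm ⟨_, ha⟩ ⟨_, hb⟩)
        have h2 : g⁻¹ * π a * g * (g⁻¹ * π b * g) = g⁻¹ * π b * g * (g⁻¹ * π a * g) := h1
        rw [map_mul, map_mul]
        calc π a * π b = g * (g⁻¹ * π a * g * (g⁻¹ * π b * g)) * g⁻¹ := by group
          _ = g * (g⁻¹ * π b * g * (g⁻¹ * π a * g)) * g⁻¹ := by rw [h2]
          _ = π b * π a := by group
      have hmem : ((a : H) * b) * ((b : H) * a)⁻¹ ∈ A ⊓ P := by
        refine ⟨A.mul_mem (A.mul_mem a.2 b.2) (A.inv_mem (A.mul_mem b.2 a.2)), ?_⟩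
        show ((a : H) * b) * ((b : H) * a)⁻¹ ∈ P
        rw [← QuotientGroup.eq_one_iff]
        show π _ = 1
        rw [map_mul, map_inv, key, mul_inv_cancel]
      rw [hinf, Subgroup.mem_bot, mul_inv_eq_one] at hmem
      exact Subtype.ext hmem

/-- Let G be a finite group and p a prime. Every conjugacy class of p-regular elements of G (elements of order prime to p) has p-power size if and only if G has an abelian p-complement, i.e. an abelian subgroup of order prime to p and p-power index. -/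
theorem result {G : Type*} [Group G] [Finite G] {p : ℕ} (hp : p.Prime) :
    (∀ x : G, (orderOf x).Coprime p → ∃ k : ℕ, (ConjClasses.mk x).carrier.ncard = p ^ k) ↔
    (∃ H : Subgroup G, IsMulCommutative H ∧ ¬ p ∣ Nat.card H ∧ ∃ k : ℕ, H.index = p ^ k) := by

  haveI := Fact.mk hp
  simp only [H86.ncard_carrier_eq_index]
  constructor
  · intro h
    haveI : Group.IsSolvable G := H86.isSolvable_of_hereditary (fun H _ _ => RegClassPow p H)
      (fun H _ _ N _ => regClassPow_sub hp H N) (fun H _ _ N _ => regClassPow_quot hp H N)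
      (fun H _ _ _ hH => by
        by_contra hns
        obtain ⟨g, hg, hgp⟩ := exists_regular_ne_one hp H hns
        obtain ⟨k, hk⟩ := hH g hgp
        exact hns (solvable_of_class H hp hg hk)) G h
    exact abelian_complement_of_regClassPow hp _ G le_rfl h
  · intro h
    haveI : Group.IsSolvable G := H86.isSolvable_of_hereditary (fun H _ _ => HasAbComplement p H)
      (fun H _ _ N _ => hasAbComplement_sub hp H N) (fun H _ _ N _ => hasAbComplement_quot hp H N)
      (fun H _ _ _ hH => by
        by_contra hns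
        obtain ⟨A, hA, hAp, k, hk⟩ := hH
        by_cases hb : A = ⊥
        · rw [hb, Subgroup.index_bot] at hk
          exact hns (haveI := (IsPGroup.of_card hk).isNilpotent; inferInstance)
        · obtain ⟨a, ha, ha1⟩ := (Subgroup.bot_or_exists_ne_one A).resolve_left hb
          have hle : A ≤ Subgroup.centralizer ({a} : Set H) := fun b hb' =>
            Subgroup.mem_centralizer_singleton_iff.2 (congrArg Subtype.val (hA.is_comm.comm ⟨b, hb'⟩ ⟨a, ha⟩))
          obtain ⟨i, -, hi⟩ := (Nat.dvd_prime_pow hp).1 (hk ▸ Subgroup.index_dvd_of_le hle)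
          exact hns (solvable_of_class H hp ha1 hi)) G h
    intro x hx
    obtain ⟨A, hA, hAp, k, hk⟩ := h
    have hcop : (Nat.card A).Coprime A.index := by rw [hk]; exact ((hp.coprime_iff_not_dvd.2 hAp).pow_left k).symm
    obtain ⟨B, hB, hxB⟩ := H19.hall_dominance (G := G) A.card_mul_index.symm hcop (Subgroup.zpowers x)
      (by rw [Nat.card_zpowers, hk]; exact hx.pow_right k)
    obtain ⟨g, hg⟩ := H19.hall_conj (G := G) A.card_mul_index.symm hcop (H := A) (K := B) rfl hB
    have hle : B ≤ Subgroup.centralizer ({x} : Set G) := by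
      intro b hb
      have hb' := hg ▸ hb
      have hx' := hg ▸ hxB (Subgroup.mem_zpowers x)
      rw [H86.mem_conj_smul_iff] at hb' hx'
      have h1 : g⁻¹ * b * g * (g⁻¹ * x * g) = g⁻¹ * x * g * (g⁻¹ * b * g) :=
        congrArg Subtype.val (hA.is_comm.comm ⟨_, hb'⟩ ⟨_, hx'⟩)
      rw [Subgroup.mem_centralizer_singleton_iff]
      calc b * x = g * (g⁻¹ * b * g * (g⁻¹ * x * g)) * g⁻¹ := by group
        _ = g * (g⁻¹ * x * g * (g⁻¹ * b * g)) * g⁻¹ := by rw [h1]
        _ = x * b := by group
    have hBi : B.index = p ^ k := by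
      refine Nat.eq_of_mul_eq_mul_left (Nat.card_pos (α := B)) ?_
      rw [B.card_mul_index, hB, ← hk, A.card_mul_index]
    obtain ⟨i, -, hi⟩ := (Nat.dvd_prime_pow hp).1 (hBi ▸ Subgroup.index_dvd_of_le hle)
    exact ⟨i, hi⟩

end Cfsg.Agent.S4034
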