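import Cfsg.Statements.S4033
import Cfsg.Agent.H63.TwoReg.OneT
import Cfsg.Agent.S4034


set_option autoImplicit false
open Cfsg

namespace Cfsg.Agent.S4033

open Cfsg.Agent.H63.TwoReg

/-- All non-central `p`-regular prime-power elements belong to one prime `q`. -/
theorem one_prime {G : Type*} [Group G] [Finite G] {p q : ℕ} (hp : p.Prime) (hq : q.Prime)
    (hqp : q ≠ p) (hone : ∀ s, InPi p s G → s = q) :
    ∃ (P : Sylow p G) (Q : Sylow q G) (A : Subgroup G),
        A ≤ Subgroup.center G ∧ Nat.card ↥((P : Subgroup G) ⊔ (Q : Subgroup G)) = Nat.card P * Nat.card Q ∧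
        ((P : Subgroup G) ⊔ (Q : Subgroup G)).Normal ∧
        ((P : Subgroup G) ⊔ (Q : Subgroup G)) ⊓ A = ⊥ ∧ ((P : Subgroup G) ⊔ (Q : Subgroup G)) ⊔ A = ⊤ := by
  haveI : Fact p.Prime := ⟨hp⟩
  haveI : Fact q.Prime := ⟨hq⟩
  let A : Subgroup G :=
    { carrier := {a | a ∈ Subgroup.center G ∧ (orderOf a).Coprime (p * q)}
      one_mem' := ⟨one_mem _, by simp⟩
      mul_mem' := fun {a b} ha hb => ⟨mul_mem ha.1 hb.1,
        Nat.Coprime.coprime_dvd_left ((show Commute a b from Subgroup.mem_center_iff.mp hb.1 a).orderOf_mul_dvd_mul_orderOf)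
          (ha.2.mul_left hb.2)⟩
      inv_mem' := fun {a} ha => ⟨inv_mem ha.1, by rw [orderOf_inv]; exact ha.2⟩ }
  have hAc : A ≤ Subgroup.center G := fun a ha => ha.1
  haveI : A.Normal := ⟨fun a ha g => by
    rwa [Subgroup.mem_center_iff.mp (hAc ha) g, mul_inv_cancel_right]⟩
  have hcop : ∀ s, s.Prime → s ∣ Nat.card A → s ≠ p ∧ s ≠ q := by
    intro s hs hd
    haveI : Fact s.Prime := ⟨hs⟩
    obtain ⟨a, ha⟩ := exists_prime_orderOf_dvd_card' s hd
    have h := a.2.2
    rw [Subgroup.orderOf_coe, ha] at h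
    constructor <;> rintro rfl <;>
      exact hs.one_lt.ne' (Nat.eq_one_of_dvd_coprimes h dvd_rfl (by simp))
  have hidx : ∀ s, s.Prime → s ∣ A.index → s = p ∨ s = q := by
    intro s hs hd
    by_contra hne
    push Not at hne
    haveI : Fact s.Prime := ⟨hs⟩
    obtain ⟨S⟩ : Nonempty (Sylow s G) := inferInstance
    have hSA : (S : Subgroup G) ≤ A := fun a ha => by
      have has := spow_mem_pgroup S.2 ha
      refine ⟨?_, (spow_coprime hs hp hne.1 has).mul_right (spow_coprime hs hq hne.2 has)⟩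
      by_contra haZ
      exact hne.2 (hone s ⟨hs, hne.1, a, has, haZ⟩)
    exact S.not_dvd_index (hd.trans (Subgroup.index_dvd_of_le hSA))
  have hAI : (Nat.card A).Coprime A.index := Nat.coprime_of_dvd fun k hk h1 h2 => by
    rcases hidx k hk h2 with rfl | rfl
    · exact (hcop k hk h1).1 rfl
    · exact (hcop k hk h1).2 rfl
  obtain ⟨K, hK⟩ := Subgroup.exists_right_complement'_of_coprime hAI
  haveI hKn : K.Normal := ⟨fun k hk g => by
    obtain ⟨⟨a, b⟩, hab, -⟩ := hK.existsUnique g
    simp only at hab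
    rw [← hab, mul_inv_rev, show (a : G) * b * k * ((b : G)⁻¹ * (a : G)⁻¹) =
      a * (b * k * (b : G)⁻¹) * (a : G)⁻¹ by group,
      (Subgroup.mem_center_iff.mp (hAc a.2) (b * k * (b : G)⁻¹)).symm, mul_inv_cancel_right]
    exact mul_mem (mul_mem b.2 hk) (inv_mem b.2)⟩
  have hmem : ∀ s, s.Prime → (s = p ∨ s = q) → ∀ g : G, SPow s g → g ∈ K := by
    intro s hs hsor g hg
    obtain ⟨⟨a, b⟩, hab, -⟩ := hK.existsUnique g
    simp only at hab
    obtain ⟨k, hk⟩ := hg
    have h1 : (a : G) ^ orderOf g * (b : G) ^ orderOf g = 1 := by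
      rw [← (show Commute (a : G) b from (Subgroup.mem_center_iff.mp (hAc a.2) b).symm).mul_pow, hab,
        pow_orderOf_eq_one]
    have h2 : (a : G) ^ orderOf g = 1 := by
      have h3 : (a : G) ^ orderOf g ∈ A ⊓ K := Subgroup.mem_inf.mpr ⟨pow_mem a.2 _, by
        rw [eq_inv_of_mul_eq_one_left h1]; exact inv_mem (pow_mem b.2 _)⟩
      rw [hK.disjoint.eq_bot] at h3
      exact Subgroup.mem_bot.mp h3
    have h4 : orderOf (a : G) = 1 := by
      refine Nat.eq_one_of_dvd_coprimes (?_ : Nat.Coprime (orderOf (a : G)) (orderOf g)) dvd_rfl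
        (orderOf_dvd_of_pow_eq_one h2)
      rw [hk]
      rcases hsor with rfl | rfl
      · exact (a.2.2.coprime_dvd_right (dvd_mul_right _ _)).pow_right k
      · exact (a.2.2.coprime_dvd_right (dvd_mul_left _ _)).pow_right k
    rw [← hab, orderOf_eq_one_iff.mp h4, one_mul]
    exact b.2
  obtain ⟨P⟩ : Nonempty (Sylow p G) := inferInstance
  obtain ⟨Q⟩ : Nonempty (Sylow q G) := inferInstance
  have hPK : (P : Subgroup G) ≤ K := fun g hg => hmem p hp (Or.inl rfl) g (spow_mem_pgroup P.2 hg)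
  have hQK : (Q : Subgroup G) ≤ K := fun g hg => hmem q hq (Or.inr rfl) g (spow_mem_pgroup Q.2 hg)
  have hKcard : Nat.card K ∣ Nat.card P * Nat.card Q := by
    have hKi : Nat.card K = A.index := hK.symm.index_eq_card.symm
    rw [← Nat.factorization_le_iff_dvd Nat.card_pos.ne' (mul_ne_zero Nat.card_pos.ne' Nat.card_pos.ne')]
    intro s
    rw [Nat.factorization_mul Nat.card_pos.ne' Nat.card_pos.ne', Finsupp.add_apply]
    by_cases hs : s.Prime ∧ s ∣ Nat.card K
    · obtain ⟨hs, hsd⟩ := hs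
      have hle : (Nat.card K).factorization s ≤ (Nat.card G).factorization s :=
        (Nat.factorization_le_iff_dvd Nat.card_pos.ne' Nat.card_pos.ne').mpr
          (Subgroup.card_subgroup_dvd_card K) s
      rcases hidx s hs (hKi ▸ hsd) with rfl | rfl
      · rw [P.card_eq_multiplicity, hs.factorization_pow, Finsupp.single_eq_same]; omega
      · rw [Q.card_eq_multiplicity, hs.factorization_pow, Finsupp.single_eq_same]; omega
    · rw [Nat.factorization_eq_zero_iff _ _ |>.mpr (by tauto)]; exact Nat.zero_le _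
  have hdvd : Nat.card P * Nat.card Q ∣ Nat.card ↥((P : Subgroup G) ⊔ (Q : Subgroup G)) :=
    (IsPGroup.coprime_card_of_ne p q hqp.symm _ _ P.2 Q.2).mul_dvd_of_dvd_of_dvd
      (Subgroup.card_dvd_of_le le_sup_left) (Subgroup.card_dvd_of_le le_sup_right)
  have heq : (P : Subgroup G) ⊔ (Q : Subgroup G) = K :=
    Subgroup.eq_of_le_of_card_ge (sup_le hPK hQK) (Nat.le_of_dvd Nat.card_pos (hKcard.trans hdvd))
  refine ⟨P, Q, A, hAc, ?_, heq ▸ hKn, ?_, ?_⟩
  · exact Nat.dvd_antisymm (heq ▸ hKcard) hdvd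
  · rw [heq, inf_comm]; exact hK.disjoint.eq_bot
  · rw [heq, sup_comm]; exact hK.sup_eq_top

/-- Let G be a finite group and p a prime, and suppose the conjugacy classes of p-regular elements of G (elements of order prime to p) have exactly two distinct sizes. Then either G has an abelian p-complement (an abelian subgroup of order prime to p and p-power index), or there are a prime q ≠ p, a Sylow p-subgroup P, a Sylow q-subgroup Q and a central subgroup A such that PQ is a normal subgroup of order #P·#Q and G is the internal direct product PQ × A. -/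
theorem result {G : Type*} [Group G] [Finite G] {p : ℕ} (hp : p.Prime)
    (h2 : Set.ncard (Set.range fun x : {x : G // (orderOf x).Coprime p} => (ConjClasses.mk (x : G)).carrier.ncard) = 2) :
    (∃ H : Subgroup G, IsMulCommutative H ∧ ¬ p ∣ Nat.card H ∧ ∃ k : ℕ, H.index = p ^ k) ∨
    (∃ (q : ℕ) (_ : Fact q.Prime) (P : Sylow p G) (Q : Sylow q G) (A : Subgroup G), q ≠ p ∧
        A ≤ Subgroup.center G ∧ Nat.card ↥((P : Subgroup G) ⊔ (Q : Subgroup G)) = Nat.card P * Nat.card Q ∧
        ((P : Subgroup G) ⊔ (Q : Subgroup G)).Normal ∧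
        ((P : Subgroup G) ⊔ (Q : Subgroup G)) ⊓ A = ⊥ ∧ ((P : Subgroup G) ⊔ (Q : Subgroup G)) ⊔ A = ⊤) := by
  classical
  haveI : Fact p.Prime := ⟨hp⟩
  set f : {x : G // (orderOf x).Coprime p} → ℕ :=
    fun x => (ConjClasses.mk (x : G)).carrier.ncard with hf
  have hcls : ∀ x : G, (ConjClasses.mk x).carrier.ncard =
      (Subgroup.centralizer ({x} : Set G)).index := fun x => by
    rw [Cfsg.Agent.H25.index_centralizer_eq_card_class, ← Nat.card_coe_set_eq]
    exact Nat.card_congr (Equiv.subtypeEquivRight fun y => by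
      rw [ConjClasses.mem_carrier_iff_mk_eq, ConjClasses.mk_eq_mk_iff_isConj, isConj_comm])
  have hone : ∀ x : G, (ConjClasses.mk x).carrier.ncard = 1 ↔ x ∈ Subgroup.center G := fun x => by
    rw [hcls, Subgroup.index_eq_one, eq_top_iff]
    constructor
    · intro h
      exact Subgroup.mem_center_iff.mpr fun g => (mem_cent_iff.mp (h (Subgroup.mem_top g))).eq
    · intro h g _
      exact mem_cent_iff.mpr (Subgroup.mem_center_iff.mp h g)
  have h1 : 1 ∈ Set.range f := ⟨⟨1, by simp⟩, (hone 1).mpr (one_mem _)⟩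
  obtain ⟨m, hm1, hrange⟩ : ∃ m, m ≠ 1 ∧ Set.range f = {1, m} := by
    obtain ⟨a, b, hab, he⟩ := Set.ncard_eq_two.mp h2
    change Set.range f = {a, b} at he
    rw [he] at h1
    rcases h1 with rfl | h1
    · exact ⟨b, hab.symm, he⟩
    · rw [Set.mem_singleton_iff] at h1
      subst h1
      exact ⟨a, hab, he.trans (Set.pair_comm _ _)⟩
  have hW : ∀ x : G, W p x → (Subgroup.centralizer ({x} : Set G)).index = m := by
    intro x hx
    have h : f ⟨x, hx.2⟩ ∈ Set.range f := ⟨_, rfl⟩
    rw [hrange] at h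
    rcases h with h | h
    · exact absurd ((hone x).mp h) hx.1
    · rw [← hcls]; exact h
  obtain ⟨x0, hx0⟩ : ∃ x : G, W p x := by
    have h : m ∈ Set.range f := by rw [hrange]; simp
    obtain ⟨⟨x, hx⟩, he⟩ := h
    exact ⟨x, fun hZ => hm1 (by rw [← he]; exact (hone x).mpr hZ), hx⟩
  obtain ⟨q, j, hq, hqj, hjZ⟩ := exists_spow_power hx0.1
  have hqp : q ≠ p := by
    rintro rfl
    obtain ⟨k, hk⟩ := hqj
    have h : orderOf (x0 ^ j) = 1 := Nat.eq_one_of_dvd_coprimes
      ((coprime_pow hx0.2 j).pow_right k) dvd_rfl (dvd_of_eq hk)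
    exact hjZ (by rw [orderOf_eq_one_iff.mp h]; exact one_mem _)
  have hqπ : InPi p q G := ⟨hq, hqp, _, hqj, hjZ⟩
  by_cases htwo : ∀ s, InPi p s G → s = q
  · obtain ⟨P, Q, A, h⟩ := one_prime hp hq hqp htwo
    exact Or.inr ⟨q, ⟨hq⟩, P, Q, A, hqp, h⟩
  · push Not at htwo
    obtain ⟨r, hr, hrq⟩ := htwo
    left
    set c := Nat.card (Subgroup.centralizer ({x0} : Set G))
    have H : Hyp p c G :=
      { prime := hp
        card := fun x hx => by
          have h1 := (Subgroup.centralizer ({x} : Set G)).card_mul_index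
          have h2 := (Subgroup.centralizer ({x0} : Set G)).card_mul_index
          rw [hW x hx] at h1
          rw [hW x0 hx0, ← h1] at h2
          exact (Nat.eq_of_mul_eq_mul_right (Nat.pos_of_ne_zero
            (hW x0 hx0 ▸ Subgroup.FiniteIndex.index_ne_zero)) h2).symm
        two := ⟨q, r, hqπ, hr, hrq.symm⟩ }
    refine (Cfsg.Agent.S4034.result hp).mp fun x hx => ?_
    by_cases hxZ : x ∈ Subgroup.center G
    · exact ⟨0, by rw [(hone x).mpr hxZ, pow_zero]⟩
    set C := Subgroup.centralizer ({x} : Set G) with hC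
    rw [hcls]
    refine ⟨_, Nat.eq_prime_pow_of_unique_prime_dvd Subgroup.FiniteIndex.index_ne_zero
      fun {s} hs hsd => ?_⟩
    by_contra hsp
    have hd : s ^ ((Nat.card G).factorization s + 1) ∣ Nat.card G := by
      refine dvd_trans ?_ (dvd_of_eq C.card_mul_index)
      rw [pow_succ]
      refine mul_dvd_mul ?_ hsd
      rw [← full_of_not_inT H hs hsp (not_inT H), hC, H.card x ⟨hxZ, hx⟩]
      exact Nat.ordProj_dvd c s
    rw [hs.pow_dvd_iff_le_factorization Nat.card_pos.ne'] at hd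
    omega

end Cfsg.Agent.S4033
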