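import Cfsg.Statements.S4146
import Cfsg.Agent.H86.FourSizes.Final


set_option autoImplicit false
open Cfsg

namespace Cfsg.Agent.S4146

/-- Let G be a finite group whose conjugacy class sizes are exactly 1, n, m and nm for coprime integers n, m > 1. Then G is nilpotent and n and m are prime powers. -/
theorem result {G : Type*} [Group G] [Finite G] (n m : ℕ) (hn : 1 < n) (hm : 1 < m) (hcop : n.Coprime m)
    (h : Set.range (fun x : G => (Subgroup.centralizer ({x} : Set G)).index) = ({1, n, m, n * m} : Set ℕ)) :
    Group.IsNilpotent G ∧ IsPrimePow n ∧ IsPrimePow m := by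
  have hr : ∀ x : G, (Subgroup.centralizer ({x} : Set G)).index ∈ ({1, n, m, n * m} : Set ℕ) :=
    fun x => h ▸ ⟨x, rfl⟩
  have he : ∀ k ∈ ({1, n, m, n * m} : Set ℕ), ∃ x : G, (Subgroup.centralizer ({x} : Set G)).index = k :=
    fun k hk => by rw [← h] at hk; exact hk
  exact H86.FourSizes.Four.nilpotent
    { one_lt_n := hn, one_lt_m := hm, coprime := hcop,
      sizes := fun x => by simpa using hr x,
      exists_n := he n (by simp), exists_m := he m (by simp), exists_nm := he (n * m) (by simp) }

end Cfsg.Agent.S4146
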