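import Cfsg.Statements.S4035
import Cfsg.Agent.H86.Basic


set_option autoImplicit false
open Cfsg

namespace Cfsg.Agent.S4035

/-- Let G be a finite group and p a prime such that p divides the size of no conjugacy class of p-regular elements (elements of order prime to p). Then G is the internal direct product of a Sylow p-subgroup P and a normal subgroup H of order prime to p: P is normal, P ⊓ H = 1 and PH = G. -/
theorem result {G : Type*} [Group G] [Finite G] {p : ℕ} [Fact p.Prime]
    (h : ∀ x : G, (orderOf x).Coprime p → ¬ p ∣ (ConjClasses.mk x).carrier.ncard) (P : Sylow p G) :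
    (P : Subgroup G).Normal ∧ ∃ H : Subgroup G, H.Normal ∧ ¬ p ∣ Nat.card H ∧
      (P : Subgroup G) ⊓ H = ⊥ ∧ (P : Subgroup G) ⊔ H = ⊤ := by
  set C := Subgroup.centralizer ((P : Subgroup G) : Set G) with hC
  have hidx : ∀ z : G, (orderOf z).Coprime p → ¬ p ∣ (Subgroup.centralizer ({z} : Set G)).index := fun z hz => by
    rw [← H86.ncard_carrier_eq_index]; exact h z hz
  have hcomm : ∀ z ∈ C, ∀ u ∈ (P : Subgroup G), u * z = z * u := fun z hz u hu =>
    Subgroup.mem_centralizer_iff.1 hz u hu
  have hnorm : ∀ z ∈ C, z ∈ Subgroup.normalizer ((P : Subgroup G) : Set G) := fun z hz => by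
    rw [Subgroup.mem_normalizer_iff]
    intro u
    constructor
    · intro hu
      rw [← hcomm z hz u hu, mul_inv_cancel_right]; exact hu
    · intro hu
      have h1 := hcomm z hz _ hu
      have h2 : z * u * z⁻¹ * z = z * (z * u * z⁻¹) := h1
      have h3 : u = z * u * z⁻¹ := by
        calc u = z⁻¹ * (z * u * z⁻¹ * z) := by group
          _ = z⁻¹ * (z * (z * u * z⁻¹)) := by rw [h2]
          _ = z * u * z⁻¹ := by group
      rw [h3]; exact hu
  have htop : (P : Subgroup G) ⊔ C = ⊤ := by
    apply H86.eq_top_of_conjugates_cover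
    intro g
    obtain ⟨y, z, hy, hz, hyz, hyp, hzp⟩ := H86.exists_pPart_mul_pPrimePart g (isOfFinOrder_of_finite g) (p := p) Fact.out
    have hcy : y ∈ Subgroup.centralizer ({z} : Set G) := by
      obtain ⟨i, rfl⟩ := Subgroup.mem_zpowers_iff.1 hy
      obtain ⟨j, rfl⟩ := Subgroup.mem_zpowers_iff.1 hz
      rw [Subgroup.mem_centralizer_singleton_iff]
      rw [← zpow_add, ← zpow_add, add_comm]
    obtain ⟨Q, hyQ, hQz⟩ := H86.exists_sylow_centralizing z (hidx z hzp) hcy hyp
    obtain ⟨a, ha⟩ := MulAction.exists_smul_eq G P Q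
    have hmem : ∀ u : G, u ∈ (Q : Subgroup G) ↔ a⁻¹ * u * a ∈ (P : Subgroup G) := by
      intro u
      rw [← ha, Sylow.coe_subgroup_smul, Subgroup.mem_pointwise_smul_iff_inv_smul_mem]
      simp [MulAut.smul_def]
    refine ⟨a, ?_⟩
    have hz' : a⁻¹ * z * a ∈ C := by
      rw [hC, Subgroup.mem_centralizer_iff]
      intro u hu
      have h1 : a * u * a⁻¹ ∈ (Q : Subgroup G) := (hmem _).2 (by simpa [mul_assoc] using (SetLike.mem_coe.1 hu))
      have h2 := (Subgroup.mem_centralizer_singleton_iff.1 (hQz h1))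
      calc u * (a⁻¹ * z * a) = a⁻¹ * ((a * u * a⁻¹) * z) * a := by group
        _ = a⁻¹ * (z * (a * u * a⁻¹)) * a := by rw [h2]
        _ = _ := by group
    have : a⁻¹ * g * a = (a⁻¹ * y * a) * (a⁻¹ * z * a) := by rw [← hyz]; group
    rw [this]
    exact Subgroup.mul_mem_sup ((hmem y).1 hyQ) hz'
  have hPn : (P : Subgroup G).Normal := by
    rw [← Subgroup.normalizer_eq_top_iff, eq_top_iff, ← htop]
    exact sup_le Subgroup.le_normalizer hnorm
  have := hPn
  obtain ⟨H, hH⟩ := Subgroup.exists_right_complement'_of_coprime (N := (P : Subgroup G)) P.card_coprime_index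
  have hcardH : Nat.card H = (P : Subgroup G).index := hH.symm.index_eq_card.symm
  have hndvd : ¬ p ∣ Nat.card H := hcardH ▸ P.not_dvd_index
  have hHC : H ≤ C := by
    intro k hk
    have hkp : (orderOf k).Coprime p :=
      (((Fact.out : p.Prime).coprime_iff_not_dvd).2 fun hd => hndvd (hd.trans (Subgroup.orderOf_dvd_natCard H hk))).symm
    obtain ⟨Q, -, hQ⟩ := H86.exists_sylow_centralizing k (hidx k hkp) (one_mem _) ⟨0, by simp⟩
    obtain ⟨a, ha⟩ := MulAction.exists_smul_eq G P Q
    have : (P : Subgroup G) = Q := by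
      rw [← ha, Sylow.smul_eq_of_normal]
    rw [hC, Subgroup.mem_centralizer_iff]
    intro u hu
    exact Subgroup.mem_centralizer_singleton_iff.1 (hQ (this ▸ hu))
  refine ⟨hPn, H, ?_, hndvd, hH.disjoint.eq_bot, hH.sup_eq_top⟩
  rw [← Subgroup.normalizer_eq_top_iff, eq_top_iff, ← hH.sup_eq_top]
  refine sup_le ?_ Subgroup.le_normalizer
  intro u hu
  rw [Subgroup.mem_normalizer_iff]
  intro k
  constructor
  · intro hk
    rw [hcomm k (hHC hk) u hu, mul_inv_cancel_right]; exact hk
  · intro hk
    have h1 := hcomm _ (hHC hk) u hu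
    have : k = u * k * u⁻¹ := by
      calc k = u⁻¹ * (u * k * u⁻¹ * u) := by group
        _ = u⁻¹ * (u * (u * k * u⁻¹)) := by rw [h1]
        _ = _ := by group
    rw [this]; exact hk

end Cfsg.Agent.S4035
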