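import Cfsg.Statements.S0086

set_option autoImplicit false
open Cfsg

namespace Cfsg.Agent.S0086

/-- A normal complement to a Sylow p-subgroup is exactly the set of elements of order prime to p. -/
theorem result {G : Type*} [Group G] [Finite G] {p : ℕ} [Fact p.Prime] (P : Sylow p G) (N : Subgroup G) [N.Normal] (hN : N.IsComplement' (P : Subgroup G)) (x : G) : x ∈ N ↔ Nat.Coprime (orderOf x) p := by
  have hcard : Nat.card N * Nat.card (P : Subgroup G) = Nat.card G := hN.card_mul
  obtain ⟨k, hk⟩ := IsPGroup.iff_card.mp P.isPGroup'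
  have hidx : N.index = p ^ k := by rw [hN.symm.index_eq_card, hk]
  have hcop : (Nat.card N).Coprime p := by
    have h := P.not_dvd_index
    rw [hN.index_eq_card] at h
    exact ((Fact.out : p.Prime).coprime_iff_not_dvd.mpr h).symm
  constructor
  · intro hx
    exact Nat.Coprime.coprime_dvd_left (by simpa using Subgroup.orderOf_dvd_natCard N hx) hcop
  · intro hx
    have h1 : orderOf (QuotientGroup.mk' N x) ∣ p ^ k := by
      rw [← hidx, Subgroup.index_eq_card]; exact orderOf_dvd_natCard _
    have h2 : orderOf (QuotientGroup.mk' N x) ∣ orderOf x := orderOf_map_dvd _ x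
    have h3 : orderOf (QuotientGroup.mk' N x) = 1 :=
      Nat.eq_one_of_dvd_coprimes (hx.pow_right k) h2 h1
    have : QuotientGroup.mk' N x = 1 := orderOf_eq_one_iff.mp h3
    exact (QuotientGroup.eq_one_iff x).mp this

end Cfsg.Agent.S0086
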