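import Cfsg.Statements.S3195
import Mathlib
import Cfsg.Agent.H28.BaerSuzuki
import Cfsg.Agent.H28.Dihedral

set_option autoImplicit false
open Cfsg

namespace Cfsg.Agent.S3195

variable {G : Type*} [Group G] [Finite G]

/-- An odd-order element squaring into a centraliser lies in it. -/
theorem commute_of_sq (v w : G) (hv : Odd (orderOf v)) (h : Commute (v ^ 2) w) : Commute v w := by
  obtain ⟨k, hk⟩ := hv
  have : (v ^ 2) ^ (k + 1) = v := by
    rw [← pow_mul, show 2 * (k + 1) = (2 * k + 1) + 1 by ring, ← hk, pow_succ, pow_orderOf_eq_one, one_mul]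
  exact this ▸ h.pow_left (k + 1)

/-- An odd-order element equal to its inverse is trivial. -/
theorem eq_one_of_sq (x : G) (hx : Odd (orderOf x)) (h : x * x = 1) : x = 1 := by
  have h1 : orderOf x ∣ 2 := orderOf_dvd_of_pow_eq_one (by rw [pow_two, h])
  rcases (Nat.dvd_prime Nat.prime_two).mp h1 with h2 | h2
  · exact orderOf_eq_one_iff.mp h2
  · rw [h2] at hx; exact absurd hx (by decide)

/-- An involution outside `O_2` inverts a nontrivial element of odd order. -/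
theorem exists_inverted (a : G) (ha : a * a = 1) (h : a ∉ Cfsg.pCore 2 G) :
    ∃ x : G, x ≠ 1 ∧ Odd (orderOf x) ∧ a * x * a = x⁻¹ := by
  obtain ⟨g, hg⟩ : ∃ g : G, ¬ IsPGroup 2 ↥(Subgroup.closure ({a, g * a * g⁻¹} : Set G)) := by
    by_contra hc
    push Not at hc
    obtain ⟨N, hN, hNp, haN⟩ := Cfsg.Agent.H28.baer_suzuki_element (p := 2) a hc
    exact h ((le_sSup ⟨hN, hNp⟩ : N ≤ Cfsg.pCore 2 G) haN)
  set b := g * a * g⁻¹ with hb'
  have hb : b * b = 1 := by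
    rw [hb', show g * a * g⁻¹ * (g * a * g⁻¹) = g * (a * a) * g⁻¹ by group, ha]; group
  set r := a * b
  obtain ⟨e, m, hm, he⟩ := Nat.exists_eq_two_pow_mul_odd (orderOf_pos r).ne'
  have hox : orderOf (r ^ 2 ^ e) = m := by
    rw [orderOf_pow, he, Nat.gcd_eq_right (Dvd.intro _ rfl), Nat.mul_div_cancel_left _ (by positivity)]
  refine ⟨r ^ 2 ^ e, fun h1 => hg fun d => ?_, hox ▸ hm, ?_⟩
  · have h2 : r ^ 2 ^ e = 1 := h1
    obtain ⟨k, hk | hk⟩ := (Cfsg.Agent.H28.mem_closure_pair_iff ha hb).mp d.2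
    · refine ⟨e, Subtype.ext ?_⟩
      rw [SubmonoidClass.coe_pow, hk, ← zpow_natCast, ← zpow_mul, mul_comm, zpow_mul, zpow_natCast, h2,
        one_zpow]
      rfl
    · refine ⟨1, Subtype.ext ?_⟩
      rw [SubmonoidClass.coe_pow, hk, pow_one, sq, Cfsg.Agent.H28.mul_zpow_mul_self ha hb]
      rfl
  · have h3 := Cfsg.Agent.H28.mul_zpow_comm ha hb ((2 ^ e : ℕ) : ℤ)
    rw [zpow_neg, zpow_natCast] at h3
    rw [h3, mul_assoc, ha, mul_one]

/-- Two of the involutions of `A` cannot invert nontrivial odd elements centralised by the other. -/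
theorem no_two_types (A : Subgroup G)
    (hcov : ∀ g : G, ∀ u ∈ A, u ≠ 1 → ∃ v ∈ A, v ≠ 1 ∧ Commute v (g * u * g⁻¹))
    (a b c : G) (hcA : c ∈ A) (hA : ∀ v ∈ A, v ≠ 1 → v = a ∨ v = b ∨ v = c)
    (hbc : Commute b c) (hc1 : c ≠ 1) (hc : c * c = 1) (hac : Commute a c)
    (x y : G) (hx : x ≠ 1) (hxo : Odd (orderOf x)) (hy : y ≠ 1) (hyo : Odd (orderOf y))
    (hax : a * x * a⁻¹ = x⁻¹) (hcx : c * x * c = x⁻¹) (hbx : Commute b x)
    (hay : Commute a y) (hcy : c * y * c = y⁻¹) (hby : b * y * b⁻¹ = y⁻¹) : False := by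
  have hci : c⁻¹ = c := inv_eq_of_mul_eq_one_right hc
  have hnd : ∀ x' : G, Odd (orderOf x') → x' ≠ 1 → c * x' * c = x'⁻¹ → a * x' * a⁻¹ = x'⁻¹ →
      ¬ Commute a (c * x') := by
    intro x' hxo' hx' hcx' hax' h
    have h1 : Commute a x' := by simpa [← mul_assoc, hc, hci] using hac.inv_right.mul_right h
    rw [h1.eq, mul_inv_cancel_right] at hax'
    exact hx' (eq_one_of_sq x' hxo' (by nth_rw 2 [hax']; exact mul_inv_cancel x'))
  have key : ∀ x' y' : G, x' ≠ 1 → y' ≠ 1 → Odd (orderOf x') → Odd (orderOf y') →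
      c * x' * c = x'⁻¹ → a * x' * a⁻¹ = x'⁻¹ → Commute b x' → c * y' * c = y'⁻¹ → Commute a y' →
      b * y' * b⁻¹ = y'⁻¹ → x'⁻¹ * y' ^ 2 = (y' ^ 2)⁻¹ * x' := by
    intro x' y' hx' hy' hxo' hyo' hcx' hax' hbx' hcy' hay' hby'
    obtain ⟨k, hk⟩ := hxo'
    set s := x' ^ (k + 1) with hs
    have hss : s * s = x' := by
      rw [hs, ← pow_add, show k + 1 + (k + 1) = (2 * k + 1) + 1 by ring, ← hk, pow_succ,
        pow_orderOf_eq_one, one_mul]
    have hcs : c * s * c = s⁻¹ := by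
      have h2 : (c * x' * c⁻¹) ^ (k + 1) = s⁻¹ := by rw [hci, hcx', inv_pow]
      rwa [conj_pow, hci] at h2
    have hd : s⁻¹ * c * s = c * x' := by
      calc s⁻¹ * c * s = c * s * (c * c) * s := by rw [← hcs]; group
        _ = c * x' := by rw [hc, mul_one, mul_assoc, hss]
    obtain ⟨v, hvA, hv1, hv⟩ := hcov (y' * s⁻¹) c hcA hc1
    rw [show y' * s⁻¹ * c * (y' * s⁻¹)⁻¹ = y' * (s⁻¹ * c * s) * y'⁻¹ by group, hd] at hv
    have hv' : Commute (y'⁻¹ * v * y') (c * x') := by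
      have := congrArg (fun z => y'⁻¹ * z * y') hv.eq
      show y'⁻¹ * v * y' * (c * x') = (c * x') * (y'⁻¹ * v * y')
      calc y'⁻¹ * v * y' * (c * x') = y'⁻¹ * (v * (y' * (c * x') * y'⁻¹)) * y' := by group
        _ = y'⁻¹ * ((y' * (c * x') * y'⁻¹) * v) * y' := by rw [hv.eq]
        _ = (c * x') * (y'⁻¹ * v * y') := by group
    have hinv : ∀ w : G, w * y' * w⁻¹ = y'⁻¹ → y'⁻¹ * w * y' = w * y' ^ 2 := by
      intro w hw
      calc y'⁻¹ * w * y' = (w * y' * w⁻¹) * w * y' := by rw [hw]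
        _ = w * y' ^ 2 := by rw [sq]; group
    rcases hA v hvA hv1 with rfl | rfl | hvc
    · rw [mul_assoc, hay'.eq, inv_mul_cancel_left] at hv'
      exact absurd hv' (hnd x' ⟨k, hk⟩ hx' hcx' hax')
    · rw [hinv _ hby'] at hv'
      have hbd : Commute v (c * x') := hbc.mul_right hbx'
      have h1 : Commute (c * x') (y' ^ 2) := by
        have := hbd.symm.inv_right.mul_right hv'.symm
        simpa using this
      have h2 : Commute (c * x') y' := (commute_of_sq y' (c * x') hyo' h1.symm).symm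
      have h3 : x' * y' * x'⁻¹ = y'⁻¹ := by
        calc x' * y' * x'⁻¹ = c * ((c * x') * y' * (c * x')⁻¹) * c := by
              rw [mul_inv_rev, hci]; simp [← mul_assoc, hc]; simp [mul_assoc, hc]
          _ = c * y' * c := by rw [h2.eq, mul_inv_cancel_right]
          _ = y'⁻¹ := hcy'
      exfalso
      have h4 : Commute (x' ^ 2) y' := by
        rw [commute_iff_eq, ← mul_inv_eq_iff_eq_mul, sq, mul_inv_rev,
          show x' * x' * y' * (x'⁻¹ * x'⁻¹) = x' * (x' * y' * x'⁻¹) * x'⁻¹ by group, h3]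
        calc x' * y'⁻¹ * x'⁻¹ = (x' * y' * x'⁻¹)⁻¹ := by group
          _ = y' := by rw [h3, inv_inv]
      have h5 := commute_of_sq x' y' ⟨k, hk⟩ h4
      rw [h5.eq, mul_inv_cancel_right] at h3
      exact hy' (eq_one_of_sq y' hyo' (by nth_rw 2 [h3]; exact mul_inv_cancel y'))
    · have hcy2 : c * y' * c⁻¹ = y'⁻¹ := by rw [hci]; exact hcy'
      rw [hvc, hinv _ hcy2] at hv'
      have e1 : (c * y' ^ 2) * (c * x') = (y' ^ 2)⁻¹ * x' := by
        rw [← inv_pow, ← hcy2, conj_pow, hci]; group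
      have e2 : (c * x') * (c * y' ^ 2) = x'⁻¹ * y' ^ 2 := by rw [← hcx']; group
      rw [← e1, ← e2]
      exact hv'.symm.eq
  have hyi : ∀ w : G, w * y * w⁻¹ = y⁻¹ → w * y⁻¹ * w⁻¹ = (y⁻¹)⁻¹ := by
    intro w hw
    rw [show w * y⁻¹ * w⁻¹ = (w * y * w⁻¹)⁻¹ by group, hw]
  have hcy' : c * y⁻¹ * c = (y⁻¹)⁻¹ := by
    have := hyi c (by rw [hci]; exact hcy)
    rwa [hci] at this
  have hcx' : c * x⁻¹ * c = (x⁻¹)⁻¹ := by
    rw [show c * x⁻¹ * c = (c * x * c)⁻¹ by simp [mul_inv_rev, hci, mul_assoc], hcx]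
  have hax' : a * x⁻¹ * a⁻¹ = (x⁻¹)⁻¹ := by
    rw [show a * x⁻¹ * a⁻¹ = (a * x * a⁻¹)⁻¹ by group, hax]
  have k1 := key x y hx hy hxo hyo hcx hax hbx hcy hay hby
  have k2 := key x y⁻¹ hx (inv_ne_one.mpr hy) hxo (by rwa [orderOf_inv]) hcx hax hbx hcy'
    hay.inv_right (hyi b hby)
  have k3 := key x⁻¹ y (inv_ne_one.mpr hx) hy (by rwa [orderOf_inv]) hyo hcx' hax' hbx.inv_right hcy hay hby
  set v := y ^ 2 with hvdef
  rw [inv_pow, ← hvdef, inv_inv] at k2
  rw [inv_inv] at k3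
  have h1 : x⁻¹ * x⁻¹ * v = v * (x⁻¹ * x⁻¹)⁻¹ := by
    calc x⁻¹ * x⁻¹ * v = x⁻¹ * (x⁻¹ * v) := by group
      _ = x⁻¹ * (v⁻¹ * x) := by rw [k1]
      _ = (x⁻¹ * v⁻¹) * x := by group
      _ = v * x * x := by rw [k2]
      _ = v * (x⁻¹ * x⁻¹)⁻¹ := by simp [mul_inv_rev, mul_assoc]
  have h2 : Commute (v ^ 2) (x⁻¹ * x⁻¹) := by
    set w := x⁻¹ * x⁻¹ with hw
    have h1' : w⁻¹ * v = v * w := by
      calc w⁻¹ * v = w⁻¹ * (v * w⁻¹) * w := by group
        _ = w⁻¹ * (w * v) * w := by rw [← h1]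
        _ = v * w := by group
    show v ^ 2 * w = w * v ^ 2
    calc v ^ 2 * w = v * (v * w) := by rw [sq, mul_assoc]
      _ = v * w⁻¹ * v := by rw [← h1', mul_assoc]
      _ = w * v ^ 2 := by rw [← h1, sq, mul_assoc]
  have hvo : Odd (orderOf v) := by
    rw [hvdef, orderOf_pow, Nat.Coprime.gcd_eq_one hyo.coprime_two_right, Nat.div_one]
    exact hyo
  have h3 := commute_of_sq v _ hvo h2
  rw [← h3.eq] at h1
  have h4 := mul_left_cancel h1
  have hxi : Odd (orderOf x⁻¹) := by rwa [orderOf_inv]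
  have h5 : x⁻¹ * x⁻¹ = 1 := by
    refine eq_one_of_sq _ ?_ (mul_eq_one_iff_eq_inv.mpr h4)
    rw [← sq, orderOf_pow, Nat.Coprime.gcd_eq_one hxi.coprime_two_right, Nat.div_one]
    exact hxi
  exact hx (inv_eq_one.mp (eq_one_of_sq _ hxi h5))

/-- Let A be a Klein four-subgroup of a finite group G. If every G-conjugate of every involution of A commutes with some involution of A (its centralizer meets A nontrivially), then A meets the largest normal 2-subgroup O₂(G) nontrivially. -/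
theorem result {G : Type*} [Group G] [Finite G]
    (A : Subgroup G) (hA : IsKleinFour ↥A)
    (h : ∀ a ∈ A, a ≠ 1 → ∀ g : G, A ⊓ Subgroup.centralizer ({g * a * g⁻¹} : Set G) ≠ ⊥) :
    A ⊓ Cfsg.pCore 2 G ≠ ⊥ := by
  by_contra hne
  have hcomm : ∀ u ∈ A, ∀ v ∈ A, Commute u v := by
    intro u hu v hv
    have : IsMulCommutative ↥A := hA.isMulCommutative
    exact congrArg Subtype.val (this.is_comm.comm (⟨u, hu⟩ : ↥A) ⟨v, hv⟩)
  have hsq : ∀ u ∈ A, u * u = 1 := fun u hu => congrArg Subtype.val (IsKleinFour.mul_self (⟨u, hu⟩ : ↥A))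
  have hcov : ∀ g : G, ∀ u ∈ A, u ≠ 1 → ∃ v ∈ A, v ≠ 1 ∧ Commute v (g * u * g⁻¹) := by
    intro g u hu hu1
    obtain ⟨v, hv⟩ := (Subgroup.ne_bot_iff_exists_ne_one).mp (h u hu hu1 g)
    exact ⟨v, v.2.1, fun h => hv (Subtype.ext h), Subgroup.mem_centralizer_singleton_iff.mp v.2.2⟩
  have hnot : ∀ u ∈ A, u ≠ 1 → u ∉ Cfsg.pCore 2 G := fun u hu hu1 hu2 =>
    hu1 (Subgroup.mem_bot.mp (hne ▸ ⟨hu, hu2⟩))
  have hthird : ∀ u ∈ A, ∀ v ∈ A, u ≠ 1 → v ≠ 1 → u ≠ v → ∀ w ∈ A, w ≠ 1 → w = u ∨ w = v ∨ w = u * v := by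
    intro u hu v hv hu1 hv1 huv w hw hw1
    by_cases h1 : w = u; · exact Or.inl h1
    by_cases h2 : w = v; · exact Or.inr (Or.inl h2)
    refine Or.inr (Or.inr ?_)
    have := IsKleinFour.eq_mul_of_ne_all (x := (⟨u, hu⟩ : ↥A)) (y := ⟨v, hv⟩) (z := ⟨w, hw⟩)
      (fun h => hu1 (congrArg Subtype.val h)) (fun h => hv1 (congrArg Subtype.val h))
      (fun h => huv (congrArg Subtype.val h)) (fun h => hw1 (congrArg Subtype.val h))
      (fun h => h1 (congrArg Subtype.val h)) (fun h => h2 (congrArg Subtype.val h))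
    exact congrArg Subtype.val this
  have hstep : ∀ u ∈ A, u ≠ 1 → ∃ v ∈ A, ∃ x : G, v ≠ 1 ∧ v ≠ u ∧ x ≠ 1 ∧ Odd (orderOf x) ∧
      u * x * u = x⁻¹ ∧ Commute v x := by
    intro u hu hu1
    obtain ⟨x, hx1, hxo, hux⟩ := exists_inverted u (hsq u hu) (hnot u hu hu1)
    obtain ⟨k, hk⟩ := hxo
    obtain ⟨v, hv, hv1, hvc⟩ := hcov (x ^ (k + 1))⁻¹ u hu hu1
    have hui : u⁻¹ = u := inv_eq_of_mul_eq_one_right (hsq u hu)
    have hus : u * x ^ (k + 1) * u = (x ^ (k + 1))⁻¹ := by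
      have h2 : (u * x * u⁻¹) ^ (k + 1) = (x ^ (k + 1))⁻¹ := by rw [hui, hux, inv_pow]
      rwa [conj_pow, hui] at h2
    have hconj : (x ^ (k + 1))⁻¹ * u * (x ^ (k + 1))⁻¹⁻¹ = u * x := by
      rw [inv_inv, ← hus, mul_assoc (u * x ^ (k + 1)), hsq u hu, mul_one, mul_assoc, ← pow_add,
        show k + 1 + (k + 1) = (2 * k + 1) + 1 by ring, ← hk, pow_succ, pow_orderOf_eq_one, one_mul]
    rw [hconj] at hvc
    have hvx : Commute v x := by simpa using (hcomm v hv u hu).inv_right.mul_right hvc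
    refine ⟨v, hv, x, hv1, ?_, hx1, ⟨k, hk⟩, hux, hvx⟩
    rintro rfl
    rw [hvx.eq, mul_assoc, hsq v hv, mul_one] at hux
    exact hx1 (eq_one_of_sq x ⟨k, hk⟩ (by nth_rw 2 [hux]; exact mul_inv_cancel x))
  obtain ⟨a, ha⟩ : ∃ a, a ∈ A ∧ a ≠ 1 := by
    have : Nontrivial ↥A := by
      rw [← Finite.one_lt_card_iff_nontrivial, hA.card_four]; norm_num
    obtain ⟨a, ha⟩ := exists_ne (1 : ↥A)
    exact ⟨a, a.2, fun h => ha (Subtype.ext h)⟩
  obtain ⟨b, hb, x, hb1, hba, hx, hxo, hax, hbx⟩ := hstep a ha.1 ha.2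
  obtain ⟨v, hv, y, hv1, hvb, hy, hyo, hby, hvy⟩ := hstep b hb hb1
  set c := a * b with hc'
  have hc : c ∈ A := mul_mem ha.1 hb
  have hai : a⁻¹ = a := inv_eq_of_mul_eq_one_right (hsq a ha.1)
  have hbi : b⁻¹ = b := inv_eq_of_mul_eq_one_right (hsq b hb)
  have hci : c⁻¹ = c := inv_eq_of_mul_eq_one_right (hsq c hc)
  have hc1 : c ≠ 1 := fun h => hba (by rw [← hai]; exact (inv_eq_of_mul_eq_one_right h).symm)
  have hcx : c * x * c = x⁻¹ := by
    rw [hc']; nth_rw 2 [(hcomm a ha.1 b hb).eq]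
    calc a * b * x * (b * a) = a * ((b * x) * b) * a := by group
      _ = x⁻¹ := by rw [hbx.eq, mul_assoc x, hsq b hb, mul_one, hax]
  have hax' : a * x * a⁻¹ = x⁻¹ := by rw [hai]; exact hax
  have hby' : b * y * b⁻¹ = y⁻¹ := by rw [hbi]; exact hby
  rcases hthird a ha.1 b hb ha.2 hb1 (Ne.symm hba) v hv hv1 with rfl | rfl | rfl
  · have hcy : c * y * c = y⁻¹ := by
      rw [hc']; nth_rw 1 [(hcomm v ha.1 b hb).eq]
      calc b * v * y * (v * b) = b * ((v * y) * v) * b := by group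
        _ = y⁻¹ := by rw [hvy.eq, mul_assoc y, hsq v ha.1, mul_one, hby]
    exact no_two_types A hcov v b c hc (hthird v ha.1 b hb ha.2 hb1 (Ne.symm hba))
      (hcomm b hb c hc) hc1 (hsq c hc) (hcomm v ha.1 c hc) x y hx hxo hy hyo hax' hcx hbx hvy hcy hby'
  · exact hvb rfl
  · have hay : a * y * a = y⁻¹ := by
      have ha' : a = c * b := by rw [hc', mul_assoc, hsq b hb, mul_one]
      calc a * y * a = (c * b) * y * (b * c) := by
            conv_lhs => rw [ha']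
            nth_rw 2 [(hcomm c hc b hb).eq]
        _ = c * (b * y * b) * c := by group
        _ = y⁻¹ := by
          rw [hby, hvy.inv_right.eq, mul_assoc, hsq c hc, mul_one]
    exact no_two_types A hcov c b a ha.1 (fun w hw hw1 => by
        rcases hthird a ha.1 b hb ha.2 hb1 (Ne.symm hba) w hw hw1 with h | h | h
        exacts [Or.inr (Or.inr h), Or.inr (Or.inl h), Or.inl h])
      (hcomm b hb a ha.1) ha.2 (hsq a ha.1) (hcomm c hc a ha.1) x y hx hxo hy hyo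
      (by rw [hci]; exact hcx) hax hbx hvy hay hby'

end Cfsg.Agent.S3195
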