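import Cfsg.Statements.S3864
import Cfsg.Agent.H49.DihCases

set_option autoImplicit false
open Cfsg

namespace Cfsg.Agent.S3864

open Cfsg.Agent.H49 Cfsg.Agent.H49.ZTwo DihedralGroup

variable {G : Type*} [Group G] [Finite G]

theorem class_card_eq (S : Set (ConjClasses G))
    (h : ∀ C : ConjClasses G, (∃ g : G, ConjClasses.mk g = C ∧ orderOf g = 2) ↔ C ∈ S) :
    Nat.card {C : ConjClasses G // ∃ g : G, ConjClasses.mk g = C ∧ orderOf g = 2} = S.ncard := by
  rw [← Nat.card_coe_set_eq]
  exact Nat.card_congr (Equiv.subtypeEquivRight h)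

theorem trichotomy {N : ℕ} (hN : 1 ≤ N) {f : Dih N →* G} (hf : Function.Injective f)
    (hS : IsSylTwo f.range) (P : Sylow 2 G) :
    (Nat.card {C : ConjClasses G // ∃ g : G, ConjClasses.mk g = C ∧ orderOf g = 2} = 1 ∧ ∀ N : Subgroup G, N.Normal → N.index ≠ 2) ∨ (Nat.card {C : ConjClasses G // ∃ g : G, ConjClasses.mk g = C ∧ orderOf g = 2} = 2 ∧ (∃ N : Subgroup G, N.Normal ∧ N.index = 2) ∧ ∀ N : Subgroup G, N.Normal → N.index ≠ 4) ∨ (Nat.card {C : ConjClasses G // ∃ g : G, ConjClasses.mk g = C ∧ orderOf g = 2} = 3 ∧ Cfsg.HasNormalPComplement 2 G) := by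
  have hz2 : orderOf (f (Dih.dz N)) = 2 := by rw [orderOf_injective f hf, Dih.orderOf_dz]
  have hs2 : ∀ a, orderOf (f (sr a)) = 2 := fun a => by
    rw [orderOf_injective f hf, DihedralGroup.orderOf_sr]
  have hcov : ∀ s : G, orderOf s = 2 → IsConj (f (Dih.dz N)) s ∨ ∃ j, IsConj (f (sr j)) s := by
    intro s hs
    obtain ⟨w, hw⟩ := exists_isConj_model hS (k := 1) hs
    have hw2 : orderOf w = 2 := by rw [← orderOf_injective f hf, orderOf_eq_of_isConj hw, hs]
    rcases Dih.eq_of_orderOf_two hw2 with rfl | ⟨j, rfl⟩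
    · exact Or.inl hw
    · exact Or.inr ⟨j, hw⟩
  by_cases hall : ∀ a, IsConj (f (Dih.dz N)) (f (sr a))
  · refine Or.inl ⟨?_, fun H _ => Dih.no_index_two hS hall H⟩
    rw [class_card_eq {ConjClasses.mk (f (Dih.dz N))}, Set.ncard_singleton]
    intro C
    refine ⟨?_, fun hC => ⟨_, (Set.mem_singleton_iff.1 hC).symm, hz2⟩⟩
    rintro ⟨g, rfl, hg⟩
    exact ConjClasses.mk_eq_mk_iff_isConj.2 (Dih.one_class hf hS hall hg).symm
  obtain ⟨b, hb⟩ := not_forall.1 hall
  by_cases hnone : ∀ a, ¬ IsConj (f (Dih.dz N)) (f (sr a))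
  · refine Or.inr (Or.inr ⟨?_, Dih.nilpotent_case P hf hS hnone⟩)
    have hne : ¬ IsConj (f (sr 0)) (f (sr 1)) := fun h => by
      have := Dih.par_of_fused hf hS (hnone 0) h
      rw [map_zero, map_one] at this
      exact zero_ne_one this
    rw [class_card_eq {ConjClasses.mk (f (Dih.dz N)), ConjClasses.mk (f (sr 0)),
      ConjClasses.mk (f (sr 1))}]
    · rw [Set.ncard_insert_of_notMem, Set.ncard_pair]
      · exact fun h => hne (ConjClasses.mk_eq_mk_iff_isConj.1 h)
      · rintro (h | h)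
        · exact hnone 0 (ConjClasses.mk_eq_mk_iff_isConj.1 h)
        · exact hnone 1 (ConjClasses.mk_eq_mk_iff_isConj.1 h)
    intro C
    constructor
    · rintro ⟨g, rfl, hg⟩
      rcases hcov g hg with h | ⟨j, h⟩
      · exact Or.inl (ConjClasses.mk_eq_mk_iff_isConj.2 h.symm)
      · rcases par_zero_or_one j with hj | hj
        · exact Or.inr (Or.inl (ConjClasses.mk_eq_mk_iff_isConj.2
            (h.symm.trans (isConj_map f (Dih.isConj_sr (hj.trans (map_zero _).symm))))))
        · exact Or.inr (Or.inr (ConjClasses.mk_eq_mk_iff_isConj.2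
            (h.symm.trans (isConj_map f (Dih.isConj_sr (hj.trans (map_one _).symm))))))
    · rintro (rfl | rfl | rfl)
      · exact ⟨_, rfl, hz2⟩
      · exact ⟨_, rfl, hs2 _⟩
      · exact ⟨_, rfl, hs2 _⟩
  obtain ⟨a, ha⟩ := not_forall_not.1 hnone
  have hab : par N a ≠ par N b := fun h => hb (ha.trans (isConj_map f (Dih.isConj_sr h)))
  refine Or.inr (Or.inl ⟨?_, Dih.exists_index_two hf hS hb, ?_⟩)
  · rw [class_card_eq {ConjClasses.mk (f (Dih.dz N)), ConjClasses.mk (f (sr b))}, Set.ncard_pair]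
    · exact fun h => hb (ConjClasses.mk_eq_mk_iff_isConj.1 h)
    intro C
    constructor
    · rintro ⟨g, rfl, hg⟩
      rcases hcov g hg with h | ⟨j, h⟩
      · exact Or.inl (ConjClasses.mk_eq_mk_iff_isConj.2 h.symm)
      · by_cases hj : par N j = par N a
        · exact Or.inl (ConjClasses.mk_eq_mk_iff_isConj.2
            ((ha.trans (isConj_map f (Dih.isConj_sr hj.symm))).trans h).symm)
        · have hjb : par N j = par N b := by
            revert hj hab
            generalize par N j = p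
            generalize par N a = q
            generalize par N b = r
            revert p q r
            decide
          exact Or.inr (ConjClasses.mk_eq_mk_iff_isConj.2
            (h.symm.trans (isConj_map f (Dih.isConj_sr hjb))))
    · rintro (rfl | rfl)
      · exact ⟨_, rfl, hz2⟩
      · exact ⟨_, rfl, hs2 _⟩
  intro K hK hK4
  haveI := hK
  haveI : Fact (Nat.Prime 2) := ⟨Nat.prime_two⟩
  have hcard : Nat.card (G ⧸ K) = 4 := hK4
  have hcomm : ∀ x y : G ⧸ K, x * y = y * x :=
    IsPGroup.commutative_of_card_eq_prime_sq (p := 2) (by rw [hcard]; norm_num)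
  let q : Dih N →* G ⧸ K := (QuotientGroup.mk' K).comp f
  have hq : Function.Surjective q := by
    have h1 : q.range = f.range.map (QuotientGroup.mk' K) := MonoidHom.range_comp _ _
    rw [← MonoidHom.range_eq_top, h1, ← Subgroup.index_eq_one]
    have h2 := f.range.index_map_dvd (QuotientGroup.mk'_surjective K)
    have h3 : (f.range.map (QuotientGroup.mk' K)).index ∣ 2 ^ 2 := by
      simpa [hcard] using Subgroup.index_dvd_card (f.range.map (QuotientGroup.mk' K))
    obtain ⟨i, -, hi⟩ := (Nat.dvd_prime_pow Nat.prime_two).1 h3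
    rw [hi] at h2 ⊢
    cases i with
    | zero => rfl
    | succ i => exact absurd (dvd_trans (dvd_pow_self 2 (Nat.succ_ne_zero i)) h2) hS.2
  have hrr : ∀ c, q (r c) * q (r c) = 1 := fun c => by
    have e1 : q (r c) = q (r (-c)) := by
      have e : (sr 0 : Dih N) * r c * sr 0 = r (-c) := by
        rw [sr_mul_r, sr_mul_sr]; simp
      have e2 : q (sr 0) * q (sr 0) = 1 := by rw [← map_mul, sr_mul_self, map_one]
      rw [← e, map_mul, map_mul, hcomm (q (sr 0)), mul_assoc, e2, mul_one]
    nth_rewrite 2 [e1]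
    rw [← map_mul, r_mul_r, add_neg_cancel, ← one_def, map_one]
  have hdz : q (Dih.dz N) = 1 := by
    obtain ⟨M, rfl⟩ : ∃ M, N = M + 1 := ⟨N - 1, by omega⟩
    have e : (Dih.dz (M + 1)) = r ((2 ^ M : ℕ) : ZMod (2 ^ (M + 1 + 1))) * r ((2 ^ M : ℕ) : ZMod _) := by
      rw [r_mul_r]
      show r (half (M + 1)) = _
      rw [half, ← Nat.cast_add, ← two_mul, ← pow_succ']
    rw [e, map_mul, hrr]
  have hsa : q (sr a) = 1 := by
    obtain ⟨g, hg⟩ := isConj_iff.1 ha
    show (QuotientGroup.mk' K) (f (sr a)) = 1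
    rw [← hg, map_mul, map_mul, show (QuotientGroup.mk' K) (f (Dih.dz N)) = 1 from hdz, mul_one,
      map_inv, mul_inv_cancel]
  have hle : ∀ x : G ⧸ K, x = 1 ∨ x = q (r 1) := by
    have hr : ∀ c, q (r c) = 1 ∨ q (r c) = q (r 1) := fun c => by
      have e : (r c : Dih N) = r 1 ^ c.val := by rw [r_one_pow, ZMod.natCast_zmod_val]
      rw [e, map_pow]
      rcases Nat.even_or_odd' c.val with ⟨i, hi | hi⟩
      · left; rw [hi, pow_mul, sq, hrr, one_pow]
      · right; rw [hi, pow_succ, pow_mul, sq, hrr, one_pow, one_mul]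
    intro x
    obtain ⟨w, rfl⟩ := hq x
    rcases w with c | c
    · exact hr c
    · rw [show (sr c : Dih N) = sr a * r (c - a) by rw [sr_mul_r, add_sub_cancel], map_mul, hsa,
        one_mul]
      exact hr _
  have : Nat.card (G ⧸ K) ≤ 2 := by
    rw [← Set.ncard_univ]
    refine le_trans (Set.ncard_le_ncard (t := {1, q (r 1)}) (fun x _ => hle x) (Set.toFinite _)) ?_
    exact (Set.ncard_insert_le _ _).trans (by rw [Set.ncard_singleton])
  omega

/-- Let G be a finite group whose Sylow 2-subgroups are dihedral of order 2 ^ n with n ≥ 3, and count the conjugacy classes of involutions of G. Then exactly one of the following holds: there is one class of involutions and no normal subgroup of index 2; there are two classes of involutions, a normal subgroup of index 2 and none of index 4; there are three classes of involutions and G has a normal 2-complement. -/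
theorem result {G : Type*} [Group G] [Finite G] (P : Sylow 2 G) (n : ℕ) (hn : 3 ≤ n) (hdih : Nonempty (↥(P : Subgroup G) ≃* DihedralGroup (2 ^ (n - 1)))) : (Nat.card {C : ConjClasses G // ∃ g : G, ConjClasses.mk g = C ∧ orderOf g = 2} = 1 ∧ ∀ N : Subgroup G, N.Normal → N.index ≠ 2) ∨ (Nat.card {C : ConjClasses G // ∃ g : G, ConjClasses.mk g = C ∧ orderOf g = 2} = 2 ∧ (∃ N : Subgroup G, N.Normal ∧ N.index = 2) ∧ ∀ N : Subgroup G, N.Normal → N.index ≠ 4) ∨ (Nat.card {C : ConjClasses G // ∃ g : G, ConjClasses.mk g = C ∧ orderOf g = 2} = 3 ∧ Cfsg.HasNormalPComplement 2 G) := by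
  have hm : 2 ≤ 2 ^ (n - 1) := Nat.le_self_pow (by omega) 2
  obtain ⟨e⟩ := hdih
  obtain ⟨N, f, hf, hr⟩ := Agent.H49.Dih.exists_embedding P hm e
  have hS : Agent.H49.IsSylTwo f.range := hr ▸ Agent.H49.isSylTwo_sylow P
  refine trichotomy ?_ hf hS P
  have h1 : Nat.card (DihedralGroup (2 ^ (n - 1))) = Nat.card (Agent.H49.Dih N) := by
    rw [← Nat.card_congr e.toEquiv, Nat.card_congr (MonoidHom.ofInjective hf).toEquiv]
    exact Nat.card_congr (MulEquiv.subgroupCongr hr).symm.toEquiv
  rw [DihedralGroup.nat_card, DihedralGroup.nat_card] at h1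
  have h2 : (2 : ℕ) ^ (n - 1) = 2 ^ (N + 1) := by omega
  have := Nat.pow_right_injective (le_refl 2) h2
  omega

end Cfsg.Agent.S3864
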