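import Cfsg.Statements.S4482
import Cfsg.Agent.H56.DihOrder

set_option autoImplicit false
open Cfsg

namespace Cfsg.Agent.S4482

/-- An order formula for groups with dihedral Sylow 2-subgroups and one class of involutions. Let G be a finite group whose Sylow 2-subgroup P = ⟨σ, τ⟩ is dihedral of order 2^n ≥ 8 (σ of order 2^(n−1), τ an involution inverting σ), let J be the central involution σ^(2^(n−2)), and suppose J, τ and στ are conjugate in G. Fix M over 2 and let χ₁ be an irreducible character in the principal 2-block taking one constant value δ₁ = ±1 at every non-identity power of σ, with χ₁ ≠ 1. Then, with x₁ = χ₁(1) and c(·) denoting orders of centralizers, x₁ ≠ δ₁ and #G · (x₁ − δ₁)² = 2·x₁(x₁ + δ₁)·c(J)³·(1/c(J, τ) + 1/c(J, στ))², where c(J, y) is the order of the joint centralizer of J and y. -/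
theorem result {G : Type*} [Group G] [Finite G] (M : Ideal Cfsg.AlgInt) (hM : Cfsg.IsPModular 2 M) (n : ℕ) (hn : 3 ≤ n) (P : Sylow 2 G) (σ τ : G) (hσ : σ ∈ (P : Subgroup G)) (hτ : τ ∈ (P : Subgroup G)) (hσo : orderOf σ = 2 ^ (n - 1)) (hτo : orderOf τ = 2) (hrel : τ * σ * τ⁻¹ = σ⁻¹) (hgen : Subgroup.closure ({σ, τ} : Set G) = (P : Subgroup G)) (hconj : IsConj (σ ^ (2 ^ (n - 2))) τ ∧ IsConj (σ ^ (2 ^ (n - 2))) (σ * τ)) (χ₁ : Cfsg.IrrCharacter G) (hχ₁ : χ₁ ∈ Cfsg.principalBlock M G) (h1 : (χ₁ : G → ℂ) ≠ (fun _ => 1)) (δ₁ : ℤ) (hδ₁ : δ₁ = 1 ∨ δ₁ = -1) (hval : ∀ l : ℕ, 0 < l → l < 2 ^ (n - 1) → (χ₁ : G → ℂ) (σ ^ l) = δ₁) : (Cfsg.charDegree (χ₁ : G → ℂ) : ℤ) ≠ δ₁ ∧ (Nat.card G : ℚ) * ((Cfsg.charDegree (χ₁ : G → ℂ) : ℚ) - δ₁) ^ 2 = 2 * (Cfsg.charDegree (χ₁ : G → ℂ) : ℚ) * ((Cfsg.charDegree (χ₁ : G → ℂ) : ℚ) + δ₁) * (Nat.card (Subgroup.centralizer ({σ ^ (2 ^ (n - 2))} : Set G)) : ℚ) ^ 3 * (1 / (Nat.card (Subgroup.centralizer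 ({σ ^ (2 ^ (n - 2)), τ} : Set G)) : ℚ) + 1 / (Nat.card (Subgroup.centralizer ({σ ^ (2 ^ (n - 2)), σ * τ} : Set G)) : ℚ)) ^ 2 := by
  classical
  haveI := Fintype.ofFinite G
  have hτσ : τ ∉ Subgroup.zpowers σ := by
    intro h
    obtain ⟨k, rfl⟩ := Subgroup.mem_zpowers_iff.1 h
    rw [show σ ^ k * σ * (σ ^ k)⁻¹ = σ by group, eq_inv_iff_mul_eq_one, ← pow_two,
      ← orderOf_dvd_iff_pow_eq_one, hσo] at hrel
    have h1 := Nat.le_of_dvd two_pos hrel
    have h2 : 2 ^ 2 ≤ 2 ^ (n - 1) := Nat.pow_le_pow_right two_pos (by omega)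
    omega
  have hinvτ : τ⁻¹ = τ := Cfsg.Agent.H28.inv_eq_self_of_orderOf_two hτo
  have hττ : τ * τ = 1 := Cfsg.Agent.H28.mul_self_of_orderOf_two hτo
  have hflip : ∀ i : ℕ, τ * σ ^ i * τ = σ ^ ((2 ^ (n - 1) - 1) * i) := by
    intro i
    have h : σ⁻¹ = σ ^ (2 ^ (n - 1) - 1) := by
      refine inv_eq_of_mul_eq_one_right ?_
      rw [← pow_succ', Nat.sub_add_cancel Nat.one_le_two_pow, ← hσo, pow_orderOf_eq_one]
    have := conj_pow (a := τ) (b := σ) (i := i)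
    rw [hrel, h, ← pow_mul, hinvτ] at this
    exact this.symm
  have D : Cfsg.Agent.H56.DihSylow P σ τ n :=
    { two_le := by omega
      memσ := hσ
      memτ := hτ
      ordσ := hσo
      ordτ := hτo
      inv := hrel
      not_mem := hτσ
      forms := fun p hp => by
        rw [← hgen] at hp
        induction hp using Subgroup.closure_induction_left with
        | one => exact ⟨0, Or.inl (pow_zero σ).symm⟩
        | mul_left x hx y _ ih =>
          obtain ⟨i, hi⟩ := ih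
          rcases hx with rfl | rfl
          · rcases hi with rfl | rfl
            · exact ⟨i + 1, Or.inl (pow_succ' x i).symm⟩
            · exact ⟨i + 1, Or.inr (by rw [pow_succ', mul_assoc])⟩
          · rcases hi with rfl | rfl
            · refine ⟨(2 ^ (n - 1) - 1) * i, Or.inr ?_⟩
              rw [← hflip, mul_assoc, hττ, mul_one]
            · exact ⟨(2 ^ (n - 1) - 1) * i, Or.inl (by rw [← hflip, ← mul_assoc])⟩
        | inv_mul_cancel x hx y _ ih =>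
          obtain ⟨i, hi⟩ := ih
          rcases hx with rfl | rfl
          · have h : x⁻¹ = x ^ (2 ^ (n - 1) - 1) := by
              refine inv_eq_of_mul_eq_one_right ?_
              rw [← pow_succ', Nat.sub_add_cancel Nat.one_le_two_pow, ← hσo, pow_orderOf_eq_one]
            rcases hi with rfl | rfl
            · exact ⟨2 ^ (n - 1) - 1 + i, Or.inl (by rw [pow_add, h])⟩
            · exact ⟨2 ^ (n - 1) - 1 + i, Or.inr (by rw [pow_add, h, mul_assoc])⟩
          · rw [hinvτ]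
            rcases hi with rfl | rfl
            · refine ⟨(2 ^ (n - 1) - 1) * i, Or.inr ?_⟩
              rw [← hflip, mul_assoc, hττ, mul_one]
            · exact ⟨(2 ^ (n - 1) - 1) * i, Or.inl (by rw [← hflip, ← mul_assoc])⟩ }
  have hinv : ∀ i : ℕ, IsConj (Cfsg.Agent.H56.centInv σ n) (σ ^ i * τ) := by
    intro i
    induction i using Nat.twoStepInduction with
    | zero => rw [pow_zero, one_mul]; exact hconj.1
    | one => rw [pow_one]; exact hconj.2
    | more i ih _ =>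
      refine ih.trans (isConj_iff.2 ⟨σ, ?_⟩)
      have h : τ * σ⁻¹ = σ * τ := by rw [← hrel]; simp [mul_assoc, hinvτ, hττ]; rw [← mul_assoc τ τ, hττ, one_mul]
      rw [mul_assoc, mul_assoc, h, ← mul_assoc, ← mul_assoc, ← pow_succ', ← pow_succ]
  obtain ⟨R⟩ := D.exists_retr
  have c0 : Cfsg.classInner (Cfsg.Agent.H56.dihTheta R) (Cfsg.Agent.H26.oneIrr G).1 = (1 : ℤ) :=
    D.coeff_of_const R _ 1 fun i _ _ k _ => by simp [Cfsg.Agent.H26.oneIrr_val]
  have c1 : Cfsg.classInner (Cfsg.Agent.H56.dihTheta R) χ₁.1 = (δ₁ : ℤ) :=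
    D.coeff_of_const R _ δ₁ fun i hi0 hi k hk => by
      rw [D.principal_const R M hM hχ₁ hi0 hi hk, hval i hi0 hi]
  choose c hc using D.exists_int_coeff R
  have hne : Cfsg.Agent.H26.oneIrr G ≠ χ₁ := fun e => h1 (congrArg Subtype.val e).symm
  have hsq : δ₁ ^ 2 = 1 := by rcases hδ₁ with rfl | rfl <;> norm_num
  have e0 : c (Cfsg.Agent.H26.oneIrr G) = 1 := by exact_mod_cast (hc _).symm.trans c0
  have e1 : c χ₁ = δ₁ := by exact_mod_cast (hc χ₁).symm.trans c1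
  set s : Finset (Cfsg.IrrCharacter G) := (Finset.univ.erase (Cfsg.Agent.H26.oneIrr G)).erase χ₁
    with hs
  have hm1 : χ₁ ∈ Finset.univ.erase (Cfsg.Agent.H26.oneIrr G) :=
    Finset.mem_erase.2 ⟨hne.symm, Finset.mem_univ _⟩
  have hrest : ∑ χ ∈ s, c χ ^ 2 = 1 := by
    have h := D.norm_dihTheta R
    rw [if_neg (by omega), Cfsg.Agent.H26.classInner_eq_sum _ _
      (Cfsg.Agent.H56.dihTheta_isClassFunction R)] at h
    simp only [hc, map_intCast, ← pow_two] at h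
    have h3 : ∑ χ, c χ ^ 2 = 3 := by exact_mod_cast h
    rw [← Finset.add_sum_erase _ _ (Finset.mem_univ (Cfsg.Agent.H26.oneIrr G)),
      ← Finset.add_sum_erase _ _ hm1, e0, e1, hsq] at h3
    rw [hs]
    linarith
  obtain ⟨χ₂, hχ₂, hc2⟩ := Finset.exists_ne_zero_of_sum_ne_zero (by rw [hrest]; norm_num)
  have hc2' : 1 ≤ c χ₂ ^ 2 := by
    have : 0 < c χ₂ ^ 2 := lt_of_le_of_ne (sq_nonneg _) (Ne.symm hc2)
    omega
  have hz : ∀ χ ∈ s, χ ≠ χ₂ → c χ = 0 := by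
    intro χ hχ hne'
    have h := Finset.sum_le_sum_of_subset_of_nonneg (f := fun χ => c χ ^ 2)
      (s := {χ, χ₂}) (t := s) (by
        intro z hz
        rcases Finset.mem_insert.1 hz with rfl | hz
        · exact hχ
        · rw [Finset.mem_singleton.1 hz]; exact hχ₂) (fun i _ _ => sq_nonneg _)
    rw [Finset.sum_pair hne', hrest] at h
    nlinarith [sq_nonneg (c χ)]
  have he : c χ₂ ^ 2 = 1 := by
    have h := Finset.single_le_sum (f := fun χ => c χ ^ 2) (fun i _ => sq_nonneg _) hχ₂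
    simp only [hrest] at h
    omega
  have hsum : ∀ F : Cfsg.IrrCharacter G → ℂ,
      ∑ χ, Cfsg.classInner (Cfsg.Agent.H56.dihTheta R) χ.1 * F χ =
        F (Cfsg.Agent.H26.oneIrr G) + δ₁ * F χ₁ + c χ₂ * F χ₂ := by
    intro F
    rw [← Finset.add_sum_erase _ _ (Finset.mem_univ (Cfsg.Agent.H26.oneIrr G)),
      ← Finset.add_sum_erase _ _ hm1, ← hs, Finset.sum_eq_single χ₂
        (fun χ hχ hne' => by rw [hc, hz χ hχ hne', Int.cast_zero, zero_mul])
        (fun h => absurd hχ₂ h), c0, c1, hc, Int.cast_one, one_mul, add_assoc]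
  have hJ : χ₁.1 (Cfsg.Agent.H56.centInv σ n) = δ₁ :=
    hval _ (Nat.two_pow_pos _) (Nat.pow_lt_pow_right one_lt_two (by omega))
  have hexp : ∀ g, Cfsg.Agent.H56.dihTheta R g = 1 + δ₁ * χ₁.1 g + c χ₂ * χ₂.1 g := by
    intro g
    conv_lhs => rw [Cfsg.Agent.H26.class_function_expansion _
      (Cfsg.Agent.H56.dihTheta_isClassFunction R)]
    simp only [Finset.sum_apply, Pi.smul_apply, smul_eq_mul]
    rw [hsum fun χ => χ.1 g, Cfsg.Agent.H26.oneIrr_val]
  have hA := (hexp 1).symm.trans (D.dihTheta_one R)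
  have hB' := (hexp (Cfsg.Agent.H56.centInv σ n)).symm.trans (D.dihTheta_centInv R)
  have hO := D.order_eq R hinv
  rw [hsum fun χ => χ.1 (Cfsg.Agent.H56.centInv σ n) ^ 2 / χ.1 1, Cfsg.Agent.H26.oneIrr_val,
    Cfsg.Agent.H26.oneIrr_val, hJ] at hO
  rw [hJ] at hB'
  rw [Cfsg.Agent.H43.irr_charDegree_spec χ₁] at hA hO
  have hx0 := Cfsg.Agent.H26.irr_one_ne_zero χ₁
  rw [Cfsg.Agent.H43.irr_charDegree_spec χ₁] at hx0
  have hy0 := Cfsg.Agent.H26.irr_one_ne_zero χ₂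
  have hd : (δ₁ : ℂ) ^ 2 = 1 := by exact_mod_cast hsq
  have hf : (c χ₂ : ℂ) ^ 2 = 1 := by exact_mod_cast he
  generalize (c χ₂ : ℂ) = e at hA hB' hO hf
  generalize (χ₂.1 1 : ℂ) = y at hA hO hy0
  generalize χ₂.1 (Cfsg.Agent.H56.centInv σ n) = v at hB' hO
  have hv : v ^ 2 = 4 := by
    have : e * v = 2 := by linear_combination hB' - hd
    linear_combination (e * v + 2) * this - v ^ 2 * hf
  have key : (Nat.card G : ℂ) * ((Cfsg.charDegree χ₁.1 : ℂ) - δ₁) ^ 2 =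
      2 * (Cfsg.charDegree χ₁.1 : ℂ) * ((Cfsg.charDegree χ₁.1 : ℂ) + δ₁) *
      (Nat.card (Subgroup.centralizer ({σ ^ (2 ^ (n - 2))} : Set G)) : ℂ) ^ 3 *
      (1 / (Nat.card (Subgroup.centralizer ({σ ^ (2 ^ (n - 2)), τ} : Set G)) : ℂ) +
        1 / (Nat.card (Subgroup.centralizer ({σ ^ (2 ^ (n - 2)), σ * τ} : Set G)) : ℂ)) ^ 2 := by
    show _ = _ * _ * _ * (Nat.card (Subgroup.centralizer ({Cfsg.Agent.H56.centInv σ n} : Set G)) :
      ℂ) ^ 3 * (1 / (Nat.card (Subgroup.centralizer ({Cfsg.Agent.H56.centInv σ n, τ} : Set G)) :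
        ℂ) + 1 / (Nat.card (Subgroup.centralizer ({Cfsg.Agent.H56.centInv σ n, σ * τ} : Set G)) :
          ℂ)) ^ 2
    generalize (Cfsg.charDegree χ₁.1 : ℂ) = x at hA hO hx0 ⊢
    generalize (1 / (Nat.card (Subgroup.centralizer ({Cfsg.Agent.H56.centInv σ n, τ} : Set G)) :
      ℂ) + 1 / (Nat.card (Subgroup.centralizer ({Cfsg.Agent.H56.centInv σ n, σ * τ} : Set G)) :
        ℂ)) = w at hO ⊢
    have hS : (1 + (δ₁ : ℂ) / x + e * (4 / y)) * (x * (x + δ₁)) = (x - δ₁) ^ 2 := by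
      field_simp
      linear_combination (4 * (e * δ₁) * x) * hA + (-4 * x ^ 2 * e) * hd - (4 * y * δ₁ * x) * hf
    simp only [one_pow, div_one, mul_one, hd, hv, mul_one_div] at hO
    linear_combination (x * (x + δ₁)) * hO - (Nat.card G : ℂ) * hS
  have hkey : (Nat.card G : ℚ) * ((Cfsg.charDegree (χ₁ : G → ℂ) : ℚ) - δ₁) ^ 2 =
      2 * (Cfsg.charDegree (χ₁ : G → ℂ) : ℚ) * ((Cfsg.charDegree (χ₁ : G → ℂ) : ℚ) + δ₁) *
      (Nat.card (Subgroup.centralizer ({σ ^ (2 ^ (n - 2))} : Set G)) : ℚ) ^ 3 *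
      (1 / (Nat.card (Subgroup.centralizer ({σ ^ (2 ^ (n - 2)), τ} : Set G)) : ℚ) +
        1 / (Nat.card (Subgroup.centralizer ({σ ^ (2 ^ (n - 2)), σ * τ} : Set G)) : ℚ)) ^ 2 := by
    apply Rat.cast_injective (α := ℂ)
    push_cast
    exact key
  refine ⟨fun hxd => ?_, hkey⟩
  have hd0 := Cfsg.Agent.H43.irr_charDegree_pos χ₁
  have hδ : δ₁ = 1 := by
    rcases hδ₁ with rfl | rfl
    · rfl
    · omega
  subst hδ
  have hone : Cfsg.charDegree (χ₁ : G → ℂ) = 1 := by exact_mod_cast hxd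
  rw [hone] at hkey
  push_cast at hkey
  have hpos : (0 : ℚ) < 2 * 1 * (1 + 1) *
      (Nat.card (Subgroup.centralizer ({σ ^ (2 ^ (n - 2))} : Set G)) : ℚ) ^ 3 *
      (1 / (Nat.card (Subgroup.centralizer ({σ ^ (2 ^ (n - 2)), τ} : Set G)) : ℚ) +
        1 / (Nat.card (Subgroup.centralizer ({σ ^ (2 ^ (n - 2)), σ * τ} : Set G)) : ℚ)) ^ 2 := by
    have := Nat.card_pos (α := Subgroup.centralizer ({σ ^ (2 ^ (n - 2))} : Set G))
    have := Nat.card_pos (α := Subgroup.centralizer ({σ ^ (2 ^ (n - 2)), τ} : Set G))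
    have := Nat.card_pos (α := Subgroup.centralizer ({σ ^ (2 ^ (n - 2)), σ * τ} : Set G))
    positivity
  rw [← hkey] at hpos
  norm_num at hpos

end Cfsg.Agent.S4482
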