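import Cfsg.Statements.S3035
import Cfsg.Agent.H28.ZStar
import Cfsg.Agent.H76.PGroupFixed
import Cfsg.Agent.S0111
import Cfsg.Agent.S0948
import Cfsg.Agent.S4479
import Cfsg.Agent.H42.MaxIdeal
import Cfsg.Agent.H6.GroupLemmas
import Cfsg.Agent.S0848
import Cfsg.Agent.S0495
import Cfsg.Agent.S0497
import Cfsg.Agent.S0255

set_option autoImplicit false
open Cfsg

namespace Cfsg.Agent.S3035

universe v

theorem oconj {G : Type v} [Group G] (x g : G) : orderOf (g * x * g⁻¹) = orderOf x := by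
  simpa using MulEquiv.orderOf_eq (MulAut.conj g) x

theorem sq_one_of_two {G : Type v} [Group G] {u : G} (h : orderOf u = 2) : u * u = 1 := by
  have := pow_orderOf_eq_one u
  rwa [h, pow_two] at this

/-- An element of odd order in a 2-group is trivial. -/
theorem eq_one_of_odd {G : Type v} [Group G] [Finite G] {C : Subgroup G} (hC : IsPGroup 2 C)
    {o : G} (ho : o ∈ C) (hodd : Odd (orderOf o)) : o = 1 := by
  obtain ⟨k, hk⟩ := hC ⟨o, ho⟩
  have h1 : o ^ 2 ^ k = 1 := by simpa using congrArg Subtype.val hk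
  have hco : Nat.Coprime (orderOf o) (2 ^ k) := (Nat.coprime_two_right.mpr hodd).pow_right k
  exact orderOf_eq_one_iff.mp (hco.eq_one_of_dvd (orderOf_dvd_of_pow_eq_one h1))

/-- The data of an involution centraliser dihedral of order eight. -/
structure D8 (G : Type v) [Group G] (z a b : G) : Prop where
  two : orderOf z = 2
  ca : Commute a z
  cb : Commute b z
  oa : orderOf a = 2
  ob : orderOf b = 2
  aza : a ≠ z
  bab : b * a * b⁻¹ = z * a
  bn : b ≠ 1 ∧ b ≠ z ∧ b ≠ a ∧ b ≠ z * a
  list : ∀ g : G, Commute g z → (g = 1 ∨ g = z ∨ g = a ∨ g = z * a) ∨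
    (g * b = 1 ∨ g * b = z ∨ g * b = a ∨ g * b = z * a)
  card : Nat.card ↥(Subgroup.centralizer ({z} : Set G)) = 8

variable {G : Type v} [Group G] [Finite G] {z a b : G}

theorem D8.aba (h : D8 G z a b) : a * b * a⁻¹ = z * b := by
  have hz := sq_one_of_two h.two
  have h1 : b * a = z * a * b := mul_inv_eq_iff_eq_mul.mp h.bab
  refine mul_inv_eq_iff_eq_mul.mpr ?_
  calc a * b = z * z * (a * b) := by rw [hz, one_mul]
    _ = z * (z * a * b) := by group
    _ = z * b * a := by rw [← h1, mul_assoc]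

theorem D8.swap (h : D8 G z a b) : D8 G z b a where
  two := h.two
  ca := h.cb
  cb := h.ca
  oa := h.ob
  ob := h.oa
  aza := h.bn.2.1
  bab := h.aba
  bn := by
    refine ⟨fun e => ?_, h.aza, h.bn.2.2.1.symm, fun e => h.bn.2.2.2 ?_⟩
    · have := h.oa; rw [e, orderOf_one] at this; omega
    · rw [e, ← mul_assoc, sq_one_of_two h.two, one_mul]
  list := by
    have hb := sq_one_of_two h.ob
    have ha := sq_one_of_two h.oa
    have hz := sq_one_of_two h.two
    have hbi : ∀ g t : G, g * b = t → g = t * b := fun g t e => by rw [← e, mul_assoc, hb, mul_one]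
    have h1 : b * a = z * a * b := mul_inv_eq_iff_eq_mul.mp h.bab
    intro g hg
    rcases h.list g hg with (e | e | e | e) | (e | e | e | e)
    · exact Or.inl (Or.inl e)
    · exact Or.inl (Or.inr (Or.inl e))
    · exact Or.inr (Or.inl (by rw [e, ha]))
    · exact Or.inr (Or.inr (Or.inl (by rw [e, mul_assoc, ha, mul_one])))
    · exact Or.inl (Or.inr (Or.inr (Or.inl (by rw [hbi g _ e, one_mul]))))
    · exact Or.inl (Or.inr (Or.inr (Or.inr (hbi g _ e))))
    · refine Or.inr (Or.inr (Or.inr (Or.inr ?_)))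
      rw [hbi g _ e, mul_assoc, h1, ← mul_assoc, ← mul_assoc, h.ca.eq, mul_assoc z a a, ha, mul_one]
    · refine Or.inr (Or.inr (Or.inr (Or.inl ?_)))
      rw [hbi g _ e, mul_assoc, h1, ← mul_assoc, ← mul_assoc, mul_assoc z a z, h.ca.eq, ← mul_assoc,
        hz, one_mul, ha, one_mul]
  card := h.card

theorem D8.isPGroup (h : D8 G z a b) : IsPGroup 2 ↥(Subgroup.centralizer ({z} : Set G)) :=
  IsPGroup.of_card (n := 3) (by rw [h.card]; norm_num)

theorem D8.mem (h : D8 G z a b) {g : G} (hg : Commute g z) :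
    g ∈ Subgroup.centralizer ({z} : Set G) :=
  Subgroup.mem_centralizer_singleton_iff.mpr hg.eq

theorem D8.za_ne (h : D8 G z a b) : z * a ≠ 1 ∧ z * a ≠ z ∧ z * a ≠ a := by
  refine ⟨fun e => h.aza ?_, fun e => ?_, fun e => ?_⟩
  · calc a = z * z * a := by rw [sq_one_of_two h.two, one_mul]
      _ = z := by rw [mul_assoc, e, mul_one]
  · have := h.oa; rw [mul_eq_left.mp e, orderOf_one] at this; omega
  · have := h.two; rw [mul_eq_right.mp e, orderOf_one] at this; omega

theorem D8.not_comm (h : D8 G z a b) : ¬ Commute a b := fun e => by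
  have h1 : b * a * b⁻¹ = a := mul_inv_eq_iff_eq_mul.mpr e.eq.symm
  exact h.za_ne.2.2 (h.bab.symm.trans h1)

/-- The centraliser of `a` inside the centraliser of `z`. -/
theorem D8.cent_a (h : D8 G z a b) {g : G} (hz : Commute g z) (ha : Commute g a) :
    g = 1 ∨ g = z ∨ g = a ∨ g = z * a := by
  rcases h.list g hz with e | e
  · exact e
  exfalso
  refine h.not_comm ?_
  have hb : b = g⁻¹ * (g * b) := by group
  have hc : Commute a (g * b) := by
    rcases e with e | e | e | e <;> rw [e] <;>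
      first
      | exact Commute.one_right a | exact h.ca | exact h.ca.mul_right (Commute.refl a)
  rw [hb]
  exact ha.symm.inv_right.mul_right hc

/-- `z` is the only nontrivial central element of its centraliser. -/
theorem D8.center (h : D8 G z a b) {g : G} (hz : Commute g z) (ha : Commute g a)
    (hb : Commute g b) : g = 1 ∨ g = z := by
  rcases h.cent_a hz ha with e | e | e | e
  · exact Or.inl e
  · exact Or.inr e
  · exact absurd (e ▸ hb) h.not_comm
  · exfalso
    refine h.not_comm ?_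
    have : Commute (z * (z * a)) b := h.cb.symm.mul_left (e ▸ hb)
    rwa [← mul_assoc, sq_one_of_two h.two, one_mul] at this

theorem D8.sylow (h : D8 G z a b) :
    ∃ S : Sylow 2 G, (S : Subgroup G) = Subgroup.centralizer ({z} : Set G) := by
  have : Fact (Nat.Prime 2) := ⟨Nat.prime_two⟩
  obtain ⟨S, hS⟩ := h.isPGroup.exists_le_sylow
  refine ⟨S, le_antisymm ?_ hS⟩
  have hzS : z ∈ (S : Subgroup G) := hS (h.mem (Commute.refl z))
  have : Nontrivial ↥(S : Subgroup G) := by
    refine ⟨⟨⟨z, hzS⟩, 1, fun e => ?_⟩⟩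
    have e' : z = 1 := congrArg Subtype.val e
    have := h.two
    rw [e', orderOf_one] at this
    omega
  obtain ⟨y, -, hy1, hy⟩ := Cfsg.Agent.H76.exists_central_mem S.2
    (⊤ : Subgroup ↥(S : Subgroup G)) (by simp)
  have hc : ∀ s ∈ (S : Subgroup G), Commute s (y : G) := fun s hs =>
    congrArg Subtype.val (Subgroup.mem_center_iff.mp hy ⟨s, hs⟩)
  rcases h.center (hc z hzS).symm (hc a (hS (h.mem h.ca))).symm (hc b (hS (h.mem h.cb))).symm with e | e
  · exact absurd (Subtype.ext e) hy1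
  · exact fun s hs => h.mem (e ▸ hc s hs)

/-- If `a` is conjugate to `z` there is no nontrivial normal subgroup of odd order. -/
theorem D8.core (h : D8 G z a b) {ga : G} (hga : ga * z * ga⁻¹ = a) {gc : G}
    (hgc : gc * z * gc⁻¹ = z * a) (N : Subgroup G) [N.Normal] (hodd : Odd (Nat.card N)) :
    N = ⊥ := by
  have hoo : ∀ o ∈ N, Odd (orderOf o) := fun o ho => by
    refine hodd.of_dvd_nat ?_
    have := orderOf_dvd_natCard (⟨o, ho⟩ : ↥N)
    rwa [Subgroup.orderOf_mk] at this
  have key : ∀ (v g : G), g * z * g⁻¹ = v → ∀ o ∈ N, Commute o v → o = 1 := by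
    intro v g hv o ho hc
    have h1 : Commute (g⁻¹ * o * g) z := by
      have := hc.map (MulAut.conj g⁻¹).toMonoidHom
      simp only [MulEquiv.coe_toMonoidHom, MulAut.conj_apply, inv_inv] at this
      rwa [show g⁻¹ * v * g = z by rw [← hv]; group] at this
    have h2 := eq_one_of_odd h.isPGroup (h.mem h1)
      (by have := oconj o g⁻¹; rw [inv_inv] at this; rw [this]; exact hoo o ho)
    calc o = g * (g⁻¹ * o * g) * g⁻¹ := by group
      _ = 1 := by rw [h2]; group
  have hinv : ∀ (v g : G), g * z * g⁻¹ = v → ∀ o ∈ N, v * o * v⁻¹ = o⁻¹ := by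
    intro v g hv o ho
    have hv2 : v * v = 1 := by
      rw [← hv, show g * z * g⁻¹ * (g * z * g⁻¹) = g * (z * z) * g⁻¹ by group, sq_one_of_two h.two]
      simp
    have hvi : v⁻¹ = v := inv_eq_of_mul_eq_one_right hv2
    let φ : ↥N →* ↥N :=
      { toFun := fun o => ⟨v * o * v⁻¹, Subgroup.Normal.conj_mem ‹_› _ o.2 v⟩
        map_one' := Subtype.ext (by simp)
        map_mul' := fun s t => Subtype.ext (by simp [mul_assoc]) }
    have hf : MonoidHom.FixedPointFree φ := fun s hs => Subtype.ext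
      (key v g hv s s.2 (mul_inv_eq_iff_eq_mul.mp (congrArg Subtype.val hs)).symm)
    have hi : Function.Involutive φ := fun s => Subtype.ext (by
      show v * (v * (s : G) * v⁻¹) * v⁻¹ = s
      rw [hvi, show v * (v * (s : G) * v) * v = v * v * s * (v * v) by group, hv2]; simp)
    exact congrArg Subtype.val (congrFun (hf.coe_eq_inv_of_involutive hi) ⟨o, ho⟩)
  rw [eq_bot_iff]
  intro o ho
  rw [Subgroup.mem_bot]
  refine key (z * a) gc hgc o ho (mul_inv_eq_iff_eq_mul.mp ?_).symm
  calc z * a * o * (z * a)⁻¹ = z * (a * o * a⁻¹) * z⁻¹ := by group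
    _ = (z * o * z⁻¹)⁻¹ := by rw [hinv a ga hga o ho]; group
    _ = o := by rw [hinv z 1 (by simp) o ho, inv_inv]

/-- The conjugates of `z` in its centraliser when it is not fused at all. -/
theorem D8.isolated (h : D8 G z a b) (hna : ∀ g : G, g * z * g⁻¹ ≠ a)
    (hnb : ∀ g : G, g * z * g⁻¹ ≠ b) : Cfsg.Agent.H28.IsIsolatedInvolution z := by
  refine ⟨h.two, fun g hg => ?_⟩
  have hbi : b⁻¹ = b := inv_eq_of_mul_eq_one_right (sq_one_of_two h.ob)
  have hnza : ∀ k : G, k * z * k⁻¹ ≠ z * a := fun k e => hna (b⁻¹ * k) (by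
    rw [show b⁻¹ * k * z * (b⁻¹ * k)⁻¹ = b⁻¹ * (k * z * k⁻¹) * b by group, e, ← h.bab]; group)
  have hai : a⁻¹ = a := inv_eq_of_mul_eq_one_right (sq_one_of_two h.oa)
  have hnzb : ∀ k : G, k * z * k⁻¹ ≠ z * b := fun k e => hnb (a⁻¹ * k) (by
    rw [show a⁻¹ * k * z * (a⁻¹ * k)⁻¹ = a⁻¹ * (k * z * k⁻¹) * a by group, e, ← h.aba]; group)
  have ho : orderOf (g * z * g⁻¹) = 2 := by rw [oconj, h.two]
  have hbb := sq_one_of_two h.ob
  rcases h.list _ hg.symm with (e | e | e | e) | (e | e | e | e)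
  · rw [e, orderOf_one] at ho; omega
  · exact e
  · exact absurd e (hna g)
  · exact absurd e (hnza g)
  · exact absurd (by rw [mul_eq_one_iff_eq_inv.mp e, hbi]) (hnb g)
  · exact absurd (by rw [eq_mul_inv_of_mul_eq e, hbi]) (hnzb g)
  · exfalso
    have e' : g * z * g⁻¹ = a * b := by rw [eq_mul_inv_of_mul_eq e, hbi]
    have h2 := sq_one_of_two ho
    rw [e', show a * b * (a * b) = a * (b * a) * b by group,
      mul_inv_eq_iff_eq_mul.mp h.bab, show a * (z * a * b) * b = a * z * a * (b * b) by group, hbb,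
      mul_one, h.ca.eq, mul_assoc, sq_one_of_two h.oa, mul_one] at h2
    have := h.two
    rw [h2, orderOf_one] at this
    omega
  · exfalso
    have e' : g * z * g⁻¹ = z * a * b := by rw [eq_mul_inv_of_mul_eq e, hbi]
    have h2 := sq_one_of_two ho
    rw [e', ← mul_inv_eq_iff_eq_mul.mp h.bab,
      show b * a * (b * a) = b * a * b * a by group] at h2
    have h3 : b * a * b⁻¹ * a = 1 := by rw [hbi]; exact h2
    rw [h.bab, mul_assoc, sq_one_of_two h.oa, mul_one] at h3
    have := h.two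
    rw [h3, orderOf_one] at this
    omega

/-- No fusion: the centraliser covers modulo the odd core. -/
theorem D8.caseI (h : D8 G z a b) (hiso : Cfsg.Agent.H28.IsIsolatedInvolution z) :
    Subgroup.centralizer ({z} : Set G) ⊔ Cfsg.oddCore G = ⊤ := by
  have : Fact (Nat.Prime 2) := ⟨Nat.prime_two⟩
  rw [eq_top_iff]
  intro g _
  have h0 := Cfsg.Agent.H28.zStar hiso g
  have hzz := sq_one_of_two h.two
  have hzi : z⁻¹ = z := inv_eq_of_mul_eq_one_right hzz
  obtain ⟨O, hOdef⟩ : ∃ O, O = Cfsg.pPrimeCore 2 G := ⟨_, rfl⟩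
  rw [← hOdef] at h0
  have hOn : O.Normal := hOdef ▸ Cfsg.Agent.H19.pPrimeCore_normal 2 G
  have hO : Odd (Nat.card ↥O) := by
    rw [hOdef]
    exact Nat.coprime_two_right.mp (Cfsg.Agent.H19.pPrimeCore_coprime (G := G) 2)
  have hOle : O ≤ Cfsg.oddCore G := le_sSup ⟨hOn, hOdef ▸ Cfsg.Agent.H19.pPrimeCore_coprime (G := G) 2⟩
  -- `⟨z⟩` is a Sylow subgroup of `O⟨z⟩`
  let K := O ⊔ Subgroup.zpowers z
  have hgzK : g * z * g⁻¹ ∈ K := by
    have h1 : g * z * g⁻¹ = z * (z * g * z⁻¹ * g⁻¹) := by rw [hzi, ← mul_assoc, ← mul_assoc, ← mul_assoc, hzz, one_mul]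
    rw [h1]
    exact mul_mem (Subgroup.mem_sup_right (Subgroup.mem_zpowers z)) (Subgroup.mem_sup_left h0)
  have hidx : ∀ P : Subgroup ↥K, P = (Subgroup.zpowers z).subgroupOf K → ¬ 2 ∣ P.index := by
    rintro P rfl hd
    have h2 : (Subgroup.zpowers z).relIndex K ∣ Nat.card ↥O := by
      have hZ : (Subgroup.zpowers z).relIndex K * 2 = O.relIndex (Subgroup.zpowers z) * Nat.card ↥O := by
        have e1 := Subgroup.relIndex_mul_relIndex (⊥ : Subgroup G) (Subgroup.zpowers z) K bot_le le_sup_right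
        have e2 := Subgroup.relIndex_mul_relIndex (⊥ : Subgroup G) O K bot_le le_sup_left
        have e3 : O.relIndex K = O.relIndex (Subgroup.zpowers z) := Subgroup.relIndex_sup_left _ _
        rw [Subgroup.relIndex_bot_left, Nat.card_zpowers, h.two] at e1
        rw [Subgroup.relIndex_bot_left, Subgroup.relIndex_bot_left, e3] at e2
        rw [mul_comm, e1, mul_comm, e2, Subgroup.relIndex_bot_left]
      have h4 : O.relIndex (Subgroup.zpowers z) ∣ 2 := by
        have := Subgroup.relIndex_dvd_card O (Subgroup.zpowers z)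
        rwa [Nat.card_zpowers, h.two] at this
      rcases (Nat.dvd_prime Nat.prime_two).mp h4 with e | e
      · exfalso
        rw [e, one_mul] at hZ
        exact Nat.two_dvd_ne_zero.mpr (Nat.odd_iff.mp hO) ⟨_, by rw [← hZ, mul_comm]⟩
      · rw [e, mul_comm 2] at hZ
        exact dvd_of_eq (Nat.eq_of_mul_eq_mul_right two_pos hZ)
    exact absurd (hd.trans h2) (Nat.two_dvd_ne_zero.mpr (Nat.odd_iff.mp hO))
  have hzP : IsPGroup 2 ↥((Subgroup.zpowers z).subgroupOf K) :=
    (IsPGroup.of_card (n := 1) (by rw [Nat.card_zpowers, h.two, pow_one])).of_equiv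
      (Subgroup.subgroupOfEquivOfLe (le_sup_right : Subgroup.zpowers z ≤ K)).symm
  let P0 : Sylow 2 ↥K := hzP.toSylow (hidx _ rfl)
  obtain ⟨P1, hP1⟩ := (IsPGroup.of_card (n := 1)
    (by rw [Nat.card_zpowers, Subgroup.orderOf_mk, oconj, h.two, pow_one]) :
      IsPGroup 2 ↥(Subgroup.zpowers (⟨g * z * g⁻¹, hgzK⟩ : ↥K))).exists_le_sylow
  obtain ⟨k, hk⟩ := MulAction.exists_smul_eq ↥K P1 P0
  have hmem : k * ⟨g * z * g⁻¹, hgzK⟩ * k⁻¹ ∈ (P0 : Subgroup ↥K) := by
    rw [← hk]; exact ⟨_, hP1 (Subgroup.mem_zpowers _), rfl⟩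
  have hmem' : (k : G) * (g * z * g⁻¹) * (k : G)⁻¹ ∈ Subgroup.zpowers z := by
    simpa [P0, Subgroup.mem_subgroupOf] using hmem
  have hz' : (k : G) * (g * z * g⁻¹) * (k : G)⁻¹ = z := by
    obtain ⟨i, hi⟩ := hmem'
    have hz2 : z ^ (2 : ℤ) = 1 := by rw [zpow_two]; exact hzz
    rcases Int.even_or_odd i with ⟨j, rfl⟩ | ⟨j, rfl⟩
    · exfalso
      have h1 : z ^ (j + j) = 1 := by rw [← two_mul, zpow_mul, hz2, one_zpow]
      have h2 : orderOf ((k : G) * (g * z * g⁻¹) * (k : G)⁻¹) = 2 := by rw [oconj, oconj, h.two]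
      rw [← hi] at h2
      change orderOf (z ^ (j + j)) = 2 at h2
      rw [h1, orderOf_one] at h2
      omega
    · rw [← hi]
      show z ^ (2 * j + 1) = z
      rw [zpow_add, zpow_mul, hz2, one_zpow, one_mul, zpow_one]
  have hkg : Commute ((k : G) * g) z := by
    have : (k : G) * g * z * ((k : G) * g)⁻¹ = z := by
      rw [← hz']; conv_lhs => rw [hz']
      rw [← hz']; group
    exact mul_inv_eq_iff_eq_mul.mp this
  rw [show g = (k : G)⁻¹ * ((k : G) * g) by group]
  refine mul_mem (inv_mem ?_) (Subgroup.mem_sup_left (h.mem hkg))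
  have hKle : K ≤ Subgroup.centralizer ({z} : Set G) ⊔ Cfsg.oddCore G :=
    sup_le (hOle.trans le_sup_right) (Subgroup.zpowers_le.mpr (Subgroup.mem_sup_left (h.mem (Commute.refl z))))
  exact hKle k.2

/-- A normal subgroup containing the centraliser of `z` is everything. -/
theorem D8.frattini (h : D8 G z a b) (N : Subgroup G) [N.Normal]
    (hle : Subgroup.centralizer ({z} : Set G) ≤ N) : N = ⊤ := by
  have : Fact (Nat.Prime 2) := ⟨Nat.prime_two⟩
  obtain ⟨S, hS⟩ := h.sylow
  rw [eq_top_iff, ← Sylow.normalizer_sup_eq_top' S (hS ▸ hle)]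
  refine sup_le (fun n hn => hle ?_) le_rfl
  replace hn : n ∈ Subgroup.normalizer ((S : Subgroup G) : Set G) := hn
  rw [hS] at hn
  have hmem : ∀ w : G, Commute w z → Commute (n * w * n⁻¹) z := fun w hw =>
    Subgroup.mem_centralizer_singleton_iff.mp
      ((Subgroup.mem_normalizer_iff.mp hn w).mp (h.mem hw))
  have hmem' : ∀ w : G, Commute w z → Commute (n⁻¹ * w * n) z := fun w hw => by
    refine Subgroup.mem_centralizer_singleton_iff.mp
      ((Subgroup.mem_normalizer_iff.mp hn _).mpr ?_)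
    rw [show n * (n⁻¹ * w * n) * n⁻¹ = w by group]
    exact h.mem hw
  have hcz : ∀ w : G, Commute w z → Commute (n * z * n⁻¹) w := fun w hw => by
    have := ((hmem' w hw).symm).map (MulAut.conj n).toMonoidHom
    simp only [MulEquiv.coe_toMonoidHom, MulAut.conj_apply] at this
    rwa [show n * (n⁻¹ * w * n) * n⁻¹ = w by group] at this
  rcases h.center (hcz z (Commute.refl z)) (hcz a h.ca) (hcz b h.cb) with e | e
  · exfalso
    have := h.two
    rw [conj_eq_one_iff.mp e, orderOf_one] at this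
    omega
  · exact h.mem (mul_inv_eq_iff_eq_mul.mp e)

/-- Full fusion: the group is simple of order 168 or 360. -/
theorem D8.caseII (h : D8 G z a b) {ga : G} (hga : ga * z * ga⁻¹ = a) {gb : G}
    (hgb : gb * z * gb⁻¹ = b) (e : ↥(Subgroup.centralizer ({z} : Set G)) ≃* DihedralGroup 4) :
    IsSimpleGroup G ∧ (Nat.card G = 168 ∨ Nat.card G = 360) := by
  have hfr : ∀ (N : Subgroup G) [N.Normal], z ∈ N → N = ⊤ := by
    intro N hN hz
    refine h.frattini N (fun g hg => ?_)
    have ha : a ∈ N := hga ▸ hN.conj_mem z hz ga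
    have hb : b ∈ N := hgb ▸ hN.conj_mem z hz gb
    have hm : ∀ t, (t = 1 ∨ t = z ∨ t = a ∨ t = z * a) → t ∈ N := by
      rintro t (rfl | rfl | rfl | rfl)
      exacts [one_mem N, hz, ha, mul_mem hz ha]
    rcases h.list g (Subgroup.mem_centralizer_singleton_iff.mp hg) with e | e
    · exact hm g e
    · rw [show g = g * b * b⁻¹ by group]
      exact mul_mem (hm _ e) (inv_mem hb)
  have hperf : commutator G = ⊤ := by
    refine hfr _ ?_
    have hz : z = b * a * b⁻¹ * a⁻¹ := by rw [h.bab, mul_inv_cancel_right]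
    rw [hz, ← commutatorElement_def]
    exact Subgroup.commutator_mem_commutator (Subgroup.mem_top b) (Subgroup.mem_top a)
  have : Fact (Nat.Prime 2) := ⟨Nat.prime_two⟩
  refine ⟨?_, Cfsg.Agent.S0848.result hperf z h.two e⟩
  have : Nontrivial G := ⟨z, 1, fun e => by have := h.two; rw [e, orderOf_one] at this; omega⟩
  refine ⟨fun N hN => ?_⟩
  rcases Nat.even_or_odd (Nat.card N) with he | ho
  · right
    obtain ⟨u, hu⟩ := exists_prime_orderOf_dvd_card' (G := ↥N) 2 he.two_dvd
    obtain ⟨S, hS⟩ := h.sylow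
    obtain ⟨Q, hQ⟩ := (IsPGroup.of_card (n := 1)
      (by rw [Nat.card_zpowers, Subgroup.orderOf_coe, hu, pow_one]) :
        IsPGroup 2 ↥(Subgroup.zpowers (u : G))).exists_le_sylow
    obtain ⟨k, hk⟩ := MulAction.exists_smul_eq G Q S
    have hm : k * u * k⁻¹ ∈ (S : Subgroup G) := by
      rw [← hk]; exact ⟨_, hQ (Subgroup.mem_zpowers _), rfl⟩
    rw [hS] at hm
    have hu' : orderOf (k * (u : G) * k⁻¹) = 2 := by rw [oconj, Subgroup.orderOf_coe, hu]
    have hv : k * (u : G) * k⁻¹ ∈ N := hN.conj_mem _ u.2 k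
    refine hfr N ?_
    by_contra hzN
    have hback : ∀ (g v : G), g * z * g⁻¹ = v → v ∈ N → False := fun g v hv hm => hzN (by
      have := hN.conj_mem _ hm g⁻¹
      rwa [← hv, inv_inv, show g⁻¹ * (g * z * g⁻¹) * g = z by group] at this)
    have hiso : Cfsg.Agent.H28.IsIsolatedInvolution z := by
      by_contra hcon
      -- all involutions of the centraliser are conjugates of `z`
      rcases h.list _ (Subgroup.mem_centralizer_singleton_iff.mp hm) with (e | e | e | e) | (e | e | e | e)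
      · rw [e, orderOf_one] at hu'; omega
      · exact hzN (e ▸ hv)
      · exact hback ga a hga (e ▸ hv)
      · exact hback (b * ga) (z * a) (by rw [← h.bab, ← hga]; group) (e ▸ hv)
      · exact hback gb b hgb (by
          rw [mul_eq_one_iff_eq_inv.mp e] at hv; simpa using inv_mem hv)
      · exact hback (a * gb) (z * b) (by rw [← h.aba, ← hgb]; group) (by
          rw [eq_mul_inv_of_mul_eq e, inv_eq_of_mul_eq_one_right (sq_one_of_two h.ob)] at hv; exact hv)
      · refine hzN ?_
        have h2 := sq_one_of_two hu'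
        rw [eq_mul_inv_of_mul_eq e, inv_eq_of_mul_eq_one_right (sq_one_of_two h.ob),
          show a * b * (a * b) = a * (b * a) * b by group, mul_inv_eq_iff_eq_mul.mp h.bab,
          show a * (z * a * b) * b = a * z * a * (b * b) by group, sq_one_of_two h.ob, mul_one,
          h.ca.eq, mul_assoc, sq_one_of_two h.oa, mul_one] at h2
        rw [h2]; exact one_mem N
      · refine hzN ?_
        have h2 := sq_one_of_two hu'
        rw [eq_mul_inv_of_mul_eq e, inv_eq_of_mul_eq_one_right (sq_one_of_two h.ob),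
          ← mul_inv_eq_iff_eq_mul.mp h.bab, show b * a * (b * a) = b * a * b * a by group] at h2
        have h3 : b * a * b⁻¹ * a = 1 := by
          rw [inv_eq_of_mul_eq_one_right (sq_one_of_two h.ob)]; exact h2
        rw [h.bab, mul_assoc, sq_one_of_two h.oa, mul_one] at h3
        rw [h3]; exact one_mem N
    exact absurd (hiso.eq ga (by rw [hga]; exact h.ca.symm)) (by rw [hga]; exact h.aza)
  · left
    exact h.core hga (gc := b * ga) (by rw [← h.bab, ← hga]; group) N ho

/-- Klein four Sylow subgroup with self-centralising involutions: the order bound. -/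
theorem card_lt_seventy_two {H : Type v} [Group H] [Finite H] (P : Sylow 2 H)
    (hP : IsKleinFour ↥(P : Subgroup H)) (hone : ∀ s t : H, orderOf s = 2 → orderOf t = 2 → IsConj s t)
    (hnc : ¬ ∃ N : Subgroup H, N.Normal ∧ Nat.card N = (P : Subgroup H).index)
    (x : H) (hxP : x ∈ (P : Subgroup H)) (hx : orderOf x = 2)
    (hC : Subgroup.centralizer ({x} : Set H) = P)
    (hCP : Subgroup.centralizer ((P : Subgroup H) : Set H) = P) : Nat.card H < 72 := by
  have : Fact (Nat.Prime 2) := ⟨Nat.prime_two⟩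
  obtain ⟨M, hM⟩ := Cfsg.Agent.H42.exists_isPModular Nat.prime_two
  obtain ⟨ζ₂, ζ₃, ζ₄, ε, hε, hn2, hn3, h23, h24, h34, hB, hval, hd2, hd3, hd4, -⟩ :=
    Cfsg.Agent.S0948.result M hM P hP hone
  have hPcard : Nat.card ↥(P : Subgroup H) = 4 := hP.card_four
  obtain ⟨hz2, hz3, hz4⟩ := hval x hx
  have hn4 : (ζ₄ : H → ℂ) ≠ (fun _ => 1) := fun h => by rw [h] at hz4; norm_num at hz4
  have hG : Nat.card H = 4 * (P : Subgroup H).index := by rw [← hPcard, Subgroup.card_mul_index]
  have hg0 : Odd (P : Subgroup H).index :=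
    Nat.odd_iff.mpr (Nat.two_dvd_ne_zero.mp P.not_dvd_index)
  have hform := Cfsg.Agent.S4479.result M hM _ hg0 hG hnc P x hxP hx ζ₂ ζ₃ ζ₄ 1 ε (-1) hB
    ⟨hn2, hn3, hn4, h23, h24, h34⟩ ⟨Or.inl rfl, hε, Or.inr rfl⟩
    ⟨by rw [hz2]; simp, hz3, by rw [hz4]; simp⟩
  rw [hC, hCP, hPcard] at hform
  obtain ⟨p, hp⟩ : ∃ p : ℕ, p = Cfsg.charDegree (ζ₂ : H → ℂ) := ⟨_, rfl⟩
  obtain ⟨q, hq⟩ : ∃ q : ℕ, q = Cfsg.charDegree (ζ₃ : H → ℂ) := ⟨_, rfl⟩
  obtain ⟨d, hd⟩ : ∃ d : ℕ, d = Cfsg.charDegree (ζ₄ : H → ℂ) := ⟨_, rfl⟩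
  simp only [← hp, ← hq, ← hd] at hform hd2 hd3 hd4
  have hd3' : 3 ≤ d := by omega
  have hA : (p : ℚ) / ((p : ℚ) + 1) < 1 := by rw [div_lt_one (by positivity)]; linarith
  have hA0 : (0 : ℚ) ≤ (p : ℚ) / ((p : ℚ) + 1) := by positivity
  have hdq : (3 : ℚ) ≤ d := by exact_mod_cast hd3'
  have hD : (d : ℚ) / ((d : ℚ) + ((-1 : ℤ) : ℚ)) ≤ 3 / 2 ∧
      (0 : ℚ) < (d : ℚ) / ((d : ℚ) + ((-1 : ℤ) : ℚ)) := by
    push_cast
    exact ⟨by rw [div_le_iff₀ (by linarith)]; linarith, div_pos (by linarith) (by linarith)⟩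
  have hQ : (q : ℚ) / ((q : ℚ) + (ε : ℚ)) ≤ 3 / 2 ∧ (0 : ℚ) < (q : ℚ) / ((q : ℚ) + (ε : ℚ)) := by
    rcases hε with rfl | rfl
    · have : (1 : ℚ) ≤ q := by exact_mod_cast (show 1 ≤ q by omega)
      push_cast
      exact ⟨by rw [div_le_iff₀ (by linarith)]; linarith, div_pos (by linarith) (by linarith)⟩
    · have : (3 : ℚ) ≤ q := by exact_mod_cast (show 3 ≤ q by omega)
      push_cast
      exact ⟨by rw [div_le_iff₀ (by linarith)]; linarith, div_pos (by linarith) (by linarith)⟩
  have hk : (Nat.card H : ℚ) = 32 * ((p : ℚ) / ((p : ℚ) + 1) * ((q : ℚ) / ((q : ℚ) + (ε : ℚ))) *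
      ((d : ℚ) / ((d : ℚ) + ((-1 : ℤ) : ℚ)))) := by
    rw [hform]
    simp only [Int.cast_one, Nat.cast_ofNat, div_mul_div_comm]
    ring
  have hlt : (Nat.card H : ℚ) < 72 := by
    rw [hk]
    have h1 : (p : ℚ) / ((p : ℚ) + 1) * ((q : ℚ) / ((q : ℚ) + (ε : ℚ))) < 1 * (3 / 2) :=
      lt_of_lt_of_le (mul_lt_mul_of_pos_right hA hQ.2) (by linarith [hQ.1])
    have h2 := mul_lt_mul_of_pos_right h1 hD.2
    nlinarith [hD.1]
  exact_mod_cast hlt

/-- Partial fusion: the symmetric groups of degree 4 and 5. -/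
theorem D8.caseIII (h : D8 G z a b) {ga : G} (hga : ga * z * ga⁻¹ = a)
    (hnb : ∀ g : G, g * z * g⁻¹ ≠ b) :
    Nonempty (G ≃* Equiv.Perm (Fin 4)) ∨ Nonempty (G ≃* Equiv.Perm (Fin 5)) := by
  have : Fact (Nat.Prime 2) := ⟨Nat.prime_two⟩
  have hzz := sq_one_of_two h.two
  have haa := sq_one_of_two h.oa
  have hbb := sq_one_of_two h.ob
  have hgc : (b * ga) * z * (b * ga)⁻¹ = z * a := by rw [← h.bab, ← hga]; group
  obtain ⟨S, hS⟩ := h.sylow
  -- the four group
  let V : Subgroup G :=
    { carrier := {g | g = 1 ∨ g = z ∨ g = a ∨ g = z * a}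
      one_mem' := Or.inl rfl
      mul_mem' := by
        have h1 : ∀ t, a * (z * t) = z * (a * t) := fun t => by rw [← mul_assoc, h.ca.eq, mul_assoc]
        have h2 : ∀ t, z * (z * t) = t := fun t => by rw [← mul_assoc, hzz, one_mul]
        rintro u v (rfl | rfl | rfl | rfl) (rfl | rfl | rfl | rfl) <;>
          simp [Set.mem_setOf_eq, hzz, haa, mul_assoc, h1, h2, h.ca.eq]
      inv_mem' := by
        have hzi : z⁻¹ = z := inv_eq_of_mul_eq_one_right hzz
        have hai : a⁻¹ = a := inv_eq_of_mul_eq_one_right haa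
        rintro u (rfl | rfl | rfl | rfl) <;> simp [hzi, hai, h.ca.eq] }
  have hVmem : ∀ g, g ∈ V ↔ (g = 1 ∨ g = z ∨ g = a ∨ g = z * a) := fun g => Iff.rfl
  have hzV : z ∈ V := Or.inr (Or.inl rfl)
  have haV : a ∈ V := Or.inr (Or.inr (Or.inl rfl))
  have hVC : V ≤ Subgroup.centralizer ({z} : Set G) := by
    intro g hg
    refine h.mem ?_
    rcases hg with e | e | e | e <;> rw [e] <;>
      first
      | exact Commute.one_left z | exact h.ca | exact (Commute.refl z).mul_left h.ca
  have hz1 : z ≠ 1 := fun e => by have := h.two; rw [e, orderOf_one] at this; omega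
  have ha1 : a ≠ 1 := fun e => by have := h.oa; rw [e, orderOf_one] at this; omega
  obtain ⟨hza1, hzaz, hzaa⟩ := h.za_ne
  have hVcard : Nat.card ↥V = 4 := by
    let f : Fin 4 → ↥V := ![⟨1, one_mem V⟩, ⟨z, hzV⟩, ⟨a, haV⟩, ⟨z * a, mul_mem hzV haV⟩]
    refine (Nat.card_eq_of_bijective f ⟨?_, ?_⟩).symm.trans (Nat.card_fin 4)
    · intro i j hij
      have := congrArg Subtype.val hij
      fin_cases i <;> fin_cases j <;> simp [f] at this ⊢ <;>
        first
        | exact absurd this hz1 | exact absurd this.symm hz1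
        | exact absurd this ha1 | exact absurd this.symm ha1
        | exact absurd this hza1 | exact absurd this.symm hza1
        | exact absurd this h.aza | exact absurd this.symm h.aza
        | exact absurd this hzaz | exact absurd this.symm hzaz
        | exact absurd this hzaa | exact absurd this.symm hzaa
    · rintro ⟨g, hg⟩
      rcases hg with e | e | e | e
      exacts [⟨0, Subtype.ext e.symm⟩, ⟨1, Subtype.ext e.symm⟩, ⟨2, Subtype.ext e.symm⟩,
        ⟨3, Subtype.ext e.symm⟩]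
  have hbV : b ∉ V := fun e => by
    rcases e with e | e | e | e
    exacts [h.bn.1 e, h.bn.2.1 e, h.bn.2.2.1 e, h.bn.2.2.2 e]
  -- an index two subgroup
  have hVi : V.relIndex (S : Subgroup G) = 2 := by
    have h1 := Subgroup.relIndex_mul_index (bot_le : ⊥ ≤ V.subgroupOf (S : Subgroup G))
    have h2 := (V.subgroupOf (S : Subgroup G)).card_mul_index
    rw [Nat.card_congr (Subgroup.subgroupOfEquivOfLe (hS ▸ hVC)).toEquiv, hVcard, hS, h.card] at h2
    show (V.subgroupOf (S : Subgroup G)).index = 2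
    rw [hS]
    omega
  obtain ⟨M, hMn, hMi, hbM⟩ : ∃ M : Subgroup G, M.Normal ∧ M.index = 2 ∧ b ∉ M := by
    rcases Cfsg.Agent.S0111.result S V (hS ▸ hVC) hVi b h.ob (hS ▸ h.mem h.cb) hbV with r | ⟨g, hg⟩
    · exact r
    exfalso
    have hb1 : g * b * g⁻¹ ≠ 1 := fun e => h.bn.1 (conj_eq_one_iff.mp e)
    rcases hg with e | e | e | e
    · exact hb1 e
    · exact hnb g⁻¹ (by rw [← e]; group)
    · exact hnb (g⁻¹ * ga) (by
        rw [show g⁻¹ * ga * z * (g⁻¹ * ga)⁻¹ = g⁻¹ * (ga * z * ga⁻¹) * g by group, hga, ← e]; group)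
    · exact hnb (g⁻¹ * (b * ga)) (by
        rw [show g⁻¹ * (b * ga) * z * (g⁻¹ * (b * ga))⁻¹ = g⁻¹ * ((b * ga) * z * (b * ga)⁻¹) * g by group,
          hgc, ← e]; group)
  have hsq : ∀ g : G, g * g ∈ M := fun g => Subgroup.mul_self_mem_of_index_two hMi g
  have hzM : z ∈ M := by
    have h2 : (b * a) * (b * a) = z := by
      rw [show b * a * (b * a) = b * a * b * a by group,
        show b * a * b = b * a * b⁻¹ by rw [inv_eq_of_mul_eq_one_right hbb], h.bab, mul_assoc, haa,
        mul_one]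
    exact h2 ▸ hsq _
  have hVM : V ≤ M := by
    have haM : a ∈ M := hga ▸ hMn.conj_mem z hzM ga
    intro g hg
    rcases hg with rfl | rfl | rfl | rfl
    exacts [one_mem M, hzM, haM, mul_mem hzM haM]
  have hCM : ∀ g : G, Commute g z → g ∈ M → g ∈ V := fun g hg hgM => by
    rcases h.list g hg with e | e
    · exact e
    · exfalso
      have h1 : g⁻¹ * (g * b) ∈ M := mul_mem (inv_mem hgM) (hVM e)
      rw [inv_mul_cancel_left] at h1
      exact hbM h1
  -- fusion of involutions of M inside M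
  have hfus : ∀ v : G, (∃ g : G, g * z * g⁻¹ = v) → ∃ m ∈ M, m * z * m⁻¹ = v := by
    rintro v ⟨g, hg⟩
    by_cases hgM : g ∈ M
    · exact ⟨g, hgM, hg⟩
    · refine ⟨g * b, (Subgroup.mul_mem_iff_of_index_two hMi).mpr (iff_of_false hgM hbM), ?_⟩
      rw [← hg, show g * b * z * (g * b)⁻¹ = g * (b * z * b⁻¹) * g⁻¹ by group,
        mul_inv_eq_iff_eq_mul.mpr h.cb]
  have hVz : ∀ v ∈ V, v ≠ 1 → ∃ g : G, g * z * g⁻¹ = v := by
    intro v hv hv1
    rcases hv with rfl | rfl | rfl | rfl
    exacts [absurd rfl hv1, ⟨1, by simp⟩, ⟨ga, hga⟩, ⟨b * ga, hgc⟩]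
  let V' : Subgroup ↥M := V.subgroupOf M
  have hV'card : Nat.card ↥V' = 4 := by
    rw [Nat.card_congr (Subgroup.subgroupOfEquivOfLe hVM).toEquiv, hVcard]
  have hV'p : IsPGroup 2 ↥V' := IsPGroup.of_card (n := 2) (by rw [hV'card]; norm_num)
  obtain ⟨P, hP⟩ := hV'p.exists_le_sylow
  let z' : ↥M := ⟨z, hzM⟩
  have hzV' : z' ∈ V' := hzV
  have hCz' : Subgroup.centralizer ({z'} : Set ↥M) = V' := by
    refine le_antisymm (fun g hg => ?_) (fun g hg => ?_)
    · exact hCM g (congrArg Subtype.val (Subgroup.mem_centralizer_singleton_iff.mp hg)) g.2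
    · refine Subgroup.mem_centralizer_singleton_iff.mpr (Subtype.ext ?_)
      exact Subgroup.mem_centralizer_singleton_iff.mp (hVC hg)
  have hPV : (P : Subgroup ↥M) = V' := by
    refine le_antisymm ?_ hP
    have h1 : Nat.card ↥((P : Subgroup ↥M).map M.subtype) ≤ 8 := by
      obtain ⟨Q, hQ⟩ := (P.2.map M.subtype).exists_le_sylow
      obtain ⟨k, hk⟩ := MulAction.exists_smul_eq G Q S
      have hc : Nat.card ↥(Q : Subgroup G) = 8 := by
        rw [Nat.card_congr (Sylow.equiv Q S).toEquiv, hS, h.card]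
      exact hc ▸ Nat.card_le_card_of_injective _ (Subgroup.inclusion_injective hQ)
    -- an element commuting with the whole of P
    have : Nontrivial ↥(P : Subgroup ↥M) := by
      refine ⟨⟨⟨z', hP hzV'⟩, 1, fun e => hz1 ?_⟩⟩
      exact congrArg (fun t : ↥(P : Subgroup ↥M) => ((t : ↥M) : G)) e
    obtain ⟨y, -, hy1, hy⟩ := Cfsg.Agent.H76.exists_central_mem P.2
      (⊤ : Subgroup ↥(P : Subgroup ↥M)) (by simp)
    have hc : ∀ s ∈ (P : Subgroup ↥M), Commute (s : G) ((y : ↥M) : G) := fun s hs =>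
      congrArg (fun t : ↥(P : Subgroup ↥M) => ((t : ↥M) : G)) (Subgroup.mem_center_iff.mp hy ⟨s, hs⟩)
    have hyV : ((y : ↥M) : G) ∈ V := hCM _ (hc z' (hP hzV')).symm (y : ↥M).2
    have hy1' : ((y : ↥M) : G) ≠ 1 := fun e => hy1 (Subtype.ext (Subtype.ext e))
    obtain ⟨m, hm, hmz⟩ := hfus _ (hVz _ hyV hy1')
    -- the centraliser of `y` in `M` has order four
    intro s hs
    by_contra hsV
    have hle : (P : Subgroup ↥M) ≤
        Subgroup.centralizer ({(y : ↥M)} : Set ↥M) := fun t ht =>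
      Subgroup.mem_centralizer_singleton_iff.mpr (Subtype.ext (hc t ht))
    have hy2 : Nat.card ↥(Subgroup.centralizer ({(y : ↥M)} : Set ↥M)) = 4 := by
      have hmap : (Subgroup.centralizer ({z'} : Set ↥M)).map (MulAut.conj (⟨m, hm⟩ : ↥M)).toMonoidHom =
          Subgroup.centralizer ({(y : ↥M)} : Set ↥M) := by
        have hy' : (MulAut.conj (⟨m, hm⟩ : ↥M)) z' = (y : ↥M) := Subtype.ext hmz
        ext t
        rw [Subgroup.mem_map_equiv, Subgroup.mem_centralizer_singleton_iff,
          Subgroup.mem_centralizer_singleton_iff, ← hy']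
        constructor <;> intro ht
        · have := congrArg (MulAut.conj (⟨m, hm⟩ : ↥M)) ht
          simpa only [map_mul, MulEquiv.apply_symm_apply] using this
        · apply (MulAut.conj (⟨m, hm⟩ : ↥M)).injective
          simpa only [map_mul, MulEquiv.apply_symm_apply] using ht
      rw [← hmap, Subgroup.card_map_of_injective (MulEquiv.injective _), hCz', hV'card]
    have := Subgroup.eq_of_le_of_card_ge (hP.trans hle) (by rw [hy2, hV'card])
    exact hsV (this ▸ hle hs)
  have hKl : IsKleinFour ↥(P : Subgroup ↥M) := by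
    rw [hPV]
    refine ⟨hV'card, ?_⟩
    have hsq2 : ∀ g : ↥V', g ^ 2 = 1 := fun g => by
      apply Subtype.ext; apply Subtype.ext
      show ((g : ↥M) : G) ^ 2 = 1
      rw [pow_two]
      rcases g.2 with e | e | e | e <;>
        simp only [Subgroup.coe_subtype] at e <;> rw [e]
      exacts [one_mul 1, hzz, haa, by rw [h.ca.mul_mul_mul_comm, hzz, haa, one_mul]]
    have : Monoid.exponent ↥V' ∣ 2 := Monoid.exponent_dvd_of_forall_pow_eq_one hsq2
    rcases (Nat.dvd_prime Nat.prime_two).mp this with e | e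
    · exfalso
      have := Monoid.exp_eq_one_iff.mp e
      rw [Nat.card_unique] at hV'card
      omega
    · exact e
  have hone : ∀ s t : ↥M, orderOf s = 2 → orderOf t = 2 → IsConj s t := by
    have key : ∀ s : ↥M, orderOf s = 2 → IsConj z' s := by
      intro s hs
      obtain ⟨Q, hQ⟩ := (IsPGroup.of_card (n := 1) (by rw [Nat.card_zpowers, hs, pow_one]) :
        IsPGroup 2 ↥(Subgroup.zpowers s)).exists_le_sylow
      obtain ⟨k, hk⟩ := MulAction.exists_smul_eq ↥M Q P
      have hm : k * s * k⁻¹ ∈ (P : Subgroup ↥M) := by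
        rw [← hk]; exact ⟨_, hQ (Subgroup.mem_zpowers _), rfl⟩
      rw [hPV] at hm
      have hne : ((k * s * k⁻¹ : ↥M) : G) ≠ 1 := fun e => by
        have h1 : orderOf (k * s * k⁻¹) = 2 := by rw [oconj, hs]
        rw [show k * s * k⁻¹ = 1 from Subtype.ext e, orderOf_one] at h1; omega
      obtain ⟨m, hm', hmz⟩ := hfus _ (hVz _ hm hne)
      exact (isConj_iff.mpr ⟨⟨m, hm'⟩, Subtype.ext hmz⟩ : IsConj z' (k * s * k⁻¹)).trans
        (IsConj.symm (isConj_iff.mpr ⟨k, rfl⟩))
    exact fun s t hs ht => (key s hs).symm.trans (key t ht)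
  have hcore : ∀ (N : Subgroup G) [N.Normal], Odd (Nat.card N) → N = ⊥ := fun N hN ho =>
    h.core hga hgc N ho
  have hnc : ¬ ∃ N : Subgroup ↥M, N.Normal ∧ Nat.card N = (P : Subgroup ↥M).index := by
    rintro ⟨N, hN, hNc⟩
    have hNodd : Odd (Nat.card N) := hNc ▸ Nat.odd_iff.mpr (Nat.two_dvd_ne_zero.mp P.not_dvd_index)
    have hNbot : N = ⊥ := by
      rw [eq_bot_iff]
      intro o ho
      rw [Subgroup.mem_bot]
      have hoo : ∀ o ∈ N, Odd (orderOf (o : G)) := fun o ho => by
        rw [Subgroup.orderOf_coe]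
        exact hNodd.of_dvd_nat (by
          have := orderOf_dvd_natCard (⟨o, ho⟩ : ↥N); rwa [Subgroup.orderOf_mk] at this)
      have key : ∀ v : ↥M, (∃ g : G, g * z * g⁻¹ = v) → ∀ o ∈ N, Commute o v → o = 1 := by
        rintro v ⟨g, hv⟩ o ho hc
        have hc' : Commute (o : G) v := congrArg Subtype.val hc
        have h1 : Commute (g⁻¹ * o * g) z := by
          have := hc'.map (MulAut.conj g⁻¹).toMonoidHom
          simp only [MulEquiv.coe_toMonoidHom, MulAut.conj_apply, inv_inv] at this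
          rwa [show g⁻¹ * v * g = z by rw [← hv]; group] at this
        have h2 := eq_one_of_odd h.isPGroup (h.mem h1)
          (by have := oconj (o : G) g⁻¹; rw [inv_inv] at this; rw [this]; exact hoo o ho)
        refine Subtype.ext ?_
        calc (o : G) = g * (g⁻¹ * o * g) * g⁻¹ := by group
          _ = 1 := by rw [h2]; group
      have hinv : ∀ v : ↥M, v * v = 1 → (∃ g : G, g * z * g⁻¹ = v) → ∀ o ∈ N, v * o * v⁻¹ = o⁻¹ := by
        intro v hv2 hv o ho
        have hvi : v⁻¹ = v := inv_eq_of_mul_eq_one_right hv2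
        let φ : ↥N →* ↥N :=
          { toFun := fun o => ⟨v * o * v⁻¹, hN.conj_mem _ o.2 v⟩
            map_one' := Subtype.ext (by simp)
            map_mul' := fun s t => Subtype.ext (by simp [mul_assoc]) }
        have hf : MonoidHom.FixedPointFree φ := fun s hs => Subtype.ext
          (key v hv s s.2 (mul_inv_eq_iff_eq_mul.mp (congrArg Subtype.val hs)).symm)
        have hi : Function.Involutive φ := fun s => Subtype.ext (by
          show v * (v * (s : ↥M) * v⁻¹) * v⁻¹ = s
          rw [hvi, show v * (v * (s : ↥M) * v) * v = v * v * s * (v * v) by group, hv2]; simp)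
        exact congrArg Subtype.val (congrFun (hf.coe_eq_inv_of_involutive hi) ⟨o, ho⟩)
      let a' : ↥M := ⟨a, hVM haV⟩
      refine key (z' * a') ⟨b * ga, hgc⟩ o ho (mul_inv_eq_iff_eq_mul.mp ?_).symm
      calc z' * a' * o * (z' * a')⁻¹ = z' * (a' * o * a'⁻¹) * z'⁻¹ := by group
        _ = (z' * o * z'⁻¹)⁻¹ := by
          rw [hinv a' (Subtype.ext haa) ⟨ga, hga⟩ o ho]; group
        _ = o := by rw [hinv z' (Subtype.ext hzz) ⟨1, by simp [z']⟩ o ho, inv_inv]
    rw [hNbot, Subgroup.card_bot] at hNc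
    have htop : (P : Subgroup ↥M) = ⊤ := Subgroup.index_eq_one.mp hNc.symm
    obtain ⟨m, hm, hmz⟩ := hfus a ⟨ga, hga⟩
    have hm' : m ∈ V := by
      have : (⟨m, hm⟩ : ↥M) ∈ (P : Subgroup ↥M) := htop ▸ Subgroup.mem_top _
      rwa [hPV] at this
    exact h.aza (by
      rw [← hmz, mul_inv_eq_iff_eq_mul.mpr (Subgroup.mem_centralizer_singleton_iff.mp (hVC hm'))])
  have hCP : Subgroup.centralizer ((P : Subgroup ↥M) : Set ↥M) = P := by
    refine le_antisymm ?_ ?_
    · refine le_trans (fun g hg => ?_) (hCz'.trans hPV.symm).le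
      exact Subgroup.mem_centralizer_singleton_iff.mpr
        ((Subgroup.mem_centralizer_iff.mp hg z' (hPV ▸ hzV')).symm)
    · rw [hPV]
      intro g hg
      rw [Subgroup.mem_centralizer_iff]
      intro t ht
      apply Subtype.ext
      show (t : G) * g = g * t
      have hcomm : ∀ u ∈ V, Commute u a ∧ Commute u z := by
        rintro u (e | e | e | e) <;> rw [e]
        exacts [⟨Commute.one_left a, Commute.one_left z⟩, ⟨h.ca.symm, Commute.refl z⟩,
          ⟨Commute.refl a, h.ca⟩, ⟨h.ca.symm.mul_left (Commute.refl a), (Commute.refl z).mul_left h.ca⟩]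
      rcases (show (g : G) ∈ V from hg) with e | e | e | e <;> rw [e]
      exacts [(Commute.one_right _).eq, (hcomm _ ht).2.eq, (hcomm _ ht).1.eq,
        ((hcomm _ ht).2.mul_right (hcomm _ ht).1).eq]
  have hz'2 : orderOf z' = 2 := by rw [Subgroup.orderOf_mk]; exact h.two
  have hlt := card_lt_seventy_two P hKl hone hnc z' (hPV ▸ hzV') hz'2 (hCz'.trans hPV.symm) hCP
  -- the normaliser of V
  obtain ⟨N, hN⟩ : ∃ N, N = Subgroup.normalizer (V : Set G) := ⟨_, rfl⟩
  have hVmemN : ∀ g : G, g ∈ N → ∀ v ∈ V, g * v * g⁻¹ ∈ V := fun g hg v hv => by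
    rw [hN] at hg; exact (Subgroup.mem_normalizer_iff.mp hg v).mp hv
  have hbN : b ∈ N := by
    rw [hN]
    have hfwd : ∀ g, g ∈ V → b * g * b⁻¹ ∈ V := by
      rintro g (rfl | rfl | rfl | rfl)
      · simp
      · rw [mul_inv_eq_iff_eq_mul.mpr h.cb]; exact hzV
      · rw [h.bab]; exact mul_mem hzV haV
      · rw [show b * (z * a) * b⁻¹ = b * z * b⁻¹ * (b * a * b⁻¹) by group,
          mul_inv_eq_iff_eq_mul.mpr h.cb, h.bab, ← mul_assoc, hzz, one_mul]; exact haV
    refine Subgroup.mem_normalizer_iff.mpr fun g => ⟨hfwd g, fun hg => ?_⟩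
    have := hfwd _ hg
    rwa [show b * (b * g * b⁻¹) * b⁻¹ = g by
      rw [inv_eq_of_mul_eq_one_right hbb, show b * (b * g * b) * b = b * b * g * (b * b) by group, hbb]
      simp] at this
  have hVN : V ≤ N := hN ▸ Subgroup.le_normalizer
  have hfix : ∀ g ∈ N, ∀ v ∈ V, v ≠ 1 → g * v * g⁻¹ = z ∨ g * v * g⁻¹ = a ∨ g * v * g⁻¹ = z * a := by
    intro g hg v hv hv1
    rcases hVmemN g hg v hv with e | e | e | e
    · exact absurd (conj_eq_one_iff.mp e) hv1
    exacts [Or.inl e, Or.inr (Or.inl e), Or.inr (Or.inr e)]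
  -- `|N| = 24`
  obtain ⟨n0, hn0N, hn0⟩ : ∃ n ∈ N, n * z * n⁻¹ = a := by
    obtain ⟨m, hm, hmz⟩ := hfus a ⟨ga, hga⟩
    have : IsMulCommutative ↥(P : Subgroup ↥M) := ⟨⟨fun u v => Subtype.ext
      (Subgroup.mem_centralizer_iff.mp (hCP.symm ▸ v.2 : (v : ↥M) ∈ Subgroup.centralizer ((P : Subgroup ↥M) : Set ↥M)) u u.2)⟩⟩
    obtain ⟨n, hn, hne⟩ := P.conj_eq_normalizer_conj_of_mem z' (⟨m, hm⟩ : ↥M)⁻¹ (show z' ∈ (P : Subgroup ↥M) by rw [hPV]; exact hzV') (by
      rw [inv_inv]
      have : (⟨m, hm⟩ : ↥M) * z' * (⟨m, hm⟩ : ↥M)⁻¹ = ⟨a, hVM haV⟩ := Subtype.ext hmz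
      rw [this]
      show (⟨a, hVM haV⟩ : ↥M) ∈ (P : Subgroup ↥M)
      rw [hPV]; exact haV)
    rw [inv_inv] at hne
    refine ⟨(n : G)⁻¹, inv_mem ?_, ?_⟩
    · rw [hN, Subgroup.mem_normalizer_iff]
      intro g
      have hn' : n ∈ Subgroup.normalizer ((P : Subgroup ↥M) : Set ↥M) := hn
      rw [hPV] at hn'
      constructor
      · intro hg
        exact (Subgroup.mem_normalizer_iff.mp hn' ⟨g, hVM hg⟩).mp hg
      · intro hg
        have hgM : g ∈ M := by
          have := hMn.conj_mem _ (hVM hg) (n : G)⁻¹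
          rwa [inv_inv, show (n : G)⁻¹ * ((n : G) * g * (n : G)⁻¹) * n = g by group] at this
        exact (Subgroup.mem_normalizer_iff.mp hn' ⟨g, hgM⟩).mpr hg
    · have := congrArg Subtype.val hne
      simpa [z', hmz] using this.symm
  have hCN : Subgroup.centralizer ({z} : Set G) ≤ N := by
    intro g hg
    rcases h.list g (Subgroup.mem_centralizer_singleton_iff.mp hg) with e | e
    · exact hVN e
    · rw [show g = g * b * b⁻¹ by group]; exact mul_mem (hVN e) (inv_mem hbN)
  have hrel : (Subgroup.centralizer ({z} : Set G)).relIndex N = 3 := by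
    let C' := (Subgroup.centralizer ({z} : Set G)).subgroupOf N
    let f : ↥N ⧸ C' → {v : ↥V // v ≠ 1} :=
      Quotient.lift (fun g : ↥N => ⟨⟨(g : G) * z * (g : G)⁻¹, hVmemN g g.2 z hzV⟩, fun e => hz1
        (conj_eq_one_iff.mp (congrArg Subtype.val e))⟩) (by
        intro p q hpq
        have hc := QuotientGroup.leftRel_apply.mp hpq
        rw [Subgroup.mem_subgroupOf, Subgroup.mem_centralizer_singleton_iff] at hc
        apply Subtype.ext; apply Subtype.ext
        show (p : G) * z * (p : G)⁻¹ = (q : G) * z * (q : G)⁻¹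
        rw [show (q : G) * z * (q : G)⁻¹ =
          (p : G) * (((p : G)⁻¹ * q) * z * ((p : G)⁻¹ * q)⁻¹) * (p : G)⁻¹ by group]
        have : ((p : G)⁻¹ * q) * z * ((p : G)⁻¹ * q)⁻¹ = z := mul_inv_eq_iff_eq_mul.mpr hc
        rw [this])
    have hf : Function.Bijective f := by
      constructor
      · intro u v
        refine Quotient.inductionOn₂ u v fun p q e => Quotient.sound ?_
        show QuotientGroup.leftRel C' p q
        rw [QuotientGroup.leftRel_apply, Subgroup.mem_subgroupOf,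
          Subgroup.mem_centralizer_singleton_iff]
        have e' : (p : G) * z * (p : G)⁻¹ = (q : G) * z * (q : G)⁻¹ :=
          congrArg (fun t : {v : ↥V // v ≠ 1} => ((t.1 : ↥V) : G)) e
        refine mul_inv_eq_iff_eq_mul.mp ?_
        calc (p : G)⁻¹ * q * z * ((p : G)⁻¹ * q)⁻¹ = (p : G)⁻¹ * (q * z * (q : G)⁻¹) * p := by group
          _ = z := by rw [← e']; group
      · rintro ⟨⟨v, hv⟩, hv1⟩
        rcases hv with e | e | e | e
        · exact absurd (Subtype.ext e) hv1
        · exact ⟨QuotientGroup.mk 1, Subtype.ext (Subtype.ext (by simp [f, e]))⟩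
        · exact ⟨QuotientGroup.mk ⟨n0, hn0N⟩, Subtype.ext (Subtype.ext (hn0.trans e.symm))⟩
        · refine ⟨QuotientGroup.mk ⟨b * n0, mul_mem hbN hn0N⟩, Subtype.ext (Subtype.ext ?_)⟩
          show b * n0 * z * (b * n0)⁻¹ = v
          rw [show b * n0 * z * (b * n0)⁻¹ = b * (n0 * z * n0⁻¹) * b⁻¹ by group, hn0, h.bab, e]
    have := Fintype.ofFinite ↥V
    classical
    show C'.index = 3
    rw [Subgroup.index, Nat.card_congr (Equiv.ofBijective f hf), Nat.card_eq_fintype_card,
      Fintype.card_subtype_compl, Fintype.card_subtype_eq, ← Nat.card_eq_fintype_card, hVcard]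
  have hNcard : Nat.card ↥N = 24 := by
    have := Subgroup.relIndex_mul_index hCN
    have h1 := ((Subgroup.centralizer ({z} : Set G)).subgroupOf N).card_mul_index
    rw [Nat.card_congr (Subgroup.subgroupOfEquivOfLe hCN).toEquiv, h.card,
      ← Subgroup.relIndex, hrel] at h1
    omega
  have hGcard : Nat.card G = 24 * N.index := by rw [← hNcard, Subgroup.card_mul_index]
  have hMcard : Nat.card ↥M * 2 = Nat.card G := by rw [← hMi, Subgroup.card_mul_index]
  have hodd : Odd N.index := by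
    have h1 : ¬ 2 ∣ (Subgroup.centralizer ({z} : Set G)).index := hS ▸ S.not_dvd_index
    rw [← Subgroup.relIndex_mul_index hCN, hrel] at h1
    exact Nat.odd_iff.mpr (Nat.two_dvd_ne_zero.mp fun e => h1 (e.mul_left 3))
  have hle5 : N.index = 1 ∨ N.index = 3 ∨ N.index = 5 := by
    obtain ⟨i, hi⟩ := hodd
    omega
  by_cases hN1 : N.index = 1
  · left
    have hNtop : N = ⊤ := Subgroup.index_eq_one.mp hN1
    have hVn : V.Normal := Subgroup.normalizer_eq_top_iff.mp (hN ▸ hNtop)
    obtain ⟨f, hf⟩ := Cfsg.Agent.H6.exists_injective_perm_four (G := G)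
      (Or.inr (by rw [hGcard, hN1])) V hVcard (fun g hg => by
        have hg1 : Commute g z := (Subgroup.mem_centralizer_iff.mp hg z hzV).symm
        exact h.cent_a hg1 (Subgroup.mem_centralizer_iff.mp hg a haV).symm) (fun u hu v hv hu1 hv1 => by
        obtain ⟨g, hg⟩ := hVz u hu hu1
        obtain ⟨k, hk⟩ := hVz v hv hv1
        exact ⟨k * g⁻¹, by rw [← hg, ← hk]; group⟩)
    refine ⟨MulEquiv.ofBijective f ((Nat.bijective_iff_injective_and_card f).mpr ⟨hf, ?_⟩)⟩
    rw [hGcard, hN1, Nat.card_perm, Nat.card_fin]; rfl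
  right
  have hcore : N.normalCore = ⊥ := by
    rcases Nat.even_or_odd (Nat.card ↥N.normalCore) with he | ho
    · exfalso
      obtain ⟨u, hu⟩ := exists_prime_orderOf_dvd_card' (G := ↥N.normalCore) 2 he.two_dvd
      obtain ⟨Q, hQ⟩ := (IsPGroup.of_card (n := 1)
        (by rw [Nat.card_zpowers, Subgroup.orderOf_coe, hu, pow_one]) :
          IsPGroup 2 ↥(Subgroup.zpowers (u : G))).exists_le_sylow
      obtain ⟨k, hk⟩ := MulAction.exists_smul_eq G Q S
      have hm : k * u * k⁻¹ ∈ (S : Subgroup G) := by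
        rw [← hk]; exact ⟨_, hQ (Subgroup.mem_zpowers _), rfl⟩
      rw [hS] at hm
      obtain ⟨s, hsd⟩ : ∃ s, s = k * (u : G) * k⁻¹ := ⟨_, rfl⟩
      rw [← hsd] at hm
      have hsK : s ∈ N.normalCore := hsd ▸ N.normalCore_normal.conj_mem _ u.2 k
      have hs2 : orderOf s = 2 := by rw [hsd, oconj, Subgroup.orderOf_coe, hu]
      have hzK : z ∈ N.normalCore := by
        by_cases hsV : s ∈ V
        · obtain ⟨g, hg⟩ := hVz s hsV (fun e => by rw [e, orderOf_one] at hs2; omega)
          have := N.normalCore_normal.conj_mem s hsK g⁻¹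
          rwa [← hg, inv_inv, show g⁻¹ * (g * z * g⁻¹) * g = z by group] at this
        · have hsb : s * b ∈ V :=
            (h.list s (Subgroup.mem_centralizer_singleton_iff.mp hm)).resolve_left hsV
          -- `[a, s] = z`
          have hzc : a * s * a⁻¹ * s⁻¹ = z := by
            have hc : ∀ v ∈ V, Commute a v := by
              rintro v (e | e | e | e) <;> rw [e] <;>
                first
                | exact Commute.one_right a | exact h.ca | exact h.ca.mul_right (Commute.refl a)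
            have e1 : s = s * b * b := by rw [mul_assoc, hbb, mul_one]
            rw [e1, show a * (s * b * b) * a⁻¹ = (a * (s * b) * a⁻¹) * (a * b * a⁻¹) by group,
              h.aba, mul_inv_eq_iff_eq_mul.mpr (hc _ hsb).eq]
            have hcz : Commute (s * b) z := Subgroup.mem_centralizer_singleton_iff.mp (hVC hsb)
            calc s * b * (z * b) * (s * b * b)⁻¹ = (s * b * z) * (s * b)⁻¹ := by group
              _ = z := mul_inv_eq_iff_eq_mul.mpr hcz.eq.symm |> fun e => by rw [hcz.eq]; group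
          rw [← hzc]
          exact mul_mem (N.normalCore_normal.conj_mem s hsK a) (inv_mem hsK)
      -- all conjugates of `z` lie in `V`
      have hall : ∀ g : G, g * z * g⁻¹ ∈ V := by
        intro g
        have hm1 : g * z * g⁻¹ ∈ M := hMn.conj_mem z hzM g
        have hm2 : g * z * g⁻¹ ∈ N := N.normalCore_le (N.normalCore_normal.conj_mem z hzK g)
        obtain ⟨w, hwd⟩ : ∃ w, w = g * z * g⁻¹ := ⟨_, rfl⟩
        rw [← hwd] at hm1 hm2 ⊢
        have hw2 : w * w = 1 := sq_one_of_two (by rw [hwd, oconj, h.two])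
        have hwi : w⁻¹ = w := inv_eq_of_mul_eq_one_right hw2
        by_cases hwz : Commute w z
        · exact hCM w hwz hm1
        exfalso
        have hc2 : ∀ v ∈ V, w * (w * v * w⁻¹) * w⁻¹ = v := fun v _ => by
          rw [hwi, show w * (w * v * w) * w = w * w * v * (w * w) by group, hw2]; simp
        -- `w` fixes some involution of V
        obtain ⟨v, hv, hv1, hwv⟩ : ∃ v ∈ V, v ≠ 1 ∧ Commute w v := by
          have hne : w * z * w⁻¹ ≠ z := fun e => hwz (mul_inv_eq_iff_eq_mul.mp e)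
          rcases hfix w hm2 z hzV hz1 with e | e | e
          · exact absurd e hne
          · refine ⟨z * a, mul_mem hzV haV, hza1, mul_inv_eq_iff_eq_mul.mp ?_⟩
            have e2 : w * a * w⁻¹ = z := by rw [← e]; exact hc2 z hzV
            calc w * (z * a) * w⁻¹ = (w * z * w⁻¹) * (w * a * w⁻¹) := by group
              _ = z * a := by rw [e, e2, h.ca.eq]
          · refine ⟨a, haV, ha1, mul_inv_eq_iff_eq_mul.mp ?_⟩
            have e2 : w * (z * a) * w⁻¹ = z := by rw [← e]; exact hc2 z hzV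
            calc w * a * w⁻¹ = (w * z * w⁻¹) * (w * (z * a) * w⁻¹) := by
                  rw [show (w * z * w⁻¹) * (w * (z * a) * w⁻¹) = w * (z * z * a) * w⁻¹ by group, hzz,
                    one_mul]
              _ = a := by rw [e, e2, mul_assoc, h.ca.eq, ← mul_assoc, hzz, one_mul]
        obtain ⟨m, hm, hmz⟩ := hfus v (hVz v hv hv1)
        have hcm : m⁻¹ * w * m ∈ V := by
          refine hCM _ ?_ (mul_mem (mul_mem (inv_mem hm) hm1) hm)
          have := hwv.map (MulAut.conj m⁻¹).toMonoidHom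
          simp only [MulEquiv.coe_toMonoidHom, MulAut.conj_apply, inv_inv] at this
          rwa [show m⁻¹ * v * m = z by rw [← hmz]; group] at this
        -- `V` and its conjugate by m share `v`, so they are equal
        have hconj : ∀ u ∈ V, m * u * m⁻¹ ∈ V := by
          intro u hu
          by_contra hcon
          have hc1 : Commute (m * u * m⁻¹) v := by
            have := (show Commute u z from Subgroup.mem_centralizer_singleton_iff.mp (hVC hu)).map
              (MulAut.conj m).toMonoidHom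
            simp only [MulEquiv.coe_toMonoidHom, MulAut.conj_apply] at this
            rwa [hmz] at this
          have hv4 : ∀ y ∈ M, Commute y v → ∃ u ∈ V, y = m * u * m⁻¹ := fun y hy hyv => by
            refine ⟨m⁻¹ * y * m, hCM _ ?_ (mul_mem (mul_mem (inv_mem hm) hy) hm), by group⟩
            have := hyv.map (MulAut.conj m⁻¹).toMonoidHom
            simp only [MulEquiv.coe_toMonoidHom, MulAut.conj_apply, inv_inv] at this
            rwa [show m⁻¹ * v * m = z by rw [← hmz]; group] at this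
          let Vm := V.map (MulAut.conj m).toMonoidHom
          have hsub : V ≤ Vm := fun y hy => by
            have hvc : Commute y v := by
              rcases hy with rfl | rfl | rfl | rfl <;>
                rcases hv with rfl | rfl | rfl | rfl <;>
                first
                | exact Commute.one_left _
                | exact Commute.one_right _
                | exact Commute.refl _
                | exact h.ca
                | exact h.ca.symm
                | exact (Commute.refl _).mul_left h.ca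
                | exact ((Commute.refl _).mul_left h.ca).symm
                | exact h.ca.symm.mul_left (Commute.refl _)
                | exact (h.ca.symm.mul_left (Commute.refl _)).symm
            obtain ⟨t, ht, rfl⟩ := hv4 y (hVM hy) hvc
            exact ⟨t, ht, rfl⟩
          have heq := Subgroup.eq_of_le_of_card_ge hsub
            (by rw [Subgroup.card_map_of_injective (MulEquiv.injective _)])
          exact hcon (heq.symm ▸ ⟨u, hu, rfl⟩ : m * u * m⁻¹ ∈ V)
        have := hconj _ hcm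
        rw [show m * (m⁻¹ * w * m) * m⁻¹ = w by group] at this
        exact hwz (Subgroup.mem_centralizer_singleton_iff.mp (hVC this))
      refine hN1 (Subgroup.index_eq_one.mpr (eq_top_iff.mpr fun g _ => ?_))
      have hfwd : ∀ g t : G, t ∈ V → g * t * g⁻¹ ∈ V := by
        intro g t ht
        by_cases ht1 : t = 1
        · subst ht1; simp
        obtain ⟨k, hk⟩ := hVz t ht ht1
        rw [← hk, show g * (k * z * k⁻¹) * g⁻¹ = g * k * z * (g * k)⁻¹ by group]
        exact hall _
      rw [hN]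
      refine Subgroup.mem_normalizer_iff.mpr fun t => ⟨hfwd g t, fun ht => ?_⟩
      have := hfwd g⁻¹ _ ht
      rwa [inv_inv, show g⁻¹ * (g * t * g⁻¹) * g = t by group] at this
    · exact hcore _ ho
  have hker : Function.Injective (MulAction.toPermHom G (G ⧸ N)) := by
    rw [← MonoidHom.ker_eq_bot_iff, ← Subgroup.normalCore_eq_ker, hcore]
  have hdvd : Nat.card G ∣ N.index.factorial := by
    have h1 := Subgroup.card_dvd_of_injective _ hker
    rwa [Nat.card_perm] at h1
  rcases hle5 with e | e | e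
  · exact absurd e hN1
  · rw [hGcard, e] at hdvd
    norm_num [Nat.factorial] at hdvd
  obtain ⟨ee⟩ : Nonempty (G ⧸ N ≃ Fin 5) := ⟨(Finite.equivFin (G ⧸ N)).trans (finCongr (by
    rw [← Subgroup.index_eq_card, e]))⟩
  let φ : G →* Equiv.Perm (Fin 5) :=
    ee.permCongrHom.toMonoidHom.comp (MulAction.toPermHom G (G ⧸ N))
  refine ⟨MulEquiv.ofBijective φ ((Nat.bijective_iff_injective_and_card φ).mpr
    ⟨ee.permCongrHom.injective.comp hker, ?_⟩)⟩
  rw [hGcard, e, Nat.card_perm, Nat.card_fin]; rfl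

theorem zmod2_cube : ∀ r : ZMod 2, r ^ 3 = 1 → r = 1 := by decide

/-- Any simple group of order 168 is `SL₃(2)`. -/
theorem iso_sl32 [IsSimpleGroup G] (h : Nat.card G = 168) :
    Nonempty (G ≃* Matrix.SpecialLinearGroup (Fin 3) (ZMod 2)) := by
  have : Fact (Nat.Prime 2) := ⟨Nat.prime_two⟩
  have : Fact (Nat.Prime 7) := ⟨by norm_num⟩
  obtain ⟨e1⟩ := Cfsg.Agent.S0495.result (G := G) h (F := ZMod 7) (ZMod.card 7)
  obtain ⟨e2⟩ := Cfsg.Agent.S0255.result (F := ZMod 7) (K := ZMod 2) (ZMod.card 7) (ZMod.card 2)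
  have hc : Subgroup.center (Matrix.SpecialLinearGroup (Fin 3) (ZMod 2)) = ⊥ := by
    rw [eq_bot_iff]
    intro A hA
    rw [Subgroup.mem_bot]
    obtain ⟨r, hr, hrA⟩ := Matrix.SpecialLinearGroup.mem_center_iff.mp hA
    have hr1 : r = 1 := by
      rw [Fintype.card_fin] at hr
      exact zmod2_cube r hr
    refine Matrix.SpecialLinearGroup.ext _ _ fun i j => ?_
    rw [← hrA, hr1, map_one]; rfl
  exact ⟨(e1.trans e2).trans ((QuotientGroup.quotientMulEquivOfEq hc).trans QuotientGroup.quotientBot)⟩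

/-- Let G be a finite group with an involution z whose centralizer is dihedral of order 8. Then G = C_G(z) O(G) with O(G) the largest normal subgroup of odd order, or G is isomorphic to the symmetric group of degree 4, the symmetric group of degree 5, the group SL₃(2), or the alternating group of degree 6. -/
theorem result {G : Type*} [Group G] [Finite G] (z : G) (hz : orderOf z = 2)
    (hC : Nonempty (↥(Subgroup.centralizer ({z} : Set G)) ≃* DihedralGroup 4)) :
    Subgroup.centralizer ({z} : Set G) ⊔ Cfsg.oddCore G = ⊤ ∨ Nonempty (G ≃* Equiv.Perm (Fin 4)) ∨ Nonempty (G ≃* Equiv.Perm (Fin 5)) ∨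
      Nonempty (G ≃* Matrix.SpecialLinearGroup (Fin 3) (ZMod 2)) ∨ Nonempty (G ≃* ↥(alternatingGroup (Fin 6))) := by
  obtain ⟨e⟩ := hC
  obtain ⟨φ, hφ⟩ : ∃ φ : DihedralGroup 4 →* G,
      φ = (Subgroup.centralizer ({z} : Set G)).subtype.comp e.symm.toMonoidHom := ⟨_, rfl⟩
  have hinj : Function.Injective φ := hφ ▸ Subtype.val_injective.comp e.symm.injective
  have hrange : ∀ g : G, Commute g z → ∃ d, φ d = g := fun g hg =>
    ⟨e ⟨g, Subgroup.mem_centralizer_singleton_iff.mpr hg.eq⟩, by simp [hφ]⟩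
  have hmem : ∀ d, Commute (φ d) z := fun d => by
    rw [hφ]; exact Subgroup.mem_centralizer_singleton_iff.mp (e.symm d).2
  have hzr : z = φ (DihedralGroup.r 2) := by
    obtain ⟨d, hd⟩ := hrange z (Commute.refl z)
    have hc : ∀ d', d * d' = d' * d := fun d' => hinj (by
      rw [map_mul, map_mul, hd]; exact (hmem d').symm.eq)
    have hd1 : d ≠ 1 := fun e' => by rw [e', map_one] at hd; rw [← hd, orderOf_one] at hz; omega
    have key : ∀ d : DihedralGroup 4, (∀ d', d * d' = d' * d) → d ≠ 1 → d = DihedralGroup.r 2 := by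
      decide
    rw [← hd, key d hc hd1]
  have hlist : ∀ d : DihedralGroup 4,
      (d = 1 ∨ d = DihedralGroup.r 2 ∨ d = DihedralGroup.sr 0 ∨ d = DihedralGroup.r 2 * DihedralGroup.sr 0) ∨
      (d * DihedralGroup.sr 1 = 1 ∨ d * DihedralGroup.sr 1 = DihedralGroup.r 2 ∨
        d * DihedralGroup.sr 1 = DihedralGroup.sr 0 ∨
        d * DihedralGroup.sr 1 = DihedralGroup.r 2 * DihedralGroup.sr 0) := by decide
  have ho : ∀ i, orderOf (φ (DihedralGroup.sr i)) = 2 := fun i => by
    rw [orderOf_injective φ hinj, DihedralGroup.orderOf_sr]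
  have hd8 : D8 G z (φ (DihedralGroup.sr 0)) (φ (DihedralGroup.sr 1)) :=
    { two := hz
      ca := hmem _
      cb := hmem _
      oa := ho 0
      ob := ho 1
      aza := by rw [hzr]; exact fun h => absurd (hinj h) (by decide)
      bab := by rw [hzr, ← map_inv, ← map_mul, ← map_mul, ← map_mul]; congr 1
      bn := by
        rw [hzr, ← map_mul, ← map_one φ]
        exact ⟨fun h => absurd (hinj h) (by decide), fun h => absurd (hinj h) (by decide),
          fun h => absurd (hinj h) (by decide), fun h => absurd (hinj h) (by decide)⟩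
      list := fun g hg => by
        obtain ⟨d, rfl⟩ := hrange g hg
        rw [hzr]
        rcases hlist d with (h | h | h | h) | (h | h | h | h)
        · exact Or.inl (Or.inl (by rw [h, map_one]))
        · exact Or.inl (Or.inr (Or.inl (by rw [h])))
        · exact Or.inl (Or.inr (Or.inr (Or.inl (by rw [h]))))
        · exact Or.inl (Or.inr (Or.inr (Or.inr (by rw [h, map_mul]))))
        · exact Or.inr (Or.inl (by rw [← map_mul, h, map_one]))
        · exact Or.inr (Or.inr (Or.inl (by rw [← map_mul, h])))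
        · exact Or.inr (Or.inr (Or.inr (Or.inl (by rw [← map_mul, h]))))
        · exact Or.inr (Or.inr (Or.inr (Or.inr (by rw [← map_mul, h, map_mul]))))
      card := by rw [Nat.card_congr e.toEquiv, DihedralGroup.nat_card] }
  by_cases ha : ∃ g : G, g * z * g⁻¹ = φ (DihedralGroup.sr 0) <;>
    by_cases hb : ∃ g : G, g * z * g⁻¹ = φ (DihedralGroup.sr 1)
  · obtain ⟨ga, hga⟩ := ha
    obtain ⟨gb, hgb⟩ := hb
    obtain ⟨hs, h168 | h360⟩ := hd8.caseII hga hgb e
    · exact Or.inr (Or.inr (Or.inr (Or.inl (iso_sl32 h168))))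
    · exact Or.inr (Or.inr (Or.inr (Or.inr (Cfsg.Agent.S0497.result h360))))
  · obtain ⟨ga, hga⟩ := ha
    rcases hd8.caseIII hga (fun g h => hb ⟨g, h⟩) with h | h
    · exact Or.inr (Or.inl h)
    · exact Or.inr (Or.inr (Or.inl h))
  · obtain ⟨gb, hgb⟩ := hb
    rcases hd8.swap.caseIII hgb (fun g h => ha ⟨g, h⟩) with h | h
    · exact Or.inr (Or.inl h)
    · exact Or.inr (Or.inr (Or.inl h))
  · exact Or.inl (hd8.caseI (hd8.isolated (fun g h => ha ⟨g, h⟩) (fun g h => hb ⟨g, h⟩)))

end Cfsg.Agent.S3035
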