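import Cfsg.Statements.S1292
import Mathlib
import Cfsg.Agent.H52.CharP

set_option autoImplicit false
open Cfsg

namespace Cfsg.Agent.S1292

/-- Let G be a finite group such that F*(C_G(t)) = O_2(C_G(t)) for every involution t. Then F*(N_G(T)) = O_2(N_G(T)) for every nontrivial 2-subgroup T of G. -/
theorem result {G : Type*} [Group G] [Finite G] (h : ∀ t : G, orderOf t = 2 → Cfsg.generalizedFittingSubgroup ↥(Subgroup.centralizer ({t} : Set G)) = Cfsg.pCore 2 ↥(Subgroup.centralizer ({t} : Set G))) (T : Subgroup G) (hT : IsPGroup 2 ↥T) (hT1 : T ≠ ⊥) : Cfsg.generalizedFittingSubgroup ↥(Subgroup.normalizer (T : Set G)) = Cfsg.pCore 2 ↥(Subgroup.normalizer (T : Set G)) := by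
  haveI : Fact (Nat.Prime 2) := ⟨Nat.prime_two⟩
  rw [← H52.charP_iff_generalizedFitting]
  set M := Subgroup.normalizer (T : Set G) with hM
  set Q : Subgroup G := (Cfsg.pCore 2 ↥M).map M.subtype with hQdef
  have hQ : IsPGroup 2 ↥Q := (H19.pCore_isPGroup 2).map _
  have hTQ : T ≤ Q := H74.le_pCoreOf Subgroup.le_normalizer le_rfl hT
  haveI : Nontrivial ↥Q := (Subgroup.nontrivial_iff_ne_bot Q).mpr fun h => hT1 (le_bot_iff.mp (h ▸ hTQ))
  haveI := hQ.center_nontrivial
  obtain ⟨n, hn, hc⟩ := (hQ.to_subgroup (Subgroup.center ↥Q)).nontrivial_iff_card.mp inferInstance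
  obtain ⟨z, hz⟩ := exists_prime_orderOf_dvd_card' (G := ↥(Subgroup.center ↥Q)) 2
    (by rw [hc]; exact dvd_pow_self 2 (by omega))
  set t : G := ((z : ↥Q) : G) with ht_def
  have ht : orderOf t = 2 := by rw [ht_def, Subgroup.orderOf_coe, Subgroup.orderOf_coe]; exact hz
  set H := Subgroup.centralizer ({t} : Set G)
  have hQH : Q ≤ H := fun q hq => Subgroup.mem_centralizer_singleton_iff.mpr
    (congrArg Subtype.val (Subgroup.mem_center_iff.mp z.2 ⟨q, hq⟩))
  have hCH : Subgroup.centralizer (Q : Set G) ≤ H :=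
    Subgroup.centralizer_le (Set.singleton_subset_iff.mpr (z : ↥Q).2)
  have hCM : Subgroup.centralizer (Q : Set G) ≤ M :=
    (Subgroup.centralizer_le hTQ).trans (Subgroup.centralizer_le_normalizer _)
  have hMQ : M ≤ Subgroup.normalizer (Q : Set G) := H74.le_normalizer_pCoreOf M
  have hchar := H52.charP_iff_generalizedFitting.mpr (h t ht)
  have hN := (H74.charP_subgroup_iff _).mpr
    (H74.charP_normalizer hchar (B := Q.subgroupOf H) (hQ.comap_of_injective _ H.subtype_injective))
  set N := Subgroup.normalizer ((Q.subgroupOf H : Subgroup ↥H) : Set ↥H)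
  have hCN : (Subgroup.centralizer (Q : Set G)).subgroupOf H ≤ N := by
    intro x hx
    have h1 : (x : G) ∈ Subgroup.normalizer (Q : Set G) := Subgroup.centralizer_le_normalizer _ hx
    change x ∈ Subgroup.normalizer ((Q.subgroupOf H : Subgroup ↥H) : Set ↥H)
    rw [← Subgroup.subgroupOf_normalizer_eq hQH]
    exact h1
  have hC : Subgroup.centralizer (Cfsg.pCore 2 ↥((Subgroup.centralizer (Q : Set G)).subgroupOf H) :
      Set ↥((Subgroup.centralizer (Q : Set G)).subgroupOf H)) ≤ Cfsg.pCore 2 _ := by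
    refine H74.charP_of_normal_in hCN ?_ hN
    rw [Subgroup.normal_subgroupOf_iff_le_normalizer hCN]
    intro x hx
    rw [← Subgroup.subgroupOf_normalizer_eq hCH]
    change (x : G) ∈ Subgroup.normalizer ((Subgroup.centralizer (Q : Set G) : Subgroup G) : Set G)
    have h2 : (x : G) ∈ Subgroup.normalizer (Q : Set G) := by
      have h3 : x ∈ (Subgroup.normalizer (Q : Set G)).subgroupOf H := by
        rw [Subgroup.subgroupOf_normalizer_eq hQH]; exact hx
      exact h3
    exact H74.normalizer_le_normalizer_centralizer h2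
  have hC' := H74.charP_congr (Subgroup.subgroupOfEquivOfLe hCH) hC
  have hsub := (H74.charP_subgroup_iff _).mp hC'
  set CQ := Subgroup.centralizer (Q : Set G) with hCQdef
  have hR : Cfsg.pCoreOf 2 CQ ≤ Q := by
    haveI : (CQ.subgroupOf M).Normal := (Subgroup.normal_subgroupOf_iff_le_normalizer hCM).mpr
      (hMQ.trans H74.normalizer_le_normalizer_centralizer)
    refine le_trans (le_of_eq ?_) (Subgroup.map_mono (H19.map_pCore_le (p := 2) (CQ.subgroupOf M)))
    rw [← H74.pCore_map_mulEquiv (Subgroup.subgroupOfEquivOfLe hCM).symm, Subgroup.map_map, Subgroup.map_map]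
    rfl
  have key : M ⊓ Subgroup.centralizer (Q : Set G) ≤ Q :=
    le_trans (le_inf inf_le_right (inf_le_right.trans fun c hc => ?_)) (hsub.trans hR)
  · exact (H74.charP_subgroup_iff M).mpr key
  · rw [Subgroup.mem_centralizer_iff]
    intro r hr
    exact Subgroup.mem_centralizer_iff.mp hc r (hR hr)

end Cfsg.Agent.S1292
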