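import Cfsg.Statements.S4065
import Mathlib

set_option autoImplicit false
open Cfsg

namespace Cfsg.Agent.S4065

/-- Over a field of characteristic two the centralizer of a non-identity element of
`PSL₂` is commutative. -/
theorem centralizer_comm (n : ℕ)
    (y : Matrix.ProjectiveSpecialLinearGroup (Fin 2) (GaloisField 2 n)) (hy : y ≠ 1)
    (w z : Matrix.ProjectiveSpecialLinearGroup (Fin 2) (GaloisField 2 n))
    (hw : w ∈ Subgroup.centralizer {y}) (hz : z ∈ Subgroup.centralizer {y}) : w * z = z * w := by
  have hc : ∀ A : Matrix.SpecialLinearGroup (Fin 2) (GaloisField 2 n),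
      A ∈ Subgroup.center (Matrix.SpecialLinearGroup (Fin 2) (GaloisField 2 n)) ↔ A = 1 := by
    intro A
    refine ⟨fun h => ?_, fun h => h ▸ one_mem _⟩
    obtain ⟨r, hr, hA⟩ := Matrix.SpecialLinearGroup.mem_center_iff.1 h
    have hr2 : (r - 1) * (r - 1) = 0 := by
      have h2 : (2 : GaloisField 2 n) = 0 := CharTwo.two_eq_zero
      have hr' : r ^ 2 = 1 := by simpa using hr
      linear_combination hr' - (r - 1) * h2
    have hr1 : r = 1 := sub_eq_zero.1 (mul_self_eq_zero.1 hr2)
    exact Subtype.ext (by rw [← hA, hr1]; simp)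
  have lift : ∀ A B : Matrix.SpecialLinearGroup (Fin 2) (GaloisField 2 n),
      (QuotientGroup.mk A : Matrix.ProjectiveSpecialLinearGroup (Fin 2) (GaloisField 2 n)) *
        QuotientGroup.mk B = QuotientGroup.mk B * QuotientGroup.mk A → A * B = B * A := by
    intro A B h
    rw [← QuotientGroup.mk_mul, ← QuotientGroup.mk_mul] at h
    have := (hc _).1 (QuotientGroup.eq.1 h)
    exact inv_mul_eq_one.1 this
  obtain ⟨A, rfl⟩ := QuotientGroup.mk_surjective y
  obtain ⟨B, rfl⟩ := QuotientGroup.mk_surjective w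
  obtain ⟨C, rfl⟩ := QuotientGroup.mk_surjective z
  have hB := (congrArg Subtype.val (lift _ _ (Subgroup.mem_centralizer_singleton_iff.1 hw))).symm
  have hC := (congrArg Subtype.val (lift _ _ (Subgroup.mem_centralizer_singleton_iff.1 hz))).symm
  suffices hBC : B * C = C * B by
    show (QuotientGroup.mk B : Matrix.ProjectiveSpecialLinearGroup (Fin 2) (GaloisField 2 n)) *
        QuotientGroup.mk C = QuotientGroup.mk C * QuotientGroup.mk B
    rw [← QuotientGroup.mk_mul, ← QuotientGroup.mk_mul, hBC]
  apply Subtype.ext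
  simp only [Matrix.SpecialLinearGroup.coe_mul] at hB hC ⊢
  have hadet := A.det_coe
  set a : Matrix (Fin 2) (Fin 2) (GaloisField 2 n) := ↑A with ha
  set b : Matrix (Fin 2) (Fin 2) (GaloisField 2 n) := ↑B
  set c : Matrix (Fin 2) (Fin 2) (GaloisField 2 n) := ↑C
  have hns : a 0 1 ≠ 0 ∨ a 1 0 ≠ 0 ∨ a 0 0 - a 1 1 ≠ 0 := by
    by_contra h
    push Not at h
    obtain ⟨h1, h2, h3⟩ := h
    apply hy
    rw [QuotientGroup.eq_one_iff, hc]
    have hd : a 0 0 * a 0 0 = 1 := by
      rw [Matrix.det_fin_two, h1, zero_mul, sub_zero, ← sub_eq_zero.1 h3] at hadet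
      exact hadet
    have h0 : a 0 0 = 1 := by
      have h2' : (2 : GaloisField 2 n) = 0 := CharTwo.two_eq_zero
      have : (a 0 0 - 1) * (a 0 0 - 1) = 0 := by linear_combination hd - (a 0 0 - 1) * h2'
      exact sub_eq_zero.1 (mul_self_eq_zero.1 this)
    apply Subtype.ext
    ext i j
    fin_cases i <;> fin_cases j
    · simpa using h0
    · simpa using h1
    · simpa using h2
    · simpa [ha] using (sub_eq_zero.1 h3).symm.trans h0
  have B00 := congrFun (congrFun hB 0) 0
  have B01 := congrFun (congrFun hB 0) 1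
  have B10 := congrFun (congrFun hB 1) 0
  have C00 := congrFun (congrFun hC 0) 0
  have C01 := congrFun (congrFun hC 0) 1
  have C10 := congrFun (congrFun hC 1) 0
  simp only [Matrix.mul_apply, Fin.sum_univ_two] at B00 B01 B10 C00 C01 C10
  have k1 : b 0 1 * c 1 0 = b 1 0 * c 0 1 := by
    rcases hns with h | h | h
    · refine mul_left_cancel₀ h ?_
      linear_combination b 0 1 * C00 - c 0 1 * B00
    · refine mul_left_cancel₀ h ?_
      linear_combination b 1 0 * C00 - c 1 0 * B00
    · refine mul_left_cancel₀ h ?_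
      linear_combination c 1 0 * B01 + c 0 1 * B10 + (b 0 0 - b 1 1) * C00
  have k2 : b 0 1 * (c 0 0 - c 1 1) = c 0 1 * (b 0 0 - b 1 1) := by
    rcases hns with h | h | h
    · refine mul_left_cancel₀ h ?_
      linear_combination c 0 1 * B01 - b 0 1 * C01
    · refine mul_left_cancel₀ h ?_
      linear_combination b 0 1 * C10 + c 1 0 * B01 + (b 0 0 - b 1 1) * C00
    · refine mul_left_cancel₀ h ?_
      linear_combination (c 0 0 - c 1 1) * B01 - (b 0 0 - b 1 1) * C01
  have k3 : b 1 0 * (c 0 0 - c 1 1) = c 1 0 * (b 0 0 - b 1 1) := by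
    rcases hns with h | h | h
    · refine mul_left_cancel₀ h ?_
      linear_combination -b 1 0 * C01 - c 0 1 * B10 - (b 0 0 - b 1 1) * C00
    · refine mul_left_cancel₀ h ?_
      linear_combination b 1 0 * C10 - c 1 0 * B10
    · refine mul_left_cancel₀ h ?_
      linear_combination (b 0 0 - b 1 1) * C10 - (c 0 0 - c 1 1) * B10
  ext i j
  fin_cases i <;> fin_cases j <;> simp [Matrix.mul_apply, Fin.sum_univ_two]
  · linear_combination k1
  · linear_combination (-1 : GaloisField 2 n) * k2
  · linear_combination k3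
  · linear_combination (-1 : GaloisField 2 n) * k1

/-- Let F be a finite field with 2ⁿ elements, n ≥ 2. In PSL₂(F) the centralizer of every element meets each of its conjugates by elements outside its normalizer trivially. -/
theorem result (n : ℕ) (hn : 2 ≤ n)
    (x : Matrix.ProjectiveSpecialLinearGroup (Fin 2) (GaloisField 2 n)) :
    Cfsg.IsTISubset (Subgroup.centralizer ({x} : Set (Matrix.ProjectiveSpecialLinearGroup (Fin 2) (GaloisField 2 n))) :
      Set (Matrix.ProjectiveSpecialLinearGroup (Fin 2) (GaloisField 2 n))) := by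
  intro g hg a ha hga
  by_contra ha1
  apply hg
  have hxx : ∀ {y z : Matrix.ProjectiveSpecialLinearGroup (Fin 2) (GaloisField 2 n)},
      y ≠ 1 → z ∈ Subgroup.centralizer {y} → z ≠ 1 →
      Subgroup.centralizer {y} = Subgroup.centralizer {z} := by
    intro y z hy hz hz1
    ext w
    constructor
    · intro hw
      exact Subgroup.mem_centralizer_singleton_iff.2 (centralizer_comm n y hy w z hw hz)
    · intro hw
      refine Subgroup.mem_centralizer_singleton_iff.2 (centralizer_comm n z hz1 w y hw ?_)
      exact Subgroup.mem_centralizer_singleton_iff.2 (Subgroup.mem_centralizer_singleton_iff.1 hz).symm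
  by_cases hx : x = 1
  · subst hx
    have : Subgroup.centralizer ({1} : Set (Matrix.ProjectiveSpecialLinearGroup (Fin 2) (GaloisField 2 n))) = ⊤ := by
      rw [eq_top_iff]; intro w _; exact Subgroup.mem_centralizer_singleton_iff.2 (by simp)
    rw [this, Subgroup.mem_normalizer_iff]
    simp
  have hga1 : g * a * g⁻¹ ≠ 1 := by simpa using ha1
  have e1 := hxx hx ha ha1
  have e2 := hxx hx hga hga1
  rw [Subgroup.mem_normalizer_iff]
  intro h
  show h ∈ Subgroup.centralizer {x} ↔ g * h * g⁻¹ ∈ Subgroup.centralizer {x}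
  rw [e1]
  conv_rhs => rw [← e1, e2]
  rw [Subgroup.mem_centralizer_singleton_iff, Subgroup.mem_centralizer_singleton_iff]
  exact (Commute.conj_iff g).symm

end Cfsg.Agent.S4065
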