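import Cfsg.Statements.S0347
import Cfsg.Agent.H7.ZassKernel
import Cfsg.Agent.S1147
-- import your own Cfsg.Agent.* helpers here

set_option autoImplicit false
open Cfsg

namespace Cfsg.Agent.S0347

/-- If in a finite simple Zassenhaus group the stabiliser of a point `x` has a normal `2`-subgroup `U` which is
non-abelian and acts regularly on the points other than `x`, then the group is simple of Suzuki order (order-level
predicate `IsSuzuki`). -/
theorem result {G Ω : Type*} [Group G] [Finite G] [MulAction G Ω] [Finite Ω]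
    (hZ : Cfsg.IsZassenhausGroup G Ω) [IsSimpleGroup G]
    (x : Ω) (U : Subgroup G) (hUle : U ≤ MulAction.stabilizer G x) (hUn : (U.subgroupOf (MulAction.stabilizer G x)).Normal)
    (hU2 : IsPGroup 2 U) (hUna : ∃ u v : U, u * v ≠ v * u)
    (hreg : ∀ y z : Ω, y ≠ x → z ≠ x → ∃! u : U, (u : G) • y = z) :
    Cfsg.IsSuzuki G := by
  haveI := Fintype.ofFinite Ω
  have Z := Cfsg.Agent.H7.ZHyp.of_zassenhaus hZ
  obtain ⟨y, hy⟩ : ∃ y, y ≠ x := by
    obtain ⟨g, -, u, v, huv, -, -⟩ := Z.fix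
    by_cases h : u = x
    · exact ⟨v, fun e => huv (h.trans e.symm)⟩
    · exact ⟨u, h⟩
  have K := Cfsg.Agent.H7.ZK.of_normal hZ hy.symm hUle hUn hreg
  obtain ⟨u, v, huv⟩ := hUna
  obtain ⟨n, hn, hn1, hΩ, -, hd, -⟩ := Cfsg.Agent.S1147.result hZ hy.symm U hUle K.conj hreg hU2
    ⟨u, u.2, v, v.2, fun e => huv (Subtype.ext e)⟩
  obtain ⟨m, rfl⟩ := hn
  refine ⟨inferInstance, m, by omega, ?_⟩
  have hU := K.card_U
  rw [hΩ] at hU
  rw [K.card_group, hd, hΩ, show Nat.card U = 2 ^ (2 * (2 * m + 1)) by omega]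
  ring

end Cfsg.Agent.S0347
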