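import Cfsg.Statements.S2837
import Cfsg.Agent.H73.YMinimal

set_option autoImplicit false
open Cfsg
open scoped commutatorElement Pointwise

namespace Cfsg.Agent.S2837

/-- Let L be a finite group of characteristic p, L₀ a maximal subgroup, Y an elementary abelian p-subgroup of L₀ with L Y-minimal and O_p(L) ≤ N_L(Y). Put A = the normal closure of O_p(L) ∩ Y in L. Then for every g ∈ L outside L₀: Φ(A) = A' = [A ∩ Y, A] = [A ∩ Y, A ∩ gYg⁻¹] ≤ C_Y(L), and Y ∩ gYg⁻¹ = (A ∩ Y) ∩ (A ∩ gYg⁻¹) = C_Y(L) = C_A(L). -/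
theorem result {L : Type*} [Group L] [Finite L] {p : ℕ} [Fact p.Prime] (hchar : Subgroup.centralizer (Cfsg.pCore p L : Set L) ≤ Cfsg.pCore p L) (L₀ : Subgroup L) (hL₀ : IsCoatom L₀) (Y : Subgroup L) (hYL₀ : Y ≤ L₀) (hYel : Cfsg.IsElementaryAbelian p Y) (hmin : Cfsg.IsMinimalOver Y) (hOY : Cfsg.pCore p L ≤ Subgroup.normalizer (Y : Set L)) (A : Subgroup L) (hA : A = Subgroup.normalClosure (((Cfsg.pCore p L ⊓ Y : Subgroup L)) : Set L)) (g : L) (hg : g ∉ L₀) : (frattini ↥A).map A.subtype = ⁅A, A⁆ ∧ ⁅A, A⁆ = ⁅A ⊓ Y, A⁆ ∧ ⁅A ⊓ Y, A⁆ = ⁅A ⊓ Y, A ⊓ Y.map (MulAut.conj g).toMonoidHom⁆ ∧ ⁅A ⊓ Y, A⁆ ≤ Y ⊓ Subgroup.center L ∧ Y ⊓ Y.map (MulAut.conj g).toMonoidHom = Y ⊓ Subgroup.center L ∧ (A ⊓ Y) ⊓ (A ⊓ Y.map (MulAut.conj g).toMonoidHom) = Y ⊓ Subgroup.center L ∧ A ⊓ Subgroup.center L = Y ⊓ Subgroup.center L := by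
  obtain ⟨hYc, hYp⟩ := hYel
  have hYpg : IsPGroup p Y := fun y => ⟨1, Subtype.ext (by simpa using hYp y y.2)⟩
  have hcomm : ∀ a ∈ Y, ∀ b ∈ Y, a * b = b * a := fun a ha b hb =>
    congrArg Subtype.val (hYc.is_comm.comm ⟨a, ha⟩ ⟨b, hb⟩)
  have hOn : (pCore p L).Normal := H19.pCore_normal p L
  have hOp : IsPGroup p (pCore p L) := H19.pCore_isPGroup p
  set O := pCore p L with hO
  set cg := (MulAut.conj g).toMonoidHom with hcg
  set Y' := Y.map cg with hY'
  set B := O ⊓ Y with hB
  set B' := O ⊓ Y' with hB'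
  set Z := Y ⊓ Subgroup.center L with hZ
  have hYY' : Y ⊔ Y' = ⊤ := H73.sup_conj_eq_top_of_minimalOver hmin hL₀ hYL₀ hg
  have hZeq : Y ⊓ Y' = Z := H73.inf_conj_eq_inf_center hmin hL₀ hYL₀ hYc hg
  have hBmap : B.map cg = B' := by
    rw [hB, Subgroup.map_inf _ _ cg (MulAut.conj g).injective,
      show O.map cg = O from Subgroup.mem_normalizer_iff_map_conj_eq.1 (Subgroup.le_normalizer_of_normal (K := ⊤) (Subgroup.mem_top g))]
  have hcomm' : ∀ a ∈ Y', ∀ b ∈ Y', a * b = b * a := by
    rintro _ ⟨a, ha, rfl⟩ _ ⟨b, hb, rfl⟩; rw [← map_mul, ← map_mul, hcomm a ha b hb]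
  have hOY' : O ≤ Subgroup.normalizer (Y' : Set L) := fun x hx => by
    rw [hY', hcg, H73.mem_normalizer_conj_iff]
    exact hOY (by simpa using hOn.conj_mem x hx g⁻¹)
  -- `[B, Y'] ≤ B'` and `[B', Y] ≤ B`
  have key : ∀ (W : Subgroup L), O ≤ Subgroup.normalizer (W : Set L) → ∀ b ∈ O, ∀ w ∈ W,
      b * w * b⁻¹ * w⁻¹ ∈ O ⊓ W := by
    intro W hW b hb w hw
    refine Subgroup.mem_inf.2 ⟨?_, mul_mem ((Subgroup.mem_normalizer_iff.1 (hW hb) w).1 hw) (inv_mem hw)⟩
    have := mul_mem hb (hOn.conj_mem _ (inv_mem hb) w)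
    simpa [mul_assoc] using this
  have hYn : Y ≤ Subgroup.normalizer ((B ⊔ B' : Subgroup L) : Set L) := by
    rw [Subgroup.le_normalizer_iff]
    intro y hy x hx
    rw [Subgroup.sup_eq_closure] at hx
    induction hx using Subgroup.closure_induction with
    | mem b hb =>
      rcases hb with hb | hb
      · rw [hcomm y hy b hb.2, mul_inv_cancel_right]; exact Subgroup.mem_sup_left hb
      · have h1 := key Y hOY b hb.1 y hy
        have := mul_mem (Subgroup.mem_sup_left (T := B') (inv_mem h1)) (Subgroup.mem_sup_right (S := B) hb)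
        simpa [mul_assoc] using this
    | one => simp
    | mul a b _ _ iha ihb => have := mul_mem iha ihb; simpa [mul_assoc] using this
    | inv a _ ih => have := inv_mem ih; simpa [mul_assoc] using this
  have hY'n : Y' ≤ Subgroup.normalizer ((B ⊔ B' : Subgroup L) : Set L) := by
    rw [Subgroup.le_normalizer_iff]
    intro y hy x hx
    rw [Subgroup.sup_eq_closure] at hx
    induction hx using Subgroup.closure_induction with
    | mem b hb =>
      rcases hb with hb | hb
      · have h1 := key Y' hOY' b hb.1 y hy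
        have := mul_mem (Subgroup.mem_sup_right (S := B) (inv_mem h1)) (Subgroup.mem_sup_left (T := B') hb)
        simpa [mul_assoc] using this
      · rw [hcomm' y hy b hb.2, mul_inv_cancel_right]; exact Subgroup.mem_sup_right hb
    | one => simp
    | mul a b _ _ iha ihb => have := mul_mem iha ihb; simpa [mul_assoc] using this
    | inv a _ ih => have := inv_mem ih; simpa [mul_assoc] using this
  have hAn : A.Normal := hA ▸ inferInstance
  have hBA : B ≤ A := hA ▸ Subgroup.le_normalClosure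
  have hAO : A ≤ O := hA ▸ Subgroup.normalClosure_le_normal (SetLike.coe_subset_coe.2 inf_le_left)
  have hAeq : A = B ⊔ B' := by
    refine le_antisymm ?_ (sup_le hBA ?_)
    · have : (B ⊔ B').Normal := Subgroup.normalizer_eq_top_iff.1 (top_le_iff.1 (hYY' ▸ sup_le hYn hY'n))
      rw [hA]
      exact Subgroup.normalClosure_le_normal (SetLike.coe_subset_coe.2 le_sup_left)
    · rw [← hBmap]
      rintro _ ⟨b, hb, rfl⟩
      exact hAn.conj_mem b (hBA hb) g
  have hAY : A ⊓ Y = B := le_antisymm (inf_le_inf_right Y hAO) (le_inf hBA inf_le_right)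
  have hAY' : A ⊓ Y' = B' := le_antisymm (inf_le_inf_right Y' hAO) (le_inf (hAeq ▸ le_sup_right) inf_le_right)
  have hZO : Z ≤ O := by
    refine H19.le_pCore ⟨fun z hz x => ?_⟩ (hYpg.to_le inf_le_left)
    rw [Subgroup.mem_center_iff.1 hz.2 x, mul_inv_cancel_right]
    exact hz
  have hZB : Z ≤ B := le_inf hZO inf_le_left
  have hZB' : Z ≤ B' := le_inf hZO (hZeq ▸ inf_le_right)
  have hBB : ⁅B, B'⁆ ≤ Z := by
    rw [Subgroup.commutator_le]
    intro b hb b' hb'
    rw [← hZeq]
    refine Subgroup.mem_inf.2 ⟨?_, ?_⟩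
    · have := mul_mem hb.2 ((Subgroup.mem_normalizer_iff.1 (hOY hb'.1) _).1 (inv_mem hb.2))
      simpa [commutatorElement_def, mul_assoc] using this
    · exact (key Y' hOY' b hb.1 b' hb'.2).2
  have hZc : Z ≤ Subgroup.center L := inf_le_right
  set C := ⁅B, B'⁆ with hC
  have hCn : C.Normal := ⟨fun c hc x => by
    rw [Subgroup.mem_center_iff.1 (hZc (hBB hc)) x, mul_inv_cancel_right]; exact hc⟩
  -- `A / C` is elementary abelian
  have hAA : ⁅A, A⁆ ≤ C := by
    have hq : ∀ a ∈ A, ∀ b ∈ A, (a : L ⧸ C) * b = b * a := by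
      have hab : ∀ a ∈ B, ∀ b ∈ B', (a : L ⧸ C) * b = b * a := by
        intro a ha b hb
        rw [← QuotientGroup.mk_mul, ← QuotientGroup.mk_mul, QuotientGroup.eq]
        have := Subgroup.commutator_mem_commutator (inv_mem hb) (inv_mem ha)
        rw [Subgroup.commutator_comm] at this
        simpa [commutatorElement_def, mul_assoc] using this
      intro a ha b hb
      have hle : B ⊔ B' ≤ (Subgroup.centralizer ({(b : L ⧸ C)} : Set (L ⧸ C))).comap (QuotientGroup.mk' C) := by
        rw [hAeq] at hb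
        refine sup_le (fun x hx => ?_) (fun x hx => ?_) <;>
          refine Subgroup.mem_centralizer_singleton_iff.2 ?_ <;>
          refine (Subgroup.mem_centralizer_singleton_iff.1 ?_).symm
        · refine (sup_le (fun y hy => ?_) (fun y hy => ?_) : B ⊔ B' ≤
            (Subgroup.centralizer ({(x : L ⧸ C)} : Set (L ⧸ C))).comap (QuotientGroup.mk' C)) hb
          · exact Subgroup.mem_centralizer_singleton_iff.2 (by
              show (y : L ⧸ C) * x = x * y
              rw [← QuotientGroup.mk_mul, ← QuotientGroup.mk_mul, hcomm y hy.2 x hx.2])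
          · exact Subgroup.mem_centralizer_singleton_iff.2 (hab x hx y hy).symm
        · refine (sup_le (fun y hy => ?_) (fun y hy => ?_) : B ⊔ B' ≤
            (Subgroup.centralizer ({(x : L ⧸ C)} : Set (L ⧸ C))).comap (QuotientGroup.mk' C)) hb
          · exact Subgroup.mem_centralizer_singleton_iff.2 (hab y hy x hx)
          · exact Subgroup.mem_centralizer_singleton_iff.2 (by
              show (y : L ⧸ C) * x = x * y
              rw [← QuotientGroup.mk_mul, ← QuotientGroup.mk_mul, hcomm' y hy.2 x hx.2])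
      rw [hAeq] at ha
      exact Subgroup.mem_centralizer_singleton_iff.1 (hle ha)
    rw [Subgroup.commutator_le]
    intro a ha b hb
    rw [← QuotientGroup.eq_one_iff, ← QuotientGroup.mk'_apply, map_commutatorElement,
      commutatorElement_eq_one_iff_mul_comm]
    exact hq a ha b hb
  have hBBA : C ≤ ⁅A, A⁆ := Subgroup.commutator_mono hBA (hAeq ▸ le_sup_right)
  have hAAeq : ⁅A, A⁆ = C := le_antisymm hAA hBBA
  have hApow : ∀ a ∈ A, a ^ p ∈ C := by
    intro a ha
    rw [hAeq] at ha
    rw [Subgroup.sup_eq_closure] at ha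
    induction ha using Subgroup.closure_induction with
    | mem b hb =>
      rcases hb with hb | hb
      · rw [hYp b hb.2]; exact one_mem _
      · obtain ⟨y, hy, rfl⟩ := hb.2
        rw [← map_pow, hYp y hy, map_one]; exact one_mem _
    | one => simp
    | inv a _ ih => rw [inv_pow]; exact inv_mem ih
    | mul a b ha hb iha ihb =>
      rw [← QuotientGroup.eq_one_iff, QuotientGroup.mk_pow] at iha ihb ⊢
      have hc : Commute (a : L ⧸ C) b := by
        rw [Commute, SemiconjBy, ← commutatorElement_eq_one_iff_mul_comm,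
          ← QuotientGroup.mk'_apply, ← QuotientGroup.mk'_apply, ← map_commutatorElement,
          QuotientGroup.mk'_apply, QuotientGroup.eq_one_iff]
        rw [← Subgroup.sup_eq_closure] at ha hb
        exact hAA (Subgroup.commutator_mem_commutator (hAeq.ge ha) (hAeq.ge hb))
      rw [QuotientGroup.mk_mul, hc.mul_pow, iha, ihb, mul_one]
  have hAp : IsPGroup p A := hOp.to_le hAO
  have hfr : (frattini ↥A).map A.subtype = C := by
    refine le_antisymm ?_ ?_
    · rw [Subgroup.map_le_iff_le_comap]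
      refine H24.frattini_le_of (p := p) _ ?_ fun x => hApow x x.2
      rw [commutator_def, Subgroup.commutator_le]
      intro a _ b _
      exact hAA (Subgroup.commutator_mem_commutator a.2 b.2)
    · rw [← hAAeq, ← Subgroup.map_subtype_commutator]
      exact Subgroup.map_mono (H24.commutator_le_frattini hAp)
  rw [hAY, hAY', hfr, hAAeq]
  refine ⟨rfl, le_antisymm (Subgroup.commutator_mono le_rfl (hAeq ▸ le_sup_right))
      ((Subgroup.commutator_mono hBA le_rfl).trans hAA),
    le_antisymm ((Subgroup.commutator_mono hBA le_rfl).trans hAA)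
      (Subgroup.commutator_mono le_rfl (hAeq ▸ le_sup_right)),
    ((Subgroup.commutator_mono hBA le_rfl).trans hAA).trans hBB, hZeq, ?_, ?_⟩
  · exact le_antisymm ((inf_le_inf inf_le_right inf_le_right).trans hZeq.le) (le_inf hZB hZB')
  · refine le_antisymm (fun z hz => ?_) (le_inf (hZB.trans hBA) inf_le_right)
    refine Subgroup.mem_inf.2 ⟨?_, hz.2⟩
    have hset := Subgroup.coe_mul_of_left_le_normalizer_right B B' ((inf_le_left : B ≤ O).trans
      (le_trans (le_inf Subgroup.le_normalizer_of_normal hOY') Subgroup.inf_normalizer_le_normalizer_inf))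
    have hz1 : z ∈ (B : Set L) * (B' : Set L) := by rw [← hset]; exact (hAeq ▸ hz.1 : z ∈ B ⊔ B')
    obtain ⟨b, hb, b', hb', rfl⟩ := Set.mem_mul.1 hz1
    have h1 : b' ∈ Subgroup.center L := by
      refine H73.mem_center_of_minimalOver hmin hL₀ hYL₀ hg (fun y hy => ?_) fun y hy => hcomm' y hy b' hb'.2
      have h2 : y * (b * b') = (b * b') * y := Subgroup.mem_center_iff.1 hz.2 y
      rw [← mul_assoc, hcomm y hy b hb.2, mul_assoc, mul_assoc] at h2
      exact mul_left_cancel h2
    obtain ⟨y, hy, rfl⟩ := hb'.2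
    refine mul_mem hb.2 ?_
    have h3 := Subgroup.mem_center_iff.1 h1 g
    simp only [hcg, MulEquiv.coe_toMonoidHom, MulAut.conj_apply] at h3 ⊢
    have h4 : g * y * g⁻¹ = y := by
      have := congrArg (fun x => g⁻¹ * x) h3
      simpa [mul_assoc, eq_comm] using this
    rw [h4]; exact hy

end Cfsg.Agent.S2837
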