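import Cfsg.Statements.S3224
import Cfsg.Agent.H24.TwoMaxClass
import Cfsg.Agent.H29.QuaternionSq

set_option autoImplicit false
open Cfsg
open scoped commutatorElement

namespace Cfsg.Agent.S3224

/-- A finite 2-group containing an involution whose centralizer has order 4 is dihedral, quasi-dihedral (semidihedral), or of order 4. -/
theorem result {S : Type*} [Group S] [Finite S] (hS : IsPGroup 2 S)
    (x : S) (hx : orderOf x = 2) (hC : Nat.card ↥(Subgroup.centralizer ({x} : Set S)) = 4) :
    (∃ n : ℕ, Nonempty (S ≃* DihedralGroup n)) ∨ Cfsg.IsQuasiDihedral S ∨ Nat.card S = 4 := by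
  have : Fact (Nat.Prime 2) := ⟨Nat.prime_two⟩
  obtain ⟨k, hk⟩ := IsPGroup.iff_card.mp hS
  set C := Subgroup.centralizer ({x} : Set S) with hCdef
  have hx1 : x ≠ 1 := fun h => by rw [h, orderOf_one] at hx; omega
  rcases eq_or_ne (Nat.card S) 4 with h4 | h4
  · exact Or.inr (Or.inr h4)
  have hcomm : ¬ IsMulCommutative S := fun h => h4 (by
    rw [← hC, hCdef]
    have : Subgroup.centralizer ({x} : Set S) = ⊤ := (Subgroup.eq_top_iff' _).2 fun y =>
      Subgroup.mem_centralizer_singleton_iff.2 (h.is_comm.comm y x)
    rw [this, Subgroup.card_top])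
  -- the class of `x` lies in `x [S,S]`
  have hsize : C.index ≤ Nat.card (commutator S) := by
    let f : S ⧸ C → commutator S := fun q => ⟨⁅q.out, x⁆,
      Subgroup.commutator_mem_commutator (Subgroup.mem_top _) (Subgroup.mem_top _)⟩
    refine Nat.card_le_card_of_injective f fun a b h => ?_
    have h' : ⁅a.out, x⁆ = ⁅b.out, x⁆ := congrArg Subtype.val h
    rw [commutatorElement_def, commutatorElement_def] at h'
    rw [← QuotientGroup.out_eq' a, ← QuotientGroup.out_eq' b, QuotientGroup.eq,
      Subgroup.mem_centralizer_singleton_iff]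
    have h'' : a.out * x * a.out⁻¹ = b.out * x * b.out⁻¹ := mul_right_cancel h'
    calc a.out⁻¹ * b.out * x = a.out⁻¹ * (b.out * x * b.out⁻¹) * b.out := by group
      _ = a.out⁻¹ * (a.out * x * a.out⁻¹) * b.out := by rw [h'']
      _ = x * (a.out⁻¹ * b.out) := by group
  have hmulC := C.card_mul_index
  rw [hC] at hmulC
  have hmulD := (commutator S).card_mul_index
  obtain ⟨j, hj⟩ : ∃ j, (commutator S).index = 2 ^ j :=
    hS.index _
  have hne1 : (commutator S).index ≠ 1 := fun h => by
    rw [Subgroup.index_eq_one] at h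
    have := hS.isNilpotent
    have : Nontrivial S := ⟨⟨x, 1, hx1⟩⟩
    exact (Group.IsSolvable.commutator_lt_top_of_nontrivial S).ne h
  have hne2 : (commutator S).index ≠ 2 := fun h => by
    apply hcomm
    have hcyc : IsCyclic (S ⧸ commutator S) := isCyclic_of_prime_card (p := 2) h
    have := Agent.H24.isCyclic_of_quotient (commutator S) (Agent.H24.commutator_le_frattini hS)
    exact IsCyclic.isMulCommutative
  have hidx : (commutator S).index = 4 := by
    have hle : (commutator S).index ≤ 4 := by
      by_contra hgt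
      have h1 : C.index * 5 ≤ Nat.card (commutator S) * (commutator S).index :=
        Nat.mul_le_mul hsize (by omega)
      have : 0 < C.index := Nat.pos_of_ne_zero Subgroup.index_ne_zero_of_finite
      omega
    have : j ≤ 2 := by
      by_contra hj3
      have := Nat.pow_le_pow_right two_pos (show 3 ≤ j by omega)
      omega
    interval_cases j <;> omega
  have hk3 : 3 ≤ k := by
    have h := Nat.le_of_dvd Nat.card_pos (Subgroup.index_dvd_card (commutator S))
    rw [hidx, hk] at h
    rw [hk] at h4
    by_contra hk3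
    interval_cases k <;> omega
  rcases Agent.H24.two_group_max_class hk3 hk
      (fun {_} => (Agent.H24.two_group_commutator_index_four S k hk (by omega) hidx).2.1) with
    hd | ⟨m, ⟨e⟩⟩ | hq
  · exact Or.inl hd
  · exfalso
    apply h4
    rw [← hC, hCdef]
    have hm : NeZero m := ⟨fun h => by
      subst h
      have : Finite (QuaternionGroup 0) := Finite.of_equiv _ e.toEquiv
      have : Infinite (QuaternionGroup 0) := Infinite.of_injective (fun i : ℤ => QuaternionGroup.a i)
        fun a b h => QuaternionGroup.a.inj h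
      exact not_finite (QuaternionGroup 0)⟩
    have hinv : ∀ y : S, y ^ 2 = 1 → y ≠ 1 → y = x := by
      intro y hy hy1
      have e1 : ∀ w : S, w ^ 2 = 1 → w ≠ 1 → e w = QuaternionGroup.a (m : ZMod (2 * m)) := fun w hw hw1 =>
        (Agent.H29.quaternion_sq m (e w) (by rw [← map_pow, hw, map_one])).resolve_left fun h =>
          hw1 (e.injective (h.trans (map_one e).symm))
      exact e.injective ((e1 y hy hy1).trans (e1 x (hx ▸ pow_orderOf_eq_one x) hx1).symm)
    have : Subgroup.centralizer ({x} : Set S) = ⊤ := (Subgroup.eq_top_iff' _).2 fun y => by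
      rw [Subgroup.mem_centralizer_singleton_iff]
      refine (mul_inv_eq_iff_eq_mul.1 (hinv (y * x * y⁻¹) ?_ ?_))
      · rw [conj_pow, ← hx, pow_orderOf_eq_one, mul_one, mul_inv_cancel]
      · intro h; exact hx1 (conj_eq_one_iff.1 h)
    rw [this, Subgroup.card_top]
  · exact Or.inr (Or.inl hq)

end Cfsg.Agent.S3224
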