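import Cfsg.Statements.S0711
import Mathlib

set_option autoImplicit false
open Cfsg

namespace Cfsg.Agent.S0711

variable {α : Type*} [Fintype α] [DecidableEq α]

/-- A proper subset of the support closed up to one exit point. -/
theorem exists_path_set (g : Equiv.Perm α) : ∀ r, r < g.support.card →
    ∃ Q ⊆ g.support, Q.card = r ∧ ((∀ q ∈ Q, g q ∈ Q) ∨ ∃ z ∈ Q, g z ∉ Q ∧ ∀ q ∈ Q, q ≠ z → g q ∈ Q) := by
  intro r
  induction r with
  | zero => exact fun _ => ⟨∅, by simp, by simp, Or.inl (by simp)⟩
  | succ r ih =>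
    intro hr
    obtain ⟨Q, hQs, hQc, hQ⟩ := ih (by omega)
    rcases hQ with hcl | ⟨z, hz, hgz, hcl⟩
    · obtain ⟨w, hw, hwQ⟩ := Finset.exists_mem_notMem_of_card_lt_card (s := Q) (t := g.support) (by omega)
      refine ⟨insert w Q, Finset.insert_subset hw hQs, by rw [Finset.card_insert_of_notMem hwQ, hQc],
        Or.inr ⟨w, Finset.mem_insert_self _ _, ?_, fun q hq hne => ?_⟩⟩
      · rw [Finset.mem_insert, not_or]
        refine ⟨Equiv.Perm.mem_support.1 hw, fun h => ?_⟩
        have hsurj : Q.image g = Q := Finset.eq_of_subset_of_card_le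
          (fun y hy => by obtain ⟨q, hq, rfl⟩ := Finset.mem_image.1 hy; exact hcl q hq)
          (by rw [Finset.card_image_of_injective _ g.injective])
        rw [← hsurj, Finset.mem_image] at h
        obtain ⟨q, hq, e⟩ := h
        exact hwQ (g.injective e ▸ hq)
      · rw [Finset.mem_insert] at hq ⊢
        exact Or.inr (hcl q (hq.resolve_left hne))
    · refine ⟨insert (g z) Q, Finset.insert_subset (Equiv.Perm.apply_mem_support.2 (hQs hz)) hQs,
        by rw [Finset.card_insert_of_notMem hgz, hQc], ?_⟩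
      have hin : ∀ q ∈ Q, g q ∈ insert (g z) Q := fun q hq => by
        by_cases e : q = z
        · exact e ▸ Finset.mem_insert_self _ _
        · exact Finset.mem_insert_of_mem (hcl q hq e)
      by_cases hc : g (g z) ∈ insert (g z) Q
      · left
        intro q hq
        rcases Finset.mem_insert.1 hq with rfl | hq
        · exact hc
        · exact hin q hq
      · exact Or.inr ⟨g z, Finset.mem_insert_self _ _, hc, fun q hq hne =>
          hin q ((Finset.mem_insert.1 hq).resolve_left hne)⟩

/-- Realising a prescribed map on at most `k` points. -/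
theorem exists_map {G : Subgroup (Equiv.Perm α)} {k : ℕ} (hkn : k ≤ Fintype.card α)
    (hG : MulAction.IsMultiplyPretransitive G α k) (Q : Finset α) (hQ : Q.card ≤ k) (f : α → α)
    (hf : Set.InjOn f Q) : ∃ h ∈ G, ∀ q ∈ Q, h q = f q := by
  have hG' : MulAction.IsMultiplyPretransitive G α Q.card :=
    MulAction.isMultiplyPretransitive_of_le (n := k) hQ (by rw [Nat.card_eq_fintype_card]; exact hkn)
  let x : Fin Q.card ↪ α := Q.equivFin.symm.toEmbedding.trans (Function.Embedding.subtype _)
  let y : Fin Q.card ↪ α := ⟨fun i => f (x i), fun i j e => x.injective (hf (Q.equivFin.symm i).2 (Q.equivFin.symm j).2 e)⟩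
  obtain ⟨h, hh⟩ := MulAction.exists_smul_eq G x y
  refine ⟨h, h.2, fun q hq => ?_⟩
  have := DFunLike.congr_fun hh (Q.equivFin ⟨q, hq⟩)
  simpa [x, y] using! this

/-- The commutator bound: if `h` fixes `Q` then `g⁻¹ (h g h⁻¹)` moves few points. -/
theorem support_quot_le (g h : Equiv.Perm α) (Q E : Finset α) (hQs : Q ⊆ g.support) (hEQ : E ⊆ Q)
    (hE : ∀ q ∈ E, g q ∈ Q) (hfix : ∀ q ∈ Q, h q = q) (T : Finset α)
    (hT : (g.support \ Q).image h ⊆ T) :
    (g⁻¹ * (h * g * h⁻¹)).support ⊆ (g.support ∪ T) \ E := by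
  intro x hx
  rw [Finset.mem_sdiff, Finset.mem_union]
  rw [Equiv.Perm.mem_support] at hx
  refine ⟨?_, fun hxE => hx ?_⟩
  · by_contra hc
    push Not at hc
    apply hx
    have h1 : g x = x := Equiv.Perm.notMem_support.1 hc.1
    have h2 : g (h⁻¹ x) = h⁻¹ x := by
      by_contra h3
      have h4 : h (h⁻¹ x) = x := Equiv.apply_symm_apply h x
      by_cases h5 : h⁻¹ x ∈ Q
      · have h6 := hQs h5
        rw [hfix _ h5] at h4
        rw [h4] at h6
        exact hc.1 h6
      · exact hc.2 (hT (Finset.mem_image.2 ⟨_, Finset.mem_sdiff.2 ⟨Equiv.Perm.mem_support.2 h3, h5⟩, h4⟩))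
    show g⁻¹ (h (g (h⁻¹ x))) = x
    rw [h2, show h (h⁻¹ x) = x from Equiv.apply_symm_apply h x, Equiv.Perm.inv_def, Equiv.symm_apply_eq, h1]
  · show g⁻¹ (h (g (h⁻¹ x))) = x
    rw [show h⁻¹ x = x by rw [Equiv.Perm.inv_def, Equiv.symm_apply_eq, hfix x (hEQ hxE)], hfix _ (hE x hxE),
      Equiv.Perm.inv_def, Equiv.symm_apply_apply]

/-- One descent step. -/
theorem descent {G : Subgroup (Equiv.Perm α)} {k : ℕ} (hk : 3 ≤ k) (hkn : k ≤ Fintype.card α)
    (hG : MulAction.IsMultiplyPretransitive G α k) {g : Equiv.Perm α} (hg : g ∈ G)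
    (h4 : 4 ≤ g.support.card) (hs : g.support.card < 2 * k - 2) :
    ∃ u ∈ G, u ≠ 1 ∧ u.support.card < g.support.card := by
  set S := g.support with hS
  have hne_of : ∀ h : Equiv.Perm α, ∀ x, (h * g * h⁻¹) x ≠ g x → g⁻¹ * (h * g * h⁻¹) ≠ 1 := fun h x hx e => by
    rw [inv_mul_eq_one] at e
    exact hx (by rw [← e])
  have hmemG : ∀ h ∈ G, g⁻¹ * (h * g * h⁻¹) ∈ G := fun h hh =>
    mul_mem (inv_mem hg) (mul_mem (mul_mem hh hg) (inv_mem hh))
  have hconj : ∀ (h : Equiv.Perm α) (x : α), (h * g * h⁻¹) (h x) = h (g x) := fun h x => by simp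
  by_cases hall : S = Finset.univ
  · have hmn : S.card = Fintype.card α := by rw [hall, Finset.card_univ]
    by_cases hn5 : Fintype.card α = 4
    · have hk4 : k = 4 ∨ k = 3 := by omega
      rcases hk4 with rfl | rfl
      · obtain ⟨a, b, hab⟩ := Fintype.exists_pair_of_one_lt_card (show 1 < Fintype.card α by omega)
        obtain ⟨h, hh, hhq⟩ := exists_map hkn hG Finset.univ (by rw [Finset.card_univ]; omega) (Equiv.swap a b) (Equiv.injective _).injOn
        have he : h = Equiv.swap a b := Equiv.ext fun x => hhq x (Finset.mem_univ x)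
        exact ⟨h, hh, by rw [he]; exact fun e => hab (Equiv.swap_eq_one_iff.1 e), by rw [he, Equiv.Perm.card_support_swap hab]; omega⟩
      · omega
    obtain ⟨a, -⟩ := Finset.card_pos.1 (show 0 < S.card by omega)
    have hga : g a ≠ a := Equiv.Perm.mem_support.1 (by rw [← hS, hall]; exact Finset.mem_univ a)
    obtain ⟨x, -, hx⟩ := Finset.exists_mem_notMem_of_card_lt_card (s := ({a, g a, g⁻¹ a} : Finset α)) (t := Finset.univ)
      (by have : ({a, g a, g⁻¹ a} : Finset α).card ≤ 3 := Finset.card_le_three
          rw [Finset.card_univ]; omega)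
    obtain ⟨w, -, hw⟩ := Finset.exists_mem_notMem_of_card_lt_card (s := ({a, g a, x, g x} : Finset α)) (t := Finset.univ)
      (by have : ({a, g a, x, g x} : Finset α).card ≤ 4 := Finset.card_le_four
          rw [Finset.card_univ]; omega)
    simp only [Finset.mem_insert, Finset.mem_singleton, not_or] at hx hw
    have hgx : g x ≠ x := Equiv.Perm.mem_support.1 (by rw [← hS, hall]; exact Finset.mem_univ x)
    have hgxa : g x ≠ a := fun e => hx.2.2 (by rw [← e]; simp)
    have hgxga : g x ≠ g a := fun e => hx.1 (g.injective e)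
    obtain ⟨h, hh, hhq⟩ := exists_map hkn hG {a, g a, x, g x} (by
        have : ({a, g a, x, g x} : Finset α).card ≤ 4 := Finset.card_le_four
        omega)
      (fun y => if y = g x then w else y) (by
        intro y hy z hz e
        simp only [Finset.coe_insert, Finset.coe_singleton, Set.mem_insert_iff, Set.mem_singleton_iff] at hy hz
        simp only at e
        split_ifs at e with c1 c2 c2
        · exact c1.trans c2.symm
        · exact absurd e fun e' => by
            rcases hz with rfl | rfl | rfl | rfl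
            · exact hw.1 e'
            · exact hw.2.1 e'
            · exact hw.2.2.1 e'
            · exact c2 rfl
        · exact absurd e fun e' => by
            rcases hy with rfl | rfl | rfl | rfl
            · exact hw.1 e'.symm
            · exact hw.2.1 e'.symm
            · exact hw.2.2.1 e'.symm
            · exact c1 rfl
        · exact e)
    have h1 : h a = a := by rw [hhq a (by simp), if_neg hgxa.symm]
    have h2 : h (g a) = g a := by rw [hhq _ (by simp), if_neg hgxga.symm]
    have h3 : h x = x := by rw [hhq x (by simp), if_neg hgx.symm]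
    have h4' : h (g x) = w := by rw [hhq _ (by simp), if_pos rfl]
    refine ⟨_, hmemG h hh, hne_of h x (by rw [← h3, hconj, h4', h3]; exact hw.2.2.2), ?_⟩
    refine lt_of_lt_of_le (Finset.card_lt_univ_of_notMem (x := a) ?_) hmn.ge
    rw [Equiv.Perm.notMem_support]
    show g⁻¹ (h (g (h⁻¹ a))) = a
    rw [show h⁻¹ a = a by rw [Equiv.Perm.inv_def, Equiv.symm_apply_eq, h1], h2, Equiv.Perm.inv_def, Equiv.symm_apply_apply]
  obtain ⟨o, ho⟩ : ∃ o, o ∉ S := by
    by_contra h
    push Not at h
    exact hall (Finset.eq_univ_of_forall h)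
  by_cases hmk : S.card ≤ k
  · obtain ⟨x, hx⟩ := Finset.card_pos.1 (show 0 < S.card by omega)
    have hgx : g x ≠ x := Equiv.Perm.mem_support.1 hx
    obtain ⟨h, hh, hhq⟩ := exists_map hkn hG S hmk (fun y => if y = x then o else y) (by
      intro y hy z hz e
      have hy' : y ∈ S := hy
      have hz' : z ∈ S := hz
      simp only at e
      split_ifs at e with c1 c2 c2
      · exact c1.trans c2.symm
      · exact absurd (e ▸ hz') ho
      · exact absurd (e ▸ hy') ho
      · exact e)
    have hhx : h x = o := by rw [hhq x hx, if_pos rfl]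
    have hfix : ∀ q ∈ S.erase x, h q = q := fun q hq => by
      rw [hhq q (Finset.mem_of_mem_erase hq), if_neg (Finset.ne_of_mem_erase hq)]
    have hgo : g o = o := Equiv.Perm.notMem_support.1 ho
    have hne : (h * g * h⁻¹) o ≠ g o := by
      rw [hgo, ← hhx, hconj]
      intro e
      exact hgx (h.injective e)
    refine ⟨_, hmemG h hh, hne_of h o hne, ?_⟩
    let E := ((S.erase x).erase (g⁻¹ x))
    have hsub := support_quot_le g h (S.erase x) E (Finset.erase_subset _ _) (Finset.erase_subset _ _)
      (fun q hq => by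
        refine Finset.mem_erase.2 ⟨fun e => (Finset.mem_erase.1 hq).1 (by rw [← e]; simp), ?_⟩
        exact Equiv.Perm.apply_mem_support.2 (Finset.mem_of_mem_erase (Finset.mem_of_mem_erase hq)))
      hfix {o} (by
        intro y hy
        obtain ⟨z, hz, rfl⟩ := Finset.mem_image.1 hy
        obtain ⟨hzS, hzx⟩ := Finset.mem_sdiff.1 hz
        have : z = x := by by_contra c; exact hzx (Finset.mem_erase.2 ⟨c, hzS⟩)
        rw [this, hhx, Finset.mem_singleton])
    have hEsub : E ⊆ S ∪ {o} := (Finset.erase_subset _ _).trans ((Finset.erase_subset _ _).trans Finset.subset_union_left)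
    have hEc : S.card - 2 ≤ E.card := by
      have h1 := Finset.card_erase_of_mem hx
      have h2 := Finset.pred_card_le_card_erase (s := S.erase x) (a := g⁻¹ x)
      show S.card - 2 ≤ ((S.erase x).erase (g⁻¹ x)).card
      omega
    rw [← hS] at hsub
    have h1 := Finset.card_le_card hsub
    rw [Finset.card_sdiff_of_subset hEsub, Finset.card_union_of_disjoint (by simpa using ho), Finset.card_singleton] at h1
    omega
  obtain ⟨Q, hQs, hQc, hQ⟩ := exists_path_set g (k - 1) (show k - 1 < g.support.card by rw [← hS]; omega)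
  rw [← hS] at hQs
  have hbound : ∀ (h : Equiv.Perm α) (x y : α) (E : Finset α), E ⊆ Q → (∀ q ∈ E, g q ∈ Q) → (∀ q ∈ Q, h q = q) →
      x ∈ S → x ∉ Q → h x = y →
      (g⁻¹ * (h * g * h⁻¹)).support.card + E.card + (if y ∈ S then 1 else 0) + (k - 1) ≤ 2 * S.card := by
    intro h x y E hEQ hE hfix hx hxQ hxy
    have hsub := support_quot_le g h Q E hQs hEQ hE hfix _ (Finset.Subset.refl ((S \ Q).image h))
    rw [← hS] at hsub
    have h1 := Finset.card_le_card hsub
    rw [Finset.card_sdiff_of_subset ((hEQ.trans hQs).trans Finset.subset_union_left)] at h1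
    have h2 := Finset.card_union_add_card_inter S ((S \ Q).image h)
    have h3 : ((S \ Q).image h).card = S.card - (k - 1) := by
      rw [Finset.card_image_of_injective _ h.injective, Finset.card_sdiff_of_subset hQs, hQc]
    have h4 : (if y ∈ S then 1 else 0) ≤ (S ∩ (S \ Q).image h).card := by
      split_ifs with hy
      · exact Finset.card_pos.2 ⟨y, Finset.mem_inter.2 ⟨hy, Finset.mem_image.2 ⟨x, Finset.mem_sdiff.2 ⟨hx, hxQ⟩, hxy⟩⟩⟩
      · exact Nat.zero_le _
    have h5 := Finset.card_le_card (hEQ.trans (hQs.trans (Finset.subset_union_left (s₂ := (S \ Q).image h))))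
    omega
  have hmap : ∀ x y : α, x ∉ Q → y ∉ Q → ∃ h ∈ G, (∀ q ∈ Q, h q = q) ∧ h x = y := by
    intro x y hx hy
    obtain ⟨h, hh, hhq⟩ := exists_map hkn hG (insert x Q) (by rw [Finset.card_insert_of_notMem hx, hQc]; omega)
      (fun z => if z = x then y else z) (by
        intro z hz w hw e
        simp only [Finset.coe_insert, Set.mem_insert_iff, Finset.mem_coe] at hz hw
        simp only at e
        split_ifs at e with c1 c2 c2
        · exact c1.trans c2.symm
        · exact absurd (e ▸ hw.resolve_left c2) hy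
        · exact absurd (e ▸ hz.resolve_left c1) hy
        · exact e)
    exact ⟨h, hh, fun q hq => by rw [hhq q (Finset.mem_insert_of_mem hq), if_neg (fun e : q = x => hx (e ▸ hq))],
      by rw [hhq x (Finset.mem_insert_self _ _), if_pos rfl]⟩
  rcases hQ with hcl | ⟨z, hz, hgz, hcl⟩
  · obtain ⟨x, hx, hxQ⟩ := Finset.exists_mem_notMem_of_card_lt_card (s := Q) (t := S) (by omega)
    obtain ⟨h, hh, hfix, hxy⟩ := hmap x o hxQ (fun e => ho (hQs e))
    have hgo : g o = o := Equiv.Perm.notMem_support.1 ho
    refine ⟨_, hmemG h hh, hne_of h o ?_, ?_⟩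
    · rw [hgo, ← hxy, hconj]
      exact fun e => Equiv.Perm.mem_support.1 hx (h.injective e)
    · have := hbound h x o Q (Finset.Subset.refl _) hcl hfix hx hxQ hxy
      rw [if_neg ho] at this
      omega
  · have hx : g z ∈ S := Equiv.Perm.apply_mem_support.2 (hQs hz)
    obtain ⟨y, hy, hyQ⟩ := Finset.exists_mem_notMem_of_card_lt_card (s := insert (g z) Q) (t := S)
      (by rw [Finset.card_insert_of_notMem hgz]; omega)
    rw [Finset.mem_insert, not_or] at hyQ
    obtain ⟨h, hh, hfix, hxy⟩ := hmap (g z) y hgz hyQ.2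
    refine ⟨_, hmemG h hh, hne_of h z ?_, ?_⟩
    · conv_lhs => rw [← hfix z hz]
      rw [hconj, hxy]
      exact hyQ.1
    · have := hbound h (g z) y (Q.erase z) (Finset.erase_subset _ _)
        (fun q hq => hcl q (Finset.mem_of_mem_erase hq) (Finset.ne_of_mem_erase hq)) hfix hx hgz hxy
      rw [if_pos hy, Finset.card_erase_of_mem hz] at this
      omega


/-- A `k`-transitive permutation group (`k ≥ 3`) with a non-identity element of support smaller than `2k - 2` contains a non-identity element of support at most 3, and therefore contains the alternating group. -/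
theorem result {α : Type*} [Fintype α] [DecidableEq α] (G : Subgroup (Equiv.Perm α)) {k : ℕ} (hk : 3 ≤ k) (hkn : k ≤ Fintype.card α) (hG : MulAction.IsMultiplyPretransitive G α k) (g : Equiv.Perm α) (hg : g ∈ G) (hg1 : g ≠ 1) (hsupp : g.support.card < 2 * k - 2) : (∃ h : Equiv.Perm α, h ∈ G ∧ h ≠ 1 ∧ h.support.card ≤ 3) ∧ alternatingGroup α ≤ G := by
  have hmin : ∀ m (u : Equiv.Perm α), u.support.card = m → u ∈ G → u ≠ 1 → m < 2 * k - 2 →
      ∃ h : Equiv.Perm α, h ∈ G ∧ h ≠ 1 ∧ h.support.card ≤ 3 := by
    intro m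
    induction m using Nat.strong_induction_on with
    | _ m ih =>
      intro u hu huG hu1 hm
      by_cases h3 : m ≤ 3
      · exact ⟨u, huG, hu1, hu ▸ h3⟩
      obtain ⟨v, hv, hv1, hlt⟩ := descent hk hkn hG huG (by omega) (by omega)
      exact ih _ (by omega) v rfl hv hv1 (by omega)
  obtain ⟨h, hh, hh1, hh3⟩ := hmin _ g rfl hg hg1 hsupp
  refine ⟨⟨h, hh, hh1, hh3⟩, ?_⟩
  haveI : MulAction.IsMultiplyPretransitive G α 2 :=
    MulAction.isMultiplyPretransitive_of_le (n := k) (by omega) (by rw [Nat.card_eq_fintype_card]; exact hkn)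
  have hprim : MulAction.IsPreprimitive G α := MulAction.isPreprimitive_of_is_two_pretransitive this
  have h2le : 2 ≤ h.support.card := Equiv.Perm.two_le_card_support_of_ne_one hh1
  rcases (show h.support.card = 2 ∨ h.support.card = 3 by omega) with e | e
  · rw [Equiv.Perm.subgroup_eq_top_of_isPreprimitive_of_isSwap_mem hprim h (Equiv.Perm.card_support_eq_two.1 e) hh]
    exact le_top
  · exact Equiv.Perm.alternatingGroup_le_of_isPreprimitive_of_isThreeCycle_mem hprim (card_support_eq_three_iff.1 e) hh

end Cfsg.Agent.S0711
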