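import Cfsg.Statements.S3707
-- import your own Cfsg.Agent.* helpers here

set_option autoImplicit false
open Cfsg

namespace Cfsg.Agent.S3707

open Finset
open scoped Pointwise

variable {G Ω : Type*} [Group G] [MulAction G Ω]

/-- `s` is a Jordan set. -/
def IsJordan (G : Type*) [Group G] [MulAction G Ω] (s : Finset Ω) : Prop :=
  ∀ x ∈ s, ∀ y ∈ s, ∃ g : G, (∀ z ∉ s, g • z = z) ∧ g • x = y

theorem IsJordan.smul [DecidableEq Ω] {s : Finset Ω} (h : IsJordan G s) (g : G) :
    IsJordan G (g • s) := by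
  intro x hx y hy
  rw [← Finset.inv_smul_mem_iff] at hx hy
  obtain ⟨k, hk, hkx⟩ := h _ hx _ hy
  refine ⟨g * k * g⁻¹, fun z hz => ?_, ?_⟩
  · rw [← Finset.inv_smul_mem_iff] at hz
    rw [mul_smul, mul_smul, hk _ hz, smul_inv_smul]
  · rw [mul_smul, mul_smul, hkx, smul_inv_smul]

/-- Transitivity of the fixing subgroup of the complement of a Jordan set. -/
theorem IsJordan.isPretransitive {s : Finset Ω} (h : IsJordan G s) :
    MulAction.IsPretransitive (fixingSubgroup G (↑s : Set Ω)ᶜ)
      (SubMulAction.ofFixingSubgroup G (↑s : Set Ω)ᶜ) := by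
  constructor
  rintro ⟨x, hx⟩ ⟨y, hy⟩
  rw [SubMulAction.mem_ofFixingSubgroup_iff, Set.mem_compl_iff, not_not] at hx hy
  obtain ⟨g, hg, hgx⟩ := h x hx y hy
  exact ⟨⟨g, (mem_fixingSubgroup_iff G).mpr fun z hz => hg z hz⟩, Subtype.ext hgx⟩

/-- Let G be a finite primitive permutation group on Ω of degree n and Γ ⊂ Ω a subset with 1 < #Γ ≤ n/2 such that the pointwise stabilizer of Ω ∖ Γ is transitive on Γ. Then G is 3-transitive on Ω. -/
theorem result {G Ω : Type*} [Group G] [Finite G] [MulAction G Ω] [FaithfulSMul G Ω] [Finite Ω] (hprim : MulAction.IsPreprimitive G Ω) (Γ : Set Ω) (h1 : 1 < Γ.ncard) (h2 : 2 * Γ.ncard ≤ Nat.card Ω) (htr : ∀ x ∈ Γ, ∀ y ∈ Γ, ∃ g : G, (∀ z ∉ Γ, g • z = z) ∧ g • x = y) : MulAction.IsMultiplyPretransitive G Ω 3 := by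
  classical
  haveI : Fintype Ω := Fintype.ofFinite Ω
  haveI := hprim
  obtain ⟨Γ, rfl⟩ : ∃ F : Finset Ω, Γ = ↑F := ⟨Γ.toFinset, Γ.coe_toFinset.symm⟩
  rw [Set.ncard_coe_finset] at h1 h2
  rw [Nat.card_eq_fintype_card] at h2
  have hJ : IsJordan G Γ := htr
  set n := Fintype.card Ω with hn
  set m := Γ.card with hm
  have hG2 : MulAction.IsMultiplyPretransitive G Ω 2 :=
    hprim.is_two_pretransitive (s := (↑Γ : Set Ω)ᶜ) (n := n - m - 1)
      (by rw [← Finset.coe_compl, Set.ncard_coe_finset, Finset.card_compl]; omega)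
      (by rw [Nat.card_eq_fintype_card]; omega) hJ.isPretransitive
  haveI := hG2
  haveI : MulAction.IsPretransitive G Ω := hprim.toIsPretransitive
  obtain ⟨a, haΓ⟩ : ∃ a, a ∉ Γ := by
    by_contra hc
    push Not at hc
    have := Finset.card_le_card (fun x _ => hc x : (univ : Finset Ω) ⊆ Γ)
    rw [Finset.card_univ] at this
    omega
  let 𝒯 : Finset (Finset Ω) := univ.filter fun s => ∃ g : G, g • Γ = s
  have hT : ∀ s ∈ 𝒯, IsJordan G s ∧ s.card = m := fun s hs => by
    obtain ⟨g, rfl⟩ := (Finset.mem_filter.mp hs).2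
    exact ⟨hJ.smul g, Finset.card_smul_finset g Γ⟩
  have hTg : ∀ (g : G) s, g • s ∈ 𝒯 ↔ s ∈ 𝒯 := fun g s => by
    simp only [𝒯, mem_filter, mem_univ, true_and]
    exact ⟨fun ⟨k, hk⟩ => ⟨g⁻¹ * k, by rw [mul_smul, hk, inv_smul_smul]⟩,
      fun ⟨k, hk⟩ => ⟨g * k, by rw [mul_smul, hk]⟩⟩
  let P : Ω → Ω → ℕ := fun x y => #{s ∈ 𝒯 | x ∈ s ∧ y ∈ s}
  have hP : ∀ x y x' y', x ≠ y → x' ≠ y' → P x y = P x' y' := by
    intro x y x' y' h h'
    obtain ⟨g, rfl, rfl⟩ := MulAction.is_two_pretransitive_iff.mp hG2 h h'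
    exact Finset.card_equiv (MulAction.toPerm g) (by
      intro s
      simp only [mem_filter, MulAction.toPerm_apply, hTg, Finset.smul_mem_smul_finset_iff])
  obtain ⟨u, hu, v, hv, huv⟩ := Finset.one_lt_card.mp h1
  set L := P u v with hL
  have hPL : ∀ x y, x ≠ y → P x y = L := fun x y h => hP x y u v h huv
  have hL0 : 0 < L :=
    Finset.card_pos.mpr ⟨Γ, by simp only [mem_filter, 𝒯, mem_univ, true_and];
                               exact ⟨⟨1, one_smul G Γ⟩, hu, hv⟩⟩
  haveI hprimA : MulAction.IsPreprimitive (MulAction.stabilizer G a)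
      (SubMulAction.ofStabilizer G a) := by
    haveI : MulAction.IsPretransitive (MulAction.stabilizer G a) (SubMulAction.ofStabilizer G a) :=
      MulAction.is_one_pretransitive_iff.mp (SubMulAction.ofStabilizer.isMultiplyPretransitive.mp hG2)
    refine { isTrivialBlock_of_isBlock := ?_ }
    intro B hB
    by_contra hnt
    rw [MulAction.IsTrivialBlock, not_or, Set.not_subsingleton_iff] at hnt
    obtain ⟨⟨p, hp, q, hq, hpq⟩, hBu⟩ := hnt
    let B' : Finset Ω := (Subtype.val '' B).toFinset
    have hB'm : ∀ x, x ∈ B' ↔ ∃ h : x ≠ a, (⟨x, h⟩ : SubMulAction.ofStabilizer G a) ∈ B := fun x => by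
      simp only [B', Set.mem_toFinset, Set.mem_image]
      exact ⟨fun ⟨y, hy, e⟩ => e ▸ ⟨y.2, hy⟩, fun ⟨h, hy⟩ => ⟨_, hy, rfl⟩⟩
    have haB : a ∉ B' := fun h => ((hB'm a).mp h).1 rfl
    have hblock : ∀ g ∈ MulAction.stabilizer G a, ∀ x ∈ B', g • x ∈ B' → g • B' = B' := by
      intro g hg x hx hgx
      obtain ⟨hxa, hxB⟩ := (hB'm x).mp hx
      obtain ⟨hgxa, hgxB⟩ := (hB'm _).mp hgx
      let g' : MulAction.stabilizer G a := ⟨g, hg⟩
      have heq : g' • B = B := by
        by_contra hne
        have := hB (g₁ := g') (g₂ := 1) (by rwa [one_smul])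
        rw [one_smul] at this
        exact Set.disjoint_left.mp this ⟨⟨x, hxa⟩, hxB, Subtype.ext rfl⟩ hgxB
      refine Finset.eq_of_subset_of_card_le ?_ (by rw [Finset.card_smul_finset])
      intro y hy
      obtain ⟨z, hz, rfl⟩ := Finset.mem_smul_finset.mp hy
      obtain ⟨hza, hzB⟩ := (hB'm z).mp hz
      have : g' • (⟨z, hza⟩ : SubMulAction.ofStabilizer G a) ∈ B := by
        rw [← heq]; exact Set.smul_mem_smul_set hzB
      exact (hB'm _).mpr ⟨(g' • (⟨z, hza⟩ : SubMulAction.ofStabilizer G a)).2, this⟩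
    have hdich : ∀ s ∈ 𝒯, a ∉ s → ∀ g ∈ MulAction.stabilizer G a,
        Disjoint s (g • B') ∨ s ⊆ g • B' ∨ g • B' ⊆ s := by
      intro s hs has g hg
      by_contra hc
      rw [not_or, not_or, Finset.not_disjoint_iff, Finset.not_subset, Finset.not_subset] at hc
      obtain ⟨⟨x, hx, hxB⟩, ⟨r, hr, hrB⟩, ⟨y, hyB, hy⟩⟩ := hc
      obtain ⟨k, hk, hkx⟩ := (hT s hs).1 x hx r hr
      have hka : k ∈ MulAction.stabilizer G a := hk a has
      rw [← Finset.inv_smul_mem_iff] at hxB hyB
      have hmem : g⁻¹ * k * g ∈ MulAction.stabilizer G a :=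
        mul_mem (mul_mem (inv_mem hg) hka) hg
      have := hblock _ hmem _ hyB (by rw [mul_smul, mul_smul, smul_inv_smul, hk y hy]; exact hyB)
      apply hrB
      rw [← Finset.inv_smul_mem_iff, ← this]
      refine Finset.mem_smul_finset.mpr ⟨_, hxB, ?_⟩
      rw [mul_smul, mul_smul, smul_inv_smul, hkx]
    have hpB : (p : Ω) ∈ B' := (hB'm _).mpr ⟨p.2, hp⟩
    have hqB : (q : Ω) ∈ B' := (hB'm _).mpr ⟨q.2, hq⟩
    have hpq' : (p : Ω) ≠ q := fun e => hpq (Subtype.ext e)
    have hdich' : ∀ s ∈ 𝒯, a ∉ s → (p : Ω) ∈ s → s ⊆ B' ∨ B' ⊆ s := by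
      intro s hs has hps
      have := hdich s hs has 1 (one_mem _)
      rw [one_smul] at this
      exact this.resolve_left fun h => Finset.disjoint_left.mp h hps hpB
    rcases le_or_gt B'.card m with hk | hk
    · -- blocks are contained in the Jordan sets meeting them
      have hsub : ∀ s ∈ 𝒯, a ∉ s → (p : Ω) ∈ s → (q : Ω) ∈ s := by
        intro s hs has hps
        rcases hdich' s hs has hps with h | h
        · rw [Finset.eq_of_subset_of_card_le h (by rw [(hT s hs).2]; exact hk)]; exact hqB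
        · exact h hqB
      let A := 𝒯.filter fun s => (p : Ω) ∈ s
      have hA : A.card ≤ 2 * L := by
        have : A ⊆ ({s ∈ 𝒯 | (p : Ω) ∈ s ∧ a ∈ s}) ∪ ({s ∈ 𝒯 | (p : Ω) ∈ s ∧ (q : Ω) ∈ s}) := by
          intro s hs
          simp only [A, mem_filter] at hs
          simp only [mem_union, mem_filter]
          by_cases has : a ∈ s
          · exact Or.inl ⟨hs.1, hs.2, has⟩
          · exact Or.inr ⟨hs.1, hs.2, hsub s hs.1 has hs.2⟩
        refine (Finset.card_le_card this).trans ((Finset.card_union_le _ _).trans ?_)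
        show P p a + P p q ≤ 2 * L
        rw [hPL _ _ p.2, hPL _ _ hpq']
        omega
      have hsum : (n - 1) * L = A.card * (m - 1) := by
        have e1 : ∑ y ∈ univ.erase (p : Ω), P p y = (n - 1) * L := by
          rw [Finset.sum_congr rfl fun y hy => hPL _ _ (Finset.ne_of_mem_erase hy).symm,
            Finset.sum_const, Finset.card_erase_of_mem (Finset.mem_univ _), Finset.card_univ,
            smul_eq_mul]
        rw [← e1]
        have : ∀ y, P p y = #{s ∈ A | y ∈ s} := fun y => by
          simp only [P, A, Finset.filter_filter]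
        simp only [this, Finset.card_filter]
        rw [Finset.sum_comm]
        refine (Finset.sum_const_nat fun s hs => ?_)
        simp only [A, mem_filter] at hs
        rw [← Finset.card_filter]
        have : (univ.erase (p : Ω)).filter (fun y => y ∈ s) = s.erase (p : Ω) := by
          ext y; simp [and_comm]
        rw [this, Finset.card_erase_of_mem hs.2, (hT s hs.1).2]
      have := Nat.mul_le_mul_right (m - 1) hA
      rw [← hsum, mul_comm 2 L, mul_assoc, mul_comm (n - 1) L] at this
      have := Nat.le_of_mul_le_mul_left this hL0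
      omega
    · -- Jordan sets avoiding `a` lie inside blocks
      let O : Finset Ω := (univ \ B').erase a
      have hO : B'.card ≤ O.card := by
        obtain ⟨z, hz⟩ := (Set.ne_univ_iff_exists_notMem B).mp hBu
        obtain ⟨g, hg⟩ := MulAction.exists_smul_eq (MulAction.stabilizer G a) p z
        have hgz : (g : G) • (p : Ω) = (z : Ω) := congrArg Subtype.val hg
        rw [← Finset.card_smul_finset (g : G) B']
        refine Finset.card_le_card fun y hy => ?_
        obtain ⟨x, hx, rfl⟩ := Finset.mem_smul_finset.mp hy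
        refine Finset.mem_erase.mpr ⟨fun e => ?_, ?_⟩
        · have : x = a := by
            rw [← inv_smul_smul (g : G) x, e]
            exact MulAction.mem_stabilizer_iff.mp (inv_mem g.2)
          exact haB (this ▸ hx)
        · refine Finset.mem_sdiff.mpr ⟨Finset.mem_univ _, fun hy' => ?_⟩
          have := hblock _ g.2 x hx hy'
          have hzB : (z : Ω) ∈ B' := by
            rw [← this, ← hgz]; exact Finset.smul_mem_smul_finset hpB
          exact hz ((hB'm _).mp hzB).2
      let A := 𝒯.filter fun s => (p : Ω) ∈ s ∧ a ∈ s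
      have hle : ∀ y ∈ O, L ≤ #{s ∈ A | y ∈ s} := by
        intro y hy
        simp only [O, mem_erase, mem_sdiff, mem_univ, true_and] at hy
        rw [← hPL p y fun e => hy.2 (e ▸ hpB)]
        refine Finset.card_le_card fun s hs => ?_
        simp only [mem_filter] at hs
        simp only [A, mem_filter]
        refine ⟨⟨hs.1, hs.2.1, ?_⟩, hs.2.2⟩
        by_contra has
        rcases hdich' s hs.1 has hs.2.1 with h | h
        · exact hy.2 (h hs.2.2)
        · have := Finset.card_le_card h
          rw [(hT s hs.1).2] at this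
          omega
      have hsum := Finset.card_nsmul_le_sum O _ L hle
      have hbound : ∑ y ∈ O, #{s ∈ A | y ∈ s} ≤ A.card * (m - 2) := by
        simp only [Finset.card_filter]
        rw [Finset.sum_comm, ← smul_eq_mul, ← Finset.sum_const]
        refine Finset.sum_le_sum fun s hs => ?_
        simp only [A, mem_filter] at hs
        rw [← Finset.card_filter]
        have hsub : O.filter (fun y => y ∈ s) ⊆ (s.erase (p : Ω)).erase a := by
          intro y hy
          simp only [O, mem_filter, mem_erase, mem_sdiff, mem_univ, true_and] at hy ⊢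
          exact ⟨hy.1.1, fun e => hy.1.2 (e ▸ hpB), hy.2⟩
        refine (Finset.card_le_card hsub).trans ?_
        rw [Finset.card_erase_of_mem (Finset.mem_erase.mpr ⟨fun e => p.2 e.symm, hs.2.2⟩),
          Finset.card_erase_of_mem hs.2.1, (hT s hs.1).2]
        omega
      have hA : A.card = L := hPL _ _ p.2
      rw [smul_eq_mul] at hsum
      rw [hA, mul_comm L] at hbound
      have := Nat.le_of_mul_le_mul_right (hsum.trans hbound) hL0
      omega
  rw [SubMulAction.ofStabilizer.isMultiplyPretransitive (a := a)]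
  let t : Set (SubMulAction.ofStabilizer G a) := {x | (x : Ω) ∉ Γ}
  have hcard : t.ncard = n - 1 - m := by
    rw [← Set.ncard_image_of_injective t Subtype.val_injective]
    have : Subtype.val '' t = ↑((univ \ Γ).erase a) := by
      ext x
      constructor
      · rintro ⟨y, hy, rfl⟩
        simpa [t] using ⟨hy, (y.2 : (y : Ω) ≠ a)⟩
      · intro hx
        simp at hx
        exact ⟨⟨x, hx.2⟩, hx.1, rfl⟩
    rw [this, Set.ncard_coe_finset, Finset.card_erase_of_mem (by simp [haΓ]),
      Finset.card_univ_sdiff]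
    omega
  have hcardA : Nat.card (SubMulAction.ofStabilizer G a) + 1 = n := by
    rw [SubMulAction.nat_card_ofStabilizer_add_one_eq, Nat.card_eq_fintype_card]
  refine hprimA.is_two_pretransitive (s := t) (n := n - m - 2) (by omega) (by omega) ?_
  constructor
  rintro ⟨x, hx⟩ ⟨y, hy⟩
  rw [SubMulAction.mem_ofFixingSubgroup_iff] at hx hy
  simp only [t, Set.mem_ofPred_eq, not_not] at hx hy
  obtain ⟨g, hg, hgx⟩ := hJ _ hx _ hy
  exact ⟨⟨⟨g, hg a haΓ⟩, (mem_fixingSubgroup_iff _).mpr fun z hz => Subtype.ext (hg _ hz)⟩,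
    Subtype.ext (Subtype.ext hgx)⟩

end Cfsg.Agent.S3707
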