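import Cfsg.Statements.S3866
import Mathlib

set_option autoImplicit false
open Cfsg
open scoped commutatorElement

namespace Cfsg.Agent.S3866

/-- Let A be a commutative normal subgroup of the finite group G with G generated by A and an element x. Then a ↦ x a x⁻¹ a⁻¹ is a surjective homomorphism from A onto the commutator subgroup of G whose kernel is the centralizer of x in A; in particular the commutator subgroup has order equal to the index in A of that centralizer. -/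
theorem result {G : Type*} [Group G] [Finite G] (A : Subgroup G) [A.Normal] (hA : IsMulCommutative A) (x : G) (hgen : A ⊔ Subgroup.zpowers x = ⊤) : (∀ a ∈ A, x * a * x⁻¹ * a⁻¹ ∈ commutator G) ∧ (∀ c ∈ commutator G, ∃ a ∈ A, x * a * x⁻¹ * a⁻¹ = c) ∧ (∀ a ∈ A, ∀ b ∈ A, x * (a * b) * x⁻¹ * (a * b)⁻¹ = (x * a * x⁻¹ * a⁻¹) * (x * b * x⁻¹ * b⁻¹)) ∧ Nat.card (commutator G) * Nat.card ↥(A ⊓ Subgroup.centralizer ({x} : Set G)) = Nat.card A := by
  have hc : ∀ a ∈ A, ∀ b ∈ A, a * b = b * a := fun a ha b hb =>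
    congrArg Subtype.val (hA.is_comm.comm (⟨a, ha⟩ : A) ⟨b, hb⟩)
  have hconj : ∀ a ∈ A, x * a * x⁻¹ ∈ A := fun a ha => (inferInstance : A.Normal).conj_mem a ha x
  have hmul : ∀ a ∈ A, ∀ b ∈ A,
      x * (a * b) * x⁻¹ * (a * b)⁻¹ = (x * a * x⁻¹ * a⁻¹) * (x * b * x⁻¹ * b⁻¹) := by
    intro a ha b hb
    calc x * (a * b) * x⁻¹ * (a * b)⁻¹ = (x * a * x⁻¹) * ((x * b * x⁻¹ * b⁻¹) * a⁻¹) := by group
      _ = (x * a * x⁻¹) * (a⁻¹ * (x * b * x⁻¹ * b⁻¹)) := by
          rw [hc _ (mul_mem (hconj b hb) (inv_mem hb)) _ (inv_mem ha)]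
      _ = (x * a * x⁻¹ * a⁻¹) * (x * b * x⁻¹ * b⁻¹) := by group
  have hdA : ∀ a ∈ A, x * a * x⁻¹ * a⁻¹ ∈ A := fun a ha => mul_mem (hconj a ha) (inv_mem ha)
  let f : A →* A := MonoidHom.mk' (fun a => ⟨x * a * x⁻¹ * (a : G)⁻¹, hdA a a.2⟩)
    (fun a b => Subtype.ext (hmul a a.2 b b.2))
  set D := f.range.map A.subtype with hD
  have hDmem : ∀ g, g ∈ D ↔ ∃ a ∈ A, x * a * x⁻¹ * a⁻¹ = g := by
    intro g
    constructor
    · rintro ⟨_, ⟨a, rfl⟩, rfl⟩
      exact ⟨a, a.2, rfl⟩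
    · rintro ⟨a, ha, rfl⟩
      exact ⟨_, ⟨⟨a, ha⟩, rfl⟩, rfl⟩
  have hDA : D ≤ A := Subgroup.map_subtype_le _
  have hDn : D.Normal := by
    rw [← Subgroup.normalizer_eq_top_iff, eq_top_iff, ← hgen]
    refine sup_le (fun a ha => ?_) (Subgroup.zpowers_le.2 ?_)
    · refine Subgroup.centralizer_le_normalizer _ (Subgroup.mem_centralizer_iff.2 fun d hd => ?_)
      exact hc d (hDA hd) a ha
    · rw [Subgroup.mem_normalizer_iff]
      intro d
      constructor
      · intro hd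
        obtain ⟨a, ha, rfl⟩ := (hDmem d).1 hd
        exact (hDmem _).2 ⟨x * a * x⁻¹, hconj a ha, by group⟩
      · intro hd
        obtain ⟨a, ha, hae⟩ := (hDmem _).1 hd
        refine (hDmem _).2 ⟨x⁻¹ * a * x, ?_, ?_⟩
        · simpa using (inferInstance : A.Normal).conj_mem a ha x⁻¹
        · calc x * (x⁻¹ * a * x) * x⁻¹ * (x⁻¹ * a * x)⁻¹
              = x⁻¹ * (x * a * x⁻¹ * a⁻¹) * x := by group
            _ = x⁻¹ * (x * d * x⁻¹) * x := by rw [hae]
            _ = d := by group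
  have hDle : D ≤ commutator G := by
    intro g hg
    obtain ⟨a, -, rfl⟩ := (hDmem g).1 hg
    exact Subgroup.commutator_mem_commutator (Subgroup.mem_top x) (Subgroup.mem_top a)
  have hCle : commutator G ≤ D := by
    haveI := hDn
    set q := QuotientGroup.mk' D
    have hx : ∀ a ∈ A, q x * q a = q a * q x := by
      intro a ha
      have h : q (x * a * x⁻¹ * a⁻¹) = 1 := (QuotientGroup.eq_one_iff _).2 ((hDmem _).2 ⟨a, ha, rfl⟩)
      rw [map_mul, map_mul, map_mul, map_inv, map_inv, mul_inv_eq_one, mul_inv_eq_iff_eq_mul] at h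
      exact h
    set S : Set (G ⧸ D) := q '' ((A : Set G) ∪ {x}) with hS
    have htop : Subgroup.closure S = ⊤ := by
      rw [hS, ← MonoidHom.map_closure, Subgroup.closure_union, Subgroup.closure_eq,
        ← Subgroup.zpowers_eq_closure, hgen,
        Subgroup.map_top_of_surjective _ (QuotientGroup.mk'_surjective D)]
    have hcommS : ∀ u ∈ S, ∀ v ∈ S, u * v = v * u := by
      rintro _ ⟨a, ha | rfl, rfl⟩ _ ⟨b, hb | rfl, rfl⟩
      · rw [← map_mul, ← map_mul, hc a ha b hb]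
      · exact (hx a ha).symm
      · exact hx b hb
      · rfl
    rw [commutator_def, Subgroup.commutator_le]
    intro u _ v _
    rw [← QuotientGroup.eq_one_iff]
    show q ⁅u, v⁆ = 1
    rw [map_commutatorElement, commutatorElement_eq_one_iff_mul_comm]
    exact congrArg Subtype.val ((Subgroup.isMulCommutative_closure hcommS).1.1
      ⟨q u, htop ▸ Subgroup.mem_top _⟩ ⟨q v, htop ▸ Subgroup.mem_top _⟩)
  have hCD : commutator G = D := le_antisymm hCle hDle
  refine ⟨fun a ha => hCD ▸ (hDmem _).2 ⟨a, ha, rfl⟩, fun c hc' => (hDmem c).1 (hCD ▸ hc'), hmul, ?_⟩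
  have hker : f.ker.map A.subtype = A ⊓ Subgroup.centralizer ({x} : Set G) := by
    ext a
    constructor
    · rintro ⟨a, ha, rfl⟩
      refine ⟨a.2, Subgroup.mem_centralizer_singleton_iff.2 ?_⟩
      have h : x * a * x⁻¹ * (a : G)⁻¹ = 1 := congrArg Subtype.val ha
      rw [mul_inv_eq_one, mul_inv_eq_iff_eq_mul] at h
      exact h.symm
    · rintro ⟨ha, hax⟩
      refine ⟨⟨a, ha⟩, Subtype.ext ?_, rfl⟩
      show x * a * x⁻¹ * a⁻¹ = 1
      rw [← Subgroup.mem_centralizer_singleton_iff.1 hax]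
      group
  rw [hCD, ← hker, Subgroup.card_map_of_injective A.subtype_injective,
    Subgroup.card_map_of_injective A.subtype_injective, ← Subgroup.index_ker, mul_comm,
    Subgroup.card_mul_index]

end Cfsg.Agent.S3866
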