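import Cfsg.Statements.S3807
import Mathlib
import Cfsg.Agent.H84.EspecIndex
import Cfsg.Agent.S3866

set_option autoImplicit false
open Cfsg

namespace Cfsg.Agent.S3807

/-- A group of order `p²` and exponent `p` has `p + 1` subgroups of order `p`. -/
theorem card_subgroups_prime (p : ℕ) [Fact p.Prime] {Q : Type*} [Group Q] [Finite Q]
    (hQ : Nat.card Q = p ^ 2) (hexp : ∀ x : Q, x ^ p = 1) :
    Nat.card {B : Subgroup Q // Nat.card B = p} = p + 1 := by
  classical
  have hp := (Fact.out : p.Prime)
  have hord : ∀ x : Q, x ≠ 1 → Nat.card (Subgroup.zpowers x) = p := fun x hx => by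
    rw [Nat.card_zpowers, orderOf_eq_prime (hexp x) hx]
  have e : {x : Q // x ≠ 1} ≃ Σ B : {B : Subgroup Q // Nat.card B = p}, {x : B.1 // x ≠ 1} :=
    { toFun := fun x => ⟨⟨Subgroup.zpowers x.1, hord x.1 x.2⟩,
        ⟨⟨x.1, Subgroup.mem_zpowers x.1⟩, fun h => x.2 (congrArg Subtype.val h)⟩⟩
      invFun := fun t => ⟨(t.2.1 : Q), fun h => t.2.2 (Subtype.ext h)⟩
      left_inv := fun x => rfl
      right_inv := by
        rintro ⟨⟨B, hB⟩, ⟨⟨x, hx⟩, hx1⟩⟩
        have hBx : Subgroup.zpowers x = B := Subgroup.eq_of_le_of_card_ge (Subgroup.zpowers_le.2 hx)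
          (by rw [hB, hord x (fun h => hx1 (Subtype.ext h))])
        subst hBx
        rfl }
  have hne : ∀ (T : Type _) [Group T] [Finite T], Nat.card {x : T // x ≠ 1} = Nat.card T - 1 := by
    intro T _ _
    haveI := Fintype.ofFinite T
    rw [Nat.card_eq_fintype_card, Nat.card_eq_fintype_card, Fintype.card_subtype_compl,
      Fintype.card_subtype_eq]
  haveI := Fintype.ofFinite {B : Subgroup Q // Nat.card B = p}
  have h := Nat.card_congr e
  rw [hne, hQ, Nat.card_sigma] at h
  have hB : ∀ B : {B : Subgroup Q // Nat.card B = p}, Nat.card B.1 = p := fun B => B.2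
  simp only [hne, hB, Finset.sum_const, Finset.card_univ, smul_eq_mul,
    ← Nat.card_eq_fintype_card] at h
  have h2 : p ^ 2 - 1 = (p + 1) * (p - 1) := by
    have := hp.two_le
    zify [Nat.one_le_pow 2 p hp.pos, (by omega : 1 ≤ p)]
    ring
  rw [h2] at h
  exact (Nat.eq_of_mul_eq_mul_right (by have := hp.two_le; omega) h).symm

/-- Let S be a non-abelian finite p-group with an abelian subgroup A of index p. Then [S : Z(S)] = p·#[S,S], and either [S,S] has order p, S/Z(S) is elementary abelian of order p², and S has exactly p + 1 abelian subgroups of index p; or [S,S] has order at least p² and A is the only abelian subgroup of index p in S. -/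
theorem result {S : Type*} [Group S] [Finite S] (p : ℕ) [Fact p.Prime] (hS : IsPGroup p S) (hna : ¬ IsMulCommutative S)
    (A : Subgroup S) (hA : IsMulCommutative ↥A) (hAi : A.index = p) :
    (Subgroup.center S).index = p * Nat.card (commutator S) ∧
      ((Nat.card (commutator S) = p ∧ Cfsg.IsElementaryAbelian p (⊤ : Subgroup (S ⧸ Subgroup.center S)) ∧
          Nat.card (S ⧸ Subgroup.center S) = p ^ 2 ∧
          Nat.card {B : Subgroup S // IsMulCommutative ↥B ∧ B.index = p} = p + 1) ∨
        (p ^ 2 ≤ Nat.card (commutator S) ∧ ∀ B : Subgroup S, IsMulCommutative ↥B → B.index = p → B = A)) := by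
  classical
  have hp := (Fact.out : p.Prime)
  obtain ⟨hco, hAn, -⟩ := Cfsg.Agent.H84.index_prime_spec hS hAi
  obtain ⟨s, hs⟩ : ∃ s : S, s ∉ A := by
    by_contra h
    push Not at h
    exact hco.1 ((Subgroup.eq_top_iff' A).2 h)
  have hgen : A ⊔ Subgroup.zpowers s = ⊤ :=
    hco.2 _ (lt_of_le_of_ne le_sup_left fun he =>
      hs (he ▸ (le_sup_right : Subgroup.zpowers s ≤ A ⊔ _) (Subgroup.mem_zpowers s)))
  obtain ⟨-, -, -, hcard⟩ := Cfsg.Agent.S3866.result A hA s hgen
  have hA' : ∀ a ∈ A, ∀ b ∈ A, a * b = b * a := fun a ha b hb =>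
    congrArg Subtype.val (hA.is_comm.comm (⟨a, ha⟩ : A) ⟨b, hb⟩)
  -- abelian subgroups of index `p` contain the centre
  have hZle : ∀ B : Subgroup S, IsMulCommutative ↥B → B.index = p → Subgroup.center S ≤ B := by
    intro B hB hBi
    by_contra h
    obtain ⟨hBco, -, -⟩ := Cfsg.Agent.H84.index_prime_spec hS hBi
    have htop : B ⊔ Subgroup.center S = ⊤ :=
      hBco.2 _ (lt_of_le_of_ne le_sup_left fun he => h (he ▸ le_sup_right))
    refine hna ⟨⟨fun x y => ?_⟩⟩
    have key : ∀ g ∈ (⊤ : Subgroup S), g ∈ Subgroup.centralizer (B : Set S) := by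
      rw [← htop]
      exact sup_le (fun b hb => Subgroup.mem_centralizer_iff.2 fun c hc =>
        congrArg Subtype.val (hB.is_comm.comm (⟨c, hc⟩ : B) ⟨b, hb⟩))
        (Subgroup.center_le_centralizer _)
    have key2 : ∀ g ∈ (⊤ : Subgroup S), g ∈ Subgroup.center S := by
      rw [← htop]
      intro g hg
      refine (sup_le (c := Subgroup.center S) ?_ le_rfl) hg
      intro b hb
      refine Subgroup.mem_center_iff.2 fun g => ?_
      exact (Subgroup.mem_centralizer_iff.1 (key g (Subgroup.mem_top g)) b hb).symm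
    exact (Subgroup.mem_center_iff.1 (key2 y (Subgroup.mem_top y)) x)
  have hZeq : A ⊓ Subgroup.centralizer ({s} : Set S) = Subgroup.center S := by
    refine le_antisymm ?_ (le_inf (hZle A hA hAi) (Subgroup.center_le_centralizer _))
    rintro a ⟨ha, has⟩
    refine Subgroup.mem_center_iff.2 fun g => ?_
    have h : A ⊔ Subgroup.zpowers s ≤ Subgroup.centralizer ({a} : Set S) :=
      sup_le (fun b hb => Subgroup.mem_centralizer_singleton_iff.2 (hA' b hb a ha))
        (Subgroup.zpowers_le.2 (Subgroup.mem_centralizer_singleton_iff.2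
          (Subgroup.mem_centralizer_singleton_iff.1 has).symm))
    exact Subgroup.mem_centralizer_singleton_iff.1 (h (hgen ▸ Subgroup.mem_top g))
  rw [hZeq] at hcard
  have hZi : (Subgroup.center S).index = p * Nat.card (commutator S) := by
    have h1 := Subgroup.card_mul_index (Subgroup.center S)
    rw [← Subgroup.card_mul_index A, ← hcard, hAi] at h1
    exact Nat.eq_of_mul_eq_mul_left Nat.card_pos (h1.trans (by ring))
  refine ⟨hZi, ?_⟩
  obtain ⟨i, hi⟩ := IsPGroup.iff_card.1 (hS.to_subgroup (commutator S))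
  have hi0 : i ≠ 0 := by
    intro h
    rw [h, pow_zero, Subgroup.card_eq_one] at hi
    exact hna ⟨⟨fun x y => Subgroup.mem_center_iff.1
      ((commutator_eq_bot_iff_center_eq_top S).1 hi ▸ Subgroup.mem_top y) x⟩⟩
  by_cases hi1 : i = 1
  · rw [hi1, pow_one] at hi
    set Q := S ⧸ Subgroup.center S
    have hQ : Nat.card Q = p ^ 2 := by
      rw [← Subgroup.index_eq_card, hZi, hi, sq]
    have hnc : ¬ IsCyclic Q := fun h => hna (isMulCommutative_of_isCyclic_quotient_center_self S)
    have hexp : ∀ x : Q, x ^ p = 1 := by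
      intro x
      obtain ⟨j, hj2, hj⟩ := (Nat.dvd_prime_pow hp).1 (hQ ▸ orderOf_dvd_natCard x)
      refine orderOf_dvd_iff_pow_eq_one.1 ?_
      rw [hj]
      rcases (show j = 2 ∨ j ≤ 1 by omega) with rfl | hj1
      · exact absurd (isCyclic_of_orderOf_eq_card x (by rw [hj, hQ])) hnc
      · simpa using pow_dvd_pow p hj1
    refine Or.inl ⟨hi, ⟨⟨⟨fun a b => Subtype.ext ?_⟩⟩, fun x _ => hexp x⟩, hQ, ?_⟩
    · exact (IsPGroup.commGroupOfCardEqPrimeSq hQ).mul_comm (a : Q) b
    have e : {B : Subgroup S // IsMulCommutative ↥B ∧ B.index = p} ≃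
        {B : Subgroup Q // Nat.card B = p} := by
      refine
        { toFun := fun B => ⟨B.1.map (QuotientGroup.mk' _), ?_⟩
          invFun := fun B => ⟨B.1.comap (QuotientGroup.mk' _), ?_, ?_⟩
          left_inv := fun B => Subtype.ext (Subgroup.comap_map_eq_self
            (by rw [QuotientGroup.ker_mk']; exact hZle B.1 B.2.1 B.2.2))
          right_inv := fun B => Subtype.ext (Subgroup.map_comap_eq_self_of_surjective
            (QuotientGroup.mk'_surjective _) B.1) }
      · have h1 : (B.1.map (QuotientGroup.mk' (Subgroup.center S))).index = p := by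
          rw [Subgroup.index_map_eq _ (QuotientGroup.mk'_surjective _)
            (by rw [QuotientGroup.ker_mk']; exact hZle B.1 B.2.1 B.2.2), B.2.2]
        have h2 := Subgroup.card_mul_index (B.1.map (QuotientGroup.mk' (Subgroup.center S)))
        rw [h1, hQ, sq] at h2
        exact Nat.eq_of_mul_eq_mul_right hp.pos h2
      · haveI : IsCyclic B.1 := isCyclic_of_prime_card B.2
        let f : B.1.comap (QuotientGroup.mk' (Subgroup.center S)) →* B.1 :=
          (QuotientGroup.mk' (Subgroup.center S)).subgroupComap B.1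
        refine f.isMulCommutative_of_isCyclic_of_ker_le_center fun x hx => ?_
        have hx' : (x : S) ∈ Subgroup.center S :=
          (QuotientGroup.eq_one_iff _).1 (congrArg Subtype.val hx)
        exact Subgroup.mem_center_iff.2 fun y => Subtype.ext (Subgroup.mem_center_iff.1 hx' y)
      · rw [Subgroup.index_comap_of_surjective _ (QuotientGroup.mk'_surjective _)]
        have h2 := Subgroup.card_mul_index B.1
        rw [B.2, hQ, sq] at h2
        exact Nat.eq_of_mul_eq_mul_left hp.pos h2
    rw [Nat.card_congr e]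
    exact card_subgroups_prime p hQ hexp
  · refine Or.inr ⟨hi ▸ Nat.pow_le_pow_right hp.pos (by omega), fun B hB hBi => ?_⟩
    by_contra hne
    have htop : A ⊔ B = ⊤ := hco.2 _ (lt_of_le_of_ne le_sup_left fun he => hne (by
      have hle : B ≤ A := he ▸ le_sup_right
      refine Subgroup.eq_of_le_of_card_ge hle ?_
      have h1 := Subgroup.card_mul_index A
      have h2 := Subgroup.card_mul_index B
      rw [hAi] at h1
      rw [hBi, ← h1] at h2
      exact (Nat.eq_of_mul_eq_mul_right hp.pos h2).ge))
    have hle : A ⊓ B ≤ Subgroup.center S := by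
      rintro x ⟨hxA, hxB⟩
      refine Subgroup.mem_center_iff.2 fun g => ?_
      have h : A ⊔ B ≤ Subgroup.centralizer ({x} : Set S) :=
        sup_le (fun b hb => Subgroup.mem_centralizer_singleton_iff.2 (hA' b hb x hxA))
          (fun b hb => Subgroup.mem_centralizer_singleton_iff.2
            (congrArg Subtype.val (hB.is_comm.comm (⟨b, hb⟩ : B) ⟨x, hxB⟩)))
      exact Subgroup.mem_centralizer_singleton_iff.1 (h (htop ▸ Subgroup.mem_top g))
    have h1 : (Subgroup.center S).index ∣ (A ⊓ B).index := Subgroup.index_dvd_of_le hle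
    have h2 : (A ⊓ B).index ≤ p * p := by
      refine (Subgroup.index_inf_le (H := A) (K := B)).trans ?_
      rw [hAi, hBi]
    have h3 := (Nat.le_of_dvd (Nat.pos_of_ne_zero Subgroup.index_ne_zero_of_finite) h1).trans h2
    rw [hZi, hi] at h3
    have h4 : p ^ i ≤ p ^ 1 := by
      rw [pow_one]; exact Nat.le_of_mul_le_mul_left h3 hp.pos
    exact absurd ((Nat.pow_le_pow_iff_right hp.one_lt).1 h4) (by omega)

end Cfsg.Agent.S3807
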