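import Cfsg.Statements.S3889
-- import your own Cfsg.Agent.* helpers here

set_option autoImplicit false
open Cfsg

namespace Cfsg.Agent.S3889

/-- A finite abelian group that is the union of a family of proper subgroups any two of which intersect trivially is elementary abelian: its exponent is a prime. -/
theorem result {G : Type*} [CommGroup G] [Finite G] (𝓑 : Set (Subgroup G)) (hprop : ∀ B ∈ 𝓑, B ≠ ⊤)
    (hcov : ∀ g : G, ∃ B ∈ 𝓑, g ∈ B) (hdisj : ∀ B ∈ 𝓑, ∀ C ∈ 𝓑, B ≠ C → B ⊓ C = ⊥) :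
    (Monoid.exponent G).Prime := by
  have hB : ∀ x y : G, x ≠ 1 → y ≠ 1 → (∀ B ∈ 𝓑, x ∈ B → y ∉ B) → x ^ orderOf y = 1 := by
    intro x y hx hy hne
    obtain ⟨B, hB, hxB⟩ := hcov x
    obtain ⟨D, hD, hD'⟩ := hcov (x * y)
    have hyB := hne B hB hxB
    have hBD : B ≠ D := fun he => hyB (by
      subst he; simpa using mul_mem (inv_mem hxB) hD')
    have h1 : x ^ orderOf y ∈ B ⊓ D := by
      refine Subgroup.mem_inf.2 ⟨pow_mem hxB _, ?_⟩
      have := pow_mem hD' (orderOf y)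
      rwa [mul_pow, pow_orderOf_eq_one, mul_one] at this
    rwa [hdisj B hB D hD hBD, Subgroup.mem_bot] at h1
  have hcase : ∀ x y : G, x ≠ 1 → y ≠ 1 → (∀ B ∈ 𝓑, x ∈ B → y ∉ B) → orderOf x = orderOf y :=
    fun x y hx hy h => Nat.dvd_antisymm (orderOf_dvd_of_pow_eq_one (hB x y hx hy h))
      (orderOf_dvd_of_pow_eq_one (hB y x hy hx fun B hB' hyB hxB => h B hB' hxB hyB))
  have hall : ∀ x y : G, x ≠ 1 → y ≠ 1 → orderOf x = orderOf y := by
    intro x y hx hy
    by_cases h : ∃ B ∈ 𝓑, x ∈ B ∧ y ∈ B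
    · obtain ⟨B, hB', hxB, hyB⟩ := h
      obtain ⟨w, hw⟩ : ∃ w, w ∉ B := by
        by_contra hh
        push Not at hh
        exact hprop B hB' (top_le_iff.1 fun g _ => hh g)
      have hw1 : w ≠ 1 := fun h => hw (h ▸ one_mem B)
      have key : ∀ u ∈ B, u ≠ 1 → orderOf u = orderOf w := fun u huB hu => hcase u w hu hw1
        fun C hC huC hwC => hw ((by
          by_contra hne
          exact hu (by simpa [hdisj B hB' C hC (Ne.symm hne)] using
            (Subgroup.mem_inf.2 ⟨huB, huC⟩ : u ∈ B ⊓ C)) : C = B) ▸ hwC)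
      rw [key x hxB hx, key y hyB hy]
    · push Not at h
      exact hcase x y hx hy fun B hB' hxB => h B hB' hxB
  have hne : Nat.card G ≠ 1 := by
    intro h1
    obtain ⟨B, hB', -⟩ := hcov 1
    have := (Nat.card_eq_one_iff_unique.1 h1).1
    exact hprop B hB' (top_le_iff.1 fun g _ => Subsingleton.elim 1 g ▸ one_mem B)
  obtain ⟨p, hp, hpd⟩ := Nat.exists_prime_and_dvd hne
  have := Fact.mk hp
  obtain ⟨x, hx⟩ := exists_prime_orderOf_dvd_card' p hpd
  have hx1 : x ≠ 1 := fun h => hp.one_lt.ne' (by rw [← hx, h, orderOf_one])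
  have hexp : Monoid.exponent G ∣ p := Monoid.exponent_dvd_of_forall_pow_eq_one fun y => by
    by_cases hy : y = 1
    · rw [hy, one_pow]
    · rw [← hx, hall x y hx1 hy, pow_orderOf_eq_one]
  rcases (Nat.dvd_prime hp).1 hexp with h | h
  · exact absurd (Nat.card_eq_one_iff_unique.2 ⟨Monoid.exp_eq_one_iff.1 h, ⟨1⟩⟩) hne
  · rw [h]; exact hp

end Cfsg.Agent.S3889
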