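import Cfsg.Statements.S4142
import Cfsg.Agent.H88.ClassBasic

set_option autoImplicit false
open Cfsg

namespace Cfsg.Agent.S4142

/-- Let G be a finite group and N a normal subgroup. Then the conjugacy class of every element g outside N is a union of cosets of N (gn is conjugate to g for all n ∈ N) if and only if for every g outside N the centralizer of g in G has the same order as the centralizer of gN in G/N. -/
theorem result {G : Type*} [Group G] [Finite G] (N : Subgroup G) [N.Normal] :
    (∀ g : G, g ∉ N → ∀ n ∈ N, ∃ x : G, x * g * x⁻¹ = g * n) ↔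
      ∀ g : G, g ∉ N → Nat.card (Subgroup.centralizer ({g} : Set G)) =
        Nat.card (Subgroup.centralizer ({(QuotientGroup.mk g : G ⧸ N)} : Set (G ⧸ N))) := by
  have key : ∀ g : G, Nat.card (Subgroup.centralizer ({g} : Set G)) =
      Nat.card (Subgroup.centralizer ({(QuotientGroup.mk g : G ⧸ N)} : Set (G ⧸ N))) ↔
      (ConjClasses.mk g).carrier =
        QuotientGroup.mk ⁻¹' (ConjClasses.mk (QuotientGroup.mk g : G ⧸ N)).carrier := by
    intro g
    have h1 := H88.card_centralizer_mul_ncard_conj g
    have h2 := H88.card_centralizer_mul_ncard_conj (QuotientGroup.mk g : G ⧸ N)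
    have h3 := H88.ncard_preimage_mk N (ConjClasses.mk (QuotientGroup.mk g : G ⧸ N)).carrier
    have h4 : Nat.card N * Nat.card (G ⧸ N) = Nat.card G := by
      rw [← Subgroup.index_eq_card]; exact N.card_mul_index
    constructor
    · intro he
      refine Set.eq_of_subset_of_ncard_le (H88.carrier_subset_preimage N g) (le_of_eq ?_)
      rw [h3]
      refine Nat.eq_of_mul_eq_mul_left (Nat.card_pos (α := Subgroup.centralizer ({g} : Set G))) ?_
      rw [h1, he, mul_left_comm, h2, h4]
    · intro he
      rw [← he] at h3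
      have hpos : 0 < (ConjClasses.mk g).carrier.ncard :=
        (Set.ncard_pos).2 ⟨g, H88.mem_carrier_mk.2 ⟨1, by simp⟩⟩
      refine Nat.eq_of_mul_eq_mul_right hpos ?_
      rw [h1, h3, mul_left_comm, h2, h4]
  constructor
  · intro hc g hg
    rw [key]
    refine Set.Subset.antisymm (H88.carrier_subset_preimage N g) ?_
    intro h hh
    obtain ⟨y, hy⟩ := H88.mem_carrier_mk.1 hh
    obtain ⟨x, rfl⟩ := QuotientGroup.mk_surjective y
    have hy' : (x * g * x⁻¹)⁻¹ * h ∈ N := by
      rw [← QuotientGroup.eq]; simpa using hy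
    have hg' : x * g * x⁻¹ ∉ N := by
      intro hm
      apply hg
      simpa [mul_assoc] using Subgroup.Normal.conj_mem inferInstance _ hm x⁻¹
    obtain ⟨z, hz⟩ := hc _ hg' _ hy'
    refine H88.mem_carrier_mk.2 ⟨z * x, ?_⟩
    have : z * x * g * (z * x)⁻¹ = z * (x * g * x⁻¹) * z⁻¹ := by group
    rw [this, hz]; group
  · intro hc g hg n hn
    have := (key g).1 (hc g hg)
    have hm : g * n ∈ (ConjClasses.mk g).carrier := by
      rw [this]
      refine H88.mem_carrier_mk.2 ⟨1, ?_⟩
      simp only [one_mul, inv_one, mul_one]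
      exact QuotientGroup.eq.2 (by simpa using hn)
    exact H88.mem_carrier_mk.1 hm

end Cfsg.Agent.S4142
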