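import Cfsg.Statements.S0727
import Cfsg.Agent.H7.ZassEvenQ
import Cfsg.Agent.H1.ProjectiveLine
-- import your own Cfsg.Agent.* helpers here

set_option autoImplicit false
open Cfsg

namespace Cfsg.Agent.S0727

/-- A sharply triply transitive permutation group of degree `2^f + 1` is isomorphic to the projective general linear group of degree 2 over the field with `2^f` elements. -/
theorem result {α : Type*} [Fintype α] [DecidableEq α] {f : ℕ} (hf : 1 ≤ f) (hα : Fintype.card α = 2 ^ f + 1) (G : Subgroup (Equiv.Perm α)) (h3 : MulAction.IsMultiplyPretransitive G α 3) (hsharp : ∀ x : Fin 3 ↪ α, MulAction.stabilizer G x = ⊥) : ∃ (F : Type) (_ : Field F) (_ : Fintype F), Fintype.card F = 2 ^ f ∧ Nonempty (G ≃* Matrix.ProjGenLinGroup (Fin 2) F) := by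
  rcases Nat.lt_or_ge f 2 with hf2 | hf2
  · obtain rfl : f = 1 := by omega
    haveI : Fact (Nat.Prime 2) := ⟨Nat.prime_two⟩
    refine ⟨ZMod 2, inferInstance, inferInstance, by simp, ?_⟩
    letI : Fintype (Projectivization (ZMod 2) (Fin 2 → ZMod 2)) := Fintype.ofFinite _
    have hP : Fintype.card (Projectivization (ZMod 2) (Fin 2 → ZMod 2)) = 3 := by
      rw [Fintype.card_eq_nat_card, Projectivization.card_of_finrank_two _ _ (by simp), Nat.card_zmod]
    obtain ⟨hP3, hPs⟩ := @Cfsg.Agent.H1.PGL_two_sharply_three_transitive (ZMod 2) _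
    haveI : FaithfulSMul (Matrix.ProjGenLinGroup (Fin 2) (ZMod 2)) (Projectivization (ZMod 2) (Fin 2 → ZMod 2)) := by
      refine ⟨fun {g k} h => ?_⟩
      have e := (Fintype.equivFinOfCardEq hP).symm
      refine (inv_mul_eq_one.1 (hPs (k⁻¹ * g) (e 0) (e 1) (e 2) (e.injective.ne (by decide))
        (e.injective.ne (by decide)) (e.injective.ne (by decide)) ?_ ?_ ?_)).symm
      all_goals rw [mul_smul, h, inv_smul_smul]
    obtain ⟨e⟩ : Nonempty (α ≃ Projectivization (ZMod 2) (Fin 2 → ZMod 2)) :=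
      ⟨Fintype.equivOfCardEq (by rw [hP, hα]; rfl)⟩
    exact ⟨((MulEquiv.ofBijective _ (Cfsg.Agent.H7.toPerm_bijective_three h3 (by rw [hα]; rfl))).trans
      e.permCongrHom).trans (MulEquiv.ofBijective _ (Cfsg.Agent.H7.toPerm_bijective_three hP3 hP)).symm⟩
  · have h4 : 4 ≤ Fintype.card α := by
      have := Nat.pow_le_pow_right (n := 2) two_pos hf2
      omega
    obtain ⟨Z, hc⟩ := Cfsg.Agent.H7.ZHyp.of_sharply h4 h3 hsharp
    obtain ⟨a, b, hab⟩ := Fintype.exists_pair_of_one_lt_card (show 1 < Fintype.card α by omega)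
    have hodd : Odd (Fintype.card α) := by
      rw [hα]; exact (Nat.even_pow.2 ⟨even_two, by omega⟩).add_one
    obtain ⟨F, iF, iFf, hch, hcard, ⟨e⟩⟩ := Z.psl_of_odd_full hab hodd (hc hab)
    obtain ⟨e'⟩ := Cfsg.Agent.H7.pgl_equiv_psl hch
    exact ⟨F, iF, iFf, by omega, ⟨e.trans e'.symm⟩⟩

end Cfsg.Agent.S0727
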