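import Cfsg.Statements.S4706
import Cfsg.Agent.H63.HalfNorm.Build
import Cfsg.Agent.S0676
import Cfsg.Agent.S0727
import Cfsg.Agent.H7.ZassEvenQ

set_option autoImplicit false
open Cfsg

namespace Cfsg.Agent.S4706

open Cfsg.Agent.H63.HalfNorm

/-- A solvable group of permutations of prime degree, transitive, has a normal Sylow subgroup. -/
theorem not_solvable {α : Type*} [Fintype α] [DecidableEq α] {p : ℕ} [Fact p.Prime]
    (hα : Fintype.card α = p) (G : Subgroup (Equiv.Perm α)) [MulAction.IsPretransitive G α]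
    (P : Sylow p G) (hP : Nat.card (P : Subgroup G) = p) (hn : ¬ (P : Subgroup G).Normal) :
    ¬ Group.IsSolvable G := by
  classical
  intro hs
  haveI : MulAction.IsPreprimitive G α := MulAction.IsPreprimitive.of_prime_card
    (by rw [Nat.card_eq_fintype_card, hα]; exact Fact.out)
  haveI : Nontrivial G := by
    refine Finite.one_lt_card_iff_nontrivial.1 ?_
    have := Subgroup.card_le_card_group (P : Subgroup G)
    have := (Fact.out : p.Prime).two_le
    omega
  obtain ⟨n, hn'⟩ := (Group.isSolvable_def G).1 hs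
  have hex : ∃ m, derivedSeries G m = ⊥ := ⟨n, hn'⟩
  have hm0 : Nat.find hex ≠ 0 := by
    intro e
    have h := Nat.find_spec hex
    rw [e, derivedSeries_zero] at h
    exact top_ne_bot h
  obtain ⟨m, hm⟩ := Nat.exists_eq_succ_of_ne_zero hm0
  set K := derivedSeries G m with hK
  have hK1 : K ≠ ⊥ := Nat.find_min hex (by omega)
  have hKK : ⁅K, K⁆ = ⊥ := by
    rw [hK, ← derivedSeries_succ, Nat.succ_eq_add_one] at *
    rw [← hm]
    exact Nat.find_spec hex
  haveI : K.Normal := derivedSeries_normal G m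
  have hfix : MulAction.fixedPoints K α ≠ Set.univ := by
    intro e
    refine hK1 ((Subgroup.eq_bot_iff_forall _).2 fun k hk => ?_)
    refine eq_of_smul_eq_smul (α := α) fun b => ?_
    have hb : b ∈ MulAction.fixedPoints K α := e ▸ Set.mem_univ b
    rw [one_smul]
    exact hb ⟨k, hk⟩
  haveI := MulAction.IsQuasiPreprimitive.isPretransitive_of_normal hfix
  obtain ⟨a⟩ := Fintype.card_pos_iff.1 (hα ▸ (Fact.out : p.Prime).pos)
  have hstab : MulAction.stabilizer K a = ⊥ := by
    rw [Subgroup.eq_bot_iff_forall]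
    intro k hk
    refine Subtype.ext (eq_of_smul_eq_smul (α := α) fun b => ?_)
    obtain ⟨l, rfl⟩ := MulAction.exists_smul_eq K a b
    have hc : k * l = l * k :=
      Subtype.ext ((Subgroup.commutator_eq_bot_iff_le_centralizer.1 hKK l.2) k.1 k.2)
    calc (k : G) • l • a = (k * l) • a := (mul_smul k l a).symm
      _ = l • k • a := by rw [hc, mul_smul]
      _ = l • a := by rw [MulAction.mem_stabilizer_iff.1 hk]
      _ = (1 : G) • l • a := (one_smul G _).symm
  have hKcard : Nat.card K = p := by
    have h := MulAction.index_stabilizer_of_transitive K a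
    rw [hstab, Subgroup.index_bot, Nat.card_eq_fintype_card (α := α), hα] at h
    exact h
  obtain ⟨Q, hQ⟩ := (IsPGroup.of_card (n := 1) (by rw [hKcard, pow_one]) :
    IsPGroup p K).exists_le_sylow
  have hQP : Nat.card (Q : Subgroup G) = p := by
    exact Q.card_eq_multiplicity.trans (P.card_eq_multiplicity.symm.trans hP)
  have hKQ : K = (Q : Subgroup G) := Subgroup.eq_of_le_of_card_ge hQ (by rw [hQP, hKcard])
  haveI : (Q : Subgroup G).Normal := hKQ ▸ inferInstance
  haveI := Sylow.unique_of_normal Q inferInstance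
  exact hn (Subsingleton.elim Q P ▸ inferInstance)

/-- In characteristic two `PSL₂` is `SL₂`. -/
theorem psl_equiv_sl {F : Type*} [Field F] (h2 : ringChar F = 2) :
    Nonempty (Matrix.ProjectiveSpecialLinearGroup (Fin 2) F ≃* Matrix.SpecialLinearGroup (Fin 2) F) := by
  haveI : CharP F 2 := h2 ▸ ringChar.charP F
  have hc : Subgroup.center (Matrix.SpecialLinearGroup (Fin 2) F) = ⊥ := by
    rw [Subgroup.eq_bot_iff_forall]
    intro A hA
    obtain ⟨r, hr, hA⟩ := Matrix.SpecialLinearGroup.mem_center_iff.1 hA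
    rw [Fintype.card_fin] at hr
    have h0 : (r - 1) ^ 2 = 0 := by rw [sub_pow_char, hr, one_pow, sub_self]
    have hr1 : r = 1 := sub_eq_zero.1 (pow_eq_zero_iff two_ne_zero |>.1 h0)
    apply Subtype.ext
    rw [← hA, hr1, map_one]
    rfl
  exact ⟨(QuotientGroup.quotientMulEquivOfEq hc).trans QuotientGroup.quotientBot⟩

/-- Let p > 2 be a prime and G a permutation group on p letters whose Sylow p-subgroup P has normalizer of order 2p. Then either P is normal in G, or p − 1 = 2^a for some a and G is isomorphic to SL(2, 2^a). -/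
theorem result {α : Type*} [Fintype α] [DecidableEq α] {p : ℕ} [Fact p.Prime] (hp : 2 < p) (hα : Fintype.card α = p) (G : Subgroup (Equiv.Perm α)) (P : Sylow p G) (hN : Nat.card (Subgroup.normalizer ((P : Subgroup G) : Set G)) = 2 * p) : (P : Subgroup G).Normal ∨ ∃ (a : ℕ) (F : Type) (_ : Field F) (_ : Fintype F), p = 2 ^ a + 1 ∧ Fintype.card F = 2 ^ a ∧ Nonempty (G ≃* Matrix.SpecialLinearGroup (Fin 2) F) := by
  classical
  have hpp : p.Prime := Fact.out
  rcases eq_or_ne p 3 with rfl | hp3
  · left
    have hG : Nat.card G ≤ 6 := by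
      refine (Subgroup.card_le_card_group G).trans (le_of_eq ?_)
      rw [Nat.card_eq_fintype_card, Fintype.card_perm, hα]
      rfl
    have htop : Subgroup.normalizer ((P : Subgroup G) : Set G) = ⊤ :=
      Subgroup.eq_top_of_le_card _ (by rw [hN]; omega)
    exact Subgroup.normalizer_eq_top_iff.1 htop
  by_cases hn : (P : Subgroup G).Normal
  · exact Or.inl hn
  right
  have hp4 : p ≠ 4 := fun e => by rw [e] at hpp; norm_num at hpp
  -- a cycle of length `p`
  have hpG : p ∣ Nat.card G :=
    (dvd_mul_left p 2).trans (hN ▸ Subgroup.card_subgroup_dvd_card _)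
  obtain ⟨σ, hσ⟩ := exists_prime_orderOf_dvd_card' (G := G) p hpG
  have hσ' : orderOf (σ : Equiv.Perm α) = p := by rw [Subgroup.orderOf_coe, hσ]
  have hcyc : ∀ g : G, orderOf g = p → (g : Equiv.Perm α).IsCycle ∧
      ∀ a : α, (g : Equiv.Perm α) a ≠ a := by
    intro g hg
    have hg' : orderOf (g : Equiv.Perm α) = p := by rw [Subgroup.orderOf_coe, hg]
    have hc := Equiv.Perm.isCycle_of_prime_order'' (by rw [hα]; exact hpp) (by rw [hg', hα])
    refine ⟨hc, fun a => Equiv.Perm.mem_support.1 ?_⟩
    have hs : (g : Equiv.Perm α).support = Finset.univ := by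
      rw [← Finset.card_eq_iff_eq_univ, ← hc.orderOf, hg', hα]
    rw [hs]
    exact Finset.mem_univ a
  haveI : MulAction.IsPretransitive G α := by
    refine ⟨fun a b => ?_⟩
    obtain ⟨hc, hne⟩ := hcyc σ hσ
    obtain ⟨i, hi⟩ := hc.exists_zpow_eq (hne a) (hne b)
    exact ⟨σ ^ i, by simpa [Subgroup.smul_def, Equiv.Perm.smul_def] using hi⟩
  haveI : Nonempty α := Fintype.card_pos_iff.1 (hα ▸ hpp.pos)
  have hcard' : Nat.card α = p := by rw [Nat.card_eq_fintype_card, hα]
  have hprim : MulAction.IsPreprimitive G α :=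
    MulAction.IsPreprimitive.of_prime_card (by rw [hcard']; exact hpp)
  obtain ⟨S, hPcard, hPx⟩ := exists_setup (by omega : p ≠ 2) G hprim (by rw [hcard']) P hN
  have hns := not_solvable hα G P hPcard hn
  have h3 : MulAction.IsMultiplyPretransitive G α 3 :=
    Cfsg.Agent.S0676.result hα G hns P (by rw [hN]; exact even_two_mul p)
  haveI := h3
  have h2 : MulAction.IsMultiplyPretransitive G α 2 :=
    MulAction.isMultiplyPretransitive_of_le (n := 3) (by norm_num) (by rw [hcard']; omega)
  letI : Fintype G := Fintype.ofFinite _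
  have hirr := (Cfsg.Agent.H26.permChar_sub_one_irreducible_iff (G := G) α
    (by rw [hcard']; omega)).2 h2
  let π : G → ℂ := Cfsg.Agent.H26.permChar α
  let A : Cfsg.IrrCharacter G := ⟨π - fun _ => 1, hirr⟩
  have hA : ∀ g, A.1 g = (Nat.card (MulAction.fixedBy α g) : ℂ) - 1 := fun g => rfl
  have hfix0 : ∀ g : G, orderOf g = p → Nat.card (MulAction.fixedBy α g) = 0 := by
    intro g hg
    rw [Nat.card_eq_zero]
    exact Or.inl ⟨fun a => (hcyc g hg).2 a.1 a.2⟩
  have hrat : ∀ (g : G) (j : ℕ), j.Coprime (Nat.card G) → A.1 (g ^ j) = A.1 g := by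
    intro g j hj
    have e : MulAction.fixedBy α (g ^ j) = MulAction.fixedBy α g := by
      refine Set.Subset.antisymm ?_ (MulAction.fixedBy_subset_fixedBy_zpow α g j |>.trans
        (by rw [zpow_natCast]))
      obtain ⟨i, hi⟩ := exists_pow_eq_self_of_coprime (x := g) (n := j)
        (hj.coprime_dvd_right (orderOf_dvd_natCard g))
      conv_rhs => rw [← hi, ← zpow_natCast]
      exact MulAction.fixedBy_subset_fixedBy_zpow α (g ^ j) i
    rw [hA, hA, e]
  have hfaith : ∀ g : G, A.1 g = A.1 1 → g = 1 := by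
    intro g hg
    rw [hA, hA, sub_left_inj, Nat.cast_inj] at hg
    refine eq_of_smul_eq_smul (α := α) fun a => ?_
    have h1 : MulAction.fixedBy α g = Set.univ := by
      rw [MulAction.fixedBy_one_eq_univ] at hg
      refine Set.eq_of_subset_of_ncard_le (Set.subset_univ _) ?_
      rw [← Nat.card_coe_set_eq, ← Nat.card_coe_set_eq, hg]
    rw [one_smul]
    have hmem : a ∈ MulAction.fixedBy α g := by rw [h1]; exact Set.mem_univ a
    exact hmem
  have horth : Cfsg.Agent.H26.fsIndicator A.1 = 1 := by
    have hsym : ∀ a b : α, ∃ g : G, g • a = b ∧ g • b = a := by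
      intro a b
      rcases eq_or_ne a b with rfl | hab
      · exact ⟨1, one_smul _ _, one_smul _ _⟩
      · exact MulAction.is_two_pretransitive_iff.1 h2 hab hab.symm
    have h := fs_permChar (G := G) hsym
    have horb := (Cfsg.Agent.H26.two_pretransitive_iff_orbits (G := G) α
      (by rw [hcard']; omega)).1 h2
    rw [Cfsg.Agent.H26.classInner_permChar_self, horb] at h
    have hG : (Nat.card G : ℂ) ≠ 0 := Nat.cast_ne_zero.2 Nat.card_pos.ne'
    have e : Cfsg.Agent.H26.fsIndicator A.1
        = Cfsg.Agent.H26.fsIndicator (Cfsg.Agent.H26.permChar (G := G) α) - 1 := by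
      simp only [Cfsg.Agent.H26.fsIndicator, A, π, Pi.sub_apply, Finset.sum_sub_distrib]
      simp [mul_sub, ← Nat.card_eq_fintype_card, hG]
    rw [e, h]
    norm_num
  let T : RatDatum G p :=
    { toSetup := S
      A := A
      big := by have := hpp.two_le; omega
      deg := by rw [hA, MulAction.fixedBy_one_eq_univ, Nat.card_coe_set_eq, Set.ncard_univ, hcard']
      val := fun j hj => by rw [hA, hfix0 _ (S.orderOf_e hj)]; simp
      orth := horth
      rat := hrat
      faithful := hfaith }
  have hsharp : ∀ x : Fin 3 ↪ α, MulAction.stabilizer G x = ⊥ := by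
    intro x
    rw [Subgroup.eq_bot_iff_forall]
    intro g hg
    by_contra h1
    obtain ⟨r, hr, hrd⟩ := Nat.exists_prime_and_dvd (fun e => h1 (orderOf_eq_one_iff.1 e))
    set h := g ^ (orderOf g / r) with hh
    have ho : orderOf h = r := orderOf_pow_orderOf_div (orderOf_pos g).ne' hrd
    have hfx : ∀ i, h • x i = x i := by
      intro i
      have hgi : g • x i = x i := by
        have := congrArg (fun e : Fin 3 ↪ α => e i) (MulAction.mem_stabilizer_iff.1 hg)
        exact this
      have hm : h ∈ MulAction.stabilizer G (x i) :=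
        pow_mem (MulAction.mem_stabilizer_iff.2 hgi) _
      exact MulAction.mem_stabilizer_iff.1 hm
    have h3le : 3 ≤ Nat.card (MulAction.fixedBy α h) := by
      have := Nat.card_le_card_of_injective (fun i : Fin 3 => (⟨x i, hfx i⟩ : MulAction.fixedBy α h))
        (fun i j e => x.injective (congrArg Subtype.val e))
      rwa [Nat.card_fin] at this
    have hv : A.1 h = (Nat.card (MulAction.fixedBy α h) : ℂ) - 1 := hA h
    rcases eq_or_ne r p with rfl | hrp
    · rw [hfix0 h ho] at h3le; omega
    rcases eq_or_ne r 2 with rfl | hr2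
    · have e := T.val_inv ho
      change A.1 h = 0 at e
      rw [hv, sub_eq_zero] at e
      have : Nat.card (MulAction.fixedBy α h) = 1 := by exact_mod_cast e
      omega
    · have e := T.val_odd (g := h) (by rw [ho]; exact hr.odd_of_ne_two hr2) (by rw [ho]; exact hrp)
        (fun e => by rw [e, orderOf_one] at ho; exact hr.one_lt.ne ho)
      change A.1 h = 1 at e
      rw [hv, sub_eq_iff_eq_add] at e
      have : Nat.card (MulAction.fixedBy α h) = 2 := by
        have e' : (Nat.card (MulAction.fixedBy α h) : ℂ) = ((2 : ℕ) : ℂ) := by rw [e]; norm_num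
        exact_mod_cast e'
      omega
  obtain ⟨f, hf⟩ : ∃ f : ℕ, p - 1 = 2 ^ f := by
    rcases Nat.lt_or_ge p 7 with h | h
    · refine ⟨2, ?_⟩
      have hp5 : p ≠ 6 := fun e => by rw [e] at hpp; norm_num at hpp
      omega
    · exact T.two_pow h
  have hf1 : 1 ≤ f := by
    rcases Nat.eq_zero_or_pos f with rfl | h
    · omega
    · exact h
  have hp1 : p = 2 ^ f + 1 := by omega
  obtain ⟨F, iF, iFf, hcard, ⟨e⟩⟩ := Cfsg.Agent.S0727.result hf1 (hα.trans hp1) G h3 hsharp
  have hch : ringChar F = 2 := by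
    haveI : Fact (Nat.Prime 2) := ⟨Nat.prime_two⟩
    haveI : CharP F 2 := charP_of_card_eq_prime_pow (f := f) hcard
    exact ringChar.eq F 2
  obtain ⟨e1⟩ := Cfsg.Agent.H7.pgl_equiv_psl hch
  obtain ⟨e2⟩ := psl_equiv_sl hch
  exact ⟨f, F, iF, iFf, hp1, hcard, ⟨e.trans (e1.trans e2)⟩⟩

end Cfsg.Agent.S4706
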