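import Cfsg.Statements.S5311
import Cfsg.Agent.H96.MorphismTransport

set_option autoImplicit false
open Cfsg

namespace Cfsg.Agent.S5311

open Cfsg.FusionSystem

/-- The layer of a saturated fusion system F over a finite p-group S is characteristic in F: for every automorphism α of S that is an automorphism of F (α and its inverse are morphisms from F to F) and every layer E of F over T, α carries T onto T and, for every map φ of E with source P, the map induced by α on α(P) (that is, α ∘ φ ∘ α⁻¹) is a map of E. -/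
theorem result {Ω : Type*} [Group Ω] {S : Subgroup Ω} [Finite S] (p : ℕ) [Fact p.Prime] (hS : IsPGroup p S) (F : Cfsg.FusionSystem S) (hF : F.IsSaturated p)
    (α : ↥S ≃* ↥S) (hα : F.IsMorphism F (S.subtype.comp α.toMonoidHom))
    (hα' : F.IsMorphism F (S.subtype.comp α.symm.toMonoidHom))
    {T : Subgroup Ω} (E : Cfsg.FusionSystem T) (hE : E.IsLayerOf F p) :
    Cfsg.FusionSystem.imageAlong (S.subtype.comp α.toMonoidHom) T = T ∧
      ∀ (P : Subgroup Ω) (φ : ↥P →* Ω), φ ∈ E.Hom P →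
        ∀ φ' : ↥(Cfsg.FusionSystem.imageAlong (S.subtype.comp α.toMonoidHom) P) →* Ω,
          Cfsg.FusionSystem.InducedAlong (S.subtype.comp α.toMonoidHom) φ φ' →
            φ' ∈ E.Hom (Cfsg.FusionSystem.imageAlong (S.subtype.comp α.toMonoidHom) P) := by
  set a := S.subtype.comp α.toMonoidHom with ha
  set b := S.subtype.comp α.symm.toMonoidHom with hb
  have ha_apply : ∀ s, a s = (α s : Ω) := fun s => rfl
  have hb_apply : ∀ s, b s = (α.symm s : Ω) := fun s => rfl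
  have hsurj : ∀ e : ↥S ≃* ↥S, F.IsMorphism F (S.subtype.comp e.toMonoidHom) →
      F.IsMorphism F (S.subtype.comp e.symm.toMonoidHom) →
      F.IsSurjectiveMorphism F (S.subtype.comp e.toMonoidHom) := by
    intro e he he'
    refine ⟨he, ?_, fun P' hP' φ' hφ' => ?_⟩
    · ext y
      exact ⟨fun ⟨s, hs⟩ => hs ▸ (e s).2, fun hy => ⟨e.symm ⟨y, hy⟩, by simp⟩⟩
    obtain ⟨φ, hφ, hP, hv, hm, hind⟩ := he'.2 P' φ' hφ'
    have hle : preimageAlong (S.subtype.comp e.toMonoidHom) P' ≤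
        imageAlong (S.subtype.comp e.symm.toMonoidHom) P' := fun x hx => by
      obtain ⟨hxS, hxP⟩ := H94.mem_preimageAlong.1 hx
      exact H94.mem_imageAlong.2 ⟨e ⟨x, hxS⟩, hxP, by simp⟩
    refine ⟨H96.res φ hle, H96.res_mem F hφ hle, H94.preimageAlong_le, fun x => (F.le_of_mem hφ).2 _,
      fun x => (H94.mem_preimageAlong.1 x.2).2, fun x => ?_⟩
    have hxS := H94.preimageAlong_le x.2
    have h := hind ⟨_, (H94.mem_preimageAlong.1 x.2).2⟩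
    have h' : φ ⟨(x : Ω), hle x.2⟩ = (e.symm ⟨_, hv ⟨_, (H94.mem_preimageAlong.1 x.2).2⟩⟩ : Ω) :=
      Eq.trans (congrArg φ (Subtype.ext (by simp))) h
    show _ = ((e ⟨φ ⟨x, hle x.2⟩, _⟩ : S) : Ω)
    rw [show (⟨φ ⟨(x : Ω), hle x.2⟩, (F.le_of_mem hφ).2 _⟩ : S) =
      e.symm ⟨_, hv ⟨_, (H94.mem_preimageAlong.1 x.2).2⟩⟩ from Subtype.ext h', MulEquiv.apply_symm_apply]
  have hA : F.IsSurjectiveMorphism F a := hsurj α hα hα'
  have hB : F.IsSurjectiveMorphism F b := hsurj α.symm hα' hα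
  obtain ⟨hEn, hcomp, hmin⟩ := hE
  have hT : T ≤ S := hEn.1.2.2.2.1.1
  obtain ⟨E₂, hE₂, hbE⟩ := H96.exists_normal_image hS hF hB (S.subtype_injective.comp α.symm.injective) hEn
  have hsub : E.IsSubsystemOf E₂ := by
    refine hmin _ E₂ hE₂ fun U C hC Q φ hφ => ?_
    obtain ⟨U₁, C₁, η, hC₁, hη, hηe⟩ :=
      H96.exists_component_image hS hF hA (S.subtype_injective.comp α.injective) hC
    obtain ⟨hQU, hφU⟩ := C.le_of_mem hφ
    have hUS := H96.le_of_isSubnormalIn hC.1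
    obtain ⟨φ₁, hφ₁, h₁⟩ := H96.exists_push hη hφ
    obtain ⟨φ₂, hφ₂, h₂⟩ := H96.exists_push hbE (hcomp U₁ C₁ hC₁ _ hφ₁)
    have key : ∀ x (hxQ : x ∈ Q) (hxS : x ∈ S) (h : η ⟨x, hQU hxQ⟩ ∈ S),
        b ⟨η ⟨x, hQU hxQ⟩, h⟩ = x := fun x hxQ hxS h => by
      rw [hb_apply, show (⟨η ⟨x, hQU hxQ⟩, h⟩ : S) = α ⟨x, hxS⟩ from
        Subtype.ext (hηe ⟨x, hQU hxQ⟩ hxS), MulEquiv.symm_apply_apply]
    have hT₁ : ∀ x (hxQ : x ∈ Q), η ⟨x, hQU hxQ⟩ ∈ T := fun x hxQ =>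
      (E.le_of_mem (hcomp U₁ C₁ hC₁ _ hφ₁)).1 (H96.mem_imageAlong_self _ hxQ)
    have hle : Q ≤ imageAlong (b.comp (Subgroup.inclusion hT)) (imageAlong η Q) := fun x hxQ =>
      H94.mem_imageAlong.2 ⟨⟨_, hT₁ x hxQ⟩, H96.mem_imageAlong_self _ hxQ,
        key x hxQ (hUS (hQU hxQ)) (hT (hT₁ x hxQ))⟩
    refine H96.mem_congr E₂ (H96.res_mem E₂ hφ₂ hle) fun x => ?_
    have hxS : (x : Ω) ∈ S := hUS (hQU x.2)
    have hv := (E.le_of_mem (hcomp U₁ C₁ hC₁ _ hφ₁)).2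
      ⟨η ⟨x, hQU x.2⟩, H96.mem_imageAlong_self _ x.2⟩
    have e := h₂ ⟨η ⟨x, hQU x.2⟩, H96.mem_imageAlong_self _ x.2⟩ (hT₁ x x.2) hv
    rw [H96.res_apply]
    refine Eq.symm (Eq.trans (congrArg φ₂ (Subtype.ext (key x x.2 hxS (hT (hT₁ x x.2))).symm)) (e.trans ?_))
    show b ⟨φ₁ ⟨η ⟨x, hQU x.2⟩, _⟩, hT hv⟩ = φ x
    have e₁ := h₁ x (hQU x.2) (hφU x)
    rw [hb_apply, show (⟨φ₁ ⟨η ⟨x, hQU x.2⟩, _⟩, hT hv⟩ : S) = α ⟨φ x, hUS (hφU x)⟩ from
      Subtype.ext (e₁.trans (hηe _ _)), MulEquiv.symm_apply_apply]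
  have hTb : T ≤ imageAlong b T := (E₂.le_of_mem (hsub T (H96.subtype_mem E le_rfl))).1
  have := H96.finite_of_le hT
  have hcard : Nat.card ↥(imageAlong b T) ≤ Nat.card T := by
    refine Nat.card_le_card_of_surjective (fun t : T => ⟨b ⟨t, hT t.2⟩,
      H96.mem_imageAlong_self (hT t.2) t.2⟩) ?_
    rintro ⟨y, hy⟩
    obtain ⟨s, hs, rfl⟩ := H94.mem_imageAlong.1 hy
    exact ⟨⟨s, hs⟩, rfl⟩
  have : Finite ↥(imageAlong b T) :=
    H96.finite_of_le (S := S) (by rintro _ ⟨s, -, rfl⟩; exact (α.symm s).2)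
  have hTeq : imageAlong b T = T := (Subgroup.eq_of_le_of_card_ge hTb hcard).symm
  have hTa : imageAlong a T = T := by
    ext y
    constructor
    · intro hy
      obtain ⟨s, hs, rfl⟩ := H94.mem_imageAlong.1 hy
      obtain ⟨t, ht, e⟩ := H94.mem_imageAlong.1 (hTeq.ge hs)
      rw [show s = α.symm t from Subtype.ext e.symm, ha_apply, MulEquiv.apply_symm_apply]
      exact ht
    · intro hy
      refine H94.mem_imageAlong.2 ⟨α.symm ⟨y, hT hy⟩, ?_, by simp [ha_apply]⟩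
      exact hTeq.le (H96.mem_imageAlong_self (hT hy) hy)
  refine ⟨hTa, fun P φ hφ φ' hφ' => ?_⟩
  obtain ⟨hP, hφS, hm, hind⟩ := hφ'
  obtain ⟨hPT, hφT⟩ := E.le_of_mem hφ
  obtain ⟨ψ, hψ, hψP, hψv, hψm, hψi⟩ := hbE.2.2 P ((hPT.trans hTb)) φ (hsub P hφ)
  have hle : imageAlong a P ≤ preimageAlong (b.comp (Subgroup.inclusion hT)) P := fun y hy => by
    obtain ⟨s, hs, rfl⟩ := H94.mem_imageAlong.1 hy
    refine H94.mem_preimageAlong.2 ⟨hTa.le (H96.mem_imageAlong_self s.2 (hPT hs)), ?_⟩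
    show b ⟨a s, _⟩ ∈ P
    rw [hb_apply, show (⟨a s, _⟩ : S) = α s from Subtype.ext rfl, MulEquiv.symm_apply_apply]
    exact hs
  refine H96.mem_congr E (H96.res_mem E hψ hle) fun y => ?_
  obtain ⟨s, hs, e⟩ := H94.mem_imageAlong.1 y.2
  obtain rfl : y = ⟨a s, H96.mem_imageAlong_self s.2 hs⟩ := Subtype.ext e.symm
  have h1 := hψi ⟨a s, hle (H96.mem_imageAlong_self s.2 hs)⟩
  rw [H96.res_apply]
  have h2 : φ ⟨(s : Ω), hs⟩ = b ⟨ψ ⟨a s, hle (H96.mem_imageAlong_self s.2 hs)⟩, hT (hψv _)⟩ := by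
    refine Eq.trans (congrArg φ (Subtype.ext ?_)) h1
    show (s : Ω) = b ⟨a s, _⟩
    rw [hb_apply, show (⟨a s, _⟩ : S) = α s from Subtype.ext rfl, MulEquiv.symm_apply_apply]
  refine Eq.trans (hind ⟨s, hs⟩) ?_
  rw [ha_apply, show (⟨φ ⟨(s : Ω), hs⟩, hφS _⟩ : S) =
      α.symm ⟨ψ ⟨a s, hle (H96.mem_imageAlong_self s.2 hs)⟩, hT (hψv _)⟩ from Subtype.ext h2,
    MulEquiv.apply_symm_apply]

end Cfsg.Agent.S5311
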