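import Cfsg.Statements.S5199
import Cfsg.Agent.H94.PPowerIndex

set_option autoImplicit false
open Cfsg

namespace Cfsg.Agent.S5199

/-- Let F be a saturated fusion system over a finite p-group S, E a normal subsystem of F over T, and F₀ a normal subsystem of F over a subgroup U containing both T and the hyperfocal subgroup of F, such that F₀ has p-power index in F. Then E is a subsystem of F₀. -/
theorem result {Ω : Type*} [Group Ω] {S : Subgroup Ω} [Finite S] (p : ℕ) [Fact p.Prime] (hS : IsPGroup p S) (F : Cfsg.FusionSystem S) (hF : F.IsSaturated p) {T U : Subgroup Ω} (E : Cfsg.FusionSystem T) (hE : E.IsNormalIn F p) (F₀ : Cfsg.FusionSystem U) (hF₀ : F₀.IsNormalIn F p) (hU : T ⊔ F.hyperfocalSubgroup p ≤ U) (hidx : F₀.HasPPowerIndexIn F p) : E.IsSubsystemOf F₀ := by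
  obtain ⟨⟨hEsat, -, hEF, hTsc, -⟩, -⟩ := hE
  obtain ⟨hF₀F, -, hres⟩ := hidx
  have hTS : T ≤ S := hTsc.1
  have hTU : T ≤ U := le_sup_left.trans hU
  have := Cfsg.Agent.H93.finite_of_le (S := S) hTS
  have hT : IsPGroup p T := hS.to_le hTS
  intro P φ hφ
  open Cfsg.Agent.H96 Cfsg.Agent.H94 in
  refine alperin_induction hT hEsat (fun P φ => φ ∈ F₀.Hom P)
    (fun _ _ hle _ _ hφ' => res_mem F₀ hφ' hle)
    (fun _ _ _ _ _ _ h1 h2 hh => F₀.comp_mem h1 h2 hh) ?_ hφ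
  open Cfsg.Agent.H96 Cfsg.Agent.H94 in
  intro V hV _ _ a ha
  open Cfsg.Agent.H96 Cfsg.Agent.H94 in
  refine (mem_autGroup F₀ (hV.1.trans hTU)).1 ?_
  open Cfsg.Agent.H96 Cfsg.Agent.H94 in
  obtain ⟨hA, -⟩ := fullyNormalized_spec hT hEsat hV
  open Cfsg.Agent.H96 Cfsg.Agent.H94 in
  obtain ⟨k, hk, b, hb, rfl⟩ := exists_pResidual_mul_of_fullyAutomized hA ha
  refine mul_mem (hres V (hV.1.trans hTU) ?_) ?_
  · obtain ⟨κ, hκ, rfl⟩ := hk
    have hle : E.autGroup V ≤ F.autGroup V := fun c hc =>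
      (Cfsg.Agent.H96.mem_autGroup F (hV.1.trans hTS)).2
        (hEF V ((Cfsg.Agent.H96.mem_autGroup E hV.1).1 hc))
    exact ⟨Subgroup.inclusion hle κ, Cfsg.Agent.H50.map_pResidual_le p _ ⟨κ, hκ, rfl⟩, rfl⟩
  · open Cfsg.Agent.H96 Cfsg.Agent.H94 in
    exact autInducedBy_le_autGroup F₀ (hV.1.trans hTU)
      (show b ∈ autInducedBy U V by
        obtain ⟨g, hg, hc⟩ := mem_autInducedBy.1 hb
        exact mem_autInducedBy.2 ⟨g, hTU hg, hc⟩)

end Cfsg.Agent.S5199
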