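import Cfsg.Statements.S5083
import Cfsg.Agent.H93.Saturation
import Cfsg.Agent.H94.SatBasic

set_option autoImplicit false
open Cfsg

namespace Cfsg.Agent.S5083

/-- If F is a saturated fusion system over a finite p-group S in which Aut_F(P) is a p-group for every P ≤ S, then F is the inner fusion system of S (all its maps are conjugations by elements of S). -/
theorem result {Ω : Type*} [Group Ω] {S : Subgroup Ω} [Finite S] (p : ℕ) [Fact p.Prime] (hS : IsPGroup p S) (F : Cfsg.FusionSystem S) (hF : F.IsSaturated p) (h : ∀ P : Subgroup Ω, P ≤ S → IsPGroup p (F.autGroup P)) : F = Cfsg.innerFusionSystem S := by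
  refine H93.fs_antisymm (H94.alperin_le hS hF _ fun U hU _ _ => ?_) ?_
  · obtain ⟨hUS, R, hR⟩ := H93.IsFullyNormalized.isFullyAutomized hS hF hU
    have htop : (R : Subgroup (F.autGroup U)) = ⊤ := by
      refine (R.is_maximal' (Q := ⊤) ?_ le_top).symm
      exact (h U hU.1).to_subgroup _
    intro α hα
    have hm : (⟨α, hα⟩ : F.autGroup U) ∈ (R : Subgroup (F.autGroup U)) := htop ▸ Subgroup.mem_top _
    rw [hR] at hm
    exact H93.autInducedBy_le_autGroup (Cfsg.innerFusionSystem S) hUS (Subgroup.mem_subgroupOf.1 hm)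
  · rintro P φ ⟨hP, g, hg, h⟩
    have e : φ = Cfsg.conjHom P g := MonoidHom.ext h
    rw [e]
    exact F.conj_mem hP hg

end Cfsg.Agent.S5083
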