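import Cfsg.Statements.S0540
import Cfsg.Agent.H32.Subnormal

set_option autoImplicit false
open Pointwise
open Cfsg

namespace Cfsg.Agent.S0540

variable {G : Type*} [Group G] [Finite G] {A : Subgroup G} {S : Subgroup G → Set (Subgroup G)}

theorem conjmem (hS : ∀ V B : Subgroup G, B ∈ S V ↔
    (∃ g : G, B = MulAut.conj g • A) ∧ B ≤ V ∧ (B.subgroupOf V).IsSubnormal)
    {Y B : Subgroup G} {x : G} (hx : x ∈ Y) (hB : B ∈ S Y) : MulAut.conj x • B ∈ S Y := by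
  obtain ⟨⟨g, rfl⟩, hle, hsn⟩ := (hS Y B).mp hB
  refine (hS Y _).mpr ⟨⟨x * g, by rw [map_mul, mul_smul]⟩, ?_, ?_⟩
  · rintro _ ⟨z, hz, rfl⟩
    exact Y.mul_mem (Y.mul_mem hx (hle hz)) (Y.inv_mem hx)
  · have h := hsn.map (f := (MulAut.conj (⟨x, hx⟩ : Y)).toMonoidHom) (MulEquiv.surjective _)
    convert h using 1
    ext y
    constructor
    · rintro ⟨z, hz, e⟩
      exact ⟨⟨z, hle hz⟩, hz, Subtype.ext e⟩
    · rintro ⟨z, hz, rfl⟩
      exact ⟨(z : G), hz, rfl⟩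

theorem relNormalizer (hS : ∀ V B : Subgroup G, B ∈ S V ↔
    (∃ g : G, B = MulAut.conj g • A) ∧ B ≤ V ∧ (B.subgroupOf V).IsSubnormal)
    {Y : Subgroup G} {D : Set (Subgroup G)} (hD : D ⊆ S Y) (hss : D ⊂ S Y) :
    ∃ B ∈ S Y, B ∉ D ∧ B ≤ Subgroup.normalizer ((sSup D : Subgroup G) : Set G) := by
  let D' : Set (Subgroup Y) := (fun B => B.subgroupOf Y) '' D
  have hmap : (sSup D').map Y.subtype = sSup D := by
    apply le_antisymm
    · rw [Subgroup.map_le_iff_le_comap]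
      refine sSup_le ?_
      rintro _ ⟨B, hB, rfl⟩
      exact Subgroup.comap_mono (le_sSup hB)
    · refine sSup_le fun B hB => ?_
      have hle := ((hS Y B).mp (hD hB)).2.1
      rw [← Subgroup.map_subgroupOf_eq_of_le hle]
      exact Subgroup.map_mono (le_sSup ⟨B, hB, rfl⟩)
  have hsn : (sSup D').IsSubnormal := Cfsg.Agent.H32.isSubnormal_sSup _ (by
    rintro _ ⟨B, hB, rfl⟩; exact ((hS Y B).mp (hD hB)).2.2)
  by_cases hn : (sSup D').Normal
  · obtain ⟨B, hB, hBD⟩ := Set.exists_of_ssubset hss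
    refine ⟨B, hB, hBD, ((hS Y B).mp hB).2.1.trans ?_⟩
    rw [← hmap]
    have := Subgroup.le_normalizer_map (H := sSup D') Y.subtype
    rw [Subgroup.normalizer_eq_top, ← MonoidHom.range_eq_map, Subgroup.range_subtype] at this
    exact this
  · obtain ⟨_, ⟨B, hB, rfl⟩, g, h1, h2⟩ :=
      Cfsg.Agent.H32.exists_conj_le_normalizer_sSup D' hsn hn
    have hle := ((hS Y B).mp (hD hB)).2.1
    have he : (MulAut.conj g • B.subgroupOf Y).map Y.subtype = MulAut.conj (g : G) • B := by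
      ext y
      constructor
      · rintro ⟨_, ⟨z, hz, rfl⟩, rfl⟩
        exact ⟨(z : G), hz, rfl⟩
      · rintro ⟨z, hz, rfl⟩
        exact ⟨g * ⟨z, hle hz⟩ * g⁻¹, ⟨⟨z, hle hz⟩, hz, rfl⟩, rfl⟩
    refine ⟨_, conjmem hS g.2 (hD hB), fun hc => h2 ?_, ?_⟩
    · rw [← Subgroup.map_le_map_iff_of_injective Y.subtype_injective, he, hmap]
      exact le_sSup hc
    · rw [← he, ← hmap]
      exact (Subgroup.map_mono h1).trans (Subgroup.le_normalizer_map Y.subtype)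


/-- A uniqueness lemma of zipper type. Let A be a subgroup of a finite group G and U a nonempty family of subgroups. For V in U write S(V) for the set of conjugates of A that lie in V and are subnormal in V. Assume: A belongs to S(V) for every V in U; a member of some S(W) that lies in V belongs to S(V); and for all V, W in U the normalizer of the join of S(V) ∩ S(W) lies in some member of U. Then U has a greatest element. -/
theorem result {G : Type*} [Group G] [Finite G] (A : Subgroup G) (U : Set (Subgroup G)) (hU : U.Nonempty) (S : Subgroup G → Set (Subgroup G)) (hS : ∀ V B : Subgroup G, B ∈ S V ↔ (∃ g : G, B = MulAut.conj g • A) ∧ B ≤ V ∧ (B.subgroupOf V).IsSubnormal) (h1 : ∀ V ∈ U, A ∈ S V) (h2 : ∀ V ∈ U, ∀ W ∈ U, ∀ B ∈ S W, B ≤ V → B ∈ S V) (h3 : ∀ V ∈ U, ∀ W ∈ U, ∃ X ∈ U, Subgroup.normalizer ((sSup (S V ∩ S W) : Subgroup G) : Set G) ≤ X) : ∃ M ∈ U, ∀ V ∈ U, V ≤ M := by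
  have hfin : U.Finite := U.toFinite
  obtain ⟨V0, hV0⟩ := hU
  have hmax : ∀ V ∈ U, ∃ M ∈ U, V ≤ M ∧ ∀ X ∈ U, M ≤ X → X = M := by
    intro V hV
    obtain ⟨M, ⟨hM, hVM⟩, hMm⟩ := (wellFounded_gt (α := Subgroup G)).has_min
      {X | X ∈ U ∧ V ≤ X} ⟨V, hV, le_rfl⟩
    exact ⟨M, hM, hVM, fun X hX hMX => by_contra fun hne =>
      hMm X ⟨hX, hVM.trans hMX⟩ (lt_of_le_of_ne hMX (Ne.symm hne))⟩
  let P : Set (Subgroup G × Subgroup G) := {q | q.1 ∈ U ∧ q.2 ∈ U ∧ q.1 ≠ q.2 ∧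
    (∀ X ∈ U, q.1 ≤ X → X = q.1) ∧ (∀ X ∈ U, q.2 ≤ X → X = q.2)}
  by_contra hcon
  have hP : P.Nonempty := by
    obtain ⟨M, hM, -, hMm⟩ := hmax V0 hV0
    push Not at hcon
    obtain ⟨V, hV, hVM⟩ := hcon M hM
    obtain ⟨N, hN, hVN, hNm⟩ := hmax V hV
    exact ⟨(M, N), hM, hN, fun e => hVM (hVN.trans (le_of_eq (Eq.symm e))), hMm, hNm⟩
  obtain ⟨⟨V, W⟩, ⟨hV, hW, hne, hVm, hWm⟩, hbest⟩ :=
    (InvImage.wf (fun q : Subgroup G × Subgroup G => S q.1 ∩ S q.2)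
      (wellFounded_gt (α := Set (Subgroup G)))).has_min P hP
  simp only at hne hVm hWm
  obtain ⟨X0, hX0, hX0le⟩ := h3 V hV W hW
  obtain ⟨X, hX, hXle, hXm⟩ := hmax X0 hX0
  have hNX : Subgroup.normalizer ((sSup (S V ∩ S W) : Subgroup G) : Set G) ≤ X :=
    hX0le.trans hXle
  have hDle : ∀ B ∈ S V ∩ S W, B ∈ S X := fun B hB =>
    h2 X hX V hV B hB.1 ((le_sSup hB).trans (Subgroup.le_normalizer.trans hNX))
  have hsub : ∀ {Y B : Subgroup G}, B ∈ S Y → B ≤ Y := fun {Y B} h => ((hS Y B).mp h).2.1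
  have main : ∀ Y, Y ∈ U → (∀ Z ∈ U, Y ≤ Z → Z = Y) → S V ∩ S W ⊆ S Y →
      (∀ Z, Z ∈ U → Y ≠ Z → (∀ T ∈ U, Z ≤ T → T = Z) → ¬ (S V ∩ S W ⊂ S Y ∩ S Z)) → Y = X := by
    intro Y hY hYm hDY hYb
    rcases hDY.eq_or_ssubset with heq | hss
    · have hle : Y ≤ X := by
        refine le_trans ?_ hNX
        rw [heq]
        intro y hy
        rw [Subgroup.mem_normalizer_iff]
        have e : ∀ x ∈ Y, ∀ z ∈ sSup (S Y), x * z * x⁻¹ ∈ sSup (S Y) := by
          intro x hx z hz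
          have : sSup (S Y) ≤ (sSup (S Y)).comap (MulAut.conj x).toMonoidHom := by
            refine sSup_le fun B hB => ?_
            rw [← Subgroup.map_le_iff_le_comap]
            exact le_sSup (conjmem hS hx hB)
          exact this hz
        intro z
        refine ⟨e y hy z, fun hz => ?_⟩
        have := e y⁻¹ (Y.inv_mem hy) _ hz
        simpa [mul_assoc] using this
      exact (hYm X hX hle).symm
    · obtain ⟨B, hB, hBD, hBn⟩ := relNormalizer hS hDY hss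
      by_contra hYX
      refine hYb X hX hYX hXm ⟨fun C hC => ⟨hDY hC, hDle C hC⟩, fun hc => hBD (hc ⟨hB, ?_⟩)⟩
      exact h2 X hX Y hY B hB (hBn.trans hNX)
  have eV := main V hV hVm Set.inter_subset_left (fun Z hZ hne' hZm hlt =>
    hbest (V, Z) ⟨hV, hZ, hne', hVm, hZm⟩ hlt)
  have eW := main W hW hWm Set.inter_subset_right (fun Z hZ hne' hZm hlt =>
    hbest (W, Z) ⟨hW, hZ, hne', hWm, hZm⟩ hlt)
  exact hne (eV.trans eW.symm)

end Cfsg.Agent.S0540
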