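import Cfsg.Statements.S0647
import Cfsg.Agent.H35.Family

set_option autoImplicit false
open Cfsg

namespace Cfsg.Agent.S0647

/-- For a nonempty family of maximal abelian subgroups of a finite group, the intersection of the family is the centre of the subgroup it generates, which is also the full centralizer of that subgroup. -/
theorem result {S : Type*} [Group S] [Finite S] (𝒜 : Set (Subgroup S)) (hne : 𝒜.Nonempty) (hab : ∀ A ∈ 𝒜, IsMulCommutative A) (hmax : ∀ A ∈ 𝒜, ∀ B : Subgroup S, IsMulCommutative B → A ≤ B → B = A) : sInf 𝒜 = sSup 𝒜 ⊓ Subgroup.centralizer ((sSup 𝒜 : Subgroup S) : Set S) ∧ sInf 𝒜 = Subgroup.centralizer ((sSup 𝒜 : Subgroup S) : Set S) := by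
  have h := Cfsg.Agent.H35.sInf_eq_sSup_inf_centralizer (T := ⊤) hne (fun A _ => le_top) hab
    (fun A hA z _ hz => ?_)
  · exact ⟨h.1, h.2.trans (top_inf_eq _)⟩
  · have := hmax A hA _ (Cfsg.Agent.H35.isMulCommutative_sup_zpowers (hab A hA) hz) le_sup_left
    rw [← this]
    exact Subgroup.mem_sup_right (Subgroup.mem_zpowers z)

end Cfsg.Agent.S0647
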