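import Cfsg.Statements.S0652
import Cfsg.Agent.H35.Family

set_option autoImplicit false
open Cfsg

namespace Cfsg.Agent.S0652

/-- For odd p and D normal in the p-group S, the elementary abelian subgroups of D of largest order satisfy the replacement property for class-2 normal subgroups of S. -/
theorem result {S : Type*} [Group S] [Finite S] {p : ℕ} [Fact p.Prime] (hS : IsPGroup p S) (hp : p ≠ 2) (D : Subgroup S) [D.Normal] : ∀ (B : Subgroup S) [B.Normal], ⁅⁅B, B⁆, B⁆ = ⊥ → (∃ U ∈ (Set.image (fun A : Subgroup ↥D => A.map D.subtype) (Cfsg.maxElementaryAbelianSubgroups p ↥D)), ⁅B, B⁆ ≤ U ∧ ¬ B ≤ U) → ∃ A ∈ (Set.image (fun A : Subgroup ↥D => A.map D.subtype) (Cfsg.maxElementaryAbelianSubgroups p ↥D)), ⁅B, B⁆ ≤ A ∧ ¬ B ≤ A ∧ B ≤ Subgroup.normalizer (A : Set S) := by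
  intro B _ _ hU
  obtain ⟨U, ⟨U', hU', rfl⟩, hBU, hnU⟩ := hU
  obtain ⟨A, hAD, hPA, hcard, hBA, hnA, hN⟩ :=
    Cfsg.Agent.H35.exists_normalized_of_replacement hS hp D B
      (fun A => Cfsg.IsElementaryAbelian p A) (fun A h => h.1)
      (fun A A' hA h _ he => Cfsg.Agent.H35.isElementaryAbelian_of_exponent_dvd hA h he)
      (U'.map D.subtype) (Subgroup.map_subtype_le U')
      ⟨Cfsg.Agent.H35.isMulCommutative_of_forall (by
        rintro _ ⟨x, hx, rfl⟩ _ ⟨y, hy, rfl⟩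
        rw [← map_mul, Cfsg.Agent.H35.commute_of_mem_isMulCommutative hU'.1.1 hx hy, map_mul]),
      (by
        rintro _ ⟨x, hx, rfl⟩
        rw [← map_pow, hU'.1.2 x hx, map_one])⟩
      hBU hnU
  refine ⟨A, ⟨A.subgroupOf D, ⟨⟨?_, ?_⟩, fun C hC => ?_⟩, ?_⟩, hBA, hnA, hN⟩
  · exact Cfsg.Agent.H35.isMulCommutative_of_forall fun x hx y hy =>
      Subtype.ext (Cfsg.Agent.H35.commute_of_mem_isMulCommutative hPA.1 hx hy)
  · exact fun a ha => Subtype.ext (hPA.2 _ ha)
  · rw [Nat.card_congr (Subgroup.subgroupOfEquivOfLe hAD).toEquiv, hcard,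
      Subgroup.card_map_of_injective D.subtype_injective]
    exact hU'.2 C hC
  · exact (Subgroup.subgroupOf_map_subtype A D).trans (inf_eq_left.2 hAD)

end Cfsg.Agent.S0652
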