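import Cfsg.Statements.S0692
import Mathlib
import Cfsg.Agent.H36.SmallLinear
-- import your own Cfsg.Agent.* helpers here

set_option autoImplicit false
open Cfsg

namespace Cfsg.Agent.S0692

/-- An exceptional sharply doubly transitive group of degree 11^2: the listed matrices generate a subgroup of GL(2,11) of order 120 acting regularly on the non-zero vectors. -/
theorem result (A : Matrix.GeneralLinearGroup (Fin 2) (ZMod 11)) (B : Matrix.GeneralLinearGroup (Fin 2) (ZMod 11)) (hA : (A : Matrix (Fin 2) (Fin 2) (ZMod 11)) = !![0, -1; 1, 0]) (hB : (B : Matrix (Fin 2) (Fin 2) (ZMod 11)) = !![2, 4; 1, -3]) : Nat.card (Subgroup.closure ({A, B} : Set (Matrix.GeneralLinearGroup (Fin 2) (ZMod 11)))) = 120 ∧ ∀ v w : Fin 2 → ZMod 11, v ≠ 0 → w ≠ 0 → ∃! h : Subgroup.closure ({A, B} : Set (Matrix.GeneralLinearGroup (Fin 2) (ZMod 11))), Matrix.mulVec ((h : Matrix.GeneralLinearGroup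 (Fin 2) (ZMod 11)) : Matrix (Fin 2) (Fin 2) (ZMod 11)) v = w := by
  have eA : (A : Matrix (Fin 2) (Fin 2) (ZMod 11)) = Cfsg.Agent.H36.qmat ((0, 10, 1, 0) : Cfsg.Agent.H36.Quad 11) :=
    hA.trans (by decide)
  have eB : (B : Matrix (Fin 2) (Fin 2) (ZMod 11)) = Cfsg.Agent.H36.qmat ((2, 4, 1, 8) : Cfsg.Agent.H36.Quad 11) :=
    hB.trans (by decide)
  let gens : List (Cfsg.Agent.H36.Quad 11) := [(0, 10, 1, 0), (2, 4, 1, 8)]
  let words : List (List ℕ) := [[],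
      [0],
      [1],
      [0,0],
      [0,1],
      [1,0],
      [1,1],
      [0,0,0],
      [0,0,1],
      [0,1,0],
      [0,1,1],
      [1,0,1],
      [1,1,0],
      [0,0,0,1],
      [0,0,1,0],
      [0,0,1,1],
      [0,1,0,1],
      [0,1,1,0],
      [1,0,1,0],
      [1,0,1,1],
      [1,1,0,1],
      [0,0,0,1,0],
      [0,0,0,1,1],
      [0,0,1,0,1],
      [0,0,1,1,0],
      [0,1,0,1,0],
      [0,1,0,1,1],
      [0,1,1,0,1],
      [1,0,1,0,1],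
      [1,0,1,1,0],
      [1,1,0,1,0],
      [1,1,0,1,1],
      [0,0,0,1,0,1],
      [0,0,0,1,1,0],
      [0,0,1,0,1,0],
      [0,0,1,0,1,1],
      [0,0,1,1,0,1],
      [0,1,0,1,0,1],
      [0,1,0,1,1,0],
      [0,1,1,0,1,0],
      [0,1,1,0,1,1],
      [1,0,1,0,1,1],
      [1,0,1,1,0,1],
      [1,1,0,1,0,1],
      [0,0,0,1,0,1,0],
      [0,0,0,1,0,1,1],
      [0,0,0,1,1,0,1],
      [0,0,1,0,1,0,1],
      [0,0,1,0,1,1,0],
      [0,0,1,1,0,1,0],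
      [0,0,1,1,0,1,1],
      [0,1,0,1,0,1,1],
      [0,1,0,1,1,0,1],
      [0,1,1,0,1,0,1],
      [1,0,1,0,1,1,0],
      [1,0,1,1,0,1,0],
      [1,0,1,1,0,1,1],
      [1,1,0,1,0,1,1],
      [0,0,0,1,0,1,0,1],
      [0,0,0,1,0,1,1,0],
      [0,0,0,1,1,0,1,0],
      [0,0,0,1,1,0,1,1],
      [0,0,1,0,1,0,1,1],
      [0,0,1,0,1,1,0,1],
      [0,0,1,1,0,1,0,1],
      [0,1,0,1,0,1,1,0],
      [0,1,0,1,1,0,1,0],
      [0,1,0,1,1,0,1,1],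
      [0,1,1,0,1,0,1,1],
      [1,0,1,0,1,1,0,1],
      [1,0,1,1,0,1,0,1],
      [1,1,0,1,0,1,1,0],
      [0,0,0,1,0,1,0,1,1],
      [0,0,0,1,0,1,1,0,1],
      [0,0,0,1,1,0,1,0,1],
      [0,0,1,0,1,0,1,1,0],
      [0,0,1,0,1,1,0,1,0],
      [0,0,1,0,1,1,0,1,1],
      [0,0,1,1,0,1,0,1,1],
      [0,1,0,1,0,1,1,0,1],
      [0,1,0,1,1,0,1,0,1],
      [0,1,1,0,1,0,1,1,0],
      [1,0,1,0,1,1,0,1,0],
      [1,0,1,0,1,1,0,1,1],
      [1,0,1,1,0,1,0,1,1],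
      [1,1,0,1,0,1,1,0,1],
      [0,0,0,1,0,1,0,1,1,0],
      [0,0,0,1,0,1,1,0,1,0],
      [0,0,0,1,0,1,1,0,1,1],
      [0,0,0,1,1,0,1,0,1,1],
      [0,0,1,0,1,0,1,1,0,1],
      [0,0,1,0,1,1,0,1,0,1],
      [0,0,1,1,0,1,0,1,1,0],
      [0,1,0,1,0,1,1,0,1,0],
      [0,1,0,1,0,1,1,0,1,1],
      [0,1,0,1,1,0,1,0,1,1],
      [0,1,1,0,1,0,1,1,0,1],
      [1,0,1,0,1,1,0,1,0,1],
      [1,0,1,1,0,1,0,1,1,0],
      [1,1,0,1,0,1,1,0,1,0],
      [0,0,0,1,0,1,0,1,1,0,1],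
      [0,0,0,1,0,1,1,0,1,0,1],
      [0,0,1,0,1,0,1,1,0,1,0],
      [0,0,1,0,1,0,1,1,0,1,1],
      [0,0,1,0,1,1,0,1,0,1,1],
      [0,0,1,1,0,1,0,1,1,0,1],
      [0,1,0,1,1,0,1,0,1,1,0],
      [0,1,1,0,1,0,1,1,0,1,0],
      [1,0,1,0,1,1,0,1,0,1,1],
      [1,0,1,1,0,1,0,1,1,0,1],
      [1,1,0,1,0,1,1,0,1,0,1],
      [0,0,0,1,0,1,0,1,1,0,1,0],
      [0,0,0,1,0,1,0,1,1,0,1,1],
      [0,0,0,1,0,1,1,0,1,0,1,1],
      [0,0,1,1,0,1,0,1,1,0,1,0],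
      [0,1,0,1,1,0,1,0,1,1,0,1],
      [0,1,1,0,1,0,1,1,0,1,0,1],
      [1,0,1,0,1,1,0,1,0,1,1,0],
      [1,0,1,1,0,1,0,1,1,0,1,0],
      [1,1,0,1,0,1,1,0,1,0,1,1]]
  have hc : Cfsg.Agent.H36.qcheck gens words = true := by decide +kernel
  haveI hpF : Fact (Nat.Prime 11) := ⟨by norm_num⟩
  obtain ⟨hcard, hfree⟩ := Cfsg.Agent.H36.closure_of_qcheck gens words hc ({A, B} : Set (Matrix.GeneralLinearGroup (Fin 2) (ZMod 11))) (by
    intro g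
    simp only [gens, List.map_cons, List.map_nil, List.mem_cons, List.not_mem_nil, or_false,
      Set.mem_insert_iff, Set.mem_singleton_iff]
    simp only [← eA, ← eB, Units.val_inj]) (by
    intro x hx
    simp only [gens, List.mem_cons, List.not_mem_nil, or_false] at hx
    rcases hx with rfl | rfl
    · exact ⟨A, eA⟩
    · exact ⟨B, eB⟩
    )
  exact ⟨hcard.trans rfl, Cfsg.Agent.H36.regular_of_semiregular _ (hcard.trans rfl) hfree⟩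

end Cfsg.Agent.S0692
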