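import Cfsg.Statements.S0693
import Mathlib
import Cfsg.Agent.H36.SmallLinear
-- import your own Cfsg.Agent.* helpers here

set_option autoImplicit false
open Cfsg

namespace Cfsg.Agent.S0693

/-- An exceptional sharply doubly transitive group of degree 59^2: the listed matrices generate a subgroup of GL(2,59) of order 3480 acting regularly on the non-zero vectors. -/
theorem result (A : Matrix.GeneralLinearGroup (Fin 2) (ZMod 59)) (B : Matrix.GeneralLinearGroup (Fin 2) (ZMod 59)) (C : Matrix.GeneralLinearGroup (Fin 2) (ZMod 59)) (hA : (A : Matrix (Fin 2) (Fin 2) (ZMod 59)) = !![0, -1; 1, 0]) (hB : (B : Matrix (Fin 2) (Fin 2) (ZMod 59)) = !![9, 15; -10, -10]) (hC : (C : Matrix (Fin 2) (Fin 2) (ZMod 59)) = !![4, 0; 0, 4]) : Nat.card (Subgroup.closure ({A, B, C} : Set (Matrix.GeneralLinearGroup (Fin 2) (ZMod 59)))) = 3480 ∧ ∀ v w : Fin 2 → ZMod 59, v ≠ 0 → w ≠ 0 → ∃! h : Subgroup.closure ({A, B, C} : Set (Matrix.GeneralLinearGroup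 (Fin 2) (ZMod 59))), Matrix.mulVec ((h : Matrix.GeneralLinearGroup (Fin 2) (ZMod 59)) : Matrix (Fin 2) (Fin 2) (ZMod 59)) v = w := by
  have eA : (A : Matrix (Fin 2) (Fin 2) (ZMod 59)) = Cfsg.Agent.H36.qmat ((0, 58, 1, 0) : Cfsg.Agent.H36.Quad 59) :=
    hA.trans (by decide)
  have eB : (B : Matrix (Fin 2) (Fin 2) (ZMod 59)) = Cfsg.Agent.H36.qmat ((9, 15, 49, 49) : Cfsg.Agent.H36.Quad 59) :=
    hB.trans (by decide)
  have hC4 : (!![4, 0; 0, 4] : Matrix (Fin 2) (Fin 2) (ZMod 59)) = (4 : ZMod 59) • 1 := by decide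
  have h429 : (4 : ZMod 59) ^ 29 = 1 := by decide
  have h41 : ¬ (4 : ZMod 59) = 1 := by decide
  have h10 : (1 : ZMod 59) ≠ 0 := by decide
  let gens : List (Cfsg.Agent.H36.Quad 59) := [(0, 58, 1, 0), (9, 15, 49, 49)]
  let words : List (List ℕ) := [[],
      [0],
      [1],
      [0,0],
      [0,1],
      [1,0],
      [1,1],
      [0,0,0],
      [0,0,1],
      [0,1,0],
      [0,1,1],
      [1,0,1],
      [1,1,0],
      [0,0,0,1],
      [0,0,1,0],
      [0,0,1,1],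
      [0,1,0,1],
      [0,1,1,0],
      [1,0,1,0],
      [1,0,1,1],
      [1,1,0,1],
      [0,0,0,1,0],
      [0,0,0,1,1],
      [0,0,1,0,1],
      [0,0,1,1,0],
      [0,1,0,1,0],
      [0,1,0,1,1],
      [0,1,1,0,1],
      [1,0,1,0,1],
      [1,0,1,1,0],
      [1,1,0,1,0],
      [1,1,0,1,1],
      [0,0,0,1,0,1],
      [0,0,0,1,1,0],
      [0,0,1,0,1,0],
      [0,0,1,0,1,1],
      [0,0,1,1,0,1],
      [0,1,0,1,0,1],
      [0,1,0,1,1,0],
      [0,1,1,0,1,0],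
      [0,1,1,0,1,1],
      [1,0,1,0,1,1],
      [1,0,1,1,0,1],
      [1,1,0,1,0,1],
      [0,0,0,1,0,1,0],
      [0,0,0,1,0,1,1],
      [0,0,0,1,1,0,1],
      [0,0,1,0,1,0,1],
      [0,0,1,0,1,1,0],
      [0,0,1,1,0,1,0],
      [0,0,1,1,0,1,1],
      [0,1,0,1,0,1,1],
      [0,1,0,1,1,0,1],
      [0,1,1,0,1,0,1],
      [1,0,1,0,1,1,0],
      [1,0,1,1,0,1,0],
      [1,0,1,1,0,1,1],
      [1,1,0,1,0,1,1],
      [0,0,0,1,0,1,0,1],
      [0,0,0,1,0,1,1,0],
      [0,0,0,1,1,0,1,0],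
      [0,0,0,1,1,0,1,1],
      [0,0,1,0,1,0,1,1],
      [0,0,1,0,1,1,0,1],
      [0,0,1,1,0,1,0,1],
      [0,1,0,1,0,1,1,0],
      [0,1,0,1,1,0,1,0],
      [0,1,0,1,1,0,1,1],
      [0,1,1,0,1,0,1,1],
      [1,0,1,0,1,1,0,1],
      [1,0,1,1,0,1,0,1],
      [1,1,0,1,0,1,1,0],
      [0,0,0,1,0,1,0,1,1],
      [0,0,0,1,0,1,1,0,1],
      [0,0,0,1,1,0,1,0,1],
      [0,0,1,0,1,0,1,1,0],
      [0,0,1,0,1,1,0,1,0],
      [0,0,1,0,1,1,0,1,1],
      [0,0,1,1,0,1,0,1,1],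
      [0,1,0,1,0,1,1,0,1],
      [0,1,0,1,1,0,1,0,1],
      [0,1,1,0,1,0,1,1,0],
      [1,0,1,0,1,1,0,1,0],
      [1,0,1,0,1,1,0,1,1],
      [1,0,1,1,0,1,0,1,1],
      [1,1,0,1,0,1,1,0,1],
      [0,0,0,1,0,1,0,1,1,0],
      [0,0,0,1,0,1,1,0,1,0],
      [0,0,0,1,0,1,1,0,1,1],
      [0,0,0,1,1,0,1,0,1,1],
      [0,0,1,0,1,0,1,1,0,1],
      [0,0,1,0,1,1,0,1,0,1],
      [0,0,1,1,0,1,0,1,1,0],
      [0,1,0,1,0,1,1,0,1,0],
      [0,1,0,1,0,1,1,0,1,1],
      [0,1,0,1,1,0,1,0,1,1],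
      [0,1,1,0,1,0,1,1,0,1],
      [1,0,1,0,1,1,0,1,0,1],
      [1,0,1,1,0,1,0,1,1,0],
      [1,1,0,1,0,1,1,0,1,0],
      [0,0,0,1,0,1,0,1,1,0,1],
      [0,0,0,1,0,1,1,0,1,0,1],
      [0,0,1,0,1,0,1,1,0,1,0],
      [0,0,1,0,1,0,1,1,0,1,1],
      [0,0,1,0,1,1,0,1,0,1,1],
      [0,0,1,1,0,1,0,1,1,0,1],
      [0,1,0,1,1,0,1,0,1,1,0],
      [0,1,1,0,1,0,1,1,0,1,0],
      [1,0,1,0,1,1,0,1,0,1,1],
      [1,0,1,1,0,1,0,1,1,0,1],
      [1,1,0,1,0,1,1,0,1,0,1],
      [0,0,0,1,0,1,0,1,1,0,1,0],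
      [0,0,0,1,0,1,0,1,1,0,1,1],
      [0,0,0,1,0,1,1,0,1,0,1,1],
      [0,0,1,1,0,1,0,1,1,0,1,0],
      [0,1,0,1,1,0,1,0,1,1,0,1],
      [0,1,1,0,1,0,1,1,0,1,0,1],
      [1,0,1,0,1,1,0,1,0,1,1,0],
      [1,0,1,1,0,1,0,1,1,0,1,0],
      [1,1,0,1,0,1,1,0,1,0,1,1]]
  have hc : Cfsg.Agent.H36.qcheck gens words = true := by decide +kernel
  haveI hpF : Fact (Nat.Prime 59) := ⟨by norm_num⟩
  obtain ⟨hcard, hfree⟩ := Cfsg.Agent.H36.closure_of_qcheck gens words hc ({A, B} : Set (Matrix.GeneralLinearGroup (Fin 2) (ZMod 59))) (by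
    intro g
    simp only [gens, List.map_cons, List.map_nil, List.mem_cons, List.not_mem_nil, or_false,
      Set.mem_insert_iff, Set.mem_singleton_iff]
    simp only [← eA, ← eB, Units.val_inj]) (by
    intro x hx
    simp only [gens, List.mem_cons, List.not_mem_nil, or_false] at hx
    rcases hx with rfl | rfl
    · exact ⟨A, eA⟩
    · exact ⟨B, eB⟩
    )
  classical
  set H₀ := Subgroup.closure ({A, B} : Set (Matrix.GeneralLinearGroup (Fin 2) (ZMod 59))) with hH₀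
  set H := Subgroup.closure ({A, B, C} : Set (Matrix.GeneralLinearGroup (Fin 2) (ZMod 59))) with hH
  have hH₀card : Nat.card H₀ = 120 := hcard.trans rfl
  have hCval : (C : Matrix (Fin 2) (Fin 2) (ZMod 59)) = (4 : ZMod 59) • 1 := hC.trans hC4
  have hCpow : ∀ n : ℕ, ((C ^ n : Matrix.GeneralLinearGroup (Fin 2) (ZMod 59)) :
      Matrix (Fin 2) (Fin 2) (ZMod 59)) = (4 : ZMod 59) ^ n • 1 := fun n => by
    rw [Units.val_pow_eq_pow_val, hCval, smul_pow, one_pow]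
  have hCcomm : ∀ g : Matrix.GeneralLinearGroup (Fin 2) (ZMod 59), Commute g C := fun g => by
    apply Units.ext
    rw [Units.val_mul, Units.val_mul, hCval, mul_smul_comm, smul_mul_assoc, mul_one, one_mul]
  have hCord : orderOf C = 29 := by
    haveI : Fact (Nat.Prime 29) := ⟨by norm_num⟩
    refine orderOf_eq_prime (Units.ext ?_) fun h => ?_
    · rw [hCpow, Units.val_one, h429, one_smul]
    · have h1 := congrArg (fun g : Matrix.GeneralLinearGroup (Fin 2) (ZMod 59) =>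
        (g : Matrix (Fin 2) (Fin 2) (ZMod 59)) 0 0) h
      simp [hC] at h1
      exact h41 h1
  let mulHom : H₀ × Subgroup.zpowers C →* Matrix.GeneralLinearGroup (Fin 2) (ZMod 59) :=
    H₀.subtype.noncommCoprod (Subgroup.zpowers C).subtype (fun h z => by
      obtain ⟨k, hk⟩ := Subgroup.mem_zpowers_iff.1 z.2
      change Commute (h : Matrix.GeneralLinearGroup (Fin 2) (ZMod 59)) z
      rw [← hk]
      exact (hCcomm h).zpow_right k)
  have hmul : ∀ x, mulHom x = (x.1 : Matrix.GeneralLinearGroup (Fin 2) (ZMod 59)) * x.2 := fun x => rfl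
  have hrange : mulHom.range = H := by
    refine le_antisymm ?_ ((Subgroup.closure_le _).2 ?_)
    · rintro _ ⟨x, rfl⟩
      rw [hmul]
      exact mul_mem (Subgroup.closure_mono (Set.insert_subset_insert (by simp)) x.1.2)
        (Subgroup.zpowers_le.2 (Subgroup.subset_closure (by simp)) x.2.2)
    · rintro g (rfl | rfl | rfl)
      · exact ⟨(⟨g, Subgroup.subset_closure (by simp)⟩, 1), by simp [hmul]⟩
      · exact ⟨(⟨g, Subgroup.subset_closure (by simp)⟩, 1), by simp [hmul]⟩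
      · exact ⟨(1, ⟨g, Subgroup.mem_zpowers g⟩), by simp [hmul]⟩
  -- an element `h * z` fixing a nonzero vector is trivial
  have hkey : ∀ x : H₀ × Subgroup.zpowers C, ∀ v : Fin 2 → ZMod 59, v ≠ 0 →
      ((mulHom x : Matrix.GeneralLinearGroup (Fin 2) (ZMod 59)) :
        Matrix (Fin 2) (Fin 2) (ZMod 59)).mulVec v = v → x = 1 := by
    intro x v hv hfix
    have hiter : ∀ k : ℕ, ((mulHom (x ^ k) : Matrix.GeneralLinearGroup (Fin 2) (ZMod 59)) :
        Matrix (Fin 2) (Fin 2) (ZMod 59)).mulVec v = v := by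
      intro k
      induction k with
      | zero => simp
      | succ k ih => rw [pow_succ, map_mul, Units.val_mul, ← Matrix.mulVec_mulVec, hfix, ih]
    obtain ⟨n, hn⟩ := (isOfFinOrder_of_finite C).mem_powers_iff_mem_zpowers.2 x.2.2
    simp only at hn
    have h120 := hiter 120
    have hx1 : x.1 ^ 120 = 1 := by rw [← hH₀card]; exact pow_card_eq_one'
    rw [hmul, Prod.pow_fst, hx1, Subgroup.coe_one, one_mul, Prod.pow_snd, SubmonoidClass.coe_pow,
      ← hn, ← pow_mul, hCpow, Matrix.smul_mulVec, Matrix.one_mulVec] at h120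
    have h4 : C ^ (n * 120) = 1 := by
      apply Units.ext
      have h5 : (4 : ZMod 59) ^ (n * 120) = 1 := by
        by_contra hne
        apply hv
        have h6 : ((4 : ZMod 59) ^ (n * 120) - 1) • v = 0 := by rw [sub_smul, one_smul, h120, sub_self]
        exact (smul_eq_zero.1 h6).resolve_left (sub_ne_zero.2 hne)
      rw [hCpow, h5, one_smul, Units.val_one]
    have h29 : 29 ∣ n := by
      rw [← orderOf_dvd_iff_pow_eq_one, hCord] at h4
      exact (Nat.Coprime.dvd_of_dvd_mul_right (by norm_num) h4)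
    have hx2 : x.2 = 1 := by
      refine Subtype.ext ?_
      rw [← hn, Subgroup.coe_one, ← orderOf_dvd_iff_pow_eq_one, hCord]
      exact h29
    have hx : x.1 = 1 := by
      rw [hmul, hx2, Subgroup.coe_one, mul_one] at hfix
      exact Subtype.ext (hfree _ x.1.2 v hv hfix)
    exact Prod.ext hx hx2
  have hinj : Function.Injective mulHom := by
    rw [← MonoidHom.ker_eq_bot_iff, Subgroup.eq_bot_iff_forall]
    intro x hx
    refine hkey x (fun _ => 1) (fun h => h10 (congrFun h 0)) ?_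
    rw [MonoidHom.mem_ker.1 hx, Units.val_one, Matrix.one_mulVec]
  have hcardH : Nat.card H = 3480 := by
    rw [← hrange, Nat.card_congr (MonoidHom.ofInjective hinj).symm.toEquiv, Nat.card_prod, hH₀card,
      Nat.card_zpowers, hCord]
  refine ⟨hcardH, Cfsg.Agent.H36.regular_of_semiregular H (hcardH.trans (by norm_num)) ?_⟩
  intro h hh v hv hfix
  rw [← hrange] at hh
  obtain ⟨x, rfl⟩ := hh
  rw [hkey x v hv hfix, map_one]

end Cfsg.Agent.S0693
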