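import Cfsg.Statements.S5726
-- import your own Cfsg.Agent.* helpers here

set_option autoImplicit false
open Cfsg

namespace Cfsg.Agent.S5726

/-- In a finite set a subset with at least as many elements as the whole is everything. -/
theorem eq_univ_of_card_le {Ω : Type*} [Fintype Ω] {s : Set Ω}
    (h : Fintype.card Ω ≤ Nat.card s) : s = Set.univ := by
  apply Set.eq_of_subset_of_ncard_le (Set.subset_univ s) ?_ Set.finite_univ
  rw [Set.ncard_univ, Nat.card_eq_fintype_card]
  rwa [Nat.card_coe_set_eq] at h

/-- Orbits of a Sylow p-subgroup in a transitive action of degree p^k are everything. -/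
theorem sylow_orbit_full {G Ω : Type*} [Group G] [Finite G] [MulAction G Ω] [Fintype Ω]
    (htr : MulAction.IsPretransitive G Ω) (p k : ℕ) [Fact p.Prime]
    (hΩ : Fintype.card Ω = p ^ k) (P : Sylow p G) (ω : Ω) :
    Fintype.card Ω ≤ Nat.card (MulAction.orbit (P : Subgroup G) ω) := by
  haveI := htr
  have e1 : (MulAction.stabilizer G ω).index = p ^ k := by
    rw [MulAction.index_stabilizer_of_transitive, Nat.card_eq_fintype_card, hΩ]
  have e2 := MulAction.index_stabilizer (P : Subgroup G) ω
  rw [Nat.card_coe_set_eq, ← e2, hΩ]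
  set I := (MulAction.stabilizer (P : Subgroup G) ω).index with hI
  have e3 : MulAction.stabilizer (P : Subgroup G) ω
      = (MulAction.stabilizer G ω).subgroupOf P := by ext; rfl
  have e4 : (MulAction.stabilizer G ω ⊓ P).index = I * (P : Subgroup G).index := by
    rw [hI, e3, ← Subgroup.relIndex_mul_index (inf_le_right : MulAction.stabilizer G ω ⊓ P ≤ P)]
    rw [Subgroup.inf_relIndex_right]; rfl
  have e5 : p ^ k ∣ I * (P : Subgroup G).index := by
    rw [← e4, ← e1]; exact Subgroup.index_dvd_of_le inf_le_left
  have e6 : Nat.Coprime (p ^ k) (P : Subgroup G).index :=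
    Nat.Coprime.pow_left k ((Fact.out : p.Prime).coprime_iff_not_dvd.mpr P.not_dvd_index)
  exact Nat.le_of_dvd (Nat.pos_of_ne_zero Subgroup.index_ne_zero_of_finite)
    (e6.dvd_of_dvd_mul_right e5)


/-- If a finite group acts faithfully and transitively on a set with p^k elements, p a prime and k ≥ 1, then some element of order p fixes no point. -/
theorem result {G Ω : Type*} [Group G] [Finite G] [MulAction G Ω] [FaithfulSMul G Ω] [Fintype Ω] (htr : MulAction.IsPretransitive G Ω)
    (p k : ℕ) (hp : p.Prime) (hk : 1 ≤ k) (hΩ : Fintype.card Ω = p ^ k) :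
    ∃ g : G, orderOf g = p ∧ ∀ ω : Ω, g • ω ≠ ω := by
  classical
  haveI := Fact.mk hp
  obtain ⟨P⟩ := (inferInstance : Nonempty (Sylow p G))
  have hne : Nonempty Ω := Fintype.card_pos_iff.mp (by rw [hΩ]; exact pow_pos hp.pos _)
  obtain ⟨α⟩ := hne
  -- the Sylow subgroup is transitive
  have horb : ∀ ω : Ω, MulAction.orbit (P : Subgroup G) ω = Set.univ := by
    intro ω
    apply eq_univ_of_card_le
    exact sylow_orbit_full htr p k hΩ P ω
  have hP : Nontrivial (P : Subgroup G) := by
    rcases subsingleton_or_nontrivial (P : Subgroup G) with h | h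
    · exfalso
      have h2 : (MulAction.orbit (P : Subgroup G) α).Subsingleton := by
        rintro _ ⟨a, rfl⟩ _ ⟨b, rfl⟩
        simp only [Subsingleton.elim a b]
      rw [horb α] at h2
      haveI := Set.subsingleton_univ_iff.mp h2
      have h3 : Fintype.card Ω ≤ 1 := Fintype.card_le_one_iff_subsingleton.mpr inferInstance
      have h4 : 2 ≤ p ^ k := le_trans hp.two_le (Nat.le_self_pow (by omega) p)
      omega
    · exact h
  haveI := hP
  haveI := P.isPGroup'.center_nontrivial
  have hZ : IsPGroup p (Subgroup.center (P : Subgroup G)) := P.isPGroup'.to_subgroup _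
  have hdvd : p ∣ Nat.card (Subgroup.center (P : Subgroup G)) := by
    obtain ⟨n, hn, hc⟩ := hZ.nontrivial_iff_card.mp inferInstance
    rw [hc]; exact dvd_pow_self p (by omega)
  obtain ⟨z, hz⟩ := exists_prime_orderOf_dvd_card' p hdvd
  refine ⟨((z : (P : Subgroup G)) : G), ?_, ?_⟩
  · rw [Subgroup.orderOf_coe, Subgroup.orderOf_coe, hz]
  · intro ω hω
    have hone : ((z : (P : Subgroup G)) : G) = 1 := by
      refine eq_of_smul_eq_smul fun β : Ω => ?_
      rw [one_smul]
      have hβ : β ∈ MulAction.orbit (P : Subgroup G) ω := by rw [horb ω]; trivial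
      obtain ⟨x, rfl⟩ := hβ
      have hc := congrArg Subtype.val (Subgroup.mem_center_iff.mp z.2 x)
      simp only [Subgroup.coe_mul] at hc
      change _ • ((x : G) • ω) = (x : G) • ω
      rw [← mul_smul, ← hc, mul_smul, hω]
    have : orderOf z = 1 := by
      rw [← Subgroup.orderOf_coe, ← Subgroup.orderOf_coe, hone, orderOf_one]
    rw [hz] at this
    exact hp.ne_one this

end Cfsg.Agent.S5726
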