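import Cfsg.Statements.S5727
import Cfsg.Agent.S5726
-- import your own Cfsg.Agent.* helpers here

set_option autoImplicit false
set_option linter.style.haveILetI false
set_option linter.unusedSectionVars false
open Cfsg

namespace Cfsg.Agent.S5727

/-- In a transitive action of degree `m * p`, the orbit lengths of a Sylow `p`-subgroup are multiples of `p`. -/
theorem dvd_index_stabilizer {G Ω : Type*} [Group G] [Finite G] [MulAction G Ω] [Fintype Ω]
    (htr : MulAction.IsPretransitive G Ω) (p m : ℕ) [Fact p.Prime]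
    (hΩ : Fintype.card Ω = m * p) (P : Sylow p G) (ω : Ω) :
    p ∣ (MulAction.stabilizer (P : Subgroup G) ω).index := by
  haveI := htr
  have e1 : (MulAction.stabilizer G ω).index = m * p := by
    rw [MulAction.index_stabilizer_of_transitive, Nat.card_eq_fintype_card, hΩ]
  have e3 : MulAction.stabilizer (P : Subgroup G) ω
      = (MulAction.stabilizer G ω).subgroupOf P := by ext; rfl
  set I := (MulAction.stabilizer (P : Subgroup G) ω).index with hI
  have e4 : (MulAction.stabilizer G ω ⊓ P).index = I * (P : Subgroup G).index := by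
    rw [hI, e3, ← Subgroup.relIndex_mul_index (inf_le_right : MulAction.stabilizer G ω ⊓ P ≤ P)]
    rw [Subgroup.inf_relIndex_right]; rfl
  have e5 : p ∣ I * (P : Subgroup G).index := by
    rw [← e4]
    refine (dvd_mul_left p m).trans ?_
    rw [← e1]; exact Subgroup.index_dvd_of_le inf_le_left
  exact ((Fact.out : p.Prime).coprime_iff_not_dvd.mpr P.not_dvd_index).dvd_of_dvd_mul_right e5

/-- Fewer than `p` orbit kernels of index `p` cannot cover a group. -/
theorem cover_false {P Ω : Type*} [Group P] [Finite P] [MulAction P Ω] [Fintype Ω] (p m : ℕ)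
    (hp : p.Prime) (hmp : m ≤ p) (hΩ : Fintype.card Ω = m * p)
    (horb : ∀ ω : Ω, (MulAction.stabilizer P ω).index = p)
    (hnorm : ∀ ω : Ω, (MulAction.stabilizer P ω).Normal)
    (hall : ∀ x : P, ∃ ω : Ω, x • ω = ω) : False := by
  classical
  haveI := Fintype.ofFinite P
  let f : Ω → Finset P := fun ω => Finset.univ.filter (fun x => x • ω = ω ∧ x ≠ 1)
  have hcard : ∀ ω : Ω, (f ω).card + 1 = Nat.card (MulAction.stabilizer P ω) := by
    intro ω
    rw [Nat.card_eq_fintype_card, Fintype.card_subtype]
    have h1 : (Finset.univ.filter (fun x : P => x ∈ MulAction.stabilizer P ω)) = insert 1 (f ω) := by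
      ext x
      simp only [f, Finset.mem_filter, Finset.mem_univ, true_and, MulAction.mem_stabilizer_iff,
        Finset.mem_insert]
      by_cases hx : x = 1
      · simp [hx]
      · simp [hx]
    rw [h1, Finset.card_insert_of_notMem (by simp [f])]
  have hmul : ∀ ω : Ω, p * Nat.card (MulAction.stabilizer P ω) = Nat.card P := by
    intro ω
    rw [mul_comm, ← horb ω, Subgroup.card_mul_index]
  -- `f` is constant along orbits
  have hsum : p * (Finset.univ.biUnion f).card ≤ ∑ ω : Ω, (f ω).card := by
    have h1 : ∀ x ∈ Finset.univ.biUnion f, p ≤ (Finset.univ.filter (fun ω => x ∈ f ω)).card := by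
      intro x hx
      obtain ⟨ω, -, hxω⟩ := Finset.mem_biUnion.mp hx
      simp only [f, Finset.mem_filter, Finset.mem_univ, true_and] at hxω
      haveI := hnorm ω
      have hsub : MulAction.orbit P ω ⊆ {ω' | x ∈ f ω'} := by
        rintro _ ⟨y, rfl⟩
        have hc : y⁻¹ * x * y ∈ MulAction.stabilizer P ω := by
          simpa using (hnorm ω).conj_mem x hxω.1 y⁻¹
        simp only [f, Set.mem_setOf_eq, Finset.mem_filter, Finset.mem_univ, true_and]
        refine ⟨?_, hxω.2⟩
        rw [MulAction.mem_stabilizer_iff, mul_smul, mul_smul, inv_smul_eq_iff] at hc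
        exact hc
      calc p = (MulAction.orbit P ω).ncard := by rw [← horb ω, MulAction.index_stabilizer]
        _ ≤ _ := by
          rw [← Set.ncard_coe_finset]
          exact Set.ncard_le_ncard (hsub.trans (fun ω' h => by simpa using h)) (Finset.finite_toSet _)
    calc p * (Finset.univ.biUnion f).card = ∑ _x ∈ Finset.univ.biUnion f, p := by simp [mul_comm]
      _ ≤ ∑ x ∈ Finset.univ.biUnion f, (Finset.univ.filter (fun ω => x ∈ f ω)).card := Finset.sum_le_sum h1
      _ = ∑ ω : Ω, ((Finset.univ.biUnion f).filter (fun x => x ∈ f ω)).card := by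
          simp only [Finset.card_eq_sum_ones, Finset.sum_filter]
          exact Finset.sum_comm
      _ = ∑ ω : Ω, (f ω).card := by
          refine Finset.sum_congr rfl fun ω _ => ?_
          congr 1
          ext x
          simp only [Finset.mem_filter, Finset.mem_biUnion, Finset.mem_univ, true_and]
          exact ⟨fun h => h.2, fun h => ⟨⟨ω, h⟩, h⟩⟩
  have hcov : Finset.univ.biUnion f = Finset.univ.erase 1 := by
    ext x
    simp only [Finset.mem_biUnion, Finset.mem_univ, true_and, f, Finset.mem_filter, Finset.mem_erase, ne_eq,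
      and_true]
    exact ⟨fun ⟨_, _, h⟩ => h, fun h => (hall x).imp fun ω hω => ⟨hω, h⟩⟩
  rw [hcov, Finset.card_erase_of_mem (Finset.mem_univ _), Finset.card_univ, ← Nat.card_eq_fintype_card] at hsum
  have hS : p * (∑ ω : Ω, (f ω).card) + p * (m * p) = m * p * Nat.card P := by
    have h2 : ∑ ω : Ω, ((f ω).card + 1) * p = m * p * Nat.card P := by
      rw [Finset.sum_congr rfl (fun ω _ => by rw [hcard ω, mul_comm, hmul ω]), Finset.sum_const,
        Finset.card_univ, smul_eq_mul, hΩ]
    rw [← h2, ← Finset.sum_mul, Finset.sum_add_distrib, Finset.sum_const, Finset.card_univ, hΩ, smul_eq_mul]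
    ring
  have hP : p ≤ Nat.card P := by
    obtain ⟨ω, -⟩ := hall 1
    calc p = p * 1 := (mul_one p).symm
      _ ≤ p * Nat.card (MulAction.stabilizer P ω) := Nat.mul_le_mul_left _ Nat.card_pos
      _ = Nat.card P := hmul ω
  obtain ⟨N, hN⟩ : ∃ N, Nat.card P = N + 1 := ⟨Nat.card P - 1, by have := (Nat.card_pos (α := P)); omega⟩
  rw [hN] at hsum hS hP
  simp only [Nat.add_sub_cancel] at hsum
  have h3 : p * (p * N) + p * (m * p) ≤ m * p * (N + 1) :=
    le_trans (Nat.add_le_add_right (Nat.mul_le_mul_left p hsum) _) hS.le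
  have hm0 : 0 < m := by
    obtain ⟨ω, -⟩ := hall 1
    have : 0 < Fintype.card Ω := Fintype.card_pos_iff.mpr ⟨ω⟩
    rw [hΩ] at this
    exact Nat.pos_of_mul_pos_right this
  have h6 : p * N + m * p ≤ m * (N + 1) :=
    Nat.le_of_mul_le_mul_left (by linarith [h3, mul_comm m p, mul_assoc m p (N+1)] : p * (p * N + m * p) ≤ p * (m * (N + 1))) hp.pos
  have h7 : m * (N + 1) ≤ p * N + m := by nlinarith
  have h8 : 2 ≤ p := hp.two_le
  nlinarith

/-- If a finite group acts faithfully and transitively on a set with m·p elements, where p is a prime and 1 ≤ m ≤ p, then some element of order p fixes no point. -/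
theorem result {G Ω : Type*} [Group G] [Finite G] [MulAction G Ω] [FaithfulSMul G Ω] [Fintype Ω] (htr : MulAction.IsPretransitive G Ω)
    (p m : ℕ) (hp : p.Prime) (hm : 1 ≤ m) (hmp : m ≤ p) (hΩ : Fintype.card Ω = m * p) :
    ∃ g : G, orderOf g = p ∧ ∀ ω : Ω, g • ω ≠ ω := by
  classical
  haveI := Fact.mk hp
  rcases eq_or_lt_of_le hmp with hmp' | hmlt
  · exact Cfsg.Agent.S5726.result htr p 2 hp (by norm_num) (by rw [hΩ, hmp', pow_two])
  obtain ⟨P⟩ := (inferInstance : Nonempty (Sylow p G))
  -- every orbit of `P` has exactly `p` points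
  have horb : ∀ ω : Ω, (MulAction.stabilizer (P : Subgroup G) ω).index = p := by
    intro ω
    obtain ⟨e, he⟩ := P.isPGroup'.index (MulAction.stabilizer (P : Subgroup G) ω)
    have hle : p ^ e < p ^ 2 := by
      rw [← he, MulAction.index_stabilizer]
      refine lt_of_le_of_lt ((Set.ncard_le_card _).trans ?_) (show m * p < p ^ 2 by
        rw [pow_two]; exact Nat.mul_lt_mul_of_pos_right hmlt hp.pos)
      rw [Nat.card_eq_fintype_card, hΩ]
    have he2 : e < 2 := (Nat.pow_lt_pow_iff_right hp.one_lt).mp hle
    have hdvd : p ∣ p ^ e := by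
      rw [← he]
      exact dvd_index_stabilizer htr p m hΩ P ω
    interval_cases e
    · simp at hdvd; exact absurd hdvd hp.ne_one
    · simpa using he
  -- each stabiliser is normal, so it fixes the whole orbit
  have hnorm : ∀ ω : Ω, (MulAction.stabilizer (P : Subgroup G) ω).Normal := by
    intro ω
    obtain ⟨n, hn⟩ := IsPGroup.iff_card.mp P.isPGroup'
    refine Subgroup.normal_of_index_eq_minFac_card ?_
    rw [horb ω, hn]
    have hn0 : n ≠ 0 := by
      rintro rfl
      have h1 := Subgroup.index_dvd_card (MulAction.stabilizer (P : Subgroup G) ω)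
      rw [horb ω, hn, pow_zero] at h1
      exact hp.ne_one (Nat.dvd_one.mp h1)
    rw [Nat.pow_minFac hn0, hp.minFac_eq]
  by_contra hcon
  push Not at hcon
  -- hence every element of `P` fixes a point
  have hall : ∀ x : (P : Subgroup G), ∃ ω : Ω, x • ω = ω := by
    intro x
    by_contra hx
    push Not at hx
    have hxp : x ^ p = 1 := by
      refine Subtype.ext (eq_of_smul_eq_smul fun β : Ω => ?_)
      haveI := hnorm β
      have h1 : x ^ (MulAction.stabilizer (P : Subgroup G) β).index ∈ MulAction.stabilizer (P : Subgroup G) β :=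
        Subgroup.pow_index_mem _ x
      rw [horb β] at h1
      simpa [MulAction.mem_stabilizer_iff, Subgroup.smul_def] using h1
    have hne : x ≠ 1 := by
      rintro rfl
      obtain ⟨ω⟩ : Nonempty Ω := Fintype.card_pos_iff.mp (by rw [hΩ]; exact Nat.mul_pos (by omega) hp.pos)
      exact hx ω (one_smul _ ω)
    obtain ⟨ω, hω⟩ := hcon (x : G) (by rw [Subgroup.orderOf_coe]; exact orderOf_eq_prime hxp hne)
    exact hx ω hω
  exact cover_false p m hp (by omega) hΩ horb hnorm hall

end Cfsg.Agent.S5727
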