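import Cfsg.Statements.S0720
import Cfsg.Agent.H63.Wielandt.Main
import Cfsg.Agent.S5727

set_option autoImplicit false
set_option linter.style.haveILetI false
open Cfsg

namespace Cfsg.Agent.S0720

open Cfsg.Agent.H63.Wielandt

theorem exists_frame {α : Type*} [Fintype α] [DecidableEq α] {p : ℕ} [Fact p.Prime]
    (hα : Fintype.card α = 2 * p) (G : Subgroup (Equiv.Perm α))
    (hG : MulAction.IsPreprimitive G α) (a₀ : α) :
    ∃ F : Frame α p, F.G = G ∧ F.o = a₀ := by
  classical
  have hp : p.Prime := Fact.out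
  obtain ⟨g, hg, hfix⟩ := Cfsg.Agent.S5727.result (G := G) (Ω := α) hG.toIsPretransitive p 2 hp
    (by norm_num) hp.two_le hα
  set σ : Equiv.Perm α := (g : Equiv.Perm α) with hσ
  have hord : orderOf σ = p := by rw [hσ, Subgroup.orderOf_coe, hg]
  have hne : ∀ a, σ a ≠ a := hfix
  have hfree : ∀ (a : α) (n : ℕ), (σ ^ n) a = a → p ∣ n := by
    intro a n hn
    by_contra hd
    obtain ⟨k, hk⟩ := exists_pow_eq_self_of_coprime (x := σ) (n := n)
      (by rw [hord]; exact ((hp.coprime_iff_not_dvd).2 hd).symm)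
    refine hne a ?_
    conv_lhs => rw [← hk]
    exact Function.IsFixedPt.perm_pow hn k
  have hper : ∀ (a : α) (m n : ℕ), (σ ^ m) a = (σ ^ n) a → (m : ZMod p) = n := by
    intro a m n h
    wlog hmn : m ≤ n generalizing m n with H
    · exact (H n m h.symm (le_of_not_ge hmn)).symm
    obtain ⟨d, rfl⟩ := Nat.exists_eq_add_of_le hmn
    rw [pow_add, Equiv.Perm.mul_apply] at h
    have := hfree a d ((σ ^ m).injective h.symm)
    rw [Nat.cast_add, (ZMod.natCast_eq_zero_iff _ _).2 this, add_zero]
  have hcast : ∀ x y : ZMod p, σ ^ (x + y).val = σ ^ y.val * σ ^ x.val := by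
    intro x y
    rw [← pow_add, pow_eq_pow_iff_modEq, hord, ← ZMod.natCast_eq_natCast_iff]
    push_cast
    rw [ZMod.natCast_zmod_val, ZMod.natCast_zmod_val, ZMod.natCast_zmod_val, add_comm]
  obtain ⟨b, hb⟩ : ∃ b, b ∉ Finset.univ.image fun x : ZMod p => (σ ^ x.val) a₀ := by
    by_contra hall
    push Not at hall
    have h1 := Finset.card_le_card (fun b (_ : b ∈ (Finset.univ : Finset α)) => hall b)
    have h2 := Finset.card_image_le (s := (Finset.univ : Finset (ZMod p)))
      (f := fun x => (σ ^ x.val) a₀)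
    rw [Finset.card_univ, hα] at h1
    rw [Finset.card_univ, ZMod.card] at h2
    have := hp.pos
    omega
  let base : Fin 2 → α := fun i => if i = 0 then a₀ else b
  let f : Fin 2 × ZMod p → α := fun z => (σ ^ z.2.val) (base z.1)
  have hsame : ∀ i x y, f (i, x) = f (i, y) → x = y := fun i x y h => by
    have := hper _ _ _ h
    rwa [ZMod.natCast_zmod_val, ZMod.natCast_zmod_val] at this
  have hcross : ∀ x y, f (0, x) ≠ f (1, y) := by
    intro x y h
    refine hb (Finset.mem_image.2 ⟨x - y, Finset.mem_univ _, ?_⟩)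
    apply (σ ^ y.val).injective
    rw [← Equiv.Perm.mul_apply, ← hcast, sub_add_cancel]
    simpa [f, base] using h
  have hinj : Function.Injective f := by
    rintro ⟨i, x⟩ ⟨l, y⟩ h
    fin_cases i <;> fin_cases l
    · rw [hsame _ _ _ h]
    · exact absurd h (hcross x y)
    · exact absurd h.symm (hcross y x)
    · rw [hsame _ _ _ h]
  have hbij : Function.Bijective f :=
    (Fintype.bijective_iff_injective_and_card f).2 ⟨hinj, by
      rw [Fintype.card_prod, Fintype.card_fin, ZMod.card, hα]⟩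
  refine ⟨⟨G, hG, σ, g.2, Equiv.ofBijective f hbij, fun i x => ?_⟩, rfl, ?_⟩
  · change σ (f (i, x)) = f (i, x + 1)
    simp only [f]
    rw [hcast x 1, ← Equiv.Perm.mul_apply, ZMod.val_one p, pow_one]
  · change f (0, 0) = a₀
    simp [f, base]

/-- Wielandt's Theorem on primitive groups of degree `2p`: such a group is doubly transitive, or it has rank 3, `p = 2a² + 2a + 1`, and subdegrees `a(2a+1)` and `(a+1)(2a+1)`. -/
theorem result {α : Type*} [Fintype α] [DecidableEq α] {p : ℕ} (hp : p.Prime) (hα : Fintype.card α = 2 * p) (G : Subgroup (Equiv.Perm α)) (hG : MulAction.IsPreprimitive G α) (a₀ : α) : MulAction.IsMultiplyPretransitive G α 2 ∨ (Nat.card (MulAction.orbitRel.Quotient (MulAction.stabilizer G a₀) α) = 3 ∧ ∃ a : ℕ, 0 < a ∧ p = 2 * a ^ 2 + 2 * a + 1 ∧ ∀ b : α, b ≠ a₀ → Nat.card (MulAction.orbit (MulAction.stabilizer G a₀) b) = a * (2 * a + 1) ∨ Nat.card (MulAction.orbit (MulAction.stabilizer G a₀) b) = (a + 1) * (2 * a + 1)) := by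
  classical
  haveI : Fact p.Prime := ⟨hp⟩
  obtain ⟨F, rfl, rfl⟩ := exists_frame hα G hG a₀
  rcases F.main with h | ⟨hcard, a, ha, hpa, hk⟩
  · left
    haveI := hG.toIsPretransitive
    rw [MulAction.is_two_pretransitive_iff]
    intro a b c d hab hcd
    have hne : ∀ {x y : α}, x ≠ y → F.cl x y ∈ Finset.univ.erase F.q0 := fun hxy =>
      Finset.mem_erase.2 ⟨fun e => hxy ((F.cl_eq_q0_iff _ _).1 e), Finset.mem_univ _⟩
    have heq := Finset.card_le_one.1 h _ (hne hab) _ (hne hcd)
    obtain ⟨s, hs⟩ := Quotient.exact' heq.symm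
    refine ⟨(F.mvr d)⁻¹ * (s : F.G) * F.mvr b, ?_, ?_⟩
    · rw [mul_smul, mul_smul]
      change (F.mvr d)⁻¹ • ((s : F.G) • F.mvr b • a) = c
      rw [show (s : F.G) • F.mvr b • a = F.mvr d • c from hs, inv_smul_smul]
    · rw [mul_smul, mul_smul, F.mvr_spec, show (s : F.G) • F.o = F.o from s.2, inv_smul_eq_iff,
        F.mvr_spec]
  · right
    refine ⟨?_, a, ha, hpa, fun b hb => ?_⟩
    · rw [Nat.card_eq_fintype_card, ← Finset.card_univ,
        ← Finset.card_erase_add_one (Finset.mem_univ F.q0), hcard]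
    · have hC : (Quotient.mk'' b : F.Q) ≠ F.q0 := fun e =>
        hb ((F.cl_eq_q0_iff _ _).1 ((F.cl_base b).trans e))
      have horb : Nat.card (MulAction.orbit (MulAction.stabilizer F.G F.o) b)
          = F.kval (Quotient.mk'' b) := by
        rw [Nat.card_eq_fintype_card, ← Set.toFinset_card, Frame.kval]
        congr 1
        ext x
        rw [Set.mem_toFinset, Finset.mem_filter, F.cl_base]
        constructor
        · intro hx
          exact ⟨Finset.mem_univ _, Quotient.sound' hx⟩
        · intro hx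
          exact Quotient.exact' hx.2
      rcases hk _ hC with h | h
      · left; rw [horb, h]
      · right; rw [horb, h]

end Cfsg.Agent.S0720
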