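import Cfsg.Statements.S0994
import Cfsg.Agent.H30.Basics

set_option autoImplicit false
open Cfsg

namespace Cfsg.Agent.S0994

/-- No finite simple group has order 1188 = 2^2 * 3^3 * 11. -/
theorem result {G : Type*} [Group G] [Finite G] [IsSimpleGroup G] : Nat.card G ≠ 1188 := by
  intro h
  have : Fact (Nat.Prime 11) := ⟨by norm_num⟩
  have hG : ¬ IsMulCommutative G :=
    Cfsg.Agent.H30.not_comm_of_not_prime (by rw [h]; norm_num)
  let P : Sylow 11 G := default
  have hd : Nat.card (Sylow 11 G) ∣ 108 :=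
    Cfsg.Agent.H30.card_sylow_dvd (a := 1) (by rw [h]; norm_num) (by norm_num)
  have hm : Nat.card (Sylow 11 G) % 11 = 1 := card_sylow_modEq_one 11 G
  have h12 : Nat.card (Sylow 11 G) = 12 := by
    have h1 := Cfsg.Agent.H30.card_sylow_ne_one hG 11 (by rw [h]; norm_num)
    have hle : Nat.card (Sylow 11 G) ≤ 108 := Nat.le_of_dvd (by norm_num) hd
    generalize hn : Nat.card (Sylow 11 G) = n at *
    interval_cases n <;> first | omega | (norm_num at hd)
  obtain ⟨e, c, he, h1e, hN, -⟩ := Cfsg.Agent.H30.exists_automizer_of_prime_order hG 11 P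
    (by simpa using
          Cfsg.Agent.H30.card_sylow_subgroup (a := 1) (m := 108) P (by rw [h]; norm_num) (by norm_num))
  have hmul := Cfsg.Agent.H30.card_sylow_mul_normalizer 11 P
  rw [h12, hN, h] at hmul
  have hle : e ≤ 10 := Nat.le_of_dvd (by norm_num) he
  interval_cases e <;> omega

end Cfsg.Agent.S0994
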