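import Cfsg.Statements.S1279
import Mathlib
import Cfsg.Agent.H52.CharP

set_option autoImplicit false
open Cfsg

namespace Cfsg.Agent.S1279

/-- Let A be a noncyclic elementary abelian p-subgroup of the finite group G such that C_G(a) is solvable for every non-identity a ∈ A. Then a ↦ O_{p'}(C_G(a)) is a solvable A-signalizer functor on G. -/
theorem result {G : Type*} [Group G] [Finite G] (p : ℕ) [Fact p.Prime] (A : Subgroup G) (hA : Cfsg.IsElementaryAbelian p A) (hA2 : p ^ 2 ≤ Nat.card ↥A) (hsolv : ∀ a ∈ A, a ≠ 1 → Group.IsSolvable ↥(Subgroup.centralizer ({a} : Set G))) : Cfsg.IsSolvableSignalizerFunctor p A (fun a => Cfsg.centralizerPPrimeCore p a) := by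
  have hp : p.Prime := Fact.out
  have hord : ∀ a ∈ A, a ≠ 1 → orderOf a = p := fun a ha ha1 => orderOf_eq_prime (hA.2 a ha) ha1
  have hcomm : ∀ a ∈ A, ∀ b ∈ A, a * b = b * a := fun a ha b hb =>
    congrArg Subtype.val (hA.1.1.1 ⟨a, ha⟩ ⟨b, hb⟩)
  refine ⟨⟨fun a _ _ => Subgroup.map_subtype_le _, ?_, ?_, ?_⟩, ?_⟩
  · intro a _ _
    refine H52.not_dvd_of_coprime hp ((H19.pPrimeCore_coprime
      (G := ↥(Subgroup.centralizer ({a} : Set G))) p).coprime_dvd_left (dvd_of_eq ?_))
    exact Nat.card_congr (Subgroup.equivMapOfInjective _ _ (Subgroup.subtype_injective _)).toEquiv.symm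
  · intro a ha _ b hb x hx
    obtain ⟨z, hz, rfl⟩ := hx
    have hbC : b ∈ Subgroup.centralizer ({a} : Set G) :=
      Subgroup.mem_centralizer_singleton_iff.mpr (hcomm b hb a ha)
    exact ⟨⟨b, hbC⟩ * z * ⟨b, hbC⟩⁻¹, (H19.pPrimeCore_normal p _).conj_mem _ hz _, rfl⟩
  · intro a ha ha1 b hb hb1
    exact H52.core_inf_centralizer_le a b (hord a ha ha1) (hcomm a ha b hb)
      (H52.pLayer_eq_bot_of_isSolvable (hsolv b hb hb1))
  · intro a ha ha1
    haveI := hsolv a ha ha1
    exact Group.isSolvable_of_surjective (MonoidHom.subgroupMap_surjective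
      (Subgroup.centralizer ({a} : Set G)).subtype _)

end Cfsg.Agent.S1279
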