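import Cfsg.Statements.S1293
import Mathlib
import Cfsg.Agent.H52.CharP

set_option autoImplicit false
open Cfsg

namespace Cfsg.Agent.S1293

/-- `C(O_p) ≤ O_p` passes along `G ⧸ ker f ≃ H` for a surjection `f`. -/
theorem charP_quot_of_surjective {G H : Type*} [Group G] [Group H] {p : ℕ}
    (N : Subgroup G) [N.Normal] (f : G →* H) (hf : Function.Surjective f) (hker : f.ker = N)
    (h : Subgroup.centralizer (Cfsg.pCore p H : Set H) ≤ Cfsg.pCore p H) :
    Subgroup.centralizer (Cfsg.pCore p (G ⧸ N) : Set (G ⧸ N)) ≤ Cfsg.pCore p (G ⧸ N) := by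
  subst hker
  exact H74.charP_congr (QuotientGroup.quotientKerEquivOfSurjective f hf).symm h

/-- Let G be finite with L_{p'}(G) = 1, and H = N_G(P) for a nontrivial p-subgroup P. Then L_{p'}(H) = 1 and O_{p'}(H) ≤ O_{p'}(G). -/
theorem result {G : Type*} [Group G] [Finite G] (p : ℕ) [Fact p.Prime] (hL : Cfsg.pLayer p G = ⊥) (P : Subgroup G) (hP : IsPGroup p ↥P) (hP1 : P ≠ ⊥) : Cfsg.pLayer p ↥(Subgroup.normalizer (P : Set G)) = ⊥ ∧ (Cfsg.pPrimeCore p ↥(Subgroup.normalizer (P : Set G))).map (Subgroup.normalizer (P : Set G)).subtype ≤ Cfsg.pPrimeCore p G := by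
  set N := Subgroup.normalizer (P : Set G)
  haveI := H19.pPrimeCore_normal p G
  haveI := H19.pPrimeCore_normal p ↥N
  set O := Cfsg.pPrimeCore p G with hOdef
  set π := QuotientGroup.mk' O
  have hsurj : Function.Surjective π := QuotientGroup.mk'_surjective _
  have hcop : (Nat.card ↥O).Coprime p := H19.pPrimeCore_coprime p
  obtain ⟨n, hn⟩ := IsPGroup.iff_card.mp hP
  have hnorm : N.map π = Subgroup.normalizer ((P.map π : Subgroup (G ⧸ O)) : Set (G ⧸ O)) :=
    H52.map_normalizer_eq_of_coprime π hsurj P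
      (by rw [QuotientGroup.ker_mk', hn]; exact (hcop.pow_right n).symm) (H20.isSolvable_of_isPGroup hP)
  have hchar : Subgroup.centralizer (Cfsg.pCore p ↥(N.map π) : Set ↥(N.map π)) ≤ Cfsg.pCore p ↥(N.map π) := by
    rw [hnorm]
    exact (H74.charP_subgroup_iff _).mpr
      (H74.charP_normalizer (H52.pLayer_eq_bot_iff.mp hL) (hP.map π))
  let f : ↥N →* ↥(N.map π) := π.subgroupMap N
  have hfs : Function.Surjective f := π.subgroupMap_surjective N
  have hfk : f.ker = O.subgroupOf N := by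
    ext x
    rw [MonoidHom.mem_ker, Subgroup.mem_subgroupOf, Subtype.ext_iff]
    exact QuotientGroup.eq_one_iff (x : G)
  have hle : (Cfsg.pPrimeCore p ↥N).map f ≤ Cfsg.pPrimeCore p ↥(N.map π) :=
    H19.le_pPrimeCore (Subgroup.Normal.map inferInstance f hfs)
      ((H19.pPrimeCore_coprime p).coprime_dvd_left (Subgroup.card_map_dvd _ _))
  rw [H52.pPrimeCore_eq_bot_of_charP hchar, le_bot_iff, Subgroup.map_eq_bot_iff, hfk] at hle
  have hcore : Cfsg.pPrimeCore p ↥N = O.subgroupOf N :=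
    le_antisymm hle (H19.le_pPrimeCore inferInstance (hcop.coprime_dvd_left
      (Subgroup.card_comap_dvd_of_injective _ _ N.subtype_injective)))
  refine ⟨H52.pLayer_eq_bot_iff.mpr ?_, ?_⟩
  · exact charP_quot_of_surjective (Cfsg.pPrimeCore p ↥N) f hfs (hfk.trans hcore.symm) hchar
  · rw [hcore, Subgroup.subgroupOf_map_subtype]
    exact inf_le_left

end Cfsg.Agent.S1293
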