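import Cfsg.Statements.S1323
import Cfsg.Agent.H51.AltFourPoints

set_option autoImplicit false
open Cfsg
open Cfsg.Agent.H51

namespace Cfsg.Agent.S1323

/-- For n ≥ 9, the subgroup of the alternating group on Fin n fixing each of the points 0, 1, 2, 3 is a standard subgroup. -/
theorem result (n : ℕ) (h4 : 4 ≤ n) (hn : 9 ≤ n) : Cfsg.IsStandardSubgroup (⨅ i : Fin 4, MulAction.stabilizer ↥(alternatingGroup (Fin n)) (Fin.castLE h4 i : Fin n)) := by
  classical
  refine isStandardSubgroup_fixingSubgroup
    (S := Finset.univ.image (Fin.castLE h4 : Fin 4 → Fin n)) ?_ (by simpa using hn) fun g => ?_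
  · rw [Finset.card_image_of_injective _ (Fin.castLE_injective h4)]
    rfl
  · simp [Subgroup.mem_iInf, MulAction.mem_stabilizer_iff, Subgroup.smul_def]

end Cfsg.Agent.S1323
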