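import Cfsg.Statements.S1339
import Mathlib
import Cfsg.Agent.H52.CharP

set_option autoImplicit false
open Cfsg

namespace Cfsg.Agent.S1339

open Matrix

section
variable {F : Type*} [Field F] {n : ℕ}

/-- The matrix of an element of `SL`. -/
def mat (g : SpecialLinearGroup (Fin n) F) : Matrix (Fin n) (Fin n) F := g.1

theorem mat_mul (g h : SpecialLinearGroup (Fin n) F) : mat (g * h) = mat g * mat h := rfl

theorem mat_one : mat (1 : SpecialLinearGroup (Fin n) F) = 1 := rfl

theorem mat_pow (g : SpecialLinearGroup (Fin n) F) (k : ℕ) : mat (g ^ k) = mat g ^ k := by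
  induction k with
  | zero => exact mat_one
  | succ k ih => rw [pow_succ, pow_succ, mat_mul, ih]

theorem mat_injective : Function.Injective (mat : SpecialLinearGroup (Fin n) F → _) :=
  fun _ _ h => Subtype.ext h

end

/-- Let F be a field with 2 elements, n ≥ 3, and t ∈ SL(n, F) a transvection (t = 1 + E_{ij}, i ≠ j). Then the generalized Fitting subgroup of C(t) is O_2(C(t)). -/
theorem result {F : Type*} [Field F] [Fintype F] [DecidableEq F] (hF : Fintype.card F = 2) (n : ℕ) (hn : 3 ≤ n) (i j : Fin n) (hij : i ≠ j) (t : Matrix.SpecialLinearGroup (Fin n) F) (ht : (t : Matrix (Fin n) (Fin n) F) = Matrix.transvection i j 1) : Cfsg.generalizedFittingSubgroup ↥(Subgroup.centralizer ({t} : Set (Matrix.SpecialLinearGroup (Fin n) F))) = Cfsg.pCore 2 ↥(Subgroup.centralizer ({t} : Set (Matrix.SpecialLinearGroup (Fin n) F))) := by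
  classical
  set C := Subgroup.centralizer ({t} : Set (Matrix.SpecialLinearGroup (Fin n) F))
  haveI : CharP F 2 := charP_of_card_eq_prime (p := 2) hF
  have htwo : (2 : F) = 0 := CharTwo.two_eq_zero
  have htm : mat t = transvection i j 1 := ht
  have hcomm : ∀ g : C, mat (g : SpecialLinearGroup (Fin n) F) * single i j (1 : F) =
      single i j (1 : F) * mat (g : SpecialLinearGroup (Fin n) F) := fun g => by
    have h0 := congrArg mat (Subgroup.mem_centralizer_singleton_iff.mp g.2)
    rw [mat_mul, mat_mul, htm, transvection, mul_add, add_mul, mul_one, one_mul, add_right_inj] at h0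
    exact h0
  -- entries of a centralising matrix
  have hci : ∀ g : C, ∀ a, a ≠ i → mat (g : SpecialLinearGroup (Fin n) F) a i = 0 := fun g a ha => by
    have := congrFun (congrFun (hcomm g) a) j
    simpa [Matrix.mul_single_apply_same, Matrix.single_mul_apply_of_ne, ha] using this
  have hrj : ∀ g : C, ∀ b, b ≠ j → mat (g : SpecialLinearGroup (Fin n) F) j b = 0 := fun g b hb => by
    have := congrFun (congrFun (hcomm g) i) b
    simpa [Matrix.single_mul_apply_same, Matrix.mul_single_apply_of_ne, hb] using this.symm
  have hii : ∀ g : C, mat (g : SpecialLinearGroup (Fin n) F) i i = 1 := by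
    intro g
    have hd : (mat (g : SpecialLinearGroup (Fin n) F)).det = 1 := (g : SpecialLinearGroup (Fin n) F).2
    have hne : mat (g : SpecialLinearGroup (Fin n) F) i i ≠ 0 := fun h => by
      rw [det_eq_zero_of_column_eq_zero i (fun a => by
        by_cases ha : a = i
        · rw [ha]; exact h
        · exact hci g a ha)] at hd
      exact zero_ne_one hd
    obtain ⟨x, y, hxy, hu⟩ := Finset.card_eq_two.mp (show (Finset.univ : Finset F).card = 2 by
      rw [Finset.card_univ, hF])
    have h3 : ∀ z : F, z = x ∨ z = y := fun z => by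
      have := Finset.mem_univ z
      rw [hu] at this
      simpa using this
    have h01 : (0 : F) ≠ 1 := zero_ne_one
    rcases h3 (mat (g : SpecialLinearGroup (Fin n) F) i i) with h | h <;> rcases h3 0 with h0 | h0 <;>
      rcases h3 1 with h1 | h1 <;> first
        | exact h.trans h1.symm
        | exact absurd (h.trans h0.symm) hne
        | exact absurd (h0.trans h1.symm) h01
  have hjj : ∀ g : C, mat (g : SpecialLinearGroup (Fin n) F) j j = 1 := fun g => by
    have := congrFun (congrFun (hcomm g) i) j
    rw [Matrix.single_mul_apply_same, Matrix.mul_single_apply_same, mul_one, one_mul] at this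
    rw [← this]; exact hii g
  -- the middle block is multiplicative
  let K := {a : Fin n // a ≠ i ∧ a ≠ j}
  let φ : C →* Matrix K K F :=
    { toFun := fun g => (mat (g : SpecialLinearGroup (Fin n) F)).submatrix Subtype.val Subtype.val
      map_one' := by
        rw [OneMemClass.coe_one, mat_one]
        exact Matrix.submatrix_one _ Subtype.val_injective
      map_mul' := fun g h => by
        ext a b
        rw [Subgroup.coe_mul, mat_mul, Matrix.submatrix_apply, Matrix.mul_apply, Matrix.mul_apply]
        refine ((Finset.sum_map Finset.univ (Function.Embedding.subtype fun a : Fin n => a ≠ i ∧ a ≠ j)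
          fun k => mat (g : SpecialLinearGroup (Fin n) F) a k *
            mat (h : SpecialLinearGroup (Fin n) F) k b).symm.trans
          (Finset.sum_subset (Finset.subset_univ _) fun k _ hk => ?_)).symm
        simp only [Finset.mem_map, Finset.mem_univ, true_and, Function.Embedding.coe_subtype,
          not_exists] at hk
        by_cases hki : k = i
        · rw [hki, hci g a a.2.1, zero_mul]
        · by_cases hkj : k = j
          · rw [hkj, hrj h b b.2.2, mul_zero]
          · exact absurd rfl (hk ⟨k, hki, hkj⟩) }
  set Q := φ.ker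
  have hQ : ∀ g : C, g ∈ Q ↔ ∀ a b : K, mat (g : SpecialLinearGroup (Fin n) F) a b = (1 : Matrix K K F) a b :=
    fun g => by
      rw [MonoidHom.mem_ker]
      exact ⟨fun h a b => congrFun (congrFun h a) b, fun h => by ext a b; exact h a b⟩
  have hone : ∀ a b : K, (1 : Matrix K K F) a b = (1 : Matrix (Fin n) (Fin n) F) a b := fun a b => by
    rw [← Matrix.submatrix_one Subtype.val (Subtype.val_injective (p := fun a : Fin n => a ≠ i ∧ a ≠ j))]
    rfl
  have hQp : IsPGroup 2 Q := by
    intro g
    refine ⟨2, Subtype.ext (Subtype.ext (mat_injective ?_))⟩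
    rw [SubgroupClass.coe_pow, SubgroupClass.coe_pow, mat_pow, OneMemClass.coe_one, OneMemClass.coe_one, mat_one]
    set M := mat ((g : C) : SpecialLinearGroup (Fin n) F) with hMd
    set N := M - 1 with hN
    have hNi : ∀ a, N a i = 0 := fun a => by
      by_cases ha : a = i
      · rw [hN, Matrix.sub_apply, ha, Matrix.one_apply_eq, sub_eq_zero]; exact hii g
      · rw [hN, Matrix.sub_apply, Matrix.one_apply_ne ha, sub_zero]; exact hci g a ha
    have hNj : ∀ b, N j b = 0 := fun b => by
      by_cases hb : b = j
      · rw [hN, Matrix.sub_apply, hb, Matrix.one_apply_eq, sub_eq_zero]; exact hjj g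
      · rw [hN, Matrix.sub_apply, Matrix.one_apply_ne (Ne.symm hb), sub_zero]; exact hrj g b hb
    have hNm : ∀ a b, a ≠ i → b ≠ j → N a b = 0 := fun a b ha hb => by
      by_cases hb' : b = i
      · rw [hb']; exact hNi a
      by_cases ha' : a = j
      · rw [ha']; exact hNj b
      rw [hN, Matrix.sub_apply, sub_eq_zero]
      exact ((hQ g).mp g.2 ⟨a, ha, ha'⟩ ⟨b, hb', hb⟩).trans (hone _ _)
    have h3 : N * N * N = 0 := by
      ext a b
      rw [Matrix.mul_apply, Matrix.zero_apply]
      refine Finset.sum_eq_zero fun l _ => ?_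
      by_cases hl : l = j
      · rw [hl, hNj, mul_zero]
      rw [Matrix.mul_apply, Finset.sum_mul]
      refine Finset.sum_eq_zero fun k _ => ?_
      by_cases hk : k = i
      · rw [hk, hNi, zero_mul, zero_mul]
      · rw [hNm k l hk hl, mul_zero, zero_mul]
    have hM : M = 1 + N := by rw [hN, add_sub_cancel]
    have h2M : (2 : Matrix (Fin n) (Fin n) F) = 0 := by
      rw [show (2 : Matrix (Fin n) (Fin n) F) = Matrix.scalar (Fin n) (2 : F) by simp [map_ofNat], htwo, map_zero]
    have hsq : ∀ X : Matrix (Fin n) (Fin n) F, (1 + X) * (1 + X) = 1 + X * X := fun X => by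
      rw [show (1 + X) * (1 + X) = 1 + 2 * X + X * X by noncomm_ring, h2M, zero_mul, add_zero]
    rw [hM, show (2 : ℕ) ^ 2 = 2 * 2 from rfl, pow_mul, pow_two, pow_two, hsq, hsq, ← mul_assoc, h3, zero_mul, add_zero]
  have hCQ : Subgroup.centralizer (Q : Set C) ≤ Q := by
    intro g hg
    rw [hQ]
    intro a b
    rw [hone]
    let E : SpecialLinearGroup (Fin n) F :=
      ⟨transvection i (a : Fin n) 1, det_transvection_of_ne i a (Ne.symm a.2.1) 1⟩
    have hEm : mat E = transvection i (a : Fin n) 1 := rfl
    have h1 : single i (a : Fin n) (1 : F) * single i j (1 : F) = 0 :=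
      Matrix.single_mul_single_of_ne (h := a.2.1) ..
    have h2 : single i j (1 : F) * single i (a : Fin n) (1 : F) = 0 :=
      Matrix.single_mul_single_of_ne (h := hij.symm) ..
    have hEC : E ∈ C := Subgroup.mem_centralizer_singleton_iff.mpr (mat_injective (by
      rw [mat_mul, mat_mul, htm, hEm, transvection, transvection, mul_add, add_mul, add_mul,
        mul_one, one_mul, mul_one, add_mul, mul_add, mul_add, h1, h2]
      simp only [mul_one, one_mul, add_zero]
      skip))
    have hEQ : (⟨E, hEC⟩ : C) ∈ Q := (hQ _).mpr fun c d => by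
      rw [hone]
      show mat E (c : Fin n) (d : Fin n) = _
      rw [hEm, transvection, Matrix.add_apply,
        Matrix.single_apply_of_ne (h := fun h => c.2.1 h.1.symm), add_zero]
    have h := congrArg (fun x : C => mat (x : SpecialLinearGroup (Fin n) F))
        (Subgroup.mem_centralizer_iff.mp hg _ hEQ)
    simp only [Subgroup.coe_mul, mat_mul, hEm, transvection, add_mul, mul_add, one_mul, mul_one,
      add_right_inj] at h
    have h' := congrFun (congrFun h i) b
    rw [Matrix.single_mul_apply_same, one_mul] at h'
    rw [h']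
    by_cases hab : (a : Fin n) = b
    · rw [← hab, Matrix.mul_single_apply_same, mul_one, Matrix.one_apply_eq]; exact hii g
    · rw [Matrix.one_apply_ne hab, Matrix.mul_single_apply_of_ne _ _ _ _ _ (Ne.symm hab)]
  haveI : Fact (Nat.Prime 2) := ⟨Nat.prime_two⟩
  have hle : Q ≤ Cfsg.pCore 2 C := H19.le_pCore inferInstance hQp
  exact H52.charP_iff_generalizedFitting.mp
    (((Subgroup.centralizer_le hle).trans hCQ).trans hle)


end Cfsg.Agent.S1339
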