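import Cfsg.Statements.S1340
import Mathlib
import Cfsg.Agent.H1.PSLSimple
import Cfsg.Agent.H51.Quasisimple
import Cfsg.Agent.H19.Cores

set_option autoImplicit false
open Cfsg

namespace Cfsg.Agent.S1340

open Matrix

universe u

variable {F : Type u} [Field F] {κ m : Type} [Fintype κ] [DecidableEq κ] [Fintype m] [DecidableEq m]

/-- `SL` of rank at least two over a field with at least four elements is quasisimple. -/
theorem isQuasisimple_SL [Nontrivial m] (h : 3 ≤ Fintype.card m ∨ ∃ x : F, x ≠ 0 ∧ x ^ 2 ≠ 1) :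
    Cfsg.IsQuasisimple (SpecialLinearGroup m F) :=
  ⟨⟨H1.commutator_SL_eq_top h⟩, H1.isSimpleGroup_PSL h⟩

/-- The matrix `diag(-1, 1)`. -/
def negOne (κ m : Type) [Fintype κ] [DecidableEq κ] [Fintype m] [DecidableEq m] (F : Type u) [Field F] :
    GL (κ ⊕ m) F :=
  ⟨fromBlocks (-1) 0 0 1, fromBlocks (-1) 0 0 1, by simp [fromBlocks_multiply],
    by simp [fromBlocks_multiply]⟩

/-- `SL_m` as the lower block. -/
def blockHom : SpecialLinearGroup m F →* GL (κ ⊕ m) F where
  toFun A := ⟨fromBlocks 1 0 0 (A : Matrix m m F), fromBlocks 1 0 0 ((A⁻¹ : SpecialLinearGroup m F) : Matrix m m F),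
    by rw [fromBlocks_multiply]; simp [mul_adjugate, adjugate_mul, A.2],
    by rw [fromBlocks_multiply]; simp [mul_adjugate, adjugate_mul, A.2]⟩
  map_one' := Units.ext (by simp)
  map_mul' A B := Units.ext (by simp [fromBlocks_multiply])

/-- Let F be a finite field of odd order and n ≥ 3 with (n, |F|) ≠ (3, 3). Then GL(n, F) has a non-central involution t such that C(t) / O(C(t)) has a component. -/
theorem result {F : Type*} [Field F] [Fintype F] [DecidableEq F] (hF : Odd (Fintype.card F)) (n : ℕ) (hn : 3 ≤ n) (h33 : ¬ (n = 3 ∧ Fintype.card F = 3)) : ∃ t : Matrix.GeneralLinearGroup (Fin n) F, orderOf t = 2 ∧ t ∉ Subgroup.center (Matrix.GeneralLinearGroup (Fin n) F) ∧ Cfsg.HasComponent (↥(Subgroup.centralizer ({t} : Set (Matrix.GeneralLinearGroup (Fin n) F))) ⧸ Cfsg.oddCore ↥(Subgroup.centralizer ({t} : Set (Matrix.GeneralLinearGroup (Fin n) F)))) := by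
  classical
  obtain ⟨m, rfl⟩ : ∃ m, n = 1 + m := ⟨n - 1, by omega⟩
  have hm : 2 ≤ m := by omega
  haveI : Nontrivial (Fin m) := Fin.nontrivial_iff_two_le.2 hm
  have h2 : (2 : F) ≠ 0 := by
    refine Ring.two_ne_zero (fun h => ?_)
    exact (Nat.not_even_iff_odd.2 hF) (FiniteField.even_card_iff_char_two.mp h |> Nat.even_iff.2)
  have hq : 3 ≤ Fintype.card (Fin m) ∨ ∃ x : F, x ≠ 0 ∧ x ^ 2 ≠ 1 := by
    rcases Nat.lt_or_ge m 3 with hlt | hge
    · right
      by_contra! hall
      have hsub : (Finset.univ : Finset F) ⊆ {0, 1, -1} := fun x _ => by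
        by_cases hx : x = 0
        · simp [hx]
        · rcases sq_eq_one_iff.mp (hall x hx) with h | h <;> simp [h]
      have hle := (Finset.card_le_card hsub).trans Finset.card_le_three
      rw [Finset.card_univ] at hle
      obtain ⟨k, hk⟩ := hF
      have h1 := Fintype.one_lt_card (α := F)
      exact h33 ⟨by omega, by omega⟩
    · exact Or.inl (by simpa using hge)
  let e : Fin (1 + m) ≃ Fin 1 ⊕ Fin m := finSumFinEquiv.symm
  let Φ : GL (Fin (1 + m)) F ≃* GL (Fin 1 ⊕ Fin m) F :=
    Units.mapEquiv (Matrix.reindexAlgEquiv F F e).toMulEquiv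
  let T := negOne (Fin 1) (Fin m) F
  let t := Φ.symm T
  have hTval : (T : Matrix (Fin 1 ⊕ Fin m) (Fin 1 ⊕ Fin m) F) = fromBlocks (-1) 0 0 1 := rfl
  have hneg : (-1 : F) ≠ 1 := fun h => h2 (by linear_combination -h)
  have ht2 : t * t = 1 := by
    rw [← map_mul, ← map_one Φ.symm]
    congr 1
    exact Units.ext (by simp [hTval, fromBlocks_multiply])
  have ht1 : t ≠ 1 := fun h => by
    have h' : T = 1 := by simpa [t] using congrArg Φ h
    have h'' : (fromBlocks (-1) 0 0 1 : Matrix (Fin 1 ⊕ Fin m) (Fin 1 ⊕ Fin m) F) = 1 := congrArg Units.val h'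
    have := congrFun (congrFun h'' (Sum.inl 0)) (Sum.inl 0)
    simp at this
    exact hneg this
  refine ⟨t, orderOf_eq_prime (by rw [pow_two]; exact ht2) ht1, fun hc => ?_, ?_⟩
  · let X : Matrix (Fin 1) (Fin m) F := fun _ _ => 1
    let U : GL (Fin 1 ⊕ Fin m) F := ⟨fromBlocks 1 X 0 1, fromBlocks 1 (-X) 0 1,
      by simp [fromBlocks_multiply], by simp [fromBlocks_multiply]⟩
    have h := congrArg Φ (Subgroup.mem_center_iff.mp hc (Φ.symm U))
    rw [map_mul, map_mul, MulEquiv.apply_symm_apply, MulEquiv.apply_symm_apply] at h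
    have h' : (fromBlocks 1 X 0 1 : Matrix (Fin 1 ⊕ Fin m) (Fin 1 ⊕ Fin m) F) * fromBlocks (-1) 0 0 1 =
        fromBlocks (-1) 0 0 1 * fromBlocks 1 X 0 1 := congrArg Units.val h
    rw [fromBlocks_multiply, fromBlocks_multiply, fromBlocks_inj] at h'
    simp only [Matrix.mul_one, Matrix.one_mul, Matrix.neg_mul, Matrix.mul_zero, Matrix.zero_mul, add_zero, zero_add] at h'
    have h'' := congrFun (congrFun h'.2.1 0) ⟨0, by omega⟩
    simp [X] at h''
    first | exact hneg h'' | exact hneg h''.symm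
  set C := Subgroup.centralizer ({t} : Set (GL (Fin (1 + m)) F))
  have hblock : ∀ c ∈ C, ∃ a D, (Φ c).val = fromBlocks a 0 0 D := by
    intro c hc
    have h := congrArg Φ (Subgroup.mem_centralizer_singleton_iff.mp hc)
    rw [map_mul, map_mul, MulEquiv.apply_symm_apply] at h
    let M : Matrix (Fin 1 ⊕ Fin m) (Fin 1 ⊕ Fin m) F := (Φ c).val
    have h' : M * fromBlocks (-1) 0 0 1 = fromBlocks (-1) 0 0 1 * M := congrArg Units.val h
    rw [← fromBlocks_toBlocks M, fromBlocks_multiply, fromBlocks_multiply] at h'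
    simp only [mul_zero, zero_mul, Matrix.mul_zero, Matrix.zero_mul, add_zero, zero_add, Matrix.mul_neg,
      Matrix.neg_mul, Matrix.mul_one, Matrix.one_mul, fromBlocks_inj] at h'
    obtain ⟨-, hb, hc', -⟩ := h'
    refine ⟨M.toBlocks₁₁, M.toBlocks₂₂, ?_⟩
    have hb0 : M.toBlocks₁₂ = 0 := by
      ext i j
      have h3 : M.toBlocks₁₂ i j = -M.toBlocks₁₂ i j := congrFun (congrFun hb i) j
      exact (mul_eq_zero.mp (show (2 : F) * M.toBlocks₁₂ i j = 0 by linear_combination h3)).resolve_left h2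
    have hc0 : M.toBlocks₂₁ = 0 := by
      ext i j
      have h3 : -M.toBlocks₂₁ i j = M.toBlocks₂₁ i j := congrFun (congrFun hc' i) j
      exact (mul_eq_zero.mp (show (2 : F) * M.toBlocks₂₁ i j = 0 by linear_combination -h3)).resolve_left h2
    show M = _
    conv_lhs => rw [← fromBlocks_toBlocks M, hb0, hc0]
  let ψ : SpecialLinearGroup (Fin m) F →* GL (Fin (1 + m)) F := Φ.symm.toMonoidHom.comp blockHom
  have hψC : ∀ A, ψ A ∈ C := fun A => by
    refine Subgroup.mem_centralizer_singleton_iff.mpr (Φ.injective ?_)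
    rw [map_mul, map_mul]
    simp only [ψ, MonoidHom.comp_apply, MulEquiv.toMonoidHom_eq_coe, MonoidHom.coe_coe,
      MulEquiv.apply_symm_apply, t]
    exact Units.ext (by simp [blockHom, hTval, fromBlocks_multiply])
  let ψ' : SpecialLinearGroup (Fin m) F →* C := ψ.codRestrict C hψC
  set π := QuotientGroup.mk' (Cfsg.oddCore ↥C)
  haveI hS : ψ'.range.Normal := by
    refine ⟨?_⟩
    rintro _ ⟨A, rfl⟩ c
    obtain ⟨a, D, hD⟩ := hblock c c.2
    have hdet : IsUnit D.det := by
      have h1 := (Matrix.isUnit_iff_isUnit_det _).mp (Φ (c : GL (Fin (1 + m)) F)).isUnit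
      rw [hD, det_fromBlocks_zero₁₂] at h1
      exact isUnit_of_mul_isUnit_right h1
    refine ⟨⟨D * (A : Matrix (Fin m) (Fin m) F) * D⁻¹, ?_⟩, eq_mul_inv_iff_mul_eq.mpr (Subtype.ext (Φ.injective ?_))⟩
    · rw [det_mul, det_mul, A.2, mul_one, det_nonsing_inv, Ring.mul_inverse_cancel _ hdet]
    · show Φ (Φ.symm (blockHom _) * (c : GL (Fin (1 + m)) F)) =
        Φ ((c : GL (Fin (1 + m)) F) * Φ.symm (blockHom A))
      rw [map_mul, map_mul, MulEquiv.apply_symm_apply, MulEquiv.apply_symm_apply]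
      refine Units.ext ?_
      rw [Units.val_mul, Units.val_mul, hD]
      simp [blockHom, Function.comp_apply, fromBlocks_multiply, Matrix.mul_assoc, Matrix.nonsing_inv_mul _ hdet]
  refine ⟨ψ'.range.map π, Subgroup.Normal.isSubnormal (hS.map π (QuotientGroup.mk'_surjective _)), ?_⟩
  let f : SpecialLinearGroup (Fin m) F →* ↥(ψ'.range.map π) :=
    (π.subgroupMap ψ'.range).comp ψ'.rangeRestrict
  have hf : Function.Surjective f :=
    (π.subgroupMap_surjective _).comp ψ'.rangeRestrict_surjective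
  haveI : Nontrivial ↥(ψ'.range.map π) := by
    -- an involution survives modulo the odd core
    obtain ⟨i, j, hij⟩ := exists_pair_ne (Fin m)
    let d : Fin m → F := fun k => if k = i ∨ k = j then -1 else 1
    have hd : ∏ k, d k = 1 := by
      rw [← Finset.prod_subset (Finset.subset_univ {i, j}) (fun k _ hk => by
        simp only [Finset.mem_insert, Finset.mem_singleton] at hk
        simp [d, hk]), Finset.prod_pair hij]
      simp [d]
    let s : SpecialLinearGroup (Fin m) F := ⟨diagonal d, by rw [det_diagonal, hd]⟩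
    have hs2 : s ^ 2 = 1 := by
      rw [pow_two]
      refine Subtype.ext ?_
      show (diagonal d : Matrix (Fin m) (Fin m) F) * diagonal d = 1
      rw [diagonal_mul_diagonal, ← diagonal_one]
      congr 1
      funext k
      simp only [d]; split_ifs <;> simp
    refine ⟨f s, 1, fun h => ?_⟩
    have hmem : ψ' s ∈ Cfsg.oddCore ↥C :=
      (QuotientGroup.eq_one_iff _).mp (congrArg Subtype.val h)
    have hne : ψ' s ≠ 1 := fun h1 => by
      have h1' : blockHom (κ := Fin 1) s = 1 := by
        have := congrArg (fun g : C => Φ (g : GL (Fin (1 + m)) F)) h1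
        simpa [ψ', ψ] using this
      have h1'' : (fromBlocks 1 0 0 (diagonal d) : Matrix (Fin 1 ⊕ Fin m) (Fin 1 ⊕ Fin m) F) = 1 :=
        congrArg Units.val h1'
      have := congrFun (congrFun h1'' (Sum.inr i)) (Sum.inr i)
      simp [d] at this
      exact hneg this
    have hodd : (Nat.card (Cfsg.oddCore ↥C)).Coprime 2 := H19.pPrimeCore_coprime 2
    refine hne (orderOf_eq_one_iff.mp (Nat.eq_one_of_dvd_coprimes hodd ?_ ?_))
    · exact (Subgroup.orderOf_dvd_natCard _ hmem)
    · exact orderOf_dvd_of_pow_eq_one (by rw [← map_pow, hs2, map_one])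
  exact H51.quasisimple_of_surjective (isQuasisimple_SL hq) f hf


end Cfsg.Agent.S1340
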