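import Cfsg.Statements.S1628
import Cfsg.Agent.H10.Ru.Root
-- import your own Cfsg.Agent.* helpers here

set_option autoImplicit false
open Cfsg

namespace Cfsg.Agent.S1628

/-- The Conway–Wales lattice as stored is even with no vectors of true norm 2: stored norms are multiples of 8, never equal to 8, and the minimum over nonzero vectors is 16. -/
theorem result : (∀ x ∈ Cfsg.Spor.ruLattice, (8 : ℤ) ∣ Cfsg.Spor.ruNorm x) ∧ (∀ x ∈ Cfsg.Spor.ruLattice, Cfsg.Spor.ruNorm x ≠ 8) ∧ (∀ x ∈ Cfsg.Spor.ruLattice, x ≠ 0 → 16 ≤ Cfsg.Spor.ruNorm x) ∧ ∃ x ∈ Cfsg.Spor.ruLattice, Cfsg.Spor.ruNorm x = 16 := by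
  refine ⟨fun x hx => Cfsg.Agent.H10.Ru.eight_dvd_norm hx, fun x hx => Cfsg.Agent.H10.Ru.norm_ne_eight hx,
    fun x hx h0 => ?_, ?_⟩
  · obtain ⟨k, hk⟩ := Cfsg.Agent.H10.Ru.eight_dvd_norm hx
    have h8 := Cfsg.Agent.H10.Ru.norm_ne_eight hx
    obtain ⟨p, hp⟩ := Function.ne_iff.mp h0
    have h1 : 0 < Cfsg.Spor.ruNorm x :=
      Finset.sum_pos' (fun q _ => GaussianInt.norm_nonneg _) ⟨p, Finset.mem_univ _, GaussianInt.norm_pos.mpr hp⟩
    omega
  · refine ⟨Cfsg.Spor.ruTable.head (by simp [Cfsg.Spor.ruTable]), ?_, by decide +kernel⟩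
    rw [Cfsg.Spor.ruLattice, AddSubgroup.mem_sInf]
    exact fun L hL => hL.1 _ (List.head_mem _)

end Cfsg.Agent.S1628
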