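import Cfsg.Statements.S1644
import Cfsg.Agent.H68.J1.Unique
import Cfsg.Agent.H30.TwoTimesA5Spurious
import Cfsg.Agent.H10.J1.Invol
import Cfsg.Agent.H10.J1.Simple

set_option autoImplicit false
open Cfsg

namespace Cfsg.Agent.S1644

/-- The first Janko group recognised by an involution centraliser, at the level of isomorphism: a finite simple group with abelian Sylow 2-subgroups of order 8 and an involution whose centraliser is isomorphic to Z/2 × A₅ is isomorphic to the subgroup of GL(7, 11) generated by the two explicit Janko matrices. -/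
theorem result {G : Type*} [Group G] [Finite G] [IsSimpleGroup G] (S : Sylow 2 G) (hS : IsMulCommutative (S : Subgroup G)) (h8 : Nat.card S = 8) (t : G) (ht : orderOf t = 2) (e : (Subgroup.centralizer ({t} : Set G)) ≃* Multiplicative (ZMod 2) × alternatingGroup (Fin 5)) : Cfsg.Spor.IsoJ1 G := by
  classical
  have : Fact (Nat.Prime 2) := ⟨Nat.prime_two⟩
  -- a Sylow subgroup through the involution is abelian
  have hab : ∀ P : Sylow 2 G, ∀ x ∈ (P : Subgroup G), ∀ y ∈ (P : Subgroup G), x * y = y * x := by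
    intro P x hx y hy
    exact congrArg Subtype.val ((S.equiv P).symm.injective (by
      rw [map_mul, map_mul]; exact hS.is_comm.comm _ _) :
      (⟨x, hx⟩ : (P : Subgroup G)) * ⟨y, hy⟩ = ⟨y, hy⟩ * ⟨x, hx⟩)
  obtain ⟨P, hP⟩ := (IsPGroup.of_card (p := 2) (n := 1) (G := Subgroup.zpowers t)
    (by rw [Nat.card_zpowers, ht, pow_one])).exists_le_sylow
  have htP := hP (Subgroup.mem_zpowers t)
  let S' : H30.TwoTimesA5.Setting G := ⟨t, e, P, ht, htP, fun x hx => hab P x hx t htP⟩
  -- the matrix group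
  have : IsSimpleGroup Spor.J1 := H10.J1.simple_J1
  obtain ⟨u, hu, ⟨f⟩⟩ := H10.J1.exists_involution
  have hcard := H10.J1.card_J1
  have : Finite Spor.J1 := Nat.finite_of_card_ne_zero (by rw [hcard]; norm_num)
  obtain ⟨Q, hQ⟩ := (IsPGroup.of_card (p := 2) (n := 1) (G := Subgroup.zpowers u)
    (by rw [Nat.card_zpowers, hu, pow_one])).exists_le_sylow
  have huQ := hQ (Subgroup.mem_zpowers u)
  have hQu : ∀ x ∈ (Q : Subgroup Spor.J1), x * u = u * x := by
    -- the centralizer contains a Sylow subgroup, hence so does a conjugate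
    have h8 : 2 ^ 3 ∣ Nat.card (Subgroup.centralizer ({u} : Set Spor.J1)) := by
      rw [Nat.card_congr f.toEquiv, Nat.card_prod, nat_card_alternatingGroup, Nat.card_fin,
        Nat.card_eq_fintype_card]
      simp [Nat.factorial]
    obtain ⟨R, hR⟩ := Sylow.exists_subgroup_card_pow_prime 2 h8
    let R' := R.map (Subgroup.centralizer ({u} : Set Spor.J1)).subtype
    have hR' : Nat.card R' = 8 := by
      rw [Subgroup.card_map_of_injective Subtype.val_injective, hR]; norm_num
    have hcomm : ∀ a ∈ R', ∀ b ∈ R', a * b = b * a := by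
      rintro _ ⟨a, ha, rfl⟩ _ ⟨b, hb, rfl⟩
      have hsq : ∀ c ∈ R, c * c = 1 := by
        intro c hc
        have h := orderOf_dvd_natCard (⟨c, hc⟩ : R)
        rw [hR, Subgroup.orderOf_mk] at h
        refine f.injective ?_
        rw [map_mul, map_one]
        refine H30.TwoTimesA5.two_power_sq _ ?_
        rw [← map_pow, orderOf_dvd_iff_pow_eq_one.mp (show orderOf c ∣ 8 from by simpa using h),
          map_one]
      have hi : ∀ c ∈ R, c⁻¹ = c := fun c hc => inv_eq_of_mul_eq_one_right (hsq c hc)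
      rw [← map_mul, ← map_mul]
      refine congrArg _ ?_
      rw [← hi _ (mul_mem ha hb), mul_inv_rev, hi _ ha, hi _ hb]
    obtain ⟨Q', hQ'⟩ := (IsPGroup.of_card (p := 2) (n := 3) (G := R')
      (by rw [hR']; norm_num)).exists_le_sylow
    have hQ'eq : (Q' : Subgroup Spor.J1) = R' := by
      refine (Subgroup.eq_of_le_of_card_ge hQ' ?_).symm
      rw [hR']
      obtain ⟨k, hk⟩ := IsPGroup.iff_card.mp Q'.isPGroup'
      rw [hk]
      have h := Subgroup.card_subgroup_dvd_card (Q' : Subgroup Spor.J1)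
      rw [hk, hcard] at h
      have hk3 : k ≤ 3 := by
        by_contra hc
        exact absurd ((pow_dvd_pow 2 (by omega : 4 ≤ k)).trans h) (by norm_num)
      exact Nat.pow_le_pow_right (by norm_num) hk3
    intro x hx
    exact congrArg Subtype.val ((Q'.equiv Q).symm.injective (by
      rw [map_mul, map_mul]
      exact Subtype.ext (hcomm _ (hQ'eq ▸ ((Q'.equiv Q).symm ⟨x, hx⟩).2) _
        (hQ'eq ▸ ((Q'.equiv Q).symm ⟨u, huQ⟩).2))) :
      (⟨x, hx⟩ : (Q : Subgroup Spor.J1)) * ⟨u, huQ⟩ = ⟨u, huQ⟩ * ⟨x, hx⟩)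
  have := Fintype.ofFinite G
  exact H68.J1.iso_of_setting S' ⟨u, f, Q, hu, huQ, hQu⟩ S'.card_eq hcard

end Cfsg.Agent.S1644
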