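import Cfsg.Statements.S1896
import Cfsg.Agent.H49.MetaAuto
import Cfsg.Agent.H49.Q8Auto
import Cfsg.Agent.H24.MetacyclicTwo

set_option autoImplicit false
open Cfsg

namespace Cfsg.Agent.S1896


open Agent.H24 in
/-- An abelian 2-group generated by an element outside the Frattini subgroup and its image is
homocyclic of rank two. -/
theorem homocyclic {X : Type*} [Group X] [Finite X] (hX : IsPGroup 2 X) (hab : IsMulCommutative X)
    (α : MulAut X) (S : TriAuto α) (g : X) (hg : g ∉ frattini X) :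
    ∃ n : ℕ, Nonempty (X ≃* Multiplicative (ZMod (2 ^ n)) × Multiplicative (ZMod (2 ^ n))) := by
  classical
  haveI := Fact.mk Nat.prime_two
  have hcc : ∀ x y : X, x * y = y * x := fun x y => hab.is_comm.comm x y
  have hord : ∀ h : X, h ∉ frattini X → ∀ x : X, x ^ orderOf h = 1 := by
    intro h hh x
    have hx : x ∈ Subgroup.closure ({h, α h} : Set X) := by rw [S.gen h hh]; exact Subgroup.mem_top x
    induction hx using Subgroup.closure_induction with
    | mem y hy =>
      rcases hy with rfl | rfl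
      · exact pow_orderOf_eq_one _
      · rw [← map_pow, pow_orderOf_eq_one, map_one]
    | one => exact one_pow _
    | mul a b _ _ ha hb => rw [(show Commute a b from hcc a b).mul_pow, ha, hb, one_mul]
    | inv a _ ha => rw [inv_pow, ha, inv_one]
  obtain ⟨n, hn⟩ := IsPGroup.iff_orderOf.mp hX g
  have hn0 : n ≠ 0 := by
    rintro rfl
    rw [pow_zero] at hn
    exact hg (by rw [orderOf_eq_one_iff.mp hn]; exact one_mem _)
  have hoh : ∀ h : X, h ∉ frattini X → orderOf h = 2 ^ n := fun h hh => by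
    rw [← hn]
    exact Nat.dvd_antisymm (orderOf_dvd_of_pow_eq_one (hord g hg h))
      (orderOf_dvd_of_pow_eq_one (hord h hh g))
  set b := α g with hbdef
  have hbn : orderOf b = 2 ^ n := by rw [hbdef, α.orderOf_eq, hn]
  -- the intersection is trivial
  have hind : ∀ i j : ℤ, g ^ i * b ^ j = 1 → g ^ i = 1 ∧ b ^ j = 1 := by
    intro i j hij
    by_contra hcon
    have hgi : g ^ i ≠ 1 := fun h => hcon ⟨h, by rwa [h, one_mul] at hij⟩
    -- both cyclic subgroups contain the same involution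
    obtain ⟨e, he⟩ := IsPGroup.iff_orderOf.mp hX (g ^ i)
    have he0 : e ≠ 0 := by
      rintro rfl
      exact hgi (orderOf_eq_one_iff.mp (by rw [he, pow_zero]))
    set t := (g ^ i) ^ (2 ^ (e - 1)) with ht
    have hto : orderOf t = 2 := by
      rw [ht, orderOf_pow, he, Nat.gcd_eq_right (pow_dvd_pow 2 (Nat.sub_le e 1)),
        Nat.pow_div (Nat.sub_le e 1) two_pos, show e - (e - 1) = 1 by omega, pow_one]
    have hinv : ∀ w : X, orderOf w = 2 ^ n → t ∈ Subgroup.zpowers w → t = w ^ (2 ^ (n - 1)) := by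
      intro w hw htw
      have h2 : orderOf (w ^ (2 ^ (n - 1))) = 2 := by
        rw [orderOf_pow, hw, Nat.gcd_eq_right (pow_dvd_pow 2 (Nat.sub_le n 1)),
          Nat.pow_div (Nat.sub_le n 1) two_pos, show n - (n - 1) = 1 by omega, pow_one]
      have h3 := Agent.H49.Q8Auto.zpowers_eq_of_orderOf_eq (u := w ^ (2 ^ (n - 1))) (v := t)
        (pow_mem (Subgroup.mem_zpowers w) _) htw (by rw [h2, hto])
      rw [mem_zpowers_iff_mem_range_orderOf, h2] at h3
      simp only [Finset.mem_image, Finset.mem_range] at h3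
      obtain ⟨k, hk, hk'⟩ := h3
      interval_cases k
      · rw [pow_zero] at hk'
        rw [← hk', orderOf_one] at hto
        omega
      · rw [pow_one] at hk'; exact hk'.symm
    have t1 : t = g ^ (2 ^ (n - 1)) :=
      hinv g hn (pow_mem (Subgroup.zpow_mem _ (Subgroup.mem_zpowers g) i) _)
    have t2 : t = b ^ (2 ^ (n - 1)) := by
      refine hinv b hbn ?_
      rw [ht, eq_inv_of_mul_eq_one_left hij]
      exact pow_mem (inv_mem (Subgroup.zpow_mem _ (Subgroup.mem_zpowers b) j)) _
    have hc : g⁻¹ * b ∉ frattini X := S.moves g hg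
    have h1 : (g⁻¹ * b) ^ (2 ^ (n - 1)) = 1 := by
      rw [(show Commute g⁻¹ b from hcc _ _).mul_pow, inv_pow, ← t1, ← t2, inv_mul_cancel]
    have h2 := orderOf_dvd_of_pow_eq_one h1
    rw [hoh _ hc] at h2
    have := (Nat.pow_dvd_pow_iff_le_right (by norm_num : 1 < 2)).mp h2
    omega
  let f : Multiplicative (ZMod (2 ^ n)) × Multiplicative (ZMod (2 ^ n)) →* X :=
    MonoidHom.mk' (fun p => g ^ (p.1.toAdd.val) * b ^ (p.2.toAdd.val)) (fun p q => by
      show g ^ ((p.1.toAdd + q.1.toAdd).val) * b ^ ((p.2.toAdd + q.2.toAdd).val) = _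
      have hmg : ∀ m : ℕ, g ^ (m % 2 ^ n) = g ^ m := fun m => by rw [← hn, pow_mod_orderOf]
      have hmb : ∀ m : ℕ, b ^ (m % 2 ^ n) = b ^ m := fun m => by rw [← hbn, pow_mod_orderOf]
      rw [ZMod.val_add, ZMod.val_add, hmg, hmb, pow_add, pow_add]
      have := hcc (g ^ (q.1.toAdd.val)) (b ^ (p.2.toAdd.val))
      calc g ^ p.1.toAdd.val * g ^ q.1.toAdd.val * (b ^ p.2.toAdd.val * b ^ q.2.toAdd.val)
          = g ^ p.1.toAdd.val * (g ^ q.1.toAdd.val * b ^ p.2.toAdd.val) * b ^ q.2.toAdd.val := by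
            group
        _ = g ^ p.1.toAdd.val * b ^ p.2.toAdd.val * (g ^ q.1.toAdd.val * b ^ q.2.toAdd.val) := by
            rw [this]; group)
  have hinj : Function.Injective f := by
    rw [injective_iff_map_eq_one]
    intro p hp
    obtain ⟨h1, h2⟩ := hind p.1.toAdd.val p.2.toAdd.val (by
      rw [zpow_natCast, zpow_natCast]; exact hp)
    rw [zpow_natCast] at h1 h2
    refine Prod.ext ?_ ?_
    · have hd := Nat.eq_zero_of_dvd_of_lt (orderOf_dvd_of_pow_eq_one h1)
        (by rw [hn]; exact ZMod.val_lt _)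
      exact (ZMod.val_eq_zero _).mp hd
    · have hd := Nat.eq_zero_of_dvd_of_lt (orderOf_dvd_of_pow_eq_one h2)
        (by rw [hbn]; exact ZMod.val_lt _)
      exact (ZMod.val_eq_zero _).mp hd
  have hsurj : Function.Surjective f := by
    rw [← MonoidHom.range_eq_top, eq_top_iff, ← S.gen g hg, Subgroup.closure_le]
    have h1n : (1 : ℕ) < 2 ^ n := Nat.one_lt_two_pow hn0
    haveI : Fact (1 < 2 ^ n) := ⟨h1n⟩
    rintro x (rfl | rfl)
    · exact ⟨(Multiplicative.ofAdd 1, 1), by
        show x ^ ((1 : ZMod (2 ^ n)).val) * b ^ ((0 : ZMod (2 ^ n)).val) = x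
        rw [ZMod.val_one, ZMod.val_zero, pow_one, pow_zero, mul_one]⟩
    · exact ⟨(1, Multiplicative.ofAdd 1), by
        show g ^ ((0 : ZMod (2 ^ n)).val) * b ^ ((1 : ZMod (2 ^ n)).val) = b
        rw [ZMod.val_one, ZMod.val_zero, pow_one, pow_zero, one_mul]⟩
  exact ⟨n, ⟨(MulEquiv.ofBijective f ⟨hinj, hsurj⟩).symm⟩⟩

open Agent.H24 QuaternionGroup in
/-- A group generated by a quaternion pair is the quaternion group of order eight. -/
theorem q8_of_pair {X : Type*} [Group X] [Finite X] {k k' : X} (hk : orderOf k = 4)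
    (hinv : k' * k * k'⁻¹ = k⁻¹) (hsq : k' * k' = k * k)
    (hgen : Subgroup.closure ({k, k'} : Set X) = ⊤) : Nonempty (X ≃* QuaternionGroup 2) := by
  have hk4 : k ^ 4 = 1 := hk ▸ pow_orderOf_eq_one k
  obtain ⟨f, hf⟩ := Agent.H23.exists_q8Hom k k' hk4 (by rw [pow_two, pow_two, hsq])
    (mul_inv_eq_iff_eq_mul.mp hinv)
  have hne : ¬ (k' ∈ Subgroup.zpowers k) := by
    intro h
    obtain ⟨i, hi⟩ := Subgroup.mem_zpowers_iff.mp h
    have hc : k' * k = k * k' := by rw [← hi]; exact (Commute.zpow_self k i).eq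
    rw [hc, mul_inv_cancel_right] at hinv
    have h2 : k ^ 2 = 1 := by rw [pow_two]; nth_rewrite 2 [hinv]; exact mul_inv_cancel k
    have := orderOf_dvd_of_pow_eq_one h2
    rw [hk] at this
    omega
  have hinj : Function.Injective f := by
    rw [injective_iff_map_eq_one]
    rintro (i | i) hi
    · rw [(hf i).1] at hi
      have := Nat.eq_zero_of_dvd_of_lt (orderOf_dvd_of_pow_eq_one hi)
        (by rw [hk]; exact ZMod.val_lt i)
      rw [(ZMod.val_eq_zero i).mp this]
      rfl
    · exfalso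
      rw [(hf i).2] at hi
      exact hne (by rw [eq_inv_of_mul_eq_one_left hi]; exact inv_mem (pow_mem (Subgroup.mem_zpowers k) _))
  have hsurj : Function.Surjective f := by
    rw [← MonoidHom.range_eq_top, eq_top_iff, ← hgen, Subgroup.closure_le]
    rintro x (rfl | rfl)
    · exact ⟨a (1 : ZMod (2 * 2)), (hf 1).1.trans (pow_one _)⟩
    · exact ⟨xa (0 : ZMod (2 * 2)), (hf 0).2.trans (by rw [ZMod.val_zero, pow_zero, mul_one])⟩
  exact ⟨(MulEquiv.ofBijective f ⟨hinj, hsurj⟩).symm⟩


/-- A finite metacyclic 2-group whose automorphism group is not a 2-group is isomorphic to the quaternion group of order 8 or to a homocyclic abelian group Z_{2^n} × Z_{2^n}. -/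
theorem result {X : Type*} [Group X] [Finite X] (hX : IsPGroup 2 X)
    (hm : Cfsg.IsMetacyclic X) (hA : ¬ IsPGroup 2 (MulAut X)) :
    Nonempty (X ≃* QuaternionGroup 2) ∨
      ∃ n : ℕ, Nonempty (X ≃* Multiplicative (ZMod (2 ^ n)) × Multiplicative (ZMod (2 ^ n))) := by
  obtain ⟨α, S, g, hg⟩ := Agent.H24.exists_triAuto hX hm hA
  by_cases hab : IsMulCommutative X
  · exact Or.inr (homocyclic hX hab α S g hg)
  · obtain ⟨k, k', hk, hinv, hsq, hgen⟩ := Agent.H49.quaternion_gen hX hm α S hab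
    exact Or.inl (q8_of_pair hk hinv hsq hgen)

end Cfsg.Agent.S1896
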