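import Cfsg.Statements.S1910
import Cfsg.Agent.H60.TightSylow

set_option autoImplicit false
open Cfsg
open scoped commutatorElement

namespace Cfsg.Agent.S1910

/-- Let Q be a tightly embedded subgroup of a finite group G, g an element outside N_G(Q), T a nontrivial Sylow 2-subgroup of Q^g ∩ N_G(Q), and S a Sylow 2-subgroup of QT containing T. Then T ∩ Q = 1, and N_S(T) is the direct product of T and N_S(T) ∩ Q, with N_S(T) ∩ Q isomorphic to T. -/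
theorem result {G : Type*} [Group G] [Finite G] (Q : Subgroup G) (hQ : Cfsg.IsTightlyEmbedded Q)
    (g : G) (hg : g ∉ Subgroup.normalizer (Q : Set G))
    (T : Subgroup G) (hT1 : T ≠ ⊥) (hT : T ≤ Q.map (MulAut.conj g).toMonoidHom ⊓ Subgroup.normalizer (Q : Set G))
    (hTsyl : IsPGroup 2 T ∧ ¬ 2 ∣ T.relIndex (Q.map (MulAut.conj g).toMonoidHom ⊓ Subgroup.normalizer (Q : Set G)))
    (S : Subgroup G) (hTS : T ≤ S) (hS : S ≤ Q ⊔ T) (hSsyl : IsPGroup 2 S ∧ ¬ 2 ∣ S.relIndex (Q ⊔ T)) :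
    T ⊓ Q = ⊥ ∧
      T ⊓ (S ⊓ Subgroup.normalizer (T : Set G) ⊓ Q) = ⊥ ∧
      ⁅T, S ⊓ Subgroup.normalizer (T : Set G) ⊓ Q⁆ = ⊥ ∧
      T ⊔ (S ⊓ Subgroup.normalizer (T : Set G) ⊓ Q) = S ⊓ Subgroup.normalizer (T : Set G) ∧
      Nonempty (↥(S ⊓ Subgroup.normalizer (T : Set G) ⊓ Q) ≃* T) := by
  haveI : Fact (Nat.Prime 2) := ⟨Nat.prime_two⟩
  set B := Q.map (MulAut.conj g).toMonoidHom with hB
  have hTB : T ≤ B := hT.trans inf_le_left
  have hTN : T ≤ Subgroup.normalizer (Q : Set G) := hT.trans inf_le_right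
  have hTQ : T ⊓ Q = ⊥ := le_bot_iff.mp
    ((Cfsg.Agent.H60.inf_eq_bot_of_tightlyEmbedded hQ hTsyl.1 hg) ▸
      le_inf inf_le_left (le_inf inf_le_right (inf_le_left.trans hTB)))
  refine ⟨hTQ, le_bot_iff.mp (hTQ ▸ inf_le_inf_left T inf_le_right), ?_, ?_, ?_⟩
  · rw [eq_bot_iff, ← hTQ, Subgroup.commutator_le]
    intro t ht r hr
    have h1 : r * t⁻¹ * r⁻¹ ∈ T := (Subgroup.mem_normalizer_iff.mp hr.1.2 t⁻¹).mp (Subgroup.inv_mem _ ht)
    have h2 : t * r * t⁻¹ ∈ Q := (Subgroup.mem_normalizer_iff.mp (hTN ht) r).mp hr.2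
    rw [commutatorElement_def]
    refine Subgroup.mem_inf.mpr ⟨?_, mul_mem h2 (Subgroup.inv_mem _ hr.2)⟩
    have e : t * r * t⁻¹ * r⁻¹ = t * (r * t⁻¹ * r⁻¹) := by group
    rw [e]
    exact mul_mem ht h1
  · refine le_antisymm (sup_le (le_inf hTS Subgroup.le_normalizer) inf_le_left) fun x hx => ?_
    obtain ⟨q, hq, t, ht, rfl⟩ := Cfsg.Agent.H60.exists_mul_of_mem_sup_normalizing hTN (hS hx.1)
    refine mul_mem (Subgroup.mem_sup_right ⟨?_, hq⟩) (Subgroup.mem_sup_left ht)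
    simpa using mul_mem hx (Subgroup.inv_mem (S ⊓ Subgroup.normalizer (T : Set G))
      (Subgroup.mem_inf.mpr ⟨hTS ht, Subgroup.le_normalizer ht⟩))
  · refine Cfsg.Agent.H60.tightlyEmbedded_complement_iso hQ hg hT1 hTB hTN ?_ hTS hS hSsyl.1 hSsyl.2
    intro U hU hTU hUle
    refine le_antisymm ?_ hTU
    rw [← Subgroup.relIndex_eq_one]
    have hdvd : T.relIndex U ∣ T.relIndex (B ⊓ Subgroup.normalizer (Q : Set G)) :=
      Dvd.intro _ (Subgroup.relIndex_mul_relIndex _ _ _ hTU hUle)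
    obtain ⟨k, hk⟩ := hU.exists_card_eq
    obtain ⟨j, -, hj⟩ := (Nat.dvd_prime_pow Nat.prime_two).mp (hk ▸ Subgroup.relIndex_dvd_card T U)
    rcases j with _ | j
    · simpa using hj
    · exact absurd ((hj ▸ dvd_pow_self 2 (Nat.succ_ne_zero j)).trans hdvd) hTsyl.2

end Cfsg.Agent.S1910
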