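import Cfsg.Statements.S1914
import Cfsg.Agent.H62.CyclicFix.RankOne

set_option autoImplicit false
open Cfsg

namespace Cfsg.Agent.S1914

/-- Let A be a semisimple subgroup (a central product of quasisimple groups, A = E(A)) of a finite group and t an involution normalizing A such that the Sylow 2-subgroups of C_A(t) are cyclic of order 4. Then A has 2-rank exactly 1. -/
theorem result {G : Type*} [Group G] [Finite G] (A : Subgroup G) (hA : Cfsg.layer ↥A = ⊤)
    (t : G) (ht : orderOf t = 2) (htA : t ∈ Subgroup.normalizer (A : Set G))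
    (hC : ∀ R : Sylow 2 ↥(A ⊓ Subgroup.centralizer ({t} : Set G)), IsCyclic R ∧ Nat.card R = 4) :
    Cfsg.PRankLE 2 1 A ∧ ¬ Cfsg.PRankLE 2 0 A := by
  classical
  have hperf : _root_.commutator ↥A = ⊤ := by
    have h := Cfsg.Agent.H51.layer_commutator_self (↥A)
    rw [hA] at h
    rwa [_root_.commutator_def]
  obtain ⟨hle, a, ha2, ha1⟩ := Cfsg.Agent.H62.CyclicFix.rank_one A hperf t ht htA hC
  refine ⟨fun E hE h => by simpa using hle E hE h, fun h0 => ?_⟩
  have hE : IsMulCommutative (Subgroup.zpowers a) := inferInstance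
  have h1 := h0 (Subgroup.zpowers a) hE fun b hb => by
    obtain ⟨i, rfl⟩ := Subgroup.mem_zpowers_iff.1 hb
    rw [sq, ← (Commute.refl a).mul_zpow, ha2, one_zpow]
  rw [Nat.card_zpowers, pow_zero] at h1
  exact ha1 (orderOf_eq_one_iff.1 (le_antisymm h1 (orderOf_pos a)))

end Cfsg.Agent.S1914
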