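import Cfsg.Statements.S1915
import Cfsg.Agent.H51.FourGroupRankOneMain

set_option autoImplicit false
open Cfsg

namespace Cfsg.Agent.S1915

/-- Let A be a semisimple subgroup (A = E(A)) of a finite group and U a Klein four-group normalizing A. If the subgroup of A generated by the normalizers N_A(V) of the nontrivial subgroups V of U has 2-rank exactly 1, then A has 2-rank exactly 1. -/
theorem result {G : Type*} [Group G] [Finite G] (A : Subgroup G) (hA : Cfsg.layer ↥A = ⊤)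
    (U : Subgroup G) (hU : IsKleinFour U) (hUA : U ≤ Subgroup.normalizer (A : Set G))
    (hΓ : Cfsg.PRankLE 2 1 ↥(⨆ V : {V : Subgroup G // V ≤ U ∧ V ≠ ⊥}, A ⊓ Subgroup.normalizer ((V : Subgroup G) : Set G)) ∧
      ¬ Cfsg.PRankLE 2 0 ↥(⨆ V : {V : Subgroup G // V ≤ U ∧ V ≠ ⊥}, A ⊓ Subgroup.normalizer ((V : Subgroup G) : Set G))) :
    Cfsg.PRankLE 2 1 A ∧ ¬ Cfsg.PRankLE 2 0 A := by
  refine ⟨H51.FourGroupRankOne.pRankLE_one A hA U hU hUA hΓ.1, fun h0 => hΓ.2 ?_⟩
  set S := ⨆ V : {V : Subgroup G // V ≤ U ∧ V ≠ ⊥}, A ⊓ Subgroup.normalizer ((V : Subgroup G) : Set G)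
  intro E hEc hEe
  have hSA : S ≤ A := iSup_le fun V => inf_le_left
  have h := h0 (E.map (Subgroup.inclusion hSA))
    (IsMulCommutative.of_comm fun a b => by
      obtain ⟨a', ha', ha⟩ := a.2
      obtain ⟨b', hb', hb⟩ := b.2
      apply Subtype.ext
      simp only [Subgroup.coe_mul, ← ha, ← hb, ← map_mul]
      exact congrArg (Subgroup.inclusion hSA)
        (congrArg Subtype.val (hEc.is_comm.comm ⟨a', ha'⟩ ⟨b', hb'⟩)))
    (by
      rintro _ ⟨a, ha, rfl⟩
      rw [← map_pow, hEe a ha, map_one])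
  rwa [Subgroup.card_map_of_injective (Subgroup.inclusion_injective hSA)] at h

end Cfsg.Agent.S1915
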