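import Cfsg.Statements.S1921
import Mathlib
import Cfsg.Agent.H51.Component

set_option autoImplicit false
open Cfsg

namespace Cfsg.Agent.S1921

/-- Let a be an involution of a finite group H and L a component of H with a L a⁻¹ ≠ L; put M = ⟨L, aLa⁻¹⟩ and let J be the subgroup generated by the elements x · a x a⁻¹ with x ∈ L (the diagonal). Then every element of M outside J·Z(M) generates M together with J. -/
theorem result {H : Type*} [Group H] [Finite H] (a : H) (ha : orderOf a = 2) (L : Subgroup H) (hL : Cfsg.IsComponent L)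
    (hLa : L.map (MulAut.conj a).toMonoidHom ≠ L) (x : H) (hxM : x ∈ L ⊔ L.map (MulAut.conj a).toMonoidHom)
    (hxJ : x ∉ Subgroup.closure {y : H | ∃ l ∈ L, y = l * (a * l * a⁻¹)} ⊔
      ((L ⊔ L.map (MulAut.conj a).toMonoidHom) ⊓ Subgroup.centralizer ((L ⊔ L.map (MulAut.conj a).toMonoidHom : Subgroup H) : Set H))) :
    Subgroup.closure {y : H | ∃ l ∈ L, y = l * (a * l * a⁻¹)} ⊔ Subgroup.zpowers x = L ⊔ L.map (MulAut.conj a).toMonoidHom := by
  set L' := L.map (MulAut.conj a).toMonoidHom with hL'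
  set M := L ⊔ L' with hM
  set X : Subgroup H := Subgroup.closure {y : H | ∃ l ∈ L, y = l * (a * l * a⁻¹)} ⊔ Subgroup.zpowers x with hX
  set Z : Subgroup H := M ⊓ Subgroup.centralizer (M : Set H) with hZ
  have hmem' : ∀ l ∈ L, a * l * a⁻¹ ∈ L' := fun l hl => ⟨l, hl, rfl⟩
  have hL'comp : Cfsg.IsComponent L' := H51.component_map_conj hL a
  have hcomm : ∀ u ∈ L, ∀ v ∈ L', u * v = v * u := by
    intro u hu v hv
    have h := (H51.component_eq_or_commute hL hL'comp).resolve_left (fun h => hLa h.symm)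
    rw [Subgroup.commutator_eq_bot_iff_le_centralizer] at h
    exact (Subgroup.mem_centralizer_iff.1 (h hu) v hv).symm
  have hMperf : M ≤ ⁅M, M⁆ := sup_le
    ((H51.component_commutator_self hL).ge.trans (Subgroup.commutator_mono le_sup_left le_sup_left))
    ((H51.component_commutator_self hL'comp).ge.trans (Subgroup.commutator_mono le_sup_right le_sup_right))
  have hLL' : L' ≤ Subgroup.normalizer (L : Set H) := by
    refine le_trans ?_ (Subgroup.centralizer_le_normalizer _)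
    intro v hv
    rw [Subgroup.mem_centralizer_iff]
    exact fun u hu => hcomm u hu v hv
  have hdec : ∀ y ∈ M, ∃ u ∈ L, ∃ v ∈ L, y = u * (a * v * a⁻¹) := by
    intro y hy
    have h1 : y ∈ ((M : Subgroup H) : Set H) := hy
    rw [hM, Subgroup.coe_mul_of_right_le_normalizer_left L L' hLL'] at h1
    obtain ⟨u, hu, _, ⟨v, hv, rfl⟩, rfl⟩ := Set.mem_mul.1 h1
    exact ⟨u, hu, v, hv, rfl⟩
  have hj : ∀ l ∈ L, l * (a * l * a⁻¹) ∈ X := fun l hl =>
    (le_sup_left : _ ≤ X) (Subgroup.subset_closure ⟨l, hl, rfl⟩)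
  have hxX : x ∈ X := (le_sup_right : _ ≤ X) (Subgroup.mem_zpowers x)
  have hXM : X ≤ M := by
    refine sup_le ((Subgroup.closure_le _).2 ?_) (Subgroup.zpowers_le.2 hxM)
    rintro _ ⟨l, hl, rfl⟩
    exact M.mul_mem ((le_sup_left : L ≤ M) hl) ((le_sup_right : L' ≤ M) (hmem' l hl))
  have hXN : X ≤ Subgroup.normalizer (Z : Set H) := by
    refine hXM.trans (le_trans ?_ (Subgroup.centralizer_le_normalizer _))
    intro m hm
    rw [Subgroup.mem_centralizer_iff]
    exact fun v hv => (Subgroup.mem_centralizer_iff.1 hv.2 m hm).symm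
  set Y := X ⊔ Z with hY
  have hXY : X ≤ Y := le_sup_left
  have hLY : L ≤ Y := by
    let N : Subgroup L := Y.subgroupOf L
    have hN : N.Normal := by
      constructor
      intro n hn g
      simp only [N, Subgroup.mem_subgroupOf, Subgroup.coe_mul, Subgroup.coe_inv] at hn ⊢
      have h1 := Y.mul_mem (Y.mul_mem (hXY (hj g.1 g.2)) hn) (Y.inv_mem (hXY (hj g.1 g.2)))
      have h2 : (a * g.1 * a⁻¹) * n.1 = n.1 * (a * g.1 * a⁻¹) := (hcomm _ n.2 _ (hmem' _ g.2)).symm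
      have h3 : g.1 * (a * g.1 * a⁻¹) * n.1 * (g.1 * (a * g.1 * a⁻¹))⁻¹ = g.1 * n.1 * g.1⁻¹ := by
        calc g.1 * (a * g.1 * a⁻¹) * n.1 * (g.1 * (a * g.1 * a⁻¹))⁻¹
            = g.1 * ((a * g.1 * a⁻¹) * n.1) * (a * g.1 * a⁻¹)⁻¹ * g.1⁻¹ := by group
          _ = g.1 * n.1 * g.1⁻¹ := by rw [h2]; group
      rwa [h3] at h1
    rcases H51.quasisimple_eq_top_or_le_center_of_normal hL.2 N with h | h
    · exact Subgroup.subgroupOf_eq_top.1 h
    · exfalso
      obtain ⟨u, hu, v, hv, hxe⟩ := hdec x hxM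
      have hw : u * v⁻¹ = x * (v * (a * v * a⁻¹))⁻¹ := by
        calc u * v⁻¹ = u * (a * v * a⁻¹) * ((a * v * a⁻¹)⁻¹ * v⁻¹) := by group
          _ = x * (v * (a * v * a⁻¹))⁻¹ := by rw [← hxe]; group
      have hwY : (⟨u * v⁻¹, L.mul_mem hu (L.inv_mem hv)⟩ : L) ∈ N := by
        simp only [N, Subgroup.mem_subgroupOf, hw]
        exact Y.mul_mem (hXY hxX) (Y.inv_mem (hXY (hj v hv)))
      have hwZ : u * v⁻¹ ∈ Z := by
        refine ⟨(le_sup_left : L ≤ M) (L.mul_mem hu (L.inv_mem hv)), ?_⟩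
        show _ ∈ Subgroup.centralizer _
        rw [Subgroup.mem_centralizer_iff]
        intro m hm
        obtain ⟨p, hp, q, hq, rfl⟩ := hdec m hm
        have hc : p * (u * v⁻¹) = (u * v⁻¹) * p :=
          congrArg Subtype.val (Subgroup.mem_center_iff.1 (h hwY) ⟨p, hp⟩)
        have hc2 := hcomm _ (L.mul_mem hu (L.inv_mem hv)) _ (hmem' q hq)
        rw [mul_assoc p, ← hc2, ← mul_assoc, hc, mul_assoc]
      apply hxJ
      have h1 : x = (u * v⁻¹) * (v * (a * v * a⁻¹)) := by rw [hw]; group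
      rw [h1]
      exact mul_mem ((le_sup_right : Z ≤ _) hwZ) ((le_sup_left : Subgroup.closure _ ≤ _)
        (Subgroup.subset_closure ⟨v, hv, rfl⟩))
  have hMY : M ≤ Y := by
    refine sup_le hLY ?_
    rintro _ ⟨v, hv, rfl⟩
    have h1 := Y.mul_mem (Y.inv_mem (hLY hv)) (hXY (hj v hv))
    rwa [inv_mul_cancel_left] at h1
  refine le_antisymm hXM (hMperf.trans ?_)
  rw [Subgroup.commutator_le]
  intro m hm n hn
  have hdY : ∀ y ∈ Y, ∃ g ∈ X, ∃ z ∈ Z, y = g * z := by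
    intro y hy
    have h1 : y ∈ ((Y : Subgroup H) : Set H) := hy
    rw [hY, Subgroup.coe_mul_of_left_le_normalizer_right X Z hXN] at h1
    obtain ⟨g, hg, z, hz, rfl⟩ := Set.mem_mul.1 h1
    exact ⟨g, hg, z, hz, rfl⟩
  obtain ⟨g, hg, z, hz, rfl⟩ := hdY m (hMY hm)
  obtain ⟨g', hg', z', hz', rfl⟩ := hdY n (hMY hn)
  have hzc : ∀ w ∈ Z, ∀ k ∈ M, Commute w k :=
    fun w hw k hk => (Subgroup.mem_centralizer_iff.1 hw.2 k hk).symm
  have he : (g * z) * (g' * z') * (g * z)⁻¹ * (g' * z')⁻¹ = g * g' * g⁻¹ * g'⁻¹ := by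
    have c1 : Commute z g' := hzc z hz g' (hXM hg')
    have c2 : Commute z z' := hzc z hz z' hz'.1
    have c3 : Commute z' g := hzc z' hz' g (hXM hg)
    calc g * z * (g' * z') * (g * z)⁻¹ * (g' * z')⁻¹
        = g * (z * (g' * z')) * z⁻¹ * g⁻¹ * (z'⁻¹ * g'⁻¹) := by group
      _ = g * ((g' * z') * z) * z⁻¹ * g⁻¹ * (z'⁻¹ * g'⁻¹) := by rw [(c1.mul_right c2).eq]
      _ = g * g' * (z' * g⁻¹) * z'⁻¹ * g'⁻¹ := by group
      _ = g * g' * g⁻¹ * g'⁻¹ := by rw [c3.inv_right.eq]; group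
  rw [commutatorElement_def, he]
  exact X.mul_mem (X.mul_mem (X.mul_mem hg hg') (X.inv_mem hg)) (X.inv_mem hg')

end Cfsg.Agent.S1921
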