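import Cfsg.Statements.S1922
import Mathlib
import Cfsg.Agent.H60.Dihedral

set_option autoImplicit false
open Cfsg

namespace Cfsg.Agent.S1922

/-- Let z be an involution of a finite group G and H a proper subgroup such that z lies in gHg⁻¹ exactly when g ∈ H. Then the following are equivalent: (1) for every conjugate t ≠ z of z commuting with z, the product zt lies in gHg⁻¹ exactly when g ∈ H; (2) z lies in the centre of some Sylow 2-subgroup of G, and for every conjugate t ≠ z of z commuting with z, the centralizer of zt is contained in H. -/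
theorem result {G : Type*} [Group G] [Finite G] (z : G) (hz : orderOf z = 2) (H : Subgroup G) (hH : H ≠ ⊤)
    (h0 : ∀ g : G, z ∈ H.map (MulAut.conj g).toMonoidHom ↔ g ∈ H) :
    (∀ t : G, IsConj z t → t ≠ z → t * z = z * t → ∀ g : G, z * t ∈ H.map (MulAut.conj g).toMonoidHom ↔ g ∈ H) ↔
      ((∃ P : Sylow 2 G, z ∈ (Subgroup.center ↥(P : Subgroup G)).map (P : Subgroup G).subtype) ∧
        ∀ t : G, IsConj z t → t ≠ z → t * z = z * t → Subgroup.centralizer ({z * t} : Set G) ≤ H) := by
  have hfix : ∀ g : G, g⁻¹ * z * g ∈ H ↔ g ∈ H := by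
    intro g
    rw [← h0 g, Subgroup.mem_map]
    constructor
    · intro h
      exact ⟨g⁻¹ * z * g, h, by simp [mul_assoc]⟩
    · rintro ⟨x, hx, rfl⟩
      simpa [mul_assoc] using hx
  have hzH : z ∈ H := by simpa using (hfix 1).2 H.one_mem
  have hCH : Subgroup.centralizer ({z} : Set G) ≤ H := by
    intro y hy
    rw [Subgroup.mem_centralizer_singleton_iff] at hy
    apply (hfix y).1
    rw [mul_assoc, ← hy, inv_mul_cancel_left]
    exact hzH
  have hmap : ∀ g x : G, x ∈ H.map (MulAut.conj g).toMonoidHom ↔ g⁻¹ * x * g ∈ H := by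
    intro g x
    rw [Subgroup.mem_map]
    constructor
    · rintro ⟨y, hy, rfl⟩; simpa [mul_assoc] using hy
    · intro h; exact ⟨g⁻¹ * x * g, h, by simp [mul_assoc]⟩
  constructor
  · intro hA
    have hIP : H60.IsolatedPoint z H := by
      refine ⟨hz, hfix, ?_⟩
      intro b hb hbH w hwH hw2 hwb hbw
      obtain ⟨g, rfl⟩ := isConj_iff.1 hb
      set b := g * z * g⁻¹ with hbdef
      set t := g⁻¹ * (b * w) * g with htdef
      have hb2 : b * b = 1 := by
        calc b * b = g * (z * z) * g⁻¹ := by rw [hbdef]; group
          _ = 1 := by rw [H60.inv_mul_self hz]; group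
      have hztw : z * t = g⁻¹ * w * g := by
        calc z * t = g⁻¹ * (b * b) * w * g := by rw [htdef, hbdef]; group
          _ = g⁻¹ * w * g := by rw [hb2]; group
      have h1 : IsConj z t := hbw.trans (isConj_iff.2 ⟨g⁻¹, by rw [htdef]; group⟩)
      have h2 : t ≠ z := by
        intro h
        rw [h, H60.inv_mul_self hz] at hztw
        have : w = 1 := by
          calc w = g * (g⁻¹ * w * g) * g⁻¹ := by group
            _ = 1 := by rw [← hztw]; group
        rw [this, orderOf_one] at hw2
        omega
      have h3 : t * z = z * t := by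
        calc t * z = g⁻¹ * (b * w * b) * g := by rw [htdef, hbdef]; group
          _ = g⁻¹ * (b * (b * w)) * g := by rw [mul_assoc b w b, hwb.eq]
          _ = z * t := by rw [htdef, hbdef]; group
      have h4 := (hA t h1 h2 h3 g⁻¹).1 (by
        rw [hmap, inv_inv, hztw]
        simpa [mul_assoc] using hwH)
      apply hbH
      have hgH := H.inv_mem h4
      rw [inv_inv] at hgH
      exact H.mul_mem (H.mul_mem hgH hzH) (H.inv_mem hgH)
    constructor
    · set C := Subgroup.centralizer ({z} : Set G) with hC
      have hodd1 : Odd (C.relIndex H) := hIP.odd_relIndex hH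
      have hodd2 : Odd H.index := by
        rw [Subgroup.index]
        have hz2 := H60.inv_mul_self hz
        refine H60.odd_card_of_involutive (fun q : G ⧸ H => z • q) ?_ ((1 : G) : G ⧸ H) ?_
        · intro q
          show z • z • q = q
          rw [smul_smul, hz2, one_smul]
        · intro q
          obtain ⟨g, rfl⟩ := QuotientGroup.mk_surjective q
          show ((z * g : G) : G ⧸ H) = (g : G ⧸ H) ↔ _
          rw [eq_comm, QuotientGroup.eq, ← mul_assoc, hfix, eq_comm (a := (g : G ⧸ H)), QuotientGroup.eq,
            inv_one, one_mul]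
      have hodd : ¬ 2 ∣ C.index := by
        rw [← Subgroup.relIndex_mul_index hCH, ← even_iff_two_dvd, Nat.not_even_iff_odd]
        exact hodd1.mul hodd2
      obtain ⟨P0⟩ := (inferInstance : Nonempty (Sylow 2 C))
      have hzC : z ∈ C := Subgroup.mem_centralizer_singleton_iff.2 rfl
      have hP : ∃ P : Sylow 2 G, (P : Subgroup G) ≤ C := by
        have hp0 : IsPGroup 2 ((P0 : Subgroup C).map C.subtype) := P0.isPGroup'.map _
        refine ⟨hp0.toSylow ?_, Subgroup.map_subtype_le _⟩
        rw [Subgroup.index_map_subtype]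
        exact Nat.prime_two.not_dvd_mul P0.not_dvd_index hodd
      obtain ⟨P, hP⟩ := hP
      refine ⟨P, ?_⟩
      have hzc : ∀ y ∈ (P : Subgroup G), y * z = z * y := fun y hy =>
        Subgroup.mem_centralizer_singleton_iff.1 (hP hy)
      have hzP : z ∈ (P : Subgroup G) := by
        have hpz : IsPGroup 2 (Subgroup.zpowers z) :=
          IsPGroup.of_card (n := 1) (by rw [Nat.card_zpowers, hz, pow_one])
        have hn : (P : Subgroup G) ≤ Subgroup.normalizer ((Subgroup.zpowers z : Subgroup G) : Set G) := by
          refine le_trans ?_ (Subgroup.centralizer_le_normalizer _)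
          intro y hy
          rw [Subgroup.mem_centralizer_iff]
          rintro x hx
          obtain ⟨i, rfl⟩ := Subgroup.mem_zpowers_iff.1 hx
          exact ((show Commute y z from hzc y hy).zpow_right i).symm.eq
        have hsup := P.isPGroup'.to_sup_of_normal_right' hpz hn
        rw [← P.is_maximal' hsup le_sup_left]
        exact (le_sup_right : Subgroup.zpowers z ≤ _) (Subgroup.mem_zpowers z)
      exact ⟨⟨z, hzP⟩, Subgroup.mem_center_iff.2 (fun y => Subtype.ext (hzc y y.2)), rfl⟩
    · intro t h1 h2 h3 y hy
      rw [Subgroup.mem_centralizer_singleton_iff] at hy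
      apply (hA t h1 h2 h3 y).1
      rw [hmap, mul_assoc, ← hy, inv_mul_cancel_left]
      exact (by simpa [hmap] using (hA t h1 h2 h3 1).2 H.one_mem : z * t ∈ H)
  · rintro ⟨⟨P, hzP⟩, hCzt⟩ t h1 h2 h3 g
    rw [hmap]
    set C := Subgroup.centralizer ({z} : Set G) with hC
    have hztH : z * t ∈ H := by
      apply H.mul_mem hzH (hCH ?_)
      rw [hC, Subgroup.mem_centralizer_singleton_iff]
      exact h3
    constructor
    · intro hg
      by_contra hgH
      obtain ⟨⟨z', hz'P⟩, hz'c, hz'e⟩ := hzP
      simp only [Subgroup.coe_subtype] at hz'e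
      subst hz'e
      have hPC : (P : Subgroup G) ≤ C := by
        intro y hy
        rw [hC, Subgroup.mem_centralizer_singleton_iff]
        exact congrArg Subtype.val (Subgroup.mem_center_iff.1 hz'c ⟨y, hy⟩)
      have hodd : ¬ 2 ∣ C.index := fun h => P.not_dvd_index (h.trans (Subgroup.index_dvd_of_le hPC))
      have hn : ¬ 2 ∣ C.relIndex H := fun h => hodd (h.trans
        (Dvd.intro _ (Subgroup.relIndex_mul_index hCH)))
      set u := g⁻¹ * (z' * t) * g with hu
      have hu2 : u * u = 1 := by
        calc u * u = g⁻¹ * (z' * (t * z') * t) * g := by rw [hu]; group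
          _ = g⁻¹ * ((z' * z') * (t * t)) * g := by rw [h3]; group
          _ = 1 := by
            obtain ⟨y, rfl⟩ := isConj_iff.1 h1
            rw [H60.inv_mul_self hz]
            have : y * z' * y⁻¹ * (y * z' * y⁻¹) = 1 := by
              calc y * z' * y⁻¹ * (y * z' * y⁻¹) = y * (z' * z') * y⁻¹ := by group
                _ = 1 := by rw [H60.inv_mul_self hz]; group
            rw [this]; group
      -- left multiplication by `u` on `H / C` has a fixed point
      classical
      have hfx : ∃ q : ↥H ⧸ C.subgroupOf H, (⟨u, hg⟩ : H) • q = q := by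
        by_contra hno
        push Not at hno
        apply hn
        have : Fintype (↥H ⧸ C.subgroupOf H) := Fintype.ofFinite _
        have hh := Equiv.Perm.card_fixedPoints_modEq (α := ↥H ⧸ C.subgroupOf H)
          (f := ((fun q => (⟨u, hg⟩ : H) • q) : Function.End (↥H ⧸ C.subgroupOf H))) (p := 2) (n := 1) (by
            funext q
            show (⟨u, hg⟩ : H) • (⟨u, hg⟩ : H) • q = q
            rw [smul_smul, show (⟨u, hg⟩ : H) * ⟨u, hg⟩ = 1 from Subtype.ext hu2, one_smul])
        have h0 : Fintype.card (Function.fixedPoints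
            ((fun q => (⟨u, hg⟩ : H) • q) : Function.End (↥H ⧸ C.subgroupOf H))) = 0 :=
          Fintype.card_eq_zero_iff.2 ⟨fun q => hno q.1 q.2⟩
        rw [h0] at hh
        rw [Subgroup.relIndex, Subgroup.index, Nat.card_eq_fintype_card]
        exact Nat.modEq_zero_iff_dvd.1 hh
      obtain ⟨q, hq⟩ := hfx
      obtain ⟨h, rfl⟩ := QuotientGroup.mk_surjective q
      rw [MulAction.Quotient.smul_mk, eq_comm, QuotientGroup.eq, Subgroup.mem_subgroupOf] at hq
      simp only [Subgroup.coe_mul, Subgroup.coe_inv, smul_eq_mul] at hq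
      rw [hC, Subgroup.mem_centralizer_singleton_iff] at hq
      set b := g * h.1 * z' * (g * h.1)⁻¹ with hb
      have hbc : b ∈ Subgroup.centralizer ({z' * t} : Set G) := by
        rw [Subgroup.mem_centralizer_singleton_iff]
        calc b * (z' * t) = g * h.1 * (z' * (h.1⁻¹ * (u * h.1))) * (g * h.1)⁻¹ := by rw [hb, hu]; group
          _ = g * h.1 * (h.1⁻¹ * (u * h.1) * z') * (g * h.1)⁻¹ := by rw [hq]
          _ = (z' * t) * b := by rw [hb, hu]; group
      have hghH := (hfix (g * h.1)⁻¹).1 (by rw [inv_inv]; exact hCzt t h1 h2 h3 hbc)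
      have := H.inv_mem hghH
      rw [inv_inv] at this
      exact hgH ((H.mul_mem_cancel_right h.2).1 this)
    · intro hg
      exact H.mul_mem (H.mul_mem (H.inv_mem hg) hztH) hg

end Cfsg.Agent.S1922
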