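import Cfsg.Statements.S2077
import Cfsg.Agent.H13.RuOut.Outer
import Cfsg.Agent.H31.Ru.Perm

set_option autoImplicit false
open Cfsg

namespace Cfsg.Agent.S2077

/-- The outer automorphism group of the Rudvalis group (the unitary automorphism group of the rank-28 Gaussian lattice modulo its centre) is trivial: every automorphism is inner. -/
theorem result : Nat.card (Cfsg.Out Cfsg.Spor.Ru) = 1 := by
  exact Cfsg.Agent.H13.RuOut.card_out_of_rep Cfsg.Agent.H31.Ru.lineHom Cfsg.Agent.H31.Ru.lineHom_injective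
    Cfsg.Agent.H31.Ru.g0_mem Cfsg.Agent.H31.Ru.g1_mem Cfsg.Agent.H31.Ru.card_Ru

end Cfsg.Agent.S2077
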