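import Cfsg.Statements.S2176
import Cfsg.Agent.H65.Inv.E8.Main
import Cfsg.Agent.H65.Inv.RankE8

set_option autoImplicit false
open Cfsg

namespace Cfsg.Agent.S2176

open Cfsg.Lie Cfsg.Agent.H46 Cfsg.Agent.H65 Cfsg.Agent.H65.Inv

/-- Conjugacy classes of involutions in the Chevalley group of type E₈ over a finite field F of characteristic two (the matrix group generated by the root elements x_r(t)). In this problem's root numbering for type E₈ (the Chevalley data module; fundamental roots numbered so that p₁–p₃–p₄–p₅–p₆–p₇–p₈ is the long chain of the diagram and p₂ is joined to p₄; roots indexed by their coefficient vectors in increasing order) let r = 239 be the highest root (2,3,4,6,5,4,3,2), α = 232 = (2,2,4,5,4,3,2,1), β = 233 = (2,3,3,5,4,3,2,1), γ = 228 = (2,2,3,4,3,2,2,1), δ = 222 = (1,2,3,4,3,3,2,1), ε = 218 = (1,2,2,4,4,3,2,1), φ = 226 = (2,2,3,4,3,2,1,0), ψ = 220 = (1,2,3,4,3,2,1,1), θ =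 213 = (1,2,2,3,3,3,2,1), ω = 216 = (1,2,2,4,3,2,2,1) (the roots within each of {α, β}, {γ, δ, ε}, {φ, ψ, θ, ω} pairwise orthogonal); consider x_r(1), x_α(1)x_β(1), x_γ(1)x_δ(1)x_ε(1) and x_φ(1)x_ψ(1)x_θ(1)x_ω(1). Then: each invertible matrix equal to one of these four products lies in the group and has order 2; every element of order 2 of the group is conjugate in the group to one of them; and no two of them are conjugate in the group (so, the four matrices being distinct, the group has exactly four conjugacy classes of involutions). -/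
theorem result {F : Type*} [Field F] [Fintype F] [CharP F 2] :
    (∀ y : GL Cfsg.Lie.chevE8.Idx F, ((y : GL Cfsg.Lie.chevE8.Idx F) : Matrix Cfsg.Lie.chevE8.Idx Cfsg.Lie.chevE8.Idx F) ∈ [Cfsg.Lie.chevE8.x F 239 1, Cfsg.Lie.chevE8.x F 232 1 * Cfsg.Lie.chevE8.x F 233 1, Cfsg.Lie.chevE8.x F 228 1 * Cfsg.Lie.chevE8.x F 222 1 * Cfsg.Lie.chevE8.x F 218 1, Cfsg.Lie.chevE8.x F 226 1 * Cfsg.Lie.chevE8.x F 220 1 * Cfsg.Lie.chevE8.x F 213 1 * Cfsg.Lie.chevE8.x F 216 1] → y ∈ Cfsg.Lie.chevE8.group F ∧ orderOf y = 2) ∧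
    (∀ g ∈ Cfsg.Lie.chevE8.group F, orderOf g = 2 → ∃ y ∈ Cfsg.Lie.chevE8.group F, ((y : GL Cfsg.Lie.chevE8.Idx F) : Matrix Cfsg.Lie.chevE8.Idx Cfsg.Lie.chevE8.Idx F) ∈ [Cfsg.Lie.chevE8.x F 239 1, Cfsg.Lie.chevE8.x F 232 1 * Cfsg.Lie.chevE8.x F 233 1, Cfsg.Lie.chevE8.x F 228 1 * Cfsg.Lie.chevE8.x F 222 1 * Cfsg.Lie.chevE8.x F 218 1, Cfsg.Lie.chevE8.x F 226 1 * Cfsg.Lie.chevE8.x F 220 1 * Cfsg.Lie.chevE8.x F 213 1 * Cfsg.Lie.chevE8.x F 216 1] ∧ ∃ h ∈ Cfsg.Lie.chevE8.group F, h * g * h⁻¹ = y) ∧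
    (∀ y₁ ∈ Cfsg.Lie.chevE8.group F, ∀ y₂ ∈ Cfsg.Lie.chevE8.group F, ((y₁ : GL Cfsg.Lie.chevE8.Idx F) : Matrix Cfsg.Lie.chevE8.Idx Cfsg.Lie.chevE8.Idx F) ∈ [Cfsg.Lie.chevE8.x F 239 1, Cfsg.Lie.chevE8.x F 232 1 * Cfsg.Lie.chevE8.x F 233 1, Cfsg.Lie.chevE8.x F 228 1 * Cfsg.Lie.chevE8.x F 222 1 * Cfsg.Lie.chevE8.x F 218 1, Cfsg.Lie.chevE8.x F 226 1 * Cfsg.Lie.chevE8.x F 220 1 * Cfsg.Lie.chevE8.x F 213 1 * Cfsg.Lie.chevE8.x F 216 1] → ((y₂ : GL Cfsg.Lie.chevE8.Idx F) : Matrix Cfsg.Lie.chevE8.Idx Cfsg.Lie.chevE8.Idx F) ∈ [Cfsg.Lie.chevE8.x F 239 1, Cfsg.Lie.chevE8.x F 232 1 * Cfsg.Lie.chevE8.x F 233 1, Cfsg.Lie.chevE8.x F 228 1 * Cfsg.Lie.chevE8.x F 222 1 * Cfsg.Lie.chevE8.x F 218 1, Cfsg.Lie.chevE8.x F 226 1 * Cfsg.Lie.chevE8.x F 220 1 * Cfsg.Lie.chevE8.x F 213 1 * Cfsg.Lie.chevE8.x F 216 1] →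
      (∃ h ∈ Cfsg.Lie.chevE8.group F, h * y₁ * h⁻¹ = y₂) → ((y₁ : GL Cfsg.Lie.chevE8.Idx F) : Matrix Cfsg.Lie.chevE8.Idx Cfsg.Lie.chevE8.Idx F) = ((y₂ : GL Cfsg.Lie.chevE8.Idx F) : Matrix Cfsg.Lie.chevE8.Idx Cfsg.Lie.chevE8.Idx F)) := by
  classical
  have key : ∀ y : GL chevE8.Idx F, (y : Matrix chevE8.Idx chevE8.Idx F) ∈
      [chevE8.x F 239 1, chevE8.x F 232 1 * chevE8.x F 233 1, chevE8.x F 228 1 * chevE8.x F 222 1 * chevE8.x F 218 1, chevE8.x F 226 1 * chevE8.x F 220 1 * chevE8.x F 213 1 * chevE8.x F 216 1] →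
      y = prodX goodE8 [239] ∨ y = prodX goodE8 [232, 233] ∨ y = prodX goodE8 [228, 222, 218] ∨ y = prodX goodE8 [226, 220, 213, 216] := by
    intro y hy
    simp only [List.mem_cons, List.not_mem_nil, or_false] at hy
    rcases hy with h | h | h | h
    · exact Or.inl (Units.ext (by simpa [prodX] using h))
    · exact Or.inr (Or.inl (Units.ext (by simpa [prodX] using h)))
    · exact Or.inr (Or.inr (Or.inl (Units.ext (by simpa [prodX, mul_assoc] using h))))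
    · exact Or.inr (Or.inr (Or.inr (Units.ext (by simpa [prodX, mul_assoc] using h))))
  have hmem : ∀ S : List ℕ, (prodX goodE8 S : GL chevE8.Idx F) ∈ chevE8.group F := fun S =>
    Subgroup.list_prod_mem _ fun x hx => by
      obtain ⟨r, -, rfl⟩ := List.mem_map.1 hx
      exact goodE8.xg_mem_group r _
  refine ⟨fun y hy => ?_, fun g hg h2 => ?_, fun y₁ hy₁ y₂ hy₂ m₁ m₂ hc => ?_⟩
  · rcases key y hy with rfl | rfl | rfl | rfl
    all_goals refine ⟨hmem _, (orderOf_eq_prime (hp := ⟨Nat.prime_two⟩) ?_ ?_)⟩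
    all_goals first
      | (rw [pow_two]; exact prodX_mul_self goodE8 (by decide +kernel))
      | (intro e
         have := congrArg (fun M : GL chevE8.Idx F => ((M : Matrix chevE8.Idx chevE8.Idx F) - 1).rank) e
         simp [E8.rank0, E8.rank1, E8.rank2, E8.rank3] at this)
  · have hg2 : g * g = 1 := by rw [← pow_two, ← h2, pow_orderOf_eq_one]
    obtain ⟨h, hh, S, hS, e⟩ := E8.exists_conj F hg hg2
    simp only [E8.L8, List.mem_cons, List.not_mem_nil, or_false] at hS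
    refine ⟨prodX goodE8 S, hmem S, ?_, h, hh, e⟩
    rcases hS with rfl | rfl | rfl | rfl | rfl
    · exfalso
      have : g = 1 := by
        have : h * g * h⁻¹ = 1 := e.trans (by simp [prodX])
        rwa [conj_eq_one_iff] at this
      rw [this, orderOf_one] at h2
      omega
    all_goals simp [prodX, mul_assoc]
  · obtain ⟨h, -, e⟩ := hc
    have hr := rank_sub_one_conj e
    rcases key y₁ m₁ with rfl | rfl | rfl | rfl <;> rcases key y₂ m₂ with rfl | rfl | rfl | rfl <;>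
      first | rfl | (simp [E8.rank0, E8.rank1, E8.rank2, E8.rank3] at hr)

end Cfsg.Agent.S2176
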