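import Cfsg.Statements.S2247
import Cfsg.Agent.H7.SzGen
-- import your own Cfsg.Agent.* helpers here

set_option autoImplicit false
open Cfsg

namespace Cfsg.Agent.S2247

/-- In the Suzuki group with q = 2^(2m+1), m ≥ 1 (realised as the stabiliser in SL₄ of the Suzuki–Tits ovoid), the normalizer of a Sylow 2-subgroup P is a maximal subgroup and is the only maximal subgroup containing P. -/
theorem result {F : Type*} [Field F] [Fintype F] {m : ℕ} (hm : 1 ≤ m) (hF : Fintype.card F = 2 ^ (2 * m + 1)) (P : Sylow 2 ↥(Cfsg.Sz F m)) :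
    IsCoatom (Subgroup.normalizer ((P : Subgroup ↥(Cfsg.Sz F m)) : Set ↥(Cfsg.Sz F m))) ∧
    ∀ M : Subgroup ↥(Cfsg.Sz F m), IsCoatom M → (P : Subgroup ↥(Cfsg.Sz F m)) ≤ M → M = Subgroup.normalizer ((P : Subgroup ↥(Cfsg.Sz F m)) : Set ↥(Cfsg.Sz F m)) := by
  have H := (Cfsg.Agent.H7.SzHyp.of_fintype hm hF)
  obtain ⟨x, hx⟩ := H.exists_conj_sylow P
  have hN : Subgroup.normalizer ((P : Subgroup ↥(Cfsg.Sz F m)) : Set ↥(Cfsg.Sz F m))
      = H.B.map (MulAut.conj x).toMonoidHom := by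
    rw [hx, ← H.normalizer_Q]
    exact (Subgroup.map_equiv_normalizer_eq H.Q (MulAut.conj x)).symm
  let e : Subgroup ↥(Cfsg.Sz F m) ≃o Subgroup ↥(Cfsg.Sz F m) := (MulAut.conj x).mapSubgroup
  have hcoatom : ∀ M, IsCoatom (e M) ↔ IsCoatom M := fun M => e.isCoatom_iff M
  refine ⟨?_, fun M hM hPM => ?_⟩
  · rw [hN]; exact (hcoatom _).2 H.isCoatom_B
  · have h1 : IsCoatom (e.symm M) := (hcoatom _).1 (by simpa using hM)
    have h2 : H.Q ≤ e.symm M := e.le_symm_apply.2 ((le_of_eq hx.symm).trans hPM)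
    rw [hN, ← H.eq_B_of_isCoatom h1 h2]
    exact (e.apply_symm_apply M).symm

end Cfsg.Agent.S2247
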