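import Cfsg.Statements.S2276
import Cfsg.Agent.H62.PElementPairs

set_option autoImplicit false
open Cfsg

namespace Cfsg.Agent.S2276

/-- Let n ≥ 5, p ≥ 3 a prime, and u, w non-identity elements of p-power order in the alternating group A_n. Then there is g ∈ A_n such that u·(g w g⁻¹) does not have p-power order and ⟨u, g w g⁻¹⟩ is not solvable. -/
theorem result (n : ℕ) (hn : 5 ≤ n) (p : ℕ) (hp : p.Prime) (hp3 : 3 ≤ p) (u w : alternatingGroup (Fin n)) (hu : u ≠ 1) (hw : w ≠ 1)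
    (hu' : ∃ k : ℕ, orderOf u = p ^ k) (hw' : ∃ k : ℕ, orderOf w = p ^ k) :
    ∃ g : alternatingGroup (Fin n), (¬ ∃ k : ℕ, orderOf (u * (g * w * g⁻¹)) = p ^ k) ∧
      ¬ Group.IsSolvable ↥(Subgroup.closure ({u, g * w * g⁻¹} : Set (alternatingGroup (Fin n)))) := by
  obtain ⟨i, hi⟩ := hu'
  obtain ⟨j, hj⟩ := hw'
  have hpow : ∀ (x : alternatingGroup (Fin n)) (k E : ℕ), orderOf x = p ^ k → k ≤ E →
      (x : Equiv.Perm (Fin n)) ^ (p ^ E) = 1 := fun x k E hx hkE =>
    orderOf_dvd_iff_pow_eq_one.1 (by rw [Subgroup.orderOf_coe, hx]; exact pow_dvd_pow p hkE)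
  obtain ⟨g, hg, hne, hsol⟩ := Cfsg.Agent.H62.PPairs.exists_conj (E := i + j) hn hp hp3
    (u := (u : Equiv.Perm (Fin n))) (w := (w : Equiv.Perm (Fin n)))
    (fun h => hu (Subtype.ext h)) (fun h => hw (Subtype.ext h))
    (hpow u i _ hi (by omega)) (hpow w j _ hj (by omega))
  let gA : alternatingGroup (Fin n) := ⟨g, Equiv.Perm.mem_alternatingGroup.2 hg⟩
  refine ⟨gA, fun ⟨k, hk⟩ => hne ⟨k, ?_⟩, fun hs => hsol ?_⟩
  · have h := pow_orderOf_eq_one (u * (gA * w * gA⁻¹))
    rw [hk] at h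
    exact congrArg Subtype.val h
  · set K := Subgroup.closure ({u, gA * w * gA⁻¹} : Set (alternatingGroup (Fin n))) with hK
    have hmap : K.map (alternatingGroup (Fin n)).subtype = Subgroup.closure
        ({(u : Equiv.Perm (Fin n)), g * w * g⁻¹} : Set (Equiv.Perm (Fin n))) := by
      rw [hK, MonoidHom.map_closure, Set.image_pair]
      rfl
    rw [← hmap]
    exact Group.isSolvable_of_surjective
      (f := ((alternatingGroup (Fin n)).subtype.subgroupMap K))
      ((alternatingGroup (Fin n)).subtype.subgroupMap_surjective K)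

end Cfsg.Agent.S2276
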