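import Cfsg.Statements.S2277
import Cfsg.Agent.H71.TwoSetAction

set_option autoImplicit false
open Cfsg

namespace Cfsg.Agent.S2277

/-- Let p ≥ 3 be prime and G a finite group with a Sylow p-subgroup P and a normal p-complement N (N normal, of order prime to p, with NP = G). Suppose P is generated by a subset C and also by a subset D, and that ⟨x c x⁻¹, d⟩ is a p-group for all x ∈ N, c ∈ C, d ∈ D. Then P centralizes N, so that G = N × P. -/
theorem result {G : Type*} [Group G] [Finite G] (p : ℕ) [Fact p.Prime] (hp3 : 3 ≤ p) (P : Sylow p G)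
    (N : Subgroup G) [N.Normal] (hN : (Nat.card N).Coprime p) (hNP : N ⊔ (P : Subgroup G) = ⊤)
    (C D : Set G) (hC : Subgroup.closure C = (P : Subgroup G)) (hD : Subgroup.closure D = (P : Subgroup G))
    (h : ∀ x ∈ N, ∀ c ∈ C, ∀ d ∈ D, IsPGroup p ↥(Subgroup.closure ({x * c * x⁻¹, d} : Set G))) :
    ⁅(P : Subgroup G), N⁆ = ⊥ := by
  classical
  have hPcard : (Nat.card (P : Subgroup G)).Coprime (Nat.card N) := by
    obtain ⟨k, hk⟩ := IsPGroup.iff_card.mp P.isPGroup'
    rw [hk]; exact hN.symm.pow_left k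
  have hPN : (P : Subgroup G) ≤ Subgroup.normalizer (N : Set G) := fun g _ => by
    rw [Subgroup.normalizer_eq_top]; trivial
  have hCP : C ⊆ (P : Subgroup G) := hC ▸ Subgroup.subset_closure
  have hDP : D ⊆ (P : Subgroup G) := hD ▸ Subgroup.subset_closure
  have hdisj : ∀ z ∈ N, z ∈ (P : Subgroup G) → z = 1 := fun z hz hz' => by
    have := Subgroup.inf_eq_bot_of_coprime hPcard
    exact Subgroup.mem_bot.mp (this ▸ ⟨hz', hz⟩)
  -- every element of `N` factorises
  have hfac : ∀ c ∈ C, ∀ d ∈ D, ∀ x ∈ N,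
      ∃ a ∈ N, ∃ b ∈ N, Commute d a ∧ Commute c b ∧ x = a * b := by
    intro c hc d hd x hx
    obtain ⟨S, hS⟩ := (h x hx c hc d hd).exists_le_sylow
    obtain ⟨g, hg⟩ := MulAction.exists_smul_eq G P S
    obtain ⟨y, hy, π, hπ, hgy⟩ := Subgroup.mem_sup_of_normal_left.mp (hNP ▸ Subgroup.mem_top g)
    have hconj : ∀ z ∈ (S : Subgroup G), y⁻¹ * z * y ∈ (P : Subgroup G) := by
      intro z hz
      rw [← hg, Sylow.coe_subgroup_smul, Cfsg.Agent.H20.mem_conj_smul, ← hgy] at hz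
      have := mul_mem (mul_mem hπ hz) (inv_mem hπ)
      simpa [mul_assoc] using this
    have key : ∀ e ∈ (P : Subgroup G), ∀ z ∈ N, z⁻¹ * e * z ∈ (P : Subgroup G) → Commute e z := by
      intro e he z hz hez
      have h1 : z⁻¹ * e * z * e⁻¹ = 1 := by
        refine hdisj _ ?_ (mul_mem hez (inv_mem he))
        have := mul_mem (inv_mem hz) (Subgroup.Normal.conj_mem inferInstance z hz e)
        simpa [mul_assoc] using this
      rw [mul_inv_eq_one, mul_assoc, inv_mul_eq_iff_eq_mul] at h1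
      exact h1
    have hd' := hconj d (hS (Subgroup.subset_closure (by simp)))
    have hc' := hconj (x * c * x⁻¹) (hS (Subgroup.subset_closure (by simp)))
    have hdy : Commute d y := key d (hDP hd) y hy hd'
    have hcx : Commute c (x⁻¹ * y) :=
      key c (hCP hc) _ (mul_mem (inv_mem hx) hy) (by simpa [mul_assoc] using hc')
    exact ⟨y, hy, y⁻¹ * x, mul_mem (inv_mem hy) hx, hdy,
      by simpa using hcx.inv_right, by simp⟩
  -- every prime-power part of `N` is centralised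
  suffices hcent : N ≤ Subgroup.centralizer ((P : Subgroup G) : Set G) from
    (Subgroup.commutator_eq_bot_iff_le_centralizer).mpr fun a ha => by
      rw [Subgroup.mem_centralizer_iff]
      exact fun b hb => (Subgroup.mem_centralizer_iff.mp (hcent hb) a ha).symm
  set M := N ⊓ Subgroup.centralizer ((P : Subgroup G) : Set G)
  suffices hM : Nat.card N ∣ Nat.card M by
    have := Subgroup.eq_of_le_of_card_ge (inf_le_left : M ≤ N) (Nat.le_of_dvd Nat.card_pos hM)
    exact this ▸ inf_le_right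
  refine (Nat.factorization_prime_le_iff_dvd Nat.card_pos.ne' Nat.card_pos.ne').mp fun q hq => ?_
  have : Fact q.Prime := ⟨hq⟩
  have hPsolv : Group.IsSolvable (P : Subgroup G) ∨ Group.IsSolvable N :=
    Or.inl (Cfsg.Agent.H20.isSolvable_of_isPGroup P.isPGroup')
  obtain ⟨Q, hQN, hPQ, hQp, hQcard⟩ :=
    Cfsg.Agent.H20.exists_invariant_sylow_subgroup hPN hPcard hPsolv q
  have hQcop : Nat.Coprime p (Nat.card Q) :=
    hN.symm.coprime_dvd_right (Subgroup.card_dvd_of_le hQN)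
  suffices hPcent : (P : Subgroup G) ≤ Subgroup.centralizer (Q : Set G) by
    have hle : Q ≤ M := le_inf hQN fun z hz => by
      rw [Subgroup.mem_centralizer_iff]
      exact fun e he => (Subgroup.mem_centralizer_iff.mp (hPcent he) z hz).symm
    refine (Nat.Prime.pow_dvd_iff_le_factorization hq Nat.card_pos.ne').mp ?_
    rw [← hQcard]
    exact Subgroup.card_dvd_of_le hle
  refine H71.le_centralizer_of_two_sets hp3 P.isPGroup' hQp hQcop hPQ D C hD hC
    fun d hd c hc x hx => ?_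
  have hz : ∀ e ∈ (P : Subgroup G), Subgroup.zpowers e ≤ Subgroup.normalizer (N : Set G) ∧
      (Nat.card (Subgroup.zpowers e)).Coprime (Nat.card N) ∧
      Subgroup.zpowers e ≤ Subgroup.normalizer (Q : Set G) := fun e he =>
    ⟨(Subgroup.zpowers_le.mpr he).trans hPN,
      hPcard.coprime_dvd_left (Subgroup.card_dvd_of_le (Subgroup.zpowers_le.mpr he)),
      (Subgroup.zpowers_le.mpr he).trans hPQ⟩
  set Cd := Subgroup.centralizer (Subgroup.zpowers d : Set G)
  set Cc := Subgroup.centralizer (Subgroup.zpowers c : Set G)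
  have hmemC : ∀ e z : G, z ∈ Subgroup.centralizer (Subgroup.zpowers e : Set G) ↔ Commute e z := by
    intro e z
    rw [Subgroup.mem_centralizer_iff]
    refine ⟨fun h' => h' e (Subgroup.mem_zpowers e), ?_⟩
    rintro h' _ ⟨i, rfl⟩
    exact h'.zpow_left i
  have e1 := H71.card_inf_centralizer_of_invariant_sylow (hz d (hDP hd)).1 (hz d (hDP hd)).2.1 hQN hQp hQcard (hz d (hDP hd)).2.2
  change Nat.card ↥(Q ⊓ Cd) = q ^ (Nat.card ↥(N ⊓ Cd)).factorization q at e1
  have e2 := H71.card_inf_centralizer_of_invariant_sylow (hz c (hCP hc)).1 (hz c (hCP hc)).2.1 hQN hQp hQcard (hz c (hCP hc)).2.2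
  change Nat.card ↥(Q ⊓ Cc) = q ^ (Nat.card ↥(N ⊓ Cc)).factorization q at e2
  have eN := H71.card_mul_card_eq_range_mul (N ⊓ Cd) (N ⊓ Cc)
  have hrangeN : Set.range (fun t : ↥(N ⊓ Cd) × ↥(N ⊓ Cc) => (t.1 : G) * t.2) = (N : Set G) := by
    ext z
    refine ⟨?_, fun hz' => ?_⟩
    · rintro ⟨t, rfl⟩; exact mul_mem t.1.2.1 t.2.2.1
    · obtain ⟨a, ha, b, hb, hda, hcb, rfl⟩ := hfac c hc d hd z hz'
      exact ⟨(⟨a, ha, (hmemC d a).mpr hda⟩, ⟨b, hb, (hmemC c b).mpr hcb⟩), rfl⟩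
  rw [hrangeN] at eN
  change Nat.card ↥(N ⊓ Cd) * Nat.card ↥(N ⊓ Cc) = Nat.card N * _ at eN
  have eQ := H71.card_mul_card_eq_range_mul (Q ⊓ Cd) (Q ⊓ Cc)
  set RQ := Set.range (fun t : ↥(Q ⊓ Cd) × ↥(Q ⊓ Cc) => (t.1 : G) * t.2)
  have hRQ : RQ ⊆ (Q : Set G) := by
    rintro _ ⟨t, rfl⟩; exact mul_mem t.1.2.1 t.2.2.1
  have hge : Nat.card Q ≤ Nat.card RQ := by
    set I := (N ⊓ Cd) ⊓ (N ⊓ Cc) with hI
    set J := (Q ⊓ Cd) ⊓ (Q ⊓ Cc) with hJ
    have hJI : J ≤ I := inf_le_inf (inf_le_inf_right _ hQN) (inf_le_inf_right _ hQN)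
    obtain ⟨j, hj⟩ := IsPGroup.iff_card.mp (hQp.to_le ((inf_le_left : J ≤ Q ⊓ Cd).trans inf_le_left))
    have hjle : j ≤ (Nat.card I).factorization q :=
      (Nat.Prime.pow_dvd_iff_le_factorization hq Nat.card_pos.ne').mp (hj ▸ Subgroup.card_dvd_of_le hJI)
    have hfq := congrArg (fun k => Nat.factorization k q) eN
    simp only [Nat.factorization_mul Nat.card_pos.ne' Nat.card_pos.ne', Finsupp.add_apply,
      SetLike.coe_sort_coe] at hfq
    rw [e1, e2, hj] at eQ
    refine Nat.le_of_mul_le_mul_right (c := q ^ j) ?_ (pow_pos hq.pos j)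
    rw [← eQ, hQcard, ← pow_add, ← pow_add]
    exact Nat.pow_le_pow_right hq.pos (by omega)
  have hxR : x ∈ RQ := by
    rw [Set.eq_of_subset_of_ncard_le hRQ (by rwa [← Nat.card_coe_set_eq, ← Nat.card_coe_set_eq, SetLike.coe_sort_coe]) (Set.toFinite _)]
    exact hx
  obtain ⟨⟨a, b⟩, hab⟩ := hxR
  exact ⟨a, a.2.1, b, b.2.1, (hmemC d a).mp a.2.2, (hmemC c b).mp b.2.2, hab.symm⟩

end Cfsg.Agent.S2277
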