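import Cfsg.Statements.S2378
import Cfsg.Agent.H88.SylTorus.Main
import Cfsg.Agent.H46.TypeG2
import Cfsg.Agent.H46.WeylG2
import Cfsg.Agent.H46.TypeB2
import Cfsg.Agent.H46.WeylB2
import Cfsg.Agent.H46.TypeD4
import Cfsg.Agent.H46.WeylD4
import Cfsg.Agent.H46.TypeF4
import Cfsg.Agent.H46.WeylF4
import Cfsg.Agent.H46.TypeE6
import Cfsg.Agent.H46.WeylE6
import Cfsg.Agent.H46.TypeE7
import Cfsg.Agent.H46.WeylE7
import Cfsg.Agent.H46.TypeE8
import Cfsg.Agent.H46.WeylE8
-- import your own Cfsg.Agent.* helpers here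

set_option autoImplicit false
open Cfsg

namespace Cfsg.Agent.S2378

/-- Sylow subgroups for primes away from the characteristic and the Weyl group. Let `G` be the Chevalley group of type G₂, B₂, D₄, F₄, E₆, E₇ or E₈ over a field with `q` elements, with the degrees of its Weyl group listed beside the type (their product is the order of the Weyl group), and let `r` be a prime dividing the order of `G`, not dividing `q` and not dividing the order of the Weyl group. Let `d` be the multiplicative order of `q` modulo `r`, `a` the number of degrees divisible by `d`, and `m` the `r`-part of the value at `q` of the `d`-th cyclotomic polynomial. Then every Sylow `r`-subgroup of `G` is homocyclic: a direct product of `a` cyclic groups of order `m` (in particular abelian). -/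
theorem result {F : Type*} [Field F] [Fintype F] {q : ℕ} (hq : Fintype.card F = q)
    (c : Cfsg.Lie.ChevalleyDatum × List ℕ)
    (hc : c ∈ [(Cfsg.Lie.chevG2, [2, 6]), (Cfsg.Lie.chevB2, [2, 4]), (Cfsg.Lie.chevD4, [2, 4, 4, 6]), (Cfsg.Lie.chevF4, [2, 6, 8, 12]),
      (Cfsg.Lie.chevE6, [2, 5, 6, 8, 9, 12]), (Cfsg.Lie.chevE7, [2, 6, 8, 10, 12, 14, 18]), (Cfsg.Lie.chevE8, [2, 8, 12, 14, 18, 20, 24, 30])])
    (r : ℕ) [Fact r.Prime] (hrq : ¬ r ∣ q) (hrW : ¬ r ∣ c.2.prod) (hrG : r ∣ Nat.card ↥(c.1.group F)) (P : Sylow r ↥(c.1.group F)) :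
    Nonempty (↥(P : Subgroup ↥(c.1.group F)) ≃*
      (Fin (c.2.filter (fun e => orderOf (q : ZMod r) ∣ e)).length →
        Multiplicative (ZMod (r ^ padicValNat r ((Polynomial.cyclotomic (orderOf (q : ZMod r)) ℤ).eval (q : ℤ)).natAbs)))) := by
  simp only [List.mem_cons, List.not_mem_nil, or_false] at hc
  rcases hc with rfl | rfl | rfl | rfl | rfl | rfl | rfl
  · exact Cfsg.Agent.H88.SylTorus.sylow_equiv Cfsg.Agent.H46.goodG2 Cfsg.Agent.H46.chkWeyl_G2 Cfsg.Agent.H46.chkDegrees_G2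
      (by decide +kernel) Cfsg.Agent.H46.smithG2 Cfsg.Agent.H46.smithOk_G2 (by decide +kernel) (by decide +kernel) hq r hrq hrW P
  · exact Cfsg.Agent.H88.SylTorus.sylow_equiv Cfsg.Agent.H46.goodB2 Cfsg.Agent.H46.chkWeyl_B2 Cfsg.Agent.H46.chkDegrees_B2
      (by decide +kernel) Cfsg.Agent.H46.smithB2 Cfsg.Agent.H46.smithOk_B2 (by decide +kernel) (by decide +kernel) hq r hrq hrW P
  · exact Cfsg.Agent.H88.SylTorus.sylow_equiv Cfsg.Agent.H46.goodD4 Cfsg.Agent.H46.chkWeyl_D4 Cfsg.Agent.H46.chkDegrees_D4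
      (by decide +kernel) Cfsg.Agent.H46.smithD4 Cfsg.Agent.H46.smithOk_D4 (by decide +kernel) (by decide +kernel) hq r hrq hrW P
  · exact Cfsg.Agent.H88.SylTorus.sylow_equiv Cfsg.Agent.H46.goodF4 Cfsg.Agent.H46.chkWeyl_F4 Cfsg.Agent.H46.chkDegrees_F4
      (by decide +kernel) Cfsg.Agent.H46.smithF4 Cfsg.Agent.H46.smithOk_F4 (by decide +kernel) (by decide +kernel) hq r hrq hrW P
  · exact Cfsg.Agent.H88.SylTorus.sylow_equiv Cfsg.Agent.H46.goodE6 Cfsg.Agent.H46.chkWeyl_E6 Cfsg.Agent.H46.chkDegrees_E6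
      (by decide +kernel) Cfsg.Agent.H46.smithE6 Cfsg.Agent.H46.smithOk_E6 (by decide +kernel) (by decide +kernel) hq r hrq hrW P
  · exact Cfsg.Agent.H88.SylTorus.sylow_equiv Cfsg.Agent.H46.goodE7 Cfsg.Agent.H46.chkWeyl_E7 Cfsg.Agent.H46.chkDegrees_E7
      (by decide +kernel) Cfsg.Agent.H46.smithE7 Cfsg.Agent.H46.smithOk_E7 (by decide +kernel) (by decide +kernel) hq r hrq hrW P
  · exact Cfsg.Agent.H88.SylTorus.sylow_equiv Cfsg.Agent.H46.goodE8 Cfsg.Agent.H46.chkWeyl_E8 Cfsg.Agent.H46.chkDegrees_E8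
      (by decide +kernel) Cfsg.Agent.H46.smithE8 Cfsg.Agent.H46.smithOk_E8 (by decide +kernel) (by decide +kernel) hq r hrq hrW P

end Cfsg.Agent.S2378
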