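import Cfsg.Statements.S2419
import Cfsg.Agent.H70.CoxeterCert
-- import your own Cfsg.Agent.* helpers here

set_option autoImplicit false
open Cfsg

namespace Cfsg.Agent.S2419

/-- The Coxeter groups of types B₂, G₂, E₆, E₇, E₈ are generated by the Coxeter element `s₁ s₂ ⋯ s_l` together with one suitable reflection (a conjugate of a simple reflection); for types D₄ and F₄ the Coxeter element together with two suitable reflections suffices. -/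
theorem result (c : (Σ n : ℕ, CoxeterMatrix (Fin n)) × ℕ)
    (hc : c ∈ [(⟨2, CoxeterMatrix.B 2⟩, 1), (⟨2, CoxeterMatrix.G₂⟩, 1), (⟨4, Cfsg.Lie.coxeterD4⟩, 2), (⟨4, CoxeterMatrix.F₄⟩, 2),
      (⟨6, CoxeterMatrix.E₆⟩, 1), (⟨7, CoxeterMatrix.E₇⟩, 1), (⟨8, CoxeterMatrix.E₈⟩, 1)]) :
    ∃ T : Finset c.1.2.Group, T.card = c.2 ∧ (∀ t ∈ T, ∃ (g : c.1.2.Group) (i : Fin c.1.1), t = g * c.1.2.simple i * g⁻¹) ∧
      Subgroup.closure (({((List.finRange c.1.1).map c.1.2.simple).prod} : Set c.1.2.Group) ∪ ↑T) = ⊤ := by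
  open Cfsg.Agent.H47 Cfsg.Agent.H70 in
  (simp only [List.mem_cons, List.not_mem_nil, or_false] at hc
   rcases hc with rfl | rfl | rfl | rfl | rfl | rfl | rfl
   · exact generated_of_genCert cartanFor_B2 [0] [[2], [2, 0]] (by decide) (by decide +kernel)
   · exact generated_of_genCert cartanFor_G2 [0] [[2], [2, 0]] (by decide) (by decide +kernel)
   · exact generated_of_genCert cartanFor_D4 [0, 2]
      [[2], [0, 2, 1], [3], [0, 3, 0, 2, 1, 3, 1]] (by decide) (by decide +kernel)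
   · exact generated_of_genCert cartanFor_F4 [0, 2]
      [[2], [0, 2, 1], [3], [0, 3, 1]] (by decide) (by decide +kernel)
   · exact generated_of_genCert cartanFor_E6 [0]
      [[2], [1, 2, 1, 1, 1, 2, 0, 0, 0, 2, 0], [0, 2, 1], [0, 0, 0, 0, 0, 2, 1, 1, 1, 1, 1],
        [0, 0, 0, 0, 0, 0, 2, 1, 1, 1, 1, 1, 1], [1, 1, 1, 1, 1, 2, 0, 0, 0, 0, 0]]
      (by decide) (by decide +kernel)
   · exact generated_of_genCert cartanFor_E7 [1]
      [[0, 0, 0, 2, 0, 0, 2, 1, 1, 2, 1, 1, 1], [2],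
        [1, 1, 1, 2, 1, 1, 2, 0, 0, 2, 0, 0, 0], [2, 1, 1, 2, 1, 1, 2, 0, 0, 2, 0, 0, 2],
        [0, 2, 1, 1, 2, 1, 1, 2, 0, 0, 2, 0, 0, 2, 1],
        [1, 1, 2, 0, 0, 2, 0, 0, 2, 1, 1, 2, 1, 1, 2, 0, 0],
        [1, 2, 0, 0, 2, 0, 0, 2, 1, 1, 2, 1, 1, 2, 0]]
      (by decide) (by decide +kernel)
   · exact generated_of_genCert cartanFor_E8 [3]
      [[1, 2, 0, 0, 0, 0, 0, 0, 2, 1, 1, 1, 1, 1, 1, 2, 0],
        [2, 0, 2, 0, 0, 0, 0, 0, 0, 2, 1, 1, 1, 1, 1, 1, 2, 1, 2],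
        [2, 0, 0, 0, 0, 0, 0, 2, 1, 1, 1, 1, 1, 1, 2], [2], [0, 2, 1], [0, 0, 2, 1, 1],
        [0, 0, 0, 2, 1, 1, 1], [0, 0, 0, 0, 2, 1, 1, 1, 1]]
      (by decide) (by decide +kernel))

end Cfsg.Agent.S2419
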