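import Cfsg.Statements.S4538
import Cfsg.Agent.H42.SLDefectZero
import Cfsg.Agent.H42.RadicalBlocks
import Cfsg.Agent.H42.SLRadical
import Cfsg.Agent.H42.DegreeBound
import Cfsg.Agent.H40.BlockDefect
import Cfsg.Agent.H2.St.SLData
-- import your own Cfsg.Agent.* helpers here

set_option autoImplicit false
open Cfsg

namespace Cfsg.Agent.S4538

/-- Let F be a finite field of characteristic p and n ≥ 2. Relative to a maximal ideal M of the algebraic integers containing p, the group SL(n, F) has exactly one p-block of defect zero, and every other p-block has full defect (its defect equals the exponent of p in the order of the group, so its defect groups are Sylow p-subgroups). -/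
theorem result {F : Type*} [Field F] [Fintype F] (n : ℕ) (hn : 2 ≤ n) (p : ℕ) [Fact p.Prime] [CharP F p] (M : Ideal Cfsg.AlgInt) (hM : Cfsg.IsPModular p M) : Nat.card {B : Set (Cfsg.IrrCharacter (Matrix.SpecialLinearGroup (Fin n) F)) // Cfsg.IsPBlock M B ∧ Cfsg.blockDefect p B = 0} = 1 ∧ ∀ B : Set (Cfsg.IrrCharacter (Matrix.SpecialLinearGroup (Fin n) F)), Cfsg.IsPBlock M B → Cfsg.blockDefect p B = 0 ∨ Cfsg.blockDefect p B = (Nat.card (Matrix.SpecialLinearGroup (Fin n) F)).factorization p := by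
  have := hM.2.1
  refine ⟨Nat.card_eq_one_iff_unique.2 ⟨⟨?_⟩, ?_⟩, fun B hB =>
    Cfsg.Agent.H42.blockDefect_eq_zero_or_full hM
      (fun P hP hne hrad => Cfsg.Agent.H42.SLRad.centralizer_le_of_radical p P hP hne hrad) B hB⟩
  · rintro ⟨B, hB, h0⟩ ⟨B', hB', h0'⟩
    obtain ⟨χ, hχ⟩ := Cfsg.Agent.H41.IsPBlock.nonempty hB
    obtain ⟨χ', hχ'⟩ := Cfsg.Agent.H41.IsPBlock.nonempty hB'
    have h1 := Cfsg.Agent.H40.sub_blockDefect_le hM hB hχ
    have h2 := Cfsg.Agent.H40.sub_blockDefect_le hM hB' hχ'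
    rw [h0, Nat.sub_zero] at h1
    rw [h0', Nat.sub_zero] at h2
    have e := Cfsg.Agent.H42.SLDZ.eq_of_defect_zero p hn hM χ χ' h1 h2
    exact Subtype.ext (Cfsg.Agent.H41.block_eq_of_mem_of_mem hB hB' hχ (e ▸ hχ'))
  · obtain ⟨m, rfl⟩ : ∃ m, n = m + 1 := ⟨n - 1, by omega⟩
    obtain ⟨χ, hχ, hst⟩ := (Cfsg.Agent.H2.St.slData m F).exists_steinberg p (MonoidHom.id _)
      (fun x => ⟨x, rfl⟩) (by simp)
    obtain ⟨P⟩ : Nonempty (Sylow p (Matrix.SpecialLinearGroup (Fin (m + 1)) F)) := inferInstance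
    have hdeg : (Cfsg.charDegree χ).factorization p =
        (Nat.card (Matrix.SpecialLinearGroup (Fin (m + 1)) F)).factorization p := by
      rw [Cfsg.Agent.H42.charDegree_of_eq_nat (hst P).1, P.card_eq_multiplicity,
        (Fact.out : p.Prime).factorization_pow, Finsupp.single_eq_same]
    refine ⟨⟨Cfsg.blockOf M χ, ⟨⟨χ, hχ⟩, rfl⟩, ?_⟩⟩
    rw [Cfsg.Agent.H40.blockOf_eq_singleton hM ⟨χ, hχ⟩ hdeg.ge, Cfsg.blockDefect, Set.image_singleton,
      csInf_singleton, hdeg, Nat.sub_self]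

end Cfsg.Agent.S4538
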