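import Cfsg.Statements.S2440
import Cfsg.Agent.S4538
import Cfsg.Agent.H42.FullDefectCount
import Cfsg.Agent.H1.Orders
-- import your own Cfsg.Agent.* helpers here

set_option autoImplicit false
open Cfsg

namespace Cfsg.Agent.S2440

/-- For a prime p and n ≥ 2, the group SL_n over the field with p elements has exactly gcd(n, p − 1) + 1 p-blocks relative to any maximal ideal of the algebraic integers containing p, that is, one more than the order of its centre (only this total is asserted; it arises as the defect-zero block of the Steinberg character plus as many blocks of maximal defect as the order of the centre). -/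
theorem result (p : ℕ) [Fact p.Prime] (n : ℕ) (hn : 2 ≤ n) (M : Ideal Cfsg.AlgInt) (hM : Cfsg.IsPModular p M) :
    Nat.card {B : Set (Cfsg.IrrCharacter (Matrix.SpecialLinearGroup (Fin n) (ZMod p))) // Cfsg.IsPBlock M B} =
      Nat.gcd n (p - 1) + 1 := by
  classical
  have : NeZero p := ⟨(Fact.out : p.Prime).ne_zero⟩
  have : Nonempty (Fin n) := ⟨⟨0, by omega⟩⟩
  obtain ⟨h0, hdich⟩ := Cfsg.Agent.S4538.result (F := ZMod p) n hn p M hM
  have hpp : p.Prime := Fact.out
  have hpG : p ∣ Nat.card (Matrix.SpecialLinearGroup (Fin n) (ZMod p)) := by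
    have h01 : (⟨0, by omega⟩ : Fin n) ≠ ⟨1, by omega⟩ := by simp [Fin.ext_iff]
    let x : Matrix.SpecialLinearGroup (Fin n) (ZMod p) :=
      Matrix.SpecialLinearGroup.transvection h01 1
    have hx : x ^ p = 1 := by
      apply Subtype.ext
      rw [Matrix.SpecialLinearGroup.coe_pow, Matrix.SpecialLinearGroup.transvection_coe,
        add_pow_char_of_commute (p := p) (Commute.one_left _), one_pow, Matrix.SpecialLinearGroup.coe_one]
      rw [pow_eq_zero_of_le hpp.two_le (by rw [sq, Matrix.single_mul_single_of_ne]; simp [Fin.ext_iff]),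
        add_zero]
    have hx1 : x ≠ 1 := by
      intro h
      have h1 := congrFun (congrFun (congrArg Subtype.val h) ⟨0, by omega⟩) ⟨1, by omega⟩
      simp [x, Matrix.SpecialLinearGroup.transvection_coe, Fin.ext_iff] at h1
    exact (orderOf_eq_prime hx hx1).symm.dvd.trans (orderOf_dvd_natCard x)
  have hZcard : Nat.card (Subgroup.center (Matrix.SpecialLinearGroup (Fin n) (ZMod p))) = Nat.gcd n (p - 1) := by
    rw [Cfsg.Agent.H1.card_center_SL, Fintype.card_fin, Cfsg.Agent.H1.natCard_units (ZMod.card p)]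
  have hZp : ¬ p ∣ Nat.card (Subgroup.center (Matrix.SpecialLinearGroup (Fin n) (ZMod p))) := by
    rw [hZcard]
    intro h
    have := hpp.two_le
    exact absurd (Nat.le_of_dvd (by omega) (h.trans (Nat.gcd_dvd_right n (p - 1)))) (by omega)
  have hcen : ∀ g : Matrix.SpecialLinearGroup (Fin n) (ZMod p), ¬ p ∣ orderOf g →
      (Nat.card (Matrix.SpecialLinearGroup (Fin n) (ZMod p))).factorization p ≤
        (Nat.card (Subgroup.centralizer ({g} : Set (Matrix.SpecialLinearGroup (Fin n) (ZMod p))))).factorization p →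
      g ∈ Subgroup.center (Matrix.SpecialLinearGroup (Fin n) (ZMod p)) := by
    intro g hg hle
    obtain ⟨S, hS⟩ := Cfsg.Agent.H40.exists_isSylowIn p
      (Subgroup.centralizer ({g} : Set (Matrix.SpecialLinearGroup (Fin n) (ZMod p))))
    have hcard := Cfsg.Agent.H40.card_isSylowIn hS
    obtain ⟨R, hR⟩ := (IsPGroup.of_card hcard).exists_le_sylow
    have hSR : (R : Subgroup _) = S := (Subgroup.eq_of_le_of_card_ge hR (by
      rw [hcard, R.card_eq_multiplicity]; exact Nat.pow_le_pow_right hpp.pos hle)).symm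
    have hne : S ≠ ⊥ := fun e => by
      have h1 := R.card_eq_multiplicity
      rw [hSR, e, Subgroup.card_bot] at h1
      exact (hpp.factorization_pos_of_dvd Nat.card_pos.ne' hpG).ne'
        ((Nat.pow_eq_one.1 h1.symm).resolve_left hpp.ne_one)
    have hSp : IsPGroup p S := IsPGroup.of_card hcard
    have hrad : (Cfsg.pCore p (Subgroup.normalizer (S : Set (Matrix.SpecialLinearGroup (Fin n) (ZMod p))))).map
        (Subgroup.normalizer (S : Set (Matrix.SpecialLinearGroup (Fin n) (ZMod p)))).subtype = S := by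
      refine le_antisymm ?_ ?_
      · have hmax := R.3 ((Cfsg.Agent.H40.isPGroup_pCore p (Subgroup.normalizer (S : Set (Matrix.SpecialLinearGroup (Fin n) (ZMod p))))).map
          (Subgroup.normalizer (S : Set (Matrix.SpecialLinearGroup (Fin n) (ZMod p)))).subtype)
        have hle' : S ≤ (Cfsg.pCore p (Subgroup.normalizer (S : Set (Matrix.SpecialLinearGroup (Fin n) (ZMod p))))).map
            (Subgroup.normalizer (S : Set (Matrix.SpecialLinearGroup (Fin n) (ZMod p)))).subtype := fun x hx => ⟨⟨x, Subgroup.le_normalizer hx⟩,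
          Cfsg.Agent.H40.le_pCore (Subgroup.normal_subgroupOf_of_le_normalizer le_rfl)
            (hSp.comap_subtype) (Subgroup.mem_subgroupOf.2 hx), rfl⟩
        rw [hSR] at hmax
        exact (hmax hle').le
      · exact fun x hx => ⟨⟨x, Subgroup.le_normalizer hx⟩,
          Cfsg.Agent.H40.le_pCore (Subgroup.normal_subgroupOf_of_le_normalizer le_rfl)
            (hSp.comap_subtype) (Subgroup.mem_subgroupOf.2 hx), rfl⟩
    obtain ⟨q, hq, z, hz, he⟩ := Subgroup.mem_sup_of_normal_right.1
      (Cfsg.Agent.H42.SLRad.centralizer_le_of_radical p S hSp hne hrad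
        (Cfsg.Agent.H40.le_centralizer_singleton_iff.1 hS.1))
    obtain ⟨j, hj⟩ := IsPGroup.iff_orderOf.1 hSp ⟨q, hq⟩
    rw [Subgroup.orderOf_mk] at hj
    have hqeq : q = g * z⁻¹ := by rw [← he, mul_inv_cancel_right]
    have hc : Commute g z⁻¹ := (Subgroup.mem_center_iff.1 (inv_mem hz) g)
    have h1 : orderOf q ∣ Nat.lcm (orderOf g) (orderOf z⁻¹) := hqeq ▸ hc.orderOf_mul_dvd_lcm
    have hzp : ¬ p ∣ orderOf z⁻¹ := fun h => hZp (h.trans (by
      rw [← Subgroup.orderOf_mk z⁻¹ (inv_mem hz)]; exact orderOf_dvd_natCard _))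
    rcases j with _ | j
    · rw [pow_zero, orderOf_eq_one_iff] at hj
      rw [← he, hj, one_mul]
      exact hz
    · exact absurd ((dvd_pow_self p j.succ_ne_zero).trans (hj ▸ h1)) fun h =>
        (hpp.dvd_mul.1 (h.trans (Nat.lcm_dvd_mul _ _))).elim hg hzp
  have hpos := Cfsg.Agent.H42.card_blocks_pos_defect hM hpG hZp hdich hcen
  set P : Set (Cfsg.IrrCharacter (Matrix.SpecialLinearGroup (Fin n) (ZMod p))) → Prop := fun B => Cfsg.IsPBlock M B
  rw [← hZcard, ← hpos, ← h0, Nat.card_congr (Equiv.sumCompl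
    (fun B : {B // P B} => Cfsg.blockDefect p B.1 ≠ 0)).symm, Nat.card_sum]
  congr 1
  · exact Nat.card_congr (Equiv.subtypeSubtypeEquivSubtypeInter P fun B => Cfsg.blockDefect p B ≠ 0)
  · exact Nat.card_congr ((Equiv.subtypeEquivRight fun B => not_not).trans
      (Equiv.subtypeSubtypeEquivSubtypeInter P fun B => Cfsg.blockDefect p B = 0))

end Cfsg.Agent.S2440
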