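import Cfsg.Statements.S2469
import Cfsg.Agent.H2.PrimeGraphOdd

set_option autoImplicit false
open Cfsg

namespace Cfsg.Agent.S2469

/-- Adjacency of two odd primes in the prime graph of PSp(2n,q): let F be a finite field of characteristic p with q elements, n ≥ 2 with PSp(2n,F) simple, and let r ≠ s be odd primes different from p dividing the order of PSp(2n,F). Let k, l be the multiplicative orders of q modulo r and s, put η(m) = m for odd m and η(m) = m/2 for even m, and suppose η(k) ≤ η(l). Then PSp(2n,F) has NO element of order r·s if and only if η(k) + η(l) > n and l/k is not an odd integer. -/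
theorem result {F : Type*} [Field F] [Fintype F] (p : ℕ) [Fact p.Prime] [CharP F p] (n : ℕ) (hn : 2 ≤ n) (hsmall : n = 2 → 3 ≤ Fintype.card F)
    (r s : ℕ) (hr : r.Prime) (hs : s.Prime) (hr2 : r ≠ 2) (hs2 : s ≠ 2) (hrp : r ≠ p) (hsp : s ≠ p) (hrs : r ≠ s)
    (hrG : r ∣ Nat.card (Cfsg.PSp n F)) (hsG : s ∣ Nat.card (Cfsg.PSp n F))
    (k l ηk ηl : ℕ) (hk : k = orderOf ((Fintype.card F : ℕ) : ZMod r)) (hl : l = orderOf ((Fintype.card F : ℕ) : ZMod s))
    (hηk : (Odd k ∧ ηk = k) ∨ (Even k ∧ 2 * ηk = k)) (hηl : (Odd l ∧ ηl = l) ∨ (Even l ∧ 2 * ηl = l)) (hkl : ηk ≤ ηl) :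
    (r * s ∉ Set.range (orderOf : Cfsg.PSp n F → ℕ)) ↔ (n < ηk + ηl ∧ ¬ ∃ t : ℕ, Odd t ∧ l = k * t) := by
  have : Fact r.Prime := ⟨hr⟩
  have : Fact s.Prime := ⟨hs⟩
  have hne : ∀ {u : ℕ}, u.Prime → u ≠ p → (u : F) ≠ 0 := by
    intro u hu hup
    rw [Ne, CharP.cast_eq_zero_iff F p u, Nat.prime_dvd_prime_iff_eq Fact.out hu]
    exact fun h => hup h.symm
  have hrF := hne hr hrp
  have hsF := hne hs hsp
  rw [← Nat.card_eq_fintype_card] at hk hl
  subst hk hl
  have hbound : ∀ {u η : ℕ} [Fact u.Prime], (u : F) ≠ 0 → u ∣ Nat.card (Cfsg.PSp n F) →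
      H2.IsEta (orderOf (Nat.card F : ZMod u)) η → η ≤ n := by
    intro u η _ hu hd he
    have h := hd.trans (Subgroup.card_quotient_dvd_card _)
    rw [H2.card_sp] at h
    rcases (Fact.out : u.Prime).dvd_mul.mp h with h | h
    · refine absurd ?_ hu
      obtain ⟨e, -, he'⟩ := FiniteField.card F p
      have h' := (Fact.out : u.Prime).dvd_of_dvd_pow h
      rw [Nat.card_eq_fintype_card, he'] at h'
      rw [(Nat.prime_dvd_prime_iff_eq Fact.out Fact.out).mp ((Fact.out : u.Prime).dvd_of_dvd_pow h')]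
      exact CharP.cast_eq_zero F p
    · obtain ⟨i, hi, h'⟩ := (Fact.out : u.Prime).prime.exists_mem_finset_dvd h
      rw [← ZMod.natCast_eq_zero_iff, Nat.cast_sub (Nat.one_le_pow _ _ Nat.card_pos), Nat.cast_pow, Nat.cast_one,
        sub_eq_zero, ← orderOf_dvd_iff_pow_eq_one] at h'
      have hi' := Finset.mem_range.mp hi
      rcases he with ⟨ho, rfl⟩ | ⟨-, he⟩
      · have := Nat.le_of_dvd (by omega) ((Nat.coprime_two_right.mpr ho).dvd_of_dvd_mul_left h')
        omega
      · have := Nat.le_of_dvd (by omega) h'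
        omega
  have hln : ηl ≤ n := hbound hsF hsG hηl
  constructor
  · intro h
    by_contra hc
    obtain ⟨g, hg⟩ := H2.exists_orderOf_two_primes (n := n) (p := p) hr2 hs2 hrs hrF hsF hηk hηl hln (by
      by_cases h' : n < ηk + ηl
      · exact Or.inr (not_not.mp fun ht => hc ⟨h', ht⟩)
      · exact Or.inl (by omega))
    exact h ⟨g, hg⟩
  · rintro ⟨hn', ht⟩ ⟨g, hg⟩
    obtain ⟨x, y, hx, hx1, hy, hy1, hxy⟩ := H2.exists_commuting_two_primes g hg
    exact ht (H2.cond_of_commute hr2 hs2 hrs hrF hsF hx hx1 hy hy1 hxy hηk hηl hkl hn')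

end Cfsg.Agent.S2469
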