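import Cfsg.Statements.S2472
import Cfsg.Agent.H2.PrimeGraph

set_option autoImplicit false
open Cfsg

namespace Cfsg.Agent.S2472

/-- Adjacency of a prime and the characteristic in the prime graph of PSp(2n,q): let F be a finite field of characteristic p with q elements, n ≥ 2 with PSp(2n,F) simple, and let r ≠ p be an odd prime dividing the order of PSp(2n,F), with k the multiplicative order of q modulo r and η(k) = k for odd k, k/2 for even k. Then PSp(2n,F) has NO element of order r·p if and only if η(k) > n − 1. -/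
theorem result {F : Type*} [Field F] [Fintype F] (p : ℕ) [Fact p.Prime] [CharP F p] (n : ℕ) (hn : 2 ≤ n) (hsmall : n = 2 → 3 ≤ Fintype.card F)
    (r : ℕ) (hr : r.Prime) (hr2 : r ≠ 2) (hrp : r ≠ p) (hrG : r ∣ Nat.card (Cfsg.PSp n F))
    (k ηk : ℕ) (hk : k = orderOf ((Fintype.card F : ℕ) : ZMod r)) (hηk : (Odd k ∧ ηk = k) ∨ (Even k ∧ 2 * ηk = k)) :
    (r * p ∉ Set.range (orderOf : Cfsg.PSp n F → ℕ)) ↔ n - 1 < ηk := by
  haveI : Fact r.Prime := ⟨hr⟩
  have hrF : (r : F) ≠ 0 := by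
    rw [Ne, CharP.cast_eq_zero_iff F p r, Nat.prime_dvd_prime_iff_eq Fact.out hr]
    exact fun h => hrp h.symm
  have hk' : orderOf (Nat.card F : ZMod r) = k := by rw [Nat.card_eq_fintype_card]; exact hk.symm
  have hkpos : 0 < k := hk' ▸ Cfsg.Agent.H97.orderOf_pos_zmod hrF
  constructor
  · intro h
    by_contra! hle
    have hη0 : 1 ≤ ηk := by rcases hηk with ⟨-, h⟩ | ⟨-, h⟩ <;> omega
    obtain ⟨g, hg⟩ := Cfsg.Agent.H2.exists_orderOf_mul (F := F) (p := p) (n := n) hrF hr2 (by omega) hη0 (by omega)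
      (by rw [hk']; rcases hηk with ⟨-, h⟩ | ⟨-, h⟩ <;> [rw [h]; rw [h]]; exact dvd_mul_left k 2)
    exact h ⟨g, hg⟩
  · rintro h ⟨g, hg⟩
    obtain ⟨x, u, hx, hx1, hu, hu1, hxu⟩ := Cfsg.Agent.H2.exists_commuting_of_orderOf g hg
    have := Cfsg.Agent.H2.eta_lt_of_commute hr2 hrF hx hx1 hu hu1 hxu (η := ηk) (by rw [hk']; exact hηk)
    omega

end Cfsg.Agent.S2472
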