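import Cfsg.Statements.S2507
import Cfsg.Agent.H69.PSL2Elements

set_option autoImplicit false
open Cfsg

namespace Cfsg.Agent.S2507

open Cfsg.Agent.H69

/-- Let F be a finite field with q = 2^f ≥ 4 elements. The conjugacy class sizes of PSL(2,F) are exactly 1, q(q − 1), q² − 1 and q(q + 1). -/
theorem result {F : Type*} [Field F] [Fintype F]
    (h2 : 2 ∣ Fintype.card F) (h4 : 4 ≤ Fintype.card F) :
    Set.range (fun g : (Matrix.ProjectiveSpecialLinearGroup (Fin 2) F) => (Subgroup.centralizer ({g} : Set (Matrix.ProjectiveSpecialLinearGroup (Fin 2) F))).index) =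
      {1, Fintype.card F * (Fintype.card F - 1), Fintype.card F ^ 2 - 1, Fintype.card F * (Fintype.card F + 1)} := by
  classical
  set q := Fintype.card F with hq
  have h2' : (2 : F) = 0 := field_two_eq_zero_iff.2 (by omega)
  have hchar : ringChar F = 2 :=
    CharP.ringChar_of_prime_eq_zero Nat.prime_two (by exact_mod_cast h2')
  have hcalc : ∀ G : Matrix.SpecialLinearGroup (Fin 2) F, ∀ n : ℕ,
      Nat.card (Subgroup.centralizer ({G} : Set (Matrix.SpecialLinearGroup (Fin 2) F))) = n →
      ((Subgroup.centralizer {(Cfsg.Agent.H6.π G : Matrix.ProjectiveSpecialLinearGroup (Fin 2) F)}).index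
        * n = q * (q - 1) * (q + 1)) := by
    intro G n hn
    rw [psl2_index_centralizer_eq, psl2_comap_centralizer_eq (Or.inl h2'), ← hn, mul_comm,
      Subgroup.card_mul_index, card_sl2']
  have hpos : 0 < q - 1 := by omega
  ext m
  simp only [Set.mem_range, Set.mem_insert_iff, Set.mem_singleton_iff]
  have hsq : q ^ 2 - 1 = (q - 1) * (q + 1) := by
    simpa [mul_comm] using Nat.sq_sub_sq q 1
  rw [hsq]
  constructor
  · rintro ⟨x, rfl⟩
    obtain ⟨G, rfl⟩ := Cfsg.Agent.H6.π_surjective x
    by_cases hG : IsScalar2 (G : Matrix (Fin 2) (Fin 2) F)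
    · left
      rw [Cfsg.Agent.H6.π_eq_one_iff_isScal.2 hG]
      simp [Subgroup.centralizer_eq_top_iff_subset]
    · right
      by_cases ht : (G : Matrix (Fin 2) (Fin 2) F).trace ^ 2 = 4
      · right; left
        have hc := card_centralizer_unipotent_even hG ht hchar
        rw [Nat.card_eq_fintype_card (α := F)] at hc
        exact Nat.eq_of_mul_eq_mul_right (by omega) ((hcalc G q hc).trans (by ring))
      · rcases card_centralizer_semisimple ht with hc | hc
        · right; right
          exact Nat.eq_of_mul_eq_mul_right hpos ((hcalc G _ hc).trans (by ring))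
        · left
          exact Nat.eq_of_mul_eq_mul_right (by omega) ((hcalc G _ hc).trans (by ring))
  · rintro (rfl | rfl | rfl | rfl)
    · exact ⟨1, by simp [Subgroup.centralizer_eq_top_iff_subset]⟩
    · obtain ⟨G, -, hc⟩ := exists_elliptic_element (F := F)
      exact ⟨Cfsg.Agent.H6.π G,
        Nat.eq_of_mul_eq_mul_right (by omega) ((hcalc G _ hc).trans (by ring))⟩
    · have hc := card_centralizer_unipotent_even (not_isScalar2_slComp (F := F) 2)
        (by rw [trace_slComp]; norm_num) hchar
      rw [Nat.card_eq_fintype_card (α := F)] at hc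
      exact ⟨Cfsg.Agent.H6.π (slComp 2),
        Nat.eq_of_mul_eq_mul_right (by omega) ((hcalc _ q hc).trans (by ring))⟩
    · obtain ⟨G, -, hc⟩ := exists_split_element (F := F) h4
      exact ⟨Cfsg.Agent.H6.π G,
        Nat.eq_of_mul_eq_mul_right hpos ((hcalc G _ hc).trans (by ring))⟩

end Cfsg.Agent.S2507
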