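import Cfsg.Statements.S2652
import Cfsg.Agent.H55.Fi23T.Model

set_option autoImplicit false
open Cfsg

namespace Cfsg.Agent.S2652

/-- Let T be a Sylow 2-subgroup of the Fischer group Fi₂₃ (the finitely presented group `Spor.Fi23`; T has order 2¹⁸). Then every elementary abelian subgroup of Fi₂₃ contained in T and normal in T has order at most 2¹¹, and there is exactly one such subgroup of order 2¹¹. -/
theorem result
    (T : Sylow 2 Cfsg.Spor.Fi23) :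
    (∀ A : Subgroup Cfsg.Spor.Fi23, A ≤ T → (A.subgroupOf T).Normal → Cfsg.IsElementaryAbelian 2 A →
        Nat.card A ≤ 2 ^ 11) ∧
    ∃! A : Subgroup Cfsg.Spor.Fi23, A ≤ T ∧ (A.subgroupOf T).Normal ∧ Cfsg.IsElementaryAbelian 2 A ∧
        Nat.card A = 2 ^ 11 := by
  haveI : Fact (Nat.Prime 2) := ⟨Nat.prime_two⟩
  haveI : Finite Cfsg.Spor.Fi23 := H16.Fi23Order.finite_card_le.1
  obtain ⟨hcard, hEle, hEn, hEab, hEc, hmax⟩ := H55.Fi23T.ext_result
  have hfac : (Nat.card Cfsg.Spor.Fi23).factorization 2 = 18 := by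
    rw [H16.Fi23Order.card_and_faithful.1, show (4089470473293004800 : ℕ) = 2 ^ 18 * 15600091832325 by norm_num,
      Nat.factorization_mul (by norm_num) (by norm_num), Finsupp.add_apply,
      Nat.Prime.factorization_pow Nat.prime_two, Finsupp.single_eq_same,
      Nat.factorization_eq_zero_of_not_dvd (show ¬ 2 ∣ 15600091832325 by norm_num)]
  let P : Sylow 2 Cfsg.Spor.Fi23 := Sylow.ofCard H55.Fi23T.ext.top (by rw [hcard, hfac])
  obtain ⟨g, hg⟩ := MulAction.exists_smul_eq (Cfsg.Spor.Fi23) P T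
  let φ := MulAut.conj g
  have hT : (T : Subgroup Cfsg.Spor.Fi23) = H55.Fi23T.ext.top.map φ.toMonoidHom := by
    rw [← hg]; rfl
  rw [show (∀ A : Subgroup Cfsg.Spor.Fi23, A ≤ T → (A.subgroupOf T).Normal →
      Cfsg.IsElementaryAbelian 2 A → Nat.card A ≤ 2 ^ 11) ↔ (∀ A : Subgroup Cfsg.Spor.Fi23,
      A ≤ H55.Fi23T.ext.top.map φ.toMonoidHom →
      (A.subgroupOf (H55.Fi23T.ext.top.map φ.toMonoidHom)).Normal →
      Cfsg.IsElementaryAbelian 2 A → Nat.card A ≤ 2 ^ 11) by rw [hT], hT]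
  have hpull : ∀ A : Subgroup Cfsg.Spor.Fi23, A ≤ H55.Fi23T.ext.top.map φ.toMonoidHom →
      (A.subgroupOf (H55.Fi23T.ext.top.map φ.toMonoidHom)).Normal → Cfsg.IsElementaryAbelian 2 A →
      Nat.card A ≤ 2 ^ 11 ∧ (Nat.card A = 2 ^ 11 → A = H55.Fi23T.ext.E.map φ.toMonoidHom) := by
    intro A hle hn hA
    have hc : Nat.card (A.comap φ.toMonoidHom) = Nat.card A := by
      refine Nat.card_congr (φ.toEquiv.subtypeEquiv fun x => ?_)
      exact Iff.rfl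
    have h := hmax (A.comap φ.toMonoidHom) ?_ ⟨fun x hx n => ?_⟩ ⟨⟨⟨fun a b => ?_⟩⟩, fun a ha => ?_⟩
    · rw [hc] at h
      exact ⟨h.1, fun he => by rw [← h.2 he, Subgroup.map_comap_eq_self_of_surjective φ.surjective]⟩
    · intro x hx
      obtain ⟨y, hy, hyx⟩ := hle hx
      exact φ.injective hyx ▸ hy
    · have h1 : φ.toMonoidHom (x : Cfsg.Spor.Fi23) ∈ A := hx
      have h2 := hn.conj_mem ⟨φ.toMonoidHom x, hle h1⟩ h1 ⟨φ.toMonoidHom n, Subgroup.mem_map_of_mem _ n.2⟩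
      change φ.toMonoidHom ((n : Cfsg.Spor.Fi23) * x * (n : Cfsg.Spor.Fi23)⁻¹) ∈ A
      rw [map_mul, map_mul, map_inv]
      exact h2
    · have := hA.1
      apply Subtype.ext
      apply φ.injective
      have h1 := congrArg Subtype.val (mul_comm' (⟨φ a, a.2⟩ : A) ⟨φ b, b.2⟩)
      rw [Subgroup.coe_mul, Subgroup.coe_mul, map_mul, map_mul]
      exact h1
    · apply φ.injective
      rw [map_pow, map_one]
      exact hA.2 _ ha
  refine ⟨fun A h1 h2 h3 => (hpull A h1 h2 h3).1, H55.Fi23T.ext.E.map φ.toMonoidHom,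
    ⟨Subgroup.map_mono hEle, ⟨fun x hx n => ?_⟩, ⟨⟨⟨fun a b => ?_⟩⟩, ?_⟩, ?_⟩,
    fun A ⟨h1, h2, h3, h4⟩ => (hpull A h1 h2 h3).2 h4⟩
  · obtain ⟨y, hy, hyx⟩ := hx
    obtain ⟨m, hm, hmn⟩ := n.2
    refine ⟨m * y * m⁻¹, hEn.conj_mem ⟨y, hEle hy⟩ hy ⟨m, hm⟩, ?_⟩
    rw [map_mul, map_mul, map_inv, hmn, hyx]
    rfl
  · obtain ⟨a', ha, ha'⟩ := a.2
    obtain ⟨b', hb, hb'⟩ := b.2
    have := hEab.1
    apply Subtype.ext
    change (a : Cfsg.Spor.Fi23) * b = b * a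
    rw [← ha', ← hb', ← map_mul, ← map_mul]
    exact congrArg φ.toMonoidHom (congrArg Subtype.val (mul_comm' (⟨a', ha⟩ : H55.Fi23T.ext.E) ⟨b', hb⟩))
  · rintro a ⟨a', ha, rfl⟩
    rw [← map_pow, hEab.2 a' ha, map_one]
  · rw [Subgroup.card_map_of_injective φ.injective, hEc]

end Cfsg.Agent.S2652
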