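import Cfsg.Statements.S2810
import Cfsg.Agent.H72.CharP

set_option autoImplicit false
open Cfsg

namespace Cfsg.Agent.S2810

/-- Let H be a finite group of characteristic p and L a subgroup of H centralizing every factor of some H-invariant chain 1 = A₀ ≤ A₁ ≤ … ≤ Aₙ = O_p(H) of normal subgroups (that is, [A_{i+1}, L] ≤ Aᵢ for each i). Then L ≤ O_p(H). -/
theorem result {H : Type*} [Group H] [Finite H] {p : ℕ} [Fact p.Prime] (hchar : Subgroup.centralizer (Cfsg.pCore p H : Set H) ≤ Cfsg.pCore p H) (L : Subgroup H) (n : ℕ) (A : Fin (n + 1) → Subgroup H) (h0 : A 0 = ⊥) (hn : A (Fin.last n) = Cfsg.pCore p H) (hmono : Monotone A) (hnorm : ∀ i, (A i).Normal) (hcent : ∀ i : Fin n, ⁅A i.succ, L⁆ ≤ A i.castSucc) : L ≤ Cfsg.pCore p H := by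
  set N := Subgroup.normalClosure (L : Set H) with hN
  haveI := hnorm
  have hcN : ∀ i : Fin n, ⁅A i.succ, N⁆ ≤ A i.castSucc :=
    fun i => H72.commutator_normalClosure_le (hcent i)
  have hiter : ∀ k (hk : k ≤ n), Cfsg.iterCommutator (Cfsg.pCore p H) N k ≤
      A ⟨n - k, by omega⟩ := by
    intro k hk
    induction k with
    | zero =>
      simp only [Cfsg.iterCommutator]
      rw [← hn]; exact le_of_eq (congrArg A (Fin.ext (by simp)))
    | succ k ih =>
      simp only [Cfsg.iterCommutator]
      refine le_trans (Subgroup.commutator_mono (ih (by omega)) le_rfl) ?_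
      have h1 := hcN ⟨n - (k + 1), by omega⟩
      have e : (⟨n - (k + 1), by omega⟩ : Fin n).succ = (⟨n - k, by omega⟩ : Fin (n + 1)) :=
        Fin.ext (by simp only [Fin.val_succ]; omega)
      rw [e] at h1
      exact h1
  have hp : IsPGroup p N := by
    refine H72.isPGroup_of_coprime_eq_one fun x hx hc => ?_
    refine H72.eq_one_of_coprime_of_isPGroup (H72.pCore_isPGroup p) (hchar ?_) hc
    refine H72.coprime_mem_centralizer_of_iterCommutator (H72.pCore_isPGroup p) ?_
      (n := n) ?_ hx hc
    · rw [Subgroup.normalizer_eq_top_iff.2 (H72.pCore_normal p)]; exact le_top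
    · rw [eq_bot_iff, ← h0]
      exact (hiter n le_rfl).trans (le_of_eq (congrArg A (Fin.ext (by simp))))
  exact Subgroup.le_normalClosure.trans (H72.le_pCore inferInstance hp)

end Cfsg.Agent.S2810
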