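import Cfsg.Statements.S2813
import Cfsg.Agent.H72.CharP

open scoped commutatorElement

set_option autoImplicit false
open Cfsg

namespace Cfsg.Agent.S2813

/-- Let K be a subgroup of the finite group H with O_p(K) = 1 and Y a p-subgroup of N_H(K) with [K, Y, Y] = 1. Then [K, Y] = 1. -/
theorem result {H : Type*} [Group H] [Finite H] {p : ℕ} [Fact p.Prime] (K : Subgroup H) (hO : Cfsg.pCore p ↥K = ⊥) (Y : Subgroup H) (hY : IsPGroup p ↥Y) (hYK : Y ≤ Subgroup.normalizer (K : Set H)) (hq : ⁅⁅K, Y⁆, Y⁆ = ⊥) : ⁅K, Y⁆ = ⊥ := by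
  set W := ⁅K, Y⁆ with hW
  have hWK : W ≤ K := Subgroup.le_normalizer_iff_commutator_le_left.1 hYK
  have hYW : ∀ w ∈ W, ∀ y ∈ Y, w * y = y * w := fun w hw y hy =>
    commutatorElement_eq_one_iff_mul_comm.1
      (Subgroup.mem_bot.1 (hq ▸ Subgroup.commutator_mem_commutator hw hy))
  have hKW : K ≤ Subgroup.normalizer (W : Set H) := Subgroup.normalizer_commutator_ge_left K Y
  -- every generator centralizes `W`
  have hgen : ∀ k ∈ K, ∀ y ∈ Y, ∀ w ∈ W, ⁅k, y⁆ * w = w * ⁅k, y⁆ := by
    intro k hk y hy w hw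
    have h1 : k⁻¹ * w * k ∈ W := (Subgroup.mem_normalizer_iff''.1 (hKW hk) w).1 hw
    have c1 : Commute w (k * y * k⁻¹) := by
      have := (show Commute (k⁻¹ * w * k) y from hYW _ h1 y hy).map (MulAut.conj k).toMonoidHom
      simpa [mul_assoc] using this
    have c2 : Commute w y⁻¹ := (show Commute w y from hYW w hw y hy).inv_right
    rw [commutatorElement_def]
    exact (c1.mul_right c2).symm.eq
  have hab : W ≤ Subgroup.centralizer (W : Set H) := by
    rw [hW, Subgroup.commutator_le]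
    intro k hk y hy
    rw [Subgroup.mem_centralizer_iff]
    exact fun w hw => (hgen k hk y hy w hw).symm
  have hpow : ∀ k ∈ K, ∀ y ∈ Y, ∀ m : ℕ, ⁅k, y⁆ ^ m = ⁅k, y ^ m⁆ := by
    intro k hk y hy m
    induction m with
    | zero => simp
    | succ m ih =>
      rw [pow_succ, ih, pow_succ, commutatorElement_mul_right_eq_mul_conj]
      have h2 : y ^ m * ⁅k, y⁆ * (y ^ m)⁻¹ = ⁅k, y⁆ := by
        rw [← hYW _ (Subgroup.commutator_mem_commutator hk hy) _ (pow_mem hy m),
          mul_inv_cancel_right]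
      simp only [mul_assoc] at h2 ⊢
      rw [h2]
  have hWp : IsPGroup p W := by
    have : ∀ x ∈ W, ∃ k : ℕ, x ^ p ^ k = 1 := by
      intro x hx
      rw [hW, Subgroup.commutator_def] at hx
      induction hx using Subgroup.closure_induction with
      | mem x hx =>
        obtain ⟨k, hk, y, hy, rfl⟩ := hx
        obtain ⟨a, ha⟩ := hY ⟨y, hy⟩
        refine ⟨a, ?_⟩
        rw [hpow k hk y hy, show y ^ p ^ a = 1 from by simpa using congrArg Subtype.val ha]
        simp
      | one => exact ⟨0, by simp⟩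
      | mul x z hx hz ihx ihz =>
        obtain ⟨a, ha⟩ := ihx; obtain ⟨b, hb⟩ := ihz
        refine ⟨a + b, ?_⟩
        have hxz : Commute x z := by
          rw [← Subgroup.commutator_def, ← hW] at hx hz
          exact (Subgroup.mem_centralizer_iff.1 (hab hz) x hx)
        rw [hxz.mul_pow, pow_add, pow_mul x, ha, one_pow, one_mul,
          mul_comm (p ^ a), pow_mul, hb, one_pow]
      | inv x hx ihx =>
        obtain ⟨a, ha⟩ := ihx
        exact ⟨a, by rw [inv_pow, ha, inv_one]⟩
    rintro ⟨x, hx⟩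
    obtain ⟨k, hk⟩ := this x hx
    exact ⟨k, Subtype.ext (by simpa using hk)⟩
  have h1 := H72.le_pCoreOf hWK hKW hWp
  rw [Cfsg.pCoreOf, hO, Subgroup.map_bot] at h1
  exact le_bot_iff.1 h1

end Cfsg.Agent.S2813
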