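import Cfsg.Statements.S2814
import Cfsg.Agent.H22.PResidual
import Cfsg.Agent.H50.PResidualBasics
import Cfsg.Agent.H51.PLayer
import Cfsg.Agent.H32.Subnormal

set_option autoImplicit false
open Cfsg
open scoped commutatorElement

namespace Cfsg.Agent.S2814

/-- Let A be a subgroup of the finite group H and K the subnormal closure of A (intersection of the subnormal subgroups containing A). Then K is the normal closure of A inside K and N_H(A) ≤ N_H(K); K = A·O^p(K), O^p(K) being generated by the elements of K of order prime to p; and if A is a p-group, O^p(K) = [O^p(K), A]. -/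
theorem result {H : Type*} [Group H] [Finite H] {p : ℕ} [Fact p.Prime] (A : Subgroup H) (K : Subgroup H) (hK : K = Cfsg.subnormalClosure A) : (Subgroup.normalClosure ((A.subgroupOf K : Subgroup ↥K) : Set ↥K)).map K.subtype = K ∧ Subgroup.normalizer (A : Set H) ≤ Subgroup.normalizer (K : Set H) ∧ A ⊔ (Cfsg.pResidual p ↥K).map K.subtype = K ∧ (IsPGroup p ↥A → ⁅(Cfsg.pResidual p ↥K).map K.subtype, A⁆ = (Cfsg.pResidual p ↥K).map K.subtype) := by
  have hKsn : K.IsSubnormal := by
    rw [hK, Cfsg.subnormalClosure]
    refine Set.Finite.induction_on _ (Set.toFinite {L : Subgroup H | A ≤ L ∧ L.IsSubnormal})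
      (motive := fun S _ => (∀ L ∈ S, Subgroup.IsSubnormal L) → (sInf S : Subgroup H).IsSubnormal)
      (fun _ => by rw [sInf_empty]; exact Subgroup.IsSubnormal.top) ?_ (fun L hL => hL.2)
    intro L S _ _ ih h
    rw [sInf_insert]
    exact (h L (Set.mem_insert _ _)).inf (ih fun X hX => h X (Set.mem_insert_of_mem _ hX))
  have hAK : A ≤ K := by rw [hK]; exact le_sInf fun L hL => hL.1
  have hmin : ∀ L : Subgroup ↥K, L.IsSubnormal → A.subgroupOf K ≤ L → L = ⊤ := by
    intro L hL hAL
    apply top_unique
    intro x _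
    have h1 : K ≤ L.map K.subtype := by
      conv_lhs => rw [hK]
      exact sInf_le ⟨fun a ha => ⟨⟨a, hAK ha⟩, hAL ha, rfl⟩, Subgroup.IsSubnormal.trans' hL hKsn⟩
    obtain ⟨y, hy, hyx⟩ := h1 x.2
    rwa [show x = y from Subtype.ext hyx.symm]
  have hR : (Cfsg.pResidual p ↥K).Normal := Cfsg.Agent.H50.pResidual_normal p ↥K
  haveI := hR
  set R := Cfsg.pResidual p ↥K with hRdef
  set A' := A.subgroupOf K with hA'
  have hquot : ∀ (N : Subgroup ↥K) [N.Normal], R ≤ N → A' ⊔ N = ⊤ := by
    intro N _ hRN
    refine hmin _ ?_ le_sup_left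
    have hpg : IsPGroup p (↥K ⧸ N) := by
      intro q
      obtain ⟨x, rfl⟩ := QuotientGroup.mk'_surjective N q
      obtain ⟨k, hk⟩ := Cfsg.Agent.H22.exists_pow_mem_pResidual (p := p) x
      exact ⟨k, by rw [← map_pow]; exact (QuotientGroup.eq_one_iff _).mpr (hRN hk)⟩
    haveI := hpg.isNilpotent
    have hsub : ∀ B : Subgroup (↥K ⧸ N), B.IsSubnormal := by
      intro B
      induction B using WellFoundedGT.induction with
      | _ B ih =>
        rcases eq_or_ne B ⊤ with rfl | hB
        · exact Subgroup.IsSubnormal.top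
        · have hlt := normalizerCondition_of_isNilpotent B (lt_top_iff_ne_top.mpr hB)
          exact .step B _ hlt.le (ih _ hlt) (Subgroup.normal_subgroupOf_of_le_normalizer le_rfl)
    have h := (hsub (A'.map (QuotientGroup.mk' N))).comap (QuotientGroup.mk' N)
    rwa [Subgroup.comap_map_eq, QuotientGroup.ker_mk'] at h
  have hAR := hquot R le_rfl
  have hmapA : A'.map K.subtype = A := by rw [hA', Subgroup.subgroupOf_map_subtype, inf_eq_left.mpr hAK]
  refine ⟨?_, ?_, ?_, fun hAp => ?_⟩
  · rw [hmin _ Subgroup.normalClosure_normal.isSubnormal Subgroup.le_normalClosure,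
      ← MonoidHom.range_eq_map, Subgroup.range_subtype]
  · intro g hg
    rw [Cfsg.Agent.H51.mem_normalizer_iff_map_conj_eq] at hg ⊢
    symm
    refine Subgroup.eq_of_le_of_card_ge ?_ (le_of_eq (Nat.card_congr
      (Subgroup.equivMapOfInjective _ _ (MulAut.conj g).injective).toEquiv).symm)
    conv_lhs => rw [hK]
    exact sInf_le ⟨hg ▸ Subgroup.map_mono hAK, hKsn.map (MulAut.conj g).surjective⟩
  · have h := congrArg (Subgroup.map K.subtype) hAR
    rwa [Subgroup.map_sup, hmapA, ← MonoidHom.range_eq_map, Subgroup.range_subtype] at h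
  · set D := ⁅R, A'⁆ with hD
    haveI hDn : D.Normal := by
      rw [← Subgroup.normalizer_eq_top_iff, eq_top_iff, ← hAR]
      exact sup_le (Subgroup.normalizer_commutator_ge_right R A') (Subgroup.normalizer_commutator_ge_left R A')
    set π := QuotientGroup.mk' D with hπ
    have hcomm : R.map π ≤ Subgroup.centralizer ((A'.map π : Subgroup _) : Set _) := by
      rw [← Subgroup.commutator_eq_bot_iff_le_centralizer, ← Subgroup.map_commutator,
        Subgroup.map_eq_bot_iff, QuotientGroup.ker_mk']
    have hn : (A'.map π).Normal := by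
      rw [← Subgroup.normalizer_eq_top_iff, eq_top_iff,
        ← Subgroup.map_top_of_surjective π (QuotientGroup.mk'_surjective D), ← hAR, Subgroup.map_sup]
      exact sup_le Subgroup.le_normalizer (hcomm.trans (Subgroup.centralizer_le_normalizer _))
    have htop : A' ⊔ D = ⊤ := by
      have h1 := hmin ((A'.map π).comap π) (hn.comap π).isSubnormal (Subgroup.le_comap_map π A')
      rwa [Subgroup.comap_map_eq, QuotientGroup.ker_mk'] at h1
    have hRD : R ≤ D := by
      refine Cfsg.Agent.H22.pResidual_le_of_isPGroup_quotient D ?_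
      have hpA : IsPGroup p ↥(A'.map π) := (hAp.comap_of_injective K.subtype K.subtype_injective).map π
      have htop' : A'.map π = ⊤ := by
        rw [← Subgroup.map_top_of_surjective π (QuotientGroup.mk'_surjective D), ← htop, Subgroup.map_sup,
          (Subgroup.map_eq_bot_iff (f := π) D).mpr (QuotientGroup.ker_mk' D).ge, sup_bot_eq]
      rw [htop'] at hpA
      exact hpA.of_equiv Subgroup.topEquiv
    have hDR : D ≤ R := Subgroup.commutator_le_left R A'
    rw [← hmapA, ← Subgroup.map_commutator, ← hD, le_antisymm hDR hRD]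

end Cfsg.Agent.S2814
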