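import Cfsg.Statements.S2815
import Cfsg.Agent.H51.PAction
import Cfsg.Agent.H22.PResidual
import Cfsg.Agent.H50.PResidualBasics

set_option autoImplicit false
open Cfsg
open scoped commutatorElement

namespace Cfsg.Agent.S2815

/-- Let H be a finite group and p a prime dividing its order with O_p(H) = 1, and suppose K = O^p(H) (generated by the elements of order prime to p) is quasisimple. Then K = F*(H); for every nontrivial p-subgroup Y of H, K = [K, Y] and K lies in the subgroup generated by the K-conjugates of Y; every normal subgroup of H not containing K has order prime to p; and H is p-irreducible. -/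
theorem result {H : Type*} [Group H] [Finite H] {p : ℕ} [Fact p.Prime] (hp : p ∣ Nat.card H) (hO : Cfsg.pCore p H = ⊥) (hq : Cfsg.IsQuasisimple ↥(Cfsg.pResidual p H)) : Cfsg.pResidual p H = Cfsg.generalizedFittingSubgroup H ∧ (∀ Y : Subgroup H, IsPGroup p ↥Y → Y ≠ ⊥ → ⁅Cfsg.pResidual p H, Y⁆ = Cfsg.pResidual p H ∧ Cfsg.pResidual p H ≤ ⨆ k : ↥(Cfsg.pResidual p H), Y.map (MulAut.conj (k : H)).toMonoidHom) ∧ (∀ C : Subgroup H, C.Normal → ¬ Cfsg.pResidual p H ≤ C → (Nat.card ↥C).Coprime p) ∧ Cfsg.IsPIrreducible p H := by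
  haveI hKn : (Cfsg.pResidual p H).Normal := Cfsg.Agent.H50.pResidual_normal p H
  set K := Cfsg.pResidual p H with hKdef
  have hKc : Cfsg.IsComponent K := ⟨hKn.isSubnormal, hq⟩
  haveI hperf : Group.IsPerfect K := hq.1
  have hFcop := Cfsg.Agent.H51.fittingSubgroup_coprime_of_pCore_eq_bot H hO
  have hmem : ∀ {A : Subgroup H}, (Nat.card A).Coprime p → A ≤ K := by
    intro A hA x hx
    exact Cfsg.Agent.H22.mem_pResidual_of_coprime
      (hA.coprime_dvd_left (Subgroup.orderOf_dvd_natCard A hx))
  have hlayer : Cfsg.layer H ≤ K := by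
    refine sSup_le fun L hL => ?_
    rcases Cfsg.Agent.H51.component_le_or_commute_of_normal hL hKn with h | h
    · exact h
    · exfalso
      haveI := hKn
      haveI : Group.IsPerfect L := hL.2.1
      have hpg := Cfsg.Agent.H22.isPGroup_quotient_pResidual (p := p) (G := H)
      haveI : Group.IsNilpotent (H ⧸ K) := hpg.isNilpotent
      have hs : Group.IsSolvable (L.map (QuotientGroup.mk' K)) := inferInstance
      have hle : L ≤ K := by
        by_contra hLK
        have hne : L.map (QuotientGroup.mk' K) ≠ ⊥ := by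
          rw [ne_eq, Subgroup.map_eq_bot_iff, QuotientGroup.ker_mk']
          exact hLK
        exact Cfsg.Agent.H51.quasisimple_not_isSolvable
          (Cfsg.Agent.H51.quasisimple_map hL.2 _ hne) hs
      exact Cfsg.Agent.H51.quasisimple_commutator_ne_bot hL.2
        (le_bot_iff.mp ((Subgroup.commutator_mono le_rfl hle).trans h.le))
  have hFstar : K = Cfsg.generalizedFittingSubgroup H :=
    le_antisymm ((Cfsg.Agent.H51.component_le_layer hKc).trans le_sup_left)
      (sup_le hlayer (hmem hFcop))
  have hcK : ∀ {A : Subgroup H}, ⁅K, A⁆ = ⊥ → (Nat.card A).Coprime p := by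
    intro A hA
    rw [hFstar, Subgroup.commutator_comm, Subgroup.commutator_eq_bot_iff_le_centralizer] at hA
    exact hFcop.coprime_dvd_left (Subgroup.card_dvd_of_le
      (hA.trans (Cfsg.Agent.H51.centralizer_generalizedFitting_le_fitting H)))
  have hnot : ∀ C : Subgroup H, C.Normal → ¬ K ≤ C → (Nat.card ↥C).Coprime p := fun C hC hKC =>
    hcK ((Cfsg.Agent.H51.component_le_or_commute_of_normal hKc hC).resolve_left hKC)
  refine ⟨hFstar, fun Y hY hYne => ?_, hnot, ?_, fun N hN hNc => ?_⟩
  · have hle : ⁅K, Y⁆ ≤ K := Subgroup.commutator_le_left _ _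
    have heq : ⁅K, Y⁆ = K := by
      refine le_antisymm hle ?_
      rcases Cfsg.Agent.H51.component_le_or_commute_of_le_normalizer hKc
        (Subgroup.normalizer_commutator_ge_left K Y) with h | h
      · exact h
      · exfalso
        have h2 : ⁅K, Y⁆ = ⊥ := by
          apply Cfsg.Agent.H51.commutator_eq_bot_of_perfect
          rw [Subgroup.commutator_comm Y K, Subgroup.commutator_comm ⁅K, Y⁆ K, h]
        refine hYne (Cfsg.Agent.H51.eq_bot_of_centralizes_fstar hO hY ?_)
        rw [← hFstar, h2]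
    refine ⟨heq, ?_⟩
    conv_lhs => rw [← heq]
    rw [Subgroup.commutator_le]
    intro k hk y hy
    have h1 : k * y * k⁻¹ ∈
        ⨆ k : ↥K, Y.map (MulAut.conj (k : H)).toMonoidHom :=
      le_iSup (fun k : ↥K => Y.map (MulAut.conj (k : H)).toMonoidHom) ⟨k, hk⟩ ⟨y, hy, rfl⟩
    have h2 : y⁻¹ ∈ ⨆ k : ↥K, Y.map (MulAut.conj (k : H)).toMonoidHom :=
      le_iSup (fun k : ↥K => Y.map (MulAut.conj (k : H)).toMonoidHom) 1
        ⟨y⁻¹, inv_mem hy, by simp⟩
    rw [commutatorElement_def]
    exact mul_mem h1 h2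
  · intro hcl
    obtain ⟨P⟩ : Nonempty (Sylow p H) := inferInstance
    exact P.ne_bot_of_dvd_card hp (le_bot_iff.mp (hO ▸ Cfsg.Agent.H51.le_pCore (hcl P) P.2))
  · by_contra hKN
    refine hNc fun P => ?_
    have hbot : (P : Subgroup N) = ⊥ := by
      have h1 : (Nat.card (P : Subgroup N)).Coprime p :=
        (hnot N hN hKN).coprime_dvd_left (Subgroup.card_subgroup_dvd_card _)
      exact le_bot_iff.mp (le_trans (le_inf le_rfl le_rfl)
        (Cfsg.Agent.H51.disjoint_of_pgroup_coprime P.2 h1).eq_bot.le)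
    rw [hbot]
    infer_instance

end Cfsg.Agent.S2815
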