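import Cfsg.Statements.S2816
import Cfsg.Agent.H51.PAction

set_option autoImplicit false
open Cfsg

namespace Cfsg.Agent.S2816

/-- Let H be a finite group and p a prime with O_p(H) = 1, and Y a p-subgroup of H. Then for every subnormal subgroup K of H containing Y, [F*(H), Y] = [F*(K), Y] = [F*(K), Y, Y]; and if Y₀ ≤ Y with [F*(H), Y, Y₀] = 1 then Y₀ = 1 (in particular [F*(H), Y] = 1 forces Y = 1). -/
theorem result {H : Type*} [Group H] [Finite H] {p : ℕ} [Fact p.Prime] (hO : Cfsg.pCore p H = ⊥) (Y : Subgroup H) (hY : IsPGroup p ↥Y) : (∀ K : Subgroup H, K.IsSubnormal → Y ≤ K → ⁅Cfsg.generalizedFittingSubgroup H, Y⁆ = ⁅(Cfsg.generalizedFittingSubgroup ↥K).map K.subtype, Y⁆ ∧ ⁅(Cfsg.generalizedFittingSubgroup ↥K).map K.subtype, Y⁆ = ⁅⁅(Cfsg.generalizedFittingSubgroup ↥K).map K.subtype, Y⁆, Y⁆) ∧ (∀ Y₀ : Subgroup H, Y₀ ≤ Y → ⁅⁅Cfsg.generalizedFittingSubgroup H, Y⁆, Y₀⁆ = ⊥ → Y₀ = ⊥) := by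
  have hnF := Cfsg.Agent.H51.generalizedFittingSubgroup_normal H
  obtain ⟨h1, h2⟩ := Cfsg.Agent.H51.fstar_hyp_of_subnormal_top hO hnF.isSubnormal le_rfl
  have hYN : Y ≤ Subgroup.normalizer (Cfsg.generalizedFittingSubgroup H : Set H) := by
    rw [Subgroup.normalizer_eq_top]; exact le_top
  have h3 := Cfsg.Agent.H51.commutator_sup_centralizer_of_fstar hY hYN h1 h2
  have h4 := Cfsg.Agent.H51.commutator_commutator_eq_of_sup_centralizer hYN h3
  refine ⟨fun K hK hYK => ?_, fun Y₀ hY₀ h0 => ?_⟩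
  · have hle : ⁅Cfsg.generalizedFittingSubgroup H, Y⁆ ≤ K := by
      revert hYK
      induction hK with
      | top => exact fun _ => le_top
      | step A B hAB _ hN ih =>
        intro hYA
        rw [← h4]
        refine (Subgroup.commutator_mono (ih (hYA.trans hAB)) hYA).trans ?_
        exact Subgroup.le_normalizer_iff_commutator_le_right.mp
          ((Subgroup.normal_subgroupOf_iff_le_normalizer hAB).mp hN)
    have hF : (Cfsg.generalizedFittingSubgroup ↥K).map K.subtype =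
        Cfsg.generalizedFittingSubgroup H ⊓ K :=
      Cfsg.Agent.H51.generalizedFitting_map_subtype_eq hK
    have e : ⁅Cfsg.generalizedFittingSubgroup H, Y⁆ =
        ⁅(Cfsg.generalizedFittingSubgroup ↥K).map K.subtype, Y⁆ := by
      refine le_antisymm ?_ (Subgroup.commutator_mono (hF.le.trans inf_le_left) le_rfl)
      rw [hF]
      refine h4.ge.trans (Subgroup.commutator_mono (le_inf ?_ hle) le_rfl)
      exact Cfsg.Agent.H51.commutator_le_of_le_normalizer hYN
    exact ⟨e, by rw [← e]; exact h4.symm⟩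
  · exact Cfsg.Agent.H51.eq_bot_of_centralizes_fstar hO (hY.to_le hY₀)
      (Cfsg.Agent.H51.commutator_eq_bot_of_sup_centralizer hY₀ h3 h0)

end Cfsg.Agent.S2816
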