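import Cfsg.Statements.S2817
import Cfsg.Agent.H51.PActionAux

set_option autoImplicit false
open Cfsg
open scoped commutatorElement

namespace Cfsg.Agent.S2817

/-- Let H be a finite group and p a prime with O_p(H) = 1, Q a p-subgroup of H, L = [F*(H), Q], and F the largest normal subgroup of F*(H) centralized by Q (a normal subgroup of F*(H) centralized by Q and containing every such). Then F = C_{F*(H)}(LQ); L = [L, Q]; L ∩ F ≤ Φ(L); every p-subgroup B of N_H(Q) with [L, B] ≤ F satisfies [L, B] = 1; and C_H(FL) has order prime to p. -/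
theorem result {H : Type*} [Group H] [Finite H] {p : ℕ} [Fact p.Prime] (hO : Cfsg.pCore p H = ⊥) (Q : Subgroup H) (hQ : IsPGroup p ↥Q) (L : Subgroup H) (hL : L = ⁅Cfsg.generalizedFittingSubgroup H, Q⁆) (F : Subgroup H) (hF : F ≤ Cfsg.generalizedFittingSubgroup H ∧ Cfsg.generalizedFittingSubgroup H ≤ Subgroup.normalizer (F : Set H) ∧ Q ≤ Subgroup.centralizer (F : Set H) ∧ ∀ N : Subgroup H, N ≤ Cfsg.generalizedFittingSubgroup H → Cfsg.generalizedFittingSubgroup H ≤ Subgroup.normalizer (N : Set H) → Q ≤ Subgroup.centralizer (N : Set H) → N ≤ F) : F = Cfsg.generalizedFittingSubgroup H ⊓ Subgroup.centralizer ((L ⊔ Q : Subgroup H) : Set H) ∧ ⁅L, Q⁆ = L ∧ L ⊓ F ≤ (frattini ↥L).map L.subtype ∧ (∀ B : Subgroup H, IsPGroup p ↥B → B ≤ Subgroup.normalizer (Q : Set H) → ⁅L, B⁆ ≤ F → ⁅L, B⁆ = ⊥) ∧ (Nat.card ↥(Subgroup.centralizer ((F ⊔ L : Subgroup H) : Set H))).Coprime p := by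
  obtain ⟨hFle, hFn, hFQ, hFmax⟩ := hF
  set FS := Cfsg.generalizedFittingSubgroup H with hFS
  haveI hnF : FS.Normal := Cfsg.Agent.H51.generalizedFittingSubgroup_normal H
  have hN : ∀ X : Subgroup H, X ≤ Subgroup.normalizer (FS : Set H) := fun X => by
    rw [Subgroup.normalizer_eq_top]; exact le_top
  obtain ⟨g1, g2⟩ := Cfsg.Agent.H51.fstar_hyp_of_subnormal_top hO hnF.isSubnormal le_rfl
  have h3 := Cfsg.Agent.H51.commutator_sup_centralizer_of_fstar hQ (hN Q) g1 g2
  have hLle : L ≤ FS := hL ▸ Cfsg.Agent.H51.commutator_le_of_le_normalizer (hN Q)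
  have hLn : FS ≤ Subgroup.normalizer (L : Set H) := hL ▸ Subgroup.normalizer_commutator_ge_left _ _
  have hNQL : Subgroup.normalizer (Q : Set H) ≤ Subgroup.normalizer (L : Set H) := by
    intro g hg
    rw [Cfsg.Agent.H51.mem_normalizer_iff_map_conj_eq] at hg ⊢
    rw [hL, Subgroup.map_commutator, hg,
      Cfsg.Agent.H51.mem_normalizer_iff_map_conj_eq.mp (hN ⊤ (Subgroup.mem_top g))]
  have hQL : Q ≤ Subgroup.normalizer (L : Set H) := Subgroup.le_normalizer.trans hNQL
  have hLQ : ⁅L, Q⁆ = L := by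
    rw [hL]; exact Cfsg.Agent.H51.commutator_commutator_eq_of_sup_centralizer (hN Q) h3
  rw [← hL] at h3
  have hcl : ∀ {g x : H}, g ∈ Subgroup.normalizer (L : Set H) →
      x ∈ Subgroup.centralizer (L : Set H) → g * x * g⁻¹ ∈ Subgroup.centralizer (L : Set H) := by
    intro g x hg hx
    rw [Subgroup.mem_centralizer_iff]
    intro l hl
    have hl' : g⁻¹ * l * g⁻¹⁻¹ ∈ L :=
      (Subgroup.le_normalizer_iff.mp le_rfl) g⁻¹ (inv_mem hg) l hl
    rw [inv_inv] at hl'
    calc l * (g * x * g⁻¹) = g * ((g⁻¹ * l * g) * x) * g⁻¹ := by group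
      _ = g * (x * (g⁻¹ * l * g)) * g⁻¹ := by rw [Subgroup.mem_centralizer_iff.mp hx _ hl']
      _ = g * x * g⁻¹ * l := by group
  have hFeq : F = FS ⊓ Subgroup.centralizer ((L ⊔ Q : Subgroup H) : Set H) := by
    have hFL : ⁅F, L⁆ = ⊥ := by
      rw [Subgroup.commutator_comm, hL]
      apply Subgroup.commutator_commutator_eq_bot_of_rotate
      · rw [Subgroup.commutator_eq_bot_iff_le_centralizer.mpr hFQ, Subgroup.commutator_bot_left]
      · rw [← le_bot_iff]
        refine (Subgroup.commutator_mono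
          (Cfsg.Agent.H51.commutator_le_of_le_normalizer hFn) le_rfl).trans ?_
        rw [Subgroup.commutator_comm, Subgroup.commutator_eq_bot_iff_le_centralizer.mpr hFQ]
    refine le_antisymm (le_inf hFle ?_) (hFmax _ inf_le_left ?_ ?_)
    · rw [Subgroup.le_centralizer_iff]
      refine sup_le ?_ hFQ
      rw [← Subgroup.commutator_eq_bot_iff_le_centralizer, Subgroup.commutator_comm, hFL]
    · conv_lhs => rw [← h3]
      have hmem : ∀ {x : H}, x ∈ Subgroup.centralizer ((L ⊔ Q : Subgroup H) : Set H) ↔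
          x ∈ Subgroup.centralizer (L : Set H) ∧ x ∈ Subgroup.centralizer (Q : Set H) := by
        intro x
        constructor
        · intro h
          exact ⟨Subgroup.centralizer_le (SetLike.coe_subset_coe.mpr le_sup_left) h, Subgroup.centralizer_le (SetLike.coe_subset_coe.mpr le_sup_right) h⟩
        · rintro ⟨a, b⟩
          have hh : L ⊔ Q ≤ Subgroup.centralizer ({x} : Set H) := sup_le
            (fun l hl => Subgroup.mem_centralizer_singleton_iff.mpr
              (Subgroup.mem_centralizer_iff.mp a l hl))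
            (fun l hl => Subgroup.mem_centralizer_singleton_iff.mpr
              (Subgroup.mem_centralizer_iff.mp b l hl))
          exact Subgroup.mem_centralizer_iff.mpr fun y hy =>
            Subgroup.mem_centralizer_singleton_iff.mp (hh hy)
      refine sup_le (Subgroup.le_normalizer_iff.mpr ?_) (Subgroup.le_normalizer_iff.mpr ?_)
      · intro l hl x hx
        have hc := Subgroup.mem_centralizer_iff.mp (hmem.mp hx.2).1 l hl
        rwa [hc, mul_inv_cancel_right]
      · intro d hd x hx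
        obtain ⟨hxL, hxQ⟩ := hmem.mp hx.2
        exact ⟨hnF.conj_mem x hx.1 d, hmem.mpr ⟨hcl (hLn hd.1) hxL,
          mul_mem (mul_mem hd.2 hxQ) (inv_mem hd.2)⟩⟩
    · exact Subgroup.le_centralizer_iff.mp (inf_le_right.trans
        (Subgroup.centralizer_le (SetLike.coe_subset_coe.mpr le_sup_right)))
  have hFC : F ≤ Subgroup.centralizer (L : Set H) :=
    hFeq.le.trans (inf_le_right.trans (Subgroup.centralizer_le (SetLike.coe_subset_coe.mpr le_sup_left)))
  have hLsn : L.IsSubnormal :=
    .step L FS hLle hnF.isSubnormal (Subgroup.normal_subgroupOf_of_le_normalizer hLn)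
  obtain ⟨l1, l2⟩ := Cfsg.Agent.H51.fstar_hyp_of_subnormal_top hO hLsn hLle
  have hZ : L ⊓ F ≤ ⁅L, L⁆ := le_trans (inf_le_inf_left _
    (hFeq.le.trans (inf_le_right.trans (Subgroup.centralizer_le (SetLike.coe_subset_coe.mpr le_sup_right)))))
    (Cfsg.Agent.H51.inf_centralizer_le_commutator_of_fstar hQ hQL l1 l2 hLQ)
  refine ⟨hFeq, hLQ, ?_, ?_, ?_⟩
  · intro z hz
    refine ⟨⟨z, hz.1⟩, Cfsg.Agent.H51.commutator_inf_center_le_frattini _ ⟨?_, ?_⟩, rfl⟩
    · have h := hZ hz
      rw [← Subgroup.map_subtype_commutator L] at h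
      obtain ⟨w, hw, hwz⟩ := h
      rwa [show (⟨z, hz.1⟩ : ↥L) = w from Subtype.ext hwz.symm]
    · exact Subgroup.mem_center_iff.mpr fun y =>
        Subtype.ext (Subgroup.mem_centralizer_iff.mp (hFC hz.2) y y.2)
  · intro B hB hBQ hBF
    have hBL : B ≤ Subgroup.normalizer (L : Set H) := hBQ.trans hNQL
    have h1 : ⁅⁅L, B⁆, L⁆ = ⊥ :=
      Subgroup.commutator_eq_bot_iff_le_centralizer.mpr (hBF.trans hFC)
    have h2 : ⁅⁅L, L⁆, B⁆ = ⊥ := by
      apply Subgroup.commutator_commutator_eq_bot_of_rotate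
      · exact h1
      · rw [Subgroup.commutator_comm B L]; exact h1
    refine Cfsg.Agent.H51.commutator_eq_bot_of_sup_centralizer le_rfl
      (Cfsg.Agent.H51.commutator_sup_centralizer_of_fstar hB hBL l1 l2) (le_bot_iff.mp ?_)
    rw [← h2]
    exact Subgroup.commutator_mono
      ((le_inf (Cfsg.Agent.H51.commutator_le_of_le_normalizer hBL) hBF).trans hZ) le_rfl
  · refine ((Fact.out : p.Prime).coprime_iff_not_dvd.mpr fun hdvd => ?_).symm
    have hQC : Q ≤ Subgroup.normalizer
        (Subgroup.centralizer ((F ⊔ L : Subgroup H) : Set H) : Set H) := by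
      refine Cfsg.Agent.H20.le_normalizer_centralizer ?_
      rw [Subgroup.le_normalizer_iff]
      intro q hq x hx
      have hq' : F ⊔ L ≤ (F ⊔ L).comap (MulAut.conj q).toMonoidHom := by
        refine sup_le (fun f hf => ?_) (fun l hl => ?_)
        · show q * f * q⁻¹ ∈ F ⊔ L
          rw [← Subgroup.mem_centralizer_iff.mp (hFQ hq) f hf, mul_inv_cancel_right]
          exact Subgroup.mem_sup_left hf
        · exact Subgroup.mem_sup_right (Subgroup.le_normalizer_iff.mp hQL q hq l hl)
      exact hq' hx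
    obtain ⟨x, hx, hxp⟩ :=
      Cfsg.Agent.H51.exists_orderOf_eq_prime_centralized hQ hQC hdvd
    set B := Subgroup.zpowers x with hBdef
    have hB : IsPGroup p ↥B := IsPGroup.of_card (n := 1) (by rw [Nat.card_zpowers, hxp, pow_one])
    have hxC : B ≤ Subgroup.centralizer ((F ⊔ L : Subgroup H) : Set H) := Subgroup.zpowers_le.mpr hx.1
    have hxQ : B ≤ Subgroup.centralizer (Q : Set H) := Subgroup.zpowers_le.mpr hx.2
    have hxL : B ≤ Subgroup.centralizer (L : Set H) := hxC.trans (Subgroup.centralizer_le (SetLike.coe_subset_coe.mpr le_sup_right))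
    have hle : ⁅FS, B⁆ ≤ F := by
      rw [Subgroup.commutator_le]
      intro f hf b hb
      rw [← h3, ← SetLike.mem_coe, Subgroup.coe_mul_of_right_le_normalizer_left L
        (FS ⊓ Subgroup.centralizer (Q : Set H)) (inf_le_left.trans hLn)] at hf
      obtain ⟨l, hl, d, hd, rfl⟩ := hf
      have hdb : ⁅d, b⁆ ∈ F := by
        rw [hFeq]
        refine ⟨?_, ?_⟩
        · have := mul_mem hd.1 (hnF.conj_mem d⁻¹ (inv_mem hd.1) b)
          simpa [commutatorElement_def, mul_assoc] using this
        · refine Subgroup.mem_centralizer_iff.mpr ?_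
          have hh : L ⊔ Q ≤ Subgroup.centralizer ({⁅d, b⁆} : Set H) := by
            refine sup_le (fun y hy => ?_) (fun y hy => ?_)
            · exact Subgroup.mem_centralizer_singleton_iff.mpr (Subgroup.mem_centralizer_iff.mp
                (show ⁅d, b⁆ ∈ Subgroup.centralizer (L : Set H) from
                  mul_mem (hcl (hLn hd.1) (hxL hb)) (inv_mem (hxL hb))) y hy)
            · exact Subgroup.mem_centralizer_singleton_iff.mpr (Subgroup.mem_centralizer_iff.mp
                (show ⁅d, b⁆ ∈ Subgroup.centralizer (Q : Set H) from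
                  mul_mem (mul_mem (mul_mem hd.2 (hxQ hb)) (inv_mem hd.2)) (inv_mem (hxQ hb))) y hy)
          exact fun y hy => Subgroup.mem_centralizer_singleton_iff.mp (hh hy)
      have e1 : l * ⁅d, b⁆ = ⁅d, b⁆ * l := Subgroup.mem_centralizer_iff.mp (hFC hdb) l hl
      have e2 : l * b = b * l := Subgroup.mem_centralizer_iff.mp (hxL hb) l hl
      have : ⁅l * d, b⁆ = ⁅d, b⁆ := by
        calc ⁅l * d, b⁆ = (l * ⁅d, b⁆) * (b * l⁻¹) * b⁻¹ := by
              simp only [commutatorElement_def]; group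
          _ = ⁅d, b⁆ * ((l * b) * l⁻¹) * b⁻¹ := by rw [e1]; group
          _ = ⁅d, b⁆ := by rw [e2]; group
      dsimp only
      rw [this]
      exact hdb
    have h4 : ⁅FS, B⁆ = ⊥ := Cfsg.Agent.H51.commutator_eq_bot_of_sup_centralizer le_rfl
      (Cfsg.Agent.H51.commutator_sup_centralizer_of_fstar hB (hN B) g1 g2)
      (le_bot_iff.mp ((Subgroup.commutator_mono (hle.trans le_sup_left) le_rfl).trans
        (Subgroup.commutator_eq_bot_iff_le_centralizer.mpr
          (Subgroup.le_centralizer_iff.mp hxC)).le))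
    have hB1 := Cfsg.Agent.H51.eq_bot_of_centralizes_fstar hO hB h4
    rw [hBdef, Subgroup.zpowers_eq_bot] at hB1
    rw [hB1, orderOf_one] at hxp
    exact (Fact.out : p.Prime).one_lt.ne hxp

end Cfsg.Agent.S2817
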