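import Cfsg.Statements.S2818
import Cfsg.Agent.H72.CharP
import Cfsg.Agent.H19.Frattini

open scoped commutatorElement

set_option autoImplicit false
open Cfsg

namespace Cfsg.Agent.S2818

/-- Let P be a finite p-subgroup of a group G and H a subgroup of N_G(P) with [P, H] ≤ Ω₁(Z(P)) (the elements of order dividing p in the centre of P). Then H centralizes the Frattini subgroup of P. -/
theorem result {G : Type*} [Group G] [Finite G] {p : ℕ} [Fact p.Prime] (P : Subgroup G) (hP : IsPGroup p ↥P) (H : Subgroup G) (hH : H ≤ Subgroup.normalizer (P : Set G)) (h : ⁅P, H⁆ ≤ Cfsg.omegaOne p (P ⊓ Subgroup.centralizer (P : Set G))) : ⁅(frattini ↥P).map P.subtype, H⁆ = ⊥ := by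
  have hcomm : ∀ a ∈ Cfsg.omegaOne p (P ⊓ Subgroup.centralizer (P : Set G)),
      a ^ p = 1 ∧ ∀ x ∈ P, x * a = a * x := by
    intro a ha
    induction ha using Subgroup.closure_induction with
    | mem a ha => exact ⟨ha.2, fun x hx => Subgroup.mem_centralizer_iff.1 ha.1.2 x hx⟩
    | one => simp
    | mul a b ha hb iha ihb =>
      have haP : a ∈ P := (H72.omegaOne_le p _ ha).1
      have hc : Commute a b := ihb.2 a haP
      exact ⟨by rw [hc.mul_pow, iha.1, ihb.1, one_mul], fun x hx => by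
        rw [← mul_assoc, iha.2 x hx, mul_assoc, ihb.2 x hx, mul_assoc]⟩
    | inv a ha iha =>
      exact ⟨by rw [inv_pow, iha.1, inv_one], fun x hx => (Commute.inv_right (iha.2 x hx)).eq⟩
  rw [Subgroup.commutator_eq_bot_iff_le_centralizer, Subgroup.map_le_iff_le_comap]
  set C := Subgroup.centralizer (H : Set G)
  refine H19.frattini_le_of_commutator_pow (p := p) (C.comap P.subtype) ?_ ?_
  · rw [_root_.commutator_def, Subgroup.commutator_le]
    intro x _ y _
    rw [Subgroup.mem_comap, Subgroup.mem_centralizer_iff]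
    intro t ht
    obtain ⟨-, a2⟩ := hcomm _ (h (Subgroup.commutator_mem_commutator x.2 ht))
    obtain ⟨-, b2⟩ := hcomm _ (h (Subgroup.commutator_mem_commutator y.2 ht))
    obtain ⟨a, ha, hxa⟩ : ∃ a : G, (∀ z ∈ P, Commute z a) ∧ t * x * t⁻¹ = a * x :=
      ⟨⁅(x : G), t⁆⁻¹, fun z hz => Commute.inv_right (a2 z hz), by
        rw [commutatorElement_def]; group⟩
    obtain ⟨b, hb, hyb⟩ : ∃ b : G, (∀ z ∈ P, Commute z b) ∧ t * y * t⁻¹ = b * y :=
      ⟨⁅(y : G), t⁆⁻¹, fun z hz => Commute.inv_right (b2 z hz), by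
        rw [commutatorElement_def]; group⟩
    have haP : a ∈ P := by
      have h1 : t * x * t⁻¹ ∈ P := (Subgroup.mem_normalizer_iff.1 (hH ht) x).1 x.2
      rw [hxa] at h1
      simpa using mul_mem h1 (inv_mem x.2)
    have hab : Commute a b := hb a haP
    have key : t * ⁅(x : G), (y : G)⁆ * t⁻¹ = ⁅(x : G), (y : G)⁆ := by
      have left : ∀ u v w : G, Commute u v → Commute u w → ⁅u * v, w⁆ = ⁅v, w⁆ := by
        intro u v w h1 h2
        have h3 : Commute u (v * w * v⁻¹) := (h1.mul_right h2).mul_right h1.inv_right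
        calc ⁅u * v, w⁆ = u * (v * w * v⁻¹) * (u⁻¹ * w⁻¹) := by
              rw [commutatorElement_def]; group
          _ = v * w * v⁻¹ * u * (u⁻¹ * w⁻¹) := by rw [h3.eq]
          _ = ⁅v, w⁆ := by rw [commutatorElement_def]; group
      have hax : Commute a x := (ha x x.2).symm
      have haby : Commute a (b * y) := hab.mul_right (ha y y.2).symm
      rw [conjugate_commutatorElement, hxa, hyb, left a x (b * y) hax haby,
        ← commutatorElement_inv, left b y x (hb y y.2).symm (hb x x.2).symm,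
        commutatorElement_inv]
    show t * (⁅x, y⁆ : P) = (⁅x, y⁆ : P) * t
    have : ((⁅x, y⁆ : P) : G) = ⁅(x : G), (y : G)⁆ := rfl
    rw [this]
    calc t * ⁅(x : G), (y : G)⁆ = t * ⁅(x : G), (y : G)⁆ * t⁻¹ * t := by group
      _ = _ := by rw [key]
  · intro x
    rw [Subgroup.mem_comap, Subgroup.mem_centralizer_iff]
    intro t ht
    obtain ⟨a1, a2⟩ := hcomm _ (h (Subgroup.commutator_mem_commutator x.2 ht))
    have hc : Commute ⁅(x : G), t⁆⁻¹ (x : G) := (Commute.inv_right (a2 x x.2)).symm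
    have hx : t * x * t⁻¹ = ⁅(x : G), t⁆⁻¹ * x := by rw [commutatorElement_def]; group
    have : t * (x : G) ^ p * t⁻¹ = (x : G) ^ p := by
      rw [← conj_pow, hx, hc.mul_pow, inv_pow, a1, inv_one, one_mul]
    calc t * (x ^ p : P) = t * (x : G) ^ p * t⁻¹ * t := by simp [mul_assoc]
      _ = _ := by rw [this]; simp

end Cfsg.Agent.S2818
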