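import Cfsg.Statements.S2819
import Cfsg.Agent.H72.CharP
import Cfsg.Agent.H19.Frattini
import Cfsg.Agent.H72.Amalgam

open scoped commutatorElement

set_option autoImplicit false
open Cfsg

namespace Cfsg.Agent.S2819

/-- Let P be a finite p-subgroup of a group G, H a subgroup of N_G(P), and Y a subgroup of H centralizing the derived subgroup P' such that [P, Y] is elementary abelian. Then O^p(⟨Y^H⟩), the subgroup of the normal closure of Y in H generated by its elements of order prime to p, centralizes the Frattini subgroup of P. -/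
theorem result {G : Type*} [Group G] [Finite G] {p : ℕ} [Fact p.Prime] (P : Subgroup G) (hP : IsPGroup p ↥P) (H : Subgroup G) (hH : H ≤ Subgroup.normalizer (P : Set G)) (Y : Subgroup G) (hYH : Y ≤ H) (hYc : Y ≤ Subgroup.centralizer ((⁅P, P⁆ : Subgroup G) : Set G)) (hel : Cfsg.IsElementaryAbelian p ⁅P, Y⁆) (NY : Subgroup G) (hNY : NY = (Subgroup.normalClosure ((Y.subgroupOf H : Subgroup ↥H) : Set ↥H)).map H.subtype) : (Cfsg.pResidual p ↥NY).map NY.subtype ≤ Subgroup.centralizer (((frattini ↥P).map P.subtype : Subgroup G) : Set G) := by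
  set D : Subgroup G := ⁅P, P⁆ with hD
  set F : Subgroup G := (frattini ↥P).map P.subtype with hF
  have hDP : D ≤ P := Subgroup.commutator_le_self P
  have hHD : H ≤ Subgroup.normalizer (D : Set G) := by
    refine hH.trans (H72.le_normalizer_of_conj fun g hg n hn => ?_)
    have h1 : P.map (MulAut.conj g).toMonoidHom ≤ P := by
      rw [Subgroup.map_le_iff_le_comap]
      exact fun x hx => (Subgroup.mem_normalizer_iff.1 hg x).1 hx
    have h2 : D.map (MulAut.conj g).toMonoidHom ≤ D := by
      rw [hD, Subgroup.map_commutator]; exact Subgroup.commutator_mono h1 h1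
    exact h2 ⟨n, hn, rfl⟩
  have hPD : ∀ u ∈ P, ∀ d ∈ D, u * d * u⁻¹ ∈ D := fun u hu d hd =>
    (Subgroup.mem_normalizer_iff.1 (Subgroup.normalizer_commutator_ge_left P P hu) d).1 hd
  have hHF : H ≤ Subgroup.normalizer (F : Set G) := by
    refine hH.trans (H72.le_normalizer_of_conj fun g hg n hn => ?_)
    obtain ⟨m, hm, rfl⟩ := hn
    let e : ↥P ≃* ↥P :=
      { toFun := fun x => ⟨g * x * g⁻¹, (Subgroup.mem_normalizer_iff.1 hg x).1 x.2⟩
        invFun := fun x => ⟨g⁻¹ * x * g, (Subgroup.mem_normalizer_iff''.1 hg x).1 x.2⟩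
        left_inv := fun x => Subtype.ext (by simp [mul_assoc])
        right_inv := fun x => Subtype.ext (by simp [mul_assoc])
        map_mul' := fun x y => Subtype.ext (by simp [mul_assoc]) }
    exact ⟨e m, frattini_le_comap_frattini_of_surjective (φ := e.toMonoidHom) e.surjective hm, rfl⟩
  -- `Y` centralizes `F` modulo `D`
  let E : Subgroup ↥P :=
    { carrier := {u | ∀ y ∈ Y, ⁅(u : G), y⁆ ∈ D}
      one_mem' := fun y _ => by simp
      mul_mem' := by
        intro u v hu hv y hy
        show ⁅(u : G) * v, y⁆ ∈ D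
        rw [commutatorElement_mul_left_eq_conj_mul]
        exact mul_mem (hPD u u.2 _ (hv y hy)) (hu y hy)
      inv_mem' := by
        intro u hu y hy
        show ⁅(u : G)⁻¹, y⁆ ∈ D
        rw [commutatorElement_inv_left]
        have h1 := hPD _ (inv_mem u.2) _ (inv_mem (hu y hy))
        simpa [commutatorElement_inv] using h1 }
  have hE : frattini ↥P ≤ E := by
    refine H19.frattini_le_of_commutator_pow (p := p) E ?_ ?_
    · intro u hu y hy
      have hu' : (u : G) ∈ D := by
        rw [hD, ← Subgroup.map_subtype_commutator]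
        exact ⟨u, hu, rfl⟩
      have hc : ⁅(u : G), y⁆ = 1 := commutatorElement_eq_one_iff_mul_comm.2
        (Subgroup.mem_centralizer_iff.1 (hYc hy) _ hu')
      rw [hc]; exact one_mem _
    · intro u y hy
      have hc : ⁅(u : G), y⁆ ∈ ⁅P, Y⁆ := Subgroup.commutator_mem_commutator u.2 hy
      have hcP : ⁅(u : G), y⁆ ∈ P :=
        Subgroup.le_normalizer_iff_commutator_le_left.1 (hYH.trans hH) hc
      set c : ↥P := ⟨_, hcP⟩ with hc'
      have hcp : c ^ p = 1 := Subtype.ext (by simpa [hc'] using hel.2 _ hc)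
      have hw : y * (u : G) * y⁻¹ = ((c⁻¹ * u : ↥P) : G) := by
        simp [hc', commutatorElement_def, mul_assoc]
      show ⁅((u ^ p : ↥P) : G), y⁆ ∈ D
      have h2 : ⁅((u ^ p : ↥P) : G), y⁆ = ((u ^ p * ((c⁻¹ * u) ^ p)⁻¹ : ↥P) : G) := by
        push_cast
        push_cast at hw
        rw [← hw, conj_pow, commutatorElement_def]
        group
      rw [h2, hD, ← Subgroup.map_subtype_commutator]
      refine Subgroup.mem_map.2 ⟨u ^ p * ((c⁻¹ * u) ^ p)⁻¹, ?_, rfl⟩
      rw [← Abelianization.ker_of, MonoidHom.mem_ker, map_mul, map_inv, map_pow,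
        map_pow, map_mul, map_inv, mul_pow, inv_pow, ← map_pow, ← map_pow, hcp]
      simp
  -- the stabilizer of the series
  let K : Subgroup G :=
    { carrier := {g | g ∈ Subgroup.centralizer (D : Set G) ∧ ∀ u ∈ F, ⁅u, g⁆ ∈ D}
      one_mem' := ⟨one_mem _, fun u _ => by simp⟩
      mul_mem' := by
        rintro g h ⟨hg, hg'⟩ ⟨hh, hh'⟩
        refine ⟨mul_mem hg hh, fun u hu => ?_⟩
        rw [commutatorElement_mul_right_eq_mul_conj,
          show ⁅u, g⁆ * g * ⁅u, h⁆ * g⁻¹ = ⁅u, g⁆ * (g * ⁅u, h⁆ * g⁻¹) by group,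
          ← Subgroup.mem_centralizer_iff.1 hg _ (hh' u hu), mul_inv_cancel_right]
        exact mul_mem (hg' u hu) (hh' u hu)
      inv_mem' := by
        rintro g ⟨hg, hg'⟩
        refine ⟨inv_mem hg, fun u hu => ?_⟩
        have h1 : ⁅g, u⁆ ∈ D := by rw [← commutatorElement_inv]; exact inv_mem (hg' u hu)
        rw [commutatorElement_inv_right, mul_assoc, Subgroup.mem_centralizer_iff.1 hg _ h1,
          inv_mul_cancel_left]
        exact h1 }
  have hNYK : NY ≤ K := by
    rw [hNY, Subgroup.map_le_iff_le_comap, Subgroup.normalClosure]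
    refine (Subgroup.closure_le _).2 ?_
    intro z hz
    obtain ⟨y, hy, hcz⟩ := Group.mem_conjugatesOfSet_iff.1 hz
    obtain ⟨h0, rfl⟩ := isConj_iff.1 hcz
    refine ⟨?_, fun u hu => ?_⟩
    · rw [Subgroup.mem_centralizer_iff]
      intro d hd
      have hd' := (Subgroup.mem_normalizer_iff''.1 (hHD h0.2) d).1 hd
      have := congrArg (fun t => (h0 : G) * t * (h0 : G)⁻¹)
        (Subgroup.mem_centralizer_iff.1 (hYc hy) _ hd')
      simpa [mul_assoc] using this
    · obtain ⟨u', hu', rfl⟩ : ∃ u' ∈ F, (h0 : G) * u' * (h0 : G)⁻¹ = u :=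
        ⟨_, (Subgroup.mem_normalizer_iff''.1 (hHF h0.2) u).1 hu, by group⟩
      show ⁅(h0 : G) * u' * (h0 : G)⁻¹, (h0 : G) * y * (h0 : G)⁻¹⁆ ∈ D
      rw [← conjugate_commutatorElement]
      obtain ⟨m, hm, rfl⟩ := hu'
      exact (Subgroup.mem_normalizer_iff.1 (hHD h0.2) _).1 (hE hm y hy)
  rw [H72.pResidual_map_eq, Subgroup.closure_le]
  rintro x ⟨hx, hcop⟩
  have hxH : x ∈ H := by
    rw [hNY] at hx
    exact Subgroup.map_subtype_le _ hx
  exact H72.coprime_mem_centralizer_of_series (N := D)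
    (hP.to_le (Subgroup.map_subtype_le _)) (hHF hxH) hcop (hNYK hx).2 (hNYK hx).1

end Cfsg.Agent.S2819
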