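import Cfsg.Statements.S2823
import Cfsg.Agent.H72.PReducedOf

open scoped commutatorElement

set_option autoImplicit false
open Cfsg

namespace Cfsg.Agent.S2823

/-- Let H be a finite group, p a prime, T a Sylow p-subgroup and L a subgroup of characteristic p containing T; let Z_L be the subgroup generated by the Ω₁(Z(S)) over the Sylow p-subgroups S of L and O^p(L) the subgroup generated by the elements of L of order prime to p. Then Z_L = Ω₁(Z(L))·[Z_L, O^p(L)] and [Z_L, L] = [Z_L, O^p(L)]. -/
theorem result {H : Type*} [Group H] [Finite H] {p : ℕ} [Fact p.Prime] (T : Sylow p H) (L : Subgroup H) (hTL : (T : Subgroup H) ≤ L) (hL : Subgroup.centralizer (Cfsg.pCore p ↥L : Set ↥L) ≤ Cfsg.pCore p ↥L) : Cfsg.sylowCenterClosure p L = (Cfsg.omegaOne p (L ⊓ Subgroup.centralizer ((L : Subgroup H) : Set H))) ⊔ ⁅Cfsg.sylowCenterClosure p L, (Cfsg.pResidual p ↥L).map L.subtype⁆ ∧ ⁅Cfsg.sylowCenterClosure p L, L⁆ = ⁅Cfsg.sylowCenterClosure p L, (Cfsg.pResidual p ↥L).map L.subtype⁆ := by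
  set Z := Cfsg.sylowCenterClosure p L with hZ
  set R := (Cfsg.pResidual p ↥L).map L.subtype with hR
  set W := ⁅Z, R⁆ with hW
  obtain ⟨-, -, -, -, hZY, hYQ⟩ := H72.parabolic_largest_spec T hTL hL
  have hZel : Cfsg.IsElementaryAbelian p Z :=
    H72.isElementaryAbelian_mono (H72.isElementaryAbelian_omegaOne (p := p)
      (H72.isMulCommutative_inf_centralizer (Cfsg.pCoreOf p L))) (hZY.trans hYQ)
  have hZL : Z ≤ L := iSup_le fun S =>
    ((H72.omegaOne_le p _).trans inf_le_left).trans (Subgroup.map_subtype_le _)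
  have hRL : R ≤ L := Subgroup.map_subtype_le _
  have hLZ : L ≤ Subgroup.normalizer (Z : Set H) := H72.le_normalizer_sylowCenterClosure p L
  have hLR : L ≤ Subgroup.normalizer (R : Set H) :=
    Subgroup.le_normalizer.trans (H72.normalizer_le_normalizer_pResidual L)
  have hWZ : W ≤ Z := Subgroup.le_normalizer_iff_commutator_le_left.1 (hRL.trans hLZ)
  have hLW : L ≤ Subgroup.normalizer (W : Set H) := by
    refine H72.le_normalizer_of_conj fun g hg n hn => ?_
    suffices h : W.map (MulAut.conj g).toMonoidHom ≤ W from h ⟨n, hn, rfl⟩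
    rw [hW, Subgroup.map_commutator]
    refine Subgroup.commutator_mono ?_ ?_
    · rw [Subgroup.map_le_iff_le_comap]
      exact fun x hx => (Subgroup.mem_normalizer_iff.1 (hLZ hg) x).1 hx
    · rw [Subgroup.map_le_iff_le_comap]
      exact fun x hx => (Subgroup.mem_normalizer_iff.1 (hLR hg) x).1 hx
  have hsup : ∀ S : Sylow p ↥L, R ⊔ (S : Subgroup ↥L).map L.subtype = L := by
    intro S
    rw [hR, ← Subgroup.map_sup, H22.pResidual_sup_sylow, ← MonoidHom.range_eq_map,
      Subgroup.range_subtype]
  have hcong : ∀ S : Sylow p ↥L, ∀ z ∈ Cfsg.omegaOne p (((S : Subgroup ↥L).map L.subtype) ⊓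
      Subgroup.centralizer (((S : Subgroup ↥L).map L.subtype : Subgroup H) : Set H)),
      ∀ k ∈ L, ⁅z, k⁆ ∈ W := by
    intro S z hz k hk
    have hzZ : z ∈ Z := le_iSup (fun S : Sylow p ↥L =>
      Cfsg.omegaOne p (((S : Subgroup ↥L).map L.subtype) ⊓
        Subgroup.centralizer (((S : Subgroup ↥L).map L.subtype : Subgroup H) : Set H))) S hz
    rw [← hsup S, Subgroup.sup_eq_closure] at hk
    induction hk using Subgroup.closure_induction with
    | mem x hx =>
      rcases hx with hx | hx
      · exact Subgroup.commutator_mem_commutator hzZ hx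
      · rw [commutatorElement_eq_one_iff_mul_comm.2
          ((Subgroup.mem_centralizer_iff.1 (H72.omegaOne_le p _ hz).2 x hx).symm)]
        exact one_mem _
    | one => simp
    | mul a b ha hb iha ihb =>
      have haL : a ∈ L := (hsup S).le (by rw [Subgroup.sup_eq_closure]; exact ha)
      rw [commutatorElement_mul_right_eq_mul_conj, mul_assoc, mul_assoc]
      refine mul_mem iha ?_
      simpa [mul_assoc] using (Subgroup.mem_normalizer_iff.1 (hLW haL) _).1 ihb
    | inv a ha iha =>
      have haL : a ∈ L := (hsup S).le (by rw [Subgroup.sup_eq_closure]; exact ha)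
      rw [commutatorElement_inv_right, ← commutatorElement_inv z a]
      exact (Subgroup.mem_normalizer_iff''.1 (hLW haL) _).1 (inv_mem iha)
  have h2 : ⁅Z, L⁆ = W := by
    refine le_antisymm ?_ (Subgroup.commutator_mono le_rfl hRL)
    rw [Subgroup.commutator_le]
    intro z hz
    induction hz using Subgroup.iSup_induction' with
    | hp S z hz => exact hcong S z hz
    | h1 => intro k _; simp
    | hmul y z hy hz ihy ihz =>
      intro k hk
      rw [commutatorElement_mul_left_eq_conj_mul]
      exact mul_mem ((Subgroup.mem_normalizer_iff.1 (hLW (hZL hy)) _).1 (ihz k hk)) (ihy k hk)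
  refine ⟨le_antisymm ?_ (sup_le ?_ hWZ), h2⟩
  · refine iSup_le fun S z hz => ?_
    set S' := (S : Subgroup ↥L).map L.subtype with hS'
    have hidx : ¬ p ∣ S'.relIndex L := by
      have : S'.relIndex L = (S : Subgroup ↥L).index := by
        rw [Subgroup.relIndex, Subgroup.subgroupOf, hS',
          Subgroup.comap_map_eq_self_of_injective L.subtype_injective]
      rw [this]
      exact S.not_dvd_index
    obtain ⟨e, he1, -, -, he4, -⟩ :=
      H72.exists_average_map hZel hLZ (Subgroup.map_subtype_le _) hidx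
    have hzZ : z ∈ Z := le_iSup (fun S : Sylow p ↥L =>
      Cfsg.omegaOne p (((S : Subgroup ↥L).map L.subtype) ⊓
        Subgroup.centralizer (((S : Subgroup ↥L).map L.subtype : Subgroup H) : Set H))) S hz
    obtain ⟨h3, h4⟩ := he1 z ⟨hzZ, (H72.omegaOne_le p _ hz).2⟩
    have h5 := he4 z hzZ W hWZ (fun k hk => by
      rw [← commutatorElement_inv]; exact inv_mem (hcong S z hz k hk))
    have h7 : e z ∈ L ⊓ Subgroup.centralizer (L : Set H) := ⟨hZL h3, h4⟩
    have h6 := mul_mem (Subgroup.mem_sup_left (T := W)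
      (H72.mem_omegaOne (p := p) h7 (hZel.2 _ h3))) (Subgroup.mem_sup_right h5)
    rwa [mul_inv_cancel_left] at h6
  · intro z hz
    obtain ⟨hzL, hzc, hzp⟩ := H72.mem_omegaOne_center_iff.1 hz
    have hmem : z ∈ Cfsg.omegaOne p ((T : Subgroup H) ⊓ Subgroup.centralizer ((T : Subgroup H) : Set H)) := by
      refine H72.mem_omegaOne_center_iff.2 ⟨?_, Subgroup.centralizer_le (SetLike.coe_subset_coe.2 hTL) hzc, hzp⟩
      by_contra hzT
      -- `T⟨z⟩` would be a larger `p`-subgroup
      have hzn : Subgroup.zpowers z ≤ Subgroup.normalizer ((T : Subgroup H) : Set H) :=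
        Subgroup.zpowers_le.2 (Subgroup.centralizer_le_normalizer _
          (Subgroup.centralizer_le (SetLike.coe_subset_coe.2 hTL) hzc))
      have hzpg : IsPGroup p (Subgroup.zpowers z) := by
        rintro ⟨x, n, rfl⟩
        refine ⟨1, Subtype.ext ?_⟩
        simp only [pow_one, SubmonoidClass.coe_pow, OneMemClass.coe_one]
        rw [← zpow_natCast, ← zpow_mul, mul_comm, zpow_mul, zpow_natCast, hzp, one_zpow]
      have := T.3 (IsPGroup.to_sup_of_normal_right' hzpg T.isPGroup' hzn) le_sup_right
      exact hzT (this.le (Subgroup.mem_sup_left (Subgroup.mem_zpowers z)))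
    exact (H72.parabolic_largest_spec T hTL hL).2.2.2.1 hmem

end Cfsg.Agent.S2823
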