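import Cfsg.Statements.S2824
import Cfsg.Agent.H73.BasicProperty

set_option autoImplicit false
open Cfsg Cfsg.Agent
open scoped Pointwise commutatorElement

namespace Cfsg.Agent.S2824

/-- Let H be a finite group, p a prime, T a Sylow p-subgroup, L and M subgroups of characteristic p containing T, Y_L the largest p-reduced normal subgroup of L and T₀ = C_T(Y_L). If M·C_H(Y_L) = L·C_H(Y_L), then L* := N_M(T₀) has Y_{L*} = Y_L and L·C_H(Y_L) = L*·C_H(Y_L). -/
theorem result {H : Type*} [Group H] [Finite H] {p : ℕ} [Fact p.Prime] (T : Sylow p H) (L M : Subgroup H) (hTL : (T : Subgroup H) ≤ L) (hTM : (T : Subgroup H) ≤ M) (hL : Subgroup.centralizer (Cfsg.pCore p ↥L : Set ↥L) ≤ Cfsg.pCore p ↥L) (hM : Subgroup.centralizer (Cfsg.pCore p ↥M : Set ↥M) ≤ Cfsg.pCore p ↥M) (T₀ : Subgroup H) (hT₀ : T₀ = (T : Subgroup H) ⊓ Subgroup.centralizer (((Cfsg.largestPReducedOf p L) : Subgroup H) : Set H)) (hfac : M ⊔ Subgroup.centralizer (((Cfsg.largestPReducedOf p L) : Subgroup H)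 : Set H) = L ⊔ Subgroup.centralizer (((Cfsg.largestPReducedOf p L) : Subgroup H) : Set H)) (Ls : Subgroup H) (hLs : Ls = M ⊓ Subgroup.normalizer ((T₀ : Subgroup H) : Set H)) : (Cfsg.largestPReducedOf p Ls) = (Cfsg.largestPReducedOf p L) ∧ L ⊔ Subgroup.centralizer (((Cfsg.largestPReducedOf p L) : Subgroup H) : Set H) = Ls ⊔ Subgroup.centralizer (((Cfsg.largestPReducedOf p L) : Subgroup H) : Set H) := by
  have hLc := (H74.charP_subgroup_iff L).1 hL
  have hMc := (H74.charP_subgroup_iff M).1 hM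
  subst hT₀
  set T₀ := (T : Subgroup H) ⊓ Subgroup.centralizer ((Cfsg.largestPReducedOf p L : Subgroup H) : Set H)
  have hT₀M : T₀ ≤ M := inf_le_left.trans hTM
  have hLsc : Ls ⊓ Subgroup.centralizer ((Cfsg.pCoreOf p Ls : Subgroup H) : Set H) ≤
      Cfsg.pCoreOf p Ls := by
    rw [← H74.charP_subgroup_iff]
    set B : Subgroup ↥M := T₀.subgroupOf M
    have h := H74.charP_normalizer hM (B := B) ((T.2.to_le inf_le_left).comap_subtype)
    rw [← H74.charP_subgroup_iff] at h
    have e : (Subgroup.normalizer (B : Set ↥M)).map M.subtype = Ls := by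
      rw [← Subgroup.subgroupOf_normalizer_eq hT₀M, Subgroup.subgroupOf_map_subtype, hLs, inf_comm]
    subst e
    exact H74.charP_congr ((Subgroup.normalizer (B : Set ↥M)).equivMapOfInjective _ M.subtype_injective) h
  obtain ⟨-, h1, h2⟩ := H73.yl_star hTL hTM hLc hfac hLs hLsc
  exact ⟨h1, h2.symm⟩

end Cfsg.Agent.S2824
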