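import Cfsg.Statements.S2825
import Cfsg.Agent.H73.YSubnormal

set_option autoImplicit false
open Cfsg Cfsg.Agent
open scoped Pointwise commutatorElement

namespace Cfsg.Agent.S2825

/-- Let L be a subnormal subgroup of the finite group H, p a prime, Y_H and Y_L the largest p-reduced normal subgroups. Then Y_H ∩ L = Y_H ∩ Y_L and this subgroup is a p-reduced normal subgroup of L; C_L(Y_L) = C_L(Y_H) = C_L(Y_H ∩ L); and if O^p(H) ≤ L, then [Y_L, L] = 1 if and only if [Y_H, H] = 1. -/
theorem result {H : Type*} [Group H] [Finite H] {p : ℕ} [Fact p.Prime] (L : Subgroup H) (hL : L.IsSubnormal) : Cfsg.largestPReduced p H ⊓ L = Cfsg.largestPReduced p H ⊓ (Cfsg.largestPReducedOf p L) ∧ Cfsg.IsPReducedNormal p ((Cfsg.largestPReduced p H ⊓ L).subgroupOf L) ∧ L ⊓ Subgroup.centralizer ((Cfsg.largestPReducedOf p L : Subgroup H) : Set H) = L ⊓ Subgroup.centralizer (Cfsg.largestPReduced p H : Set H) ∧ L ⊓ Subgroup.centralizer (Cfsg.largestPReduced p H : Set H) = L ⊓ Subgroup.centralizer ((Cfsg.largestPReduced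 p H ⊓ L : Subgroup H) : Set H) ∧ (Cfsg.pResidual p H ≤ L → (⁅(Cfsg.largestPReducedOf p L), L⁆ = ⊥ ↔ ⁅Cfsg.largestPReduced p H, (⊤ : Subgroup H)⁆ = ⊥)) := by
  obtain ⟨hC, hW⟩ := H73.inter_largestPReduced_spec (p := p) hL
  have hWY : Cfsg.largestPReduced p H ⊓ L ≤ Cfsg.largestPReducedOf p L := H73.le_yl hW
  have hYLle : Cfsg.largestPReducedOf p L ≤ L := (H73.reducedIn_largestPReducedOf L).1
  have hCW : L ⊓ Subgroup.centralizer ((Cfsg.largestPReduced p H ⊓ L : Subgroup H) : Set H) ≤
      L ⊓ Subgroup.centralizer (Cfsg.largestPReduced p H : Set H) := le_inf inf_le_left hC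
  have hmid : L ⊓ Subgroup.centralizer (Cfsg.largestPReduced p H : Set H) ≤
      L ⊓ Subgroup.centralizer (Cfsg.largestPReducedOf p L : Set H) :=
    le_inf inf_le_left (H73.inf_centralizer_le_centralizer_yl hL)
  have hlast : L ⊓ Subgroup.centralizer (Cfsg.largestPReducedOf p L : Set H) ≤
      L ⊓ Subgroup.centralizer ((Cfsg.largestPReduced p H ⊓ L : Subgroup H) : Set H) :=
    inf_le_inf_left L (Subgroup.centralizer_le (SetLike.coe_subset_coe.2 hWY))
  refine ⟨le_antisymm (le_inf inf_le_left hWY) (inf_le_inf_left _ hYLle), ?_,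
    le_antisymm (hlast.trans hCW) hmid, le_antisymm (hmid.trans hlast) hCW, fun hres => ?_⟩
  · rw [H73.reducedIn_map_iff, Subgroup.map_subgroupOf_eq_of_le inf_le_right]
    exact hW
  · rw [Subgroup.commutator_eq_bot_iff_le_centralizer, Subgroup.commutator_eq_bot_iff_le_centralizer]
    constructor
    · intro h
      rw [Subgroup.le_centralizer_iff]
      have hLY : L ≤ Subgroup.centralizer (Cfsg.largestPReduced p H : Set H) :=
        (le_inf le_rfl (Subgroup.le_centralizer_iff.1 h)).trans ((hlast.trans hCW).trans inf_le_right)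
      refine (H72.isPReducedNormal_iff.1 H73.largestPReduced_isPReducedNormal).2.2 ⊤ inferInstance
        fun x _ => H72.exists_pow_mem_of_coprime_mem (K := ⊤)
          (fun y _ hy => hLY (hres (Subgroup.subset_closure hy))) (Subgroup.mem_top x)
    · intro h
      rw [Subgroup.le_centralizer_iff]
      exact (le_inf le_rfl (le_top.trans (Subgroup.le_centralizer_iff.1 h))).trans
        (hmid.trans inf_le_right)

end Cfsg.Agent.S2825
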