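import Cfsg.Statements.S2826
import Cfsg.Agent.H73.YSubnormal
import Cfsg.Agent.H22.PResidual
import Cfsg.Agent.H85.CoverSylow

set_option autoImplicit false
open Cfsg Cfsg.Agent
open scoped Pointwise commutatorElement

namespace Cfsg.Agent.S2826

/-- Let H be a finite group of characteristic p, T a Sylow p-subgroup, and V a normal elementary abelian p-subgroup of H containing Ω₁(Z(T)). Then C_H(Ω₁(Z(T))) = C_H([V, O^p(H)] ∩ Ω₁(Z(T))), O^p(H) being generated by the elements of order prime to p. -/
theorem result {H : Type*} [Group H] [Finite H] {p : ℕ} [Fact p.Prime] (hH : Subgroup.centralizer (Cfsg.pCore p H : Set H) ≤ Cfsg.pCore p H) (T : Sylow p H) (V : Subgroup H) [V.Normal] (hV : Cfsg.IsElementaryAbelian p V) (hZV : (Cfsg.omegaOne p ((T : Subgroup H) ⊓ Subgroup.centralizer (((T : Subgroup H) : Subgroup H) : Set H))) ≤ V) : Subgroup.centralizer ((Cfsg.omegaOne p ((T : Subgroup H) ⊓ Subgroup.centralizer (((T : Subgroup H) : Subgroup H) : Set H))) : Set H) = Subgroup.centralizer (((⁅V, Cfsg.pResidual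 p H⁆ ⊓ (Cfsg.omegaOne p ((T : Subgroup H) ⊓ Subgroup.centralizer (((T : Subgroup H) : Subgroup H) : Set H)))) : Subgroup H) : Set H) := by
  classical
  set Z := Cfsg.omegaOne p ((T : Subgroup H) ⊓ Subgroup.centralizer ((T : Subgroup H) : Set H))
  set W := ⁅V, Cfsg.pResidual p H⁆
  set C := Subgroup.centralizer ((W ⊓ Z : Subgroup H) : Set H) with hC
  refine le_antisymm (Subgroup.centralizer_le (SetLike.coe_subset_coe.2 inf_le_right)) fun x hx => ?_
  have hZT : ∀ z ∈ Z, ∀ t ∈ (T : Subgroup H), t * z = z * t := fun z hz t ht =>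
    Subgroup.mem_centralizer_iff.1 (H72.omegaOne_le p _ hz).2 t ht
  have hTC : (T : Subgroup H) ≤ C := fun t ht =>
    Subgroup.mem_centralizer_iff.2 fun z hz => (hZT z hz.2 t ht).symm
  have htop : Cfsg.pResidual p H ⊔ (T : Subgroup H) = ⊤ := H22.pResidual_sup_sylow T
  haveI := hV.1
  letI : CommGroup V := { (inferInstance : Group V) with mul_comm := hV.1.is_comm.comm }
  rw [Subgroup.mem_centralizer_iff]
  intro z hz
  have hzV : z ∈ V := hZV hz
  set A := (T : Subgroup H).subgroupOf C
  have hcop : A.index.Coprime p := by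
    refine ((Nat.Prime.coprime_iff_not_dvd Fact.out).2 fun h => T.not_dvd_index (h.trans ?_)).symm
    exact Subgroup.relIndex_dvd_index_of_le hTC
  let f : ↥C ⧸ A → V := Quotient.lift (fun g : ↥C => (MulAut.conjNormal (g : H) (⟨z, hzV⟩ : V))) (by
    intro a b hab
    have h' : a⁻¹ * b ∈ A := (QuotientGroup.leftRel_apply (s := A)).1 hab
    have h : ((a⁻¹ * b : ↥C) : H) ∈ (T : Subgroup H) := h'
    apply Subtype.ext
    simp only [MulAut.conjNormal_apply]
    have h2 := hZT z hz _ h
    rw [Subgroup.coe_mul, Subgroup.coe_inv] at h2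
    calc (a : H) * z * (a : H)⁻¹ = (a : H) * (z * ((a : H)⁻¹ * b)) * (b : H)⁻¹ := by group
      _ = (a : H) * (((a : H)⁻¹ * b) * z) * (b : H)⁻¹ := by rw [h2]
      _ = _ := by group)
  haveI : Fintype (↥C ⧸ A) := Fintype.ofFinite _
  set w : V := ∏ q, f q with hw
  have hwC : ∀ g ∈ C, g * (w : H) = (w : H) * g := by
    intro g hg
    have h1 : MulAut.conjNormal g w = w := by
      rw [hw, map_prod]
      refine (Fintype.prod_equiv (MulAction.toPerm (⟨g, hg⟩ : ↥C)) _ _ fun q => ?_)
      induction q using QuotientGroup.induction_on with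
      | H a =>
        show MulAut.conjNormal g (MulAut.conjNormal (a : H) _) = MulAut.conjNormal ((⟨g, hg⟩ * a : ↥C) : H) _
        rw [Subgroup.coe_mul, map_mul]
        rfl
    have h2 := congrArg Subtype.val h1
    rw [MulAut.conjNormal_apply, mul_inv_eq_iff_eq_mul] at h2
    exact h2
  have hWn : W.Normal := by
    haveI : (Cfsg.pResidual p H).Normal := inferInstance
    infer_instance
  have hWV : W ≤ V := Subgroup.commutator_le_left V _
  have hdiff : ∀ g ∈ C, g * z * g⁻¹ * z⁻¹ ∈ W := by
    intro g _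
    have hg : g ∈ ((Cfsg.pResidual p H ⊔ (T : Subgroup H) : Subgroup H) : Set H) := htop ▸ Subgroup.mem_top g
    haveI : (Cfsg.pResidual p H).Normal := inferInstance
    rw [Subgroup.normal_mul] at hg
    obtain ⟨r, hr, t, ht, rfl⟩ := hg
    have h1 : r * t * z * (r * t)⁻¹ * z⁻¹ = ⁅z, r⁆⁻¹ := by
      rw [show r * t * z * (r * t)⁻¹ = r * (t * z) * t⁻¹ * r⁻¹ by group, hZT z hz t ht,
        commutatorElement_def]
      group
    rw [h1]
    exact inv_mem (Subgroup.commutator_mem_commutator hzV hr)
  have hprod : (w : H) * (z ^ A.index)⁻¹ ∈ W := by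
    have h : (∏ q, f q * (⟨z, hzV⟩ : V)⁻¹) ∈ W.subgroupOf V := by
      refine Subgroup.prod_mem _ fun q _ => ?_
      induction q using QuotientGroup.induction_on with
      | H a =>
        show ((MulAut.conjNormal (a : H) (⟨z, hzV⟩ : V) : V) : H) * z⁻¹ ∈ W
        rw [MulAut.conjNormal_apply]
        exact hdiff _ a.2
    rw [Finset.prod_mul_distrib, Finset.prod_const, Finset.card_univ, ← Nat.card_eq_fintype_card,
      ← Subgroup.index, inv_pow] at h
    exact h
  set u := (w : H) * (z ^ A.index)⁻¹ with hu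
  have huZ : u ∈ Z := by
    refine H72.mem_omegaOne ⟨?_, Subgroup.mem_centralizer_iff.2 fun t ht => ?_⟩ (hV.2 u (hWV hprod))
    · refine H85.mem_sylow_of_normalizes T ?_ ?_
      · obtain ⟨k, -, hk⟩ := (Nat.dvd_prime_pow (Fact.out : p.Prime)).1 (by rw [pow_one]; exact orderOf_dvd_of_pow_eq_one (hV.2 u (hWV hprod)) : orderOf u ∣ p ^ 1)
        exact ⟨k, hk⟩
      refine Subgroup.centralizer_le_normalizer _ (Subgroup.mem_centralizer_iff.2 ?_)
      exact fun t ht =>
        ((show Commute t (w : H) from hwC t (hTC ht)).mul_right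
          ((show Commute t z from hZT z hz t ht).pow_right A.index).inv_right).eq
    · exact ((show Commute t (w : H) from hwC t (hTC ht)).mul_right
        ((show Commute t z from hZT z hz t ht).pow_right A.index).inv_right).eq
  have hxu : Commute x u := ((Subgroup.mem_centralizer_iff.1 hx u ⟨hprod, huZ⟩) : u * x = x * u).symm
  have hxn : Commute x (z ^ A.index) := by
    rw [show z ^ A.index = u⁻¹ * (w : H) by rw [hu]; group]
    exact hxu.inv_right.mul_right (hwC x hx)
  obtain ⟨j, hj⟩ := exists_pow_eq_self_of_coprime (x := z) (n := A.index)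
    (hcop.coprime_dvd_right (orderOf_dvd_of_pow_eq_one (hV.2 z hzV)))
  have := hxn.pow_right j
  rw [hj] at this
  exact this.eq.symm

end Cfsg.Agent.S2826
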