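import Cfsg.Statements.S2827
import Cfsg.Agent.H73.PClosed

set_option autoImplicit false
open Cfsg
open scoped commutatorElement

namespace Cfsg.Agent.S2827

/-- Let H be a finite p-irreducible group (not p-closed, and O^p(H) lies in every normal subgroup that is not p-closed) and T a Sylow p-subgroup. Then H is generated by the conjugates of T and H = H'·T; O^p(H) ≤ H'; and for every normal subgroup Y of T not contained in O_p(H), O^p(H) = [O^p(H), Y] and O^p(H) is contained in the normal closure of Y in H. -/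
theorem result {H : Type*} [Group H] [Finite H] {p : ℕ} [Fact p.Prime] (hH : Cfsg.IsPIrreducible p H) (T : Sylow p H) : Subgroup.normalClosure ((T : Subgroup H) : Set H) = ⊤ ∧ commutator H ⊔ (T : Subgroup H) = ⊤ ∧ Cfsg.pResidual p H ≤ commutator H ∧ ∀ Y : Subgroup H, Y ≤ (T : Subgroup H) → (T : Subgroup H) ≤ Subgroup.normalizer (Y : Set H) → ¬ Y ≤ Cfsg.pCore p H → ⁅Cfsg.pResidual p H, Y⁆ = Cfsg.pResidual p H ∧ Cfsg.pResidual p H ≤ Subgroup.normalClosure (Y : Set H) := by
  have hgen := H73.normalClosure_sylow_eq_top hH T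
  have htop : commutator H ⊔ (T : Subgroup H) = ⊤ := by
    have hn : (commutator H ⊔ (T : Subgroup H)).Normal := Subgroup.Normal.of_commutator_le _ le_sup_left
    exact top_le_iff.1 (hgen ▸ Subgroup.normalClosure_le_normal (SetLike.coe_subset_coe.2 le_sup_right))
  refine ⟨hgen, htop, H73.pResidual_le_of_sup_pgroup T.2 htop, fun Y hYT hTY hY => ?_⟩
  have hYp : IsPGroup p Y := T.2.to_le hYT
  have hN : pResidual p H ≤ Subgroup.normalClosure (Y : Set H) := hH.2 _ inferInstance fun hc =>
    hY (H73.le_pCore_of_pClosed_normal hc Subgroup.le_normalClosure hYp)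
  refine ⟨le_antisymm (Subgroup.commutator_le_left _ _) ?_, hN⟩
  set K := pResidual p H
  set C := ⁅K, Y⁆ with hC
  have hKC : K ≤ Subgroup.normalizer (C : Set H) := Subgroup.normalizer_commutator_ge_left (H₁ := K) (H₂ := Y)
  have hTC : (T : Subgroup H) ≤ Subgroup.normalizer (C : Set H) := by
    intro t ht
    rw [Subgroup.mem_normalizer_iff_map_conj_eq, hC, Subgroup.map_commutator]
    congr 1
    · exact Subgroup.mem_normalizer_iff_map_conj_eq.1 (Subgroup.le_normalizer_of_normal (Subgroup.mem_top t))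
    · exact Subgroup.mem_normalizer_iff_map_conj_eq.1 (hTY ht)
  have hCn : C.Normal := Subgroup.normalizer_eq_top_iff.1 (top_le_iff.1
    ((H22.pResidual_sup_sylow T).ge.trans (sup_le hKC hTC)))
  have hle : K ≤ C ⊔ Y := by
    refine hN.trans ((Subgroup.closure_le _).2 ?_)
    intro x hx
    obtain ⟨y, hy, hxy⟩ := Group.mem_conjugatesOfSet_iff.1 hx
    obtain ⟨g, rfl⟩ := isConj_iff.1 hxy
    have hg : g ∈ K ⊔ (T : Subgroup H) := by rw [H22.pResidual_sup_sylow T]; trivial
    obtain ⟨k, hk, t, ht, rfl⟩ := Subgroup.mem_sup_of_normal_left.1 hg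
    have h1 : t * y * t⁻¹ ∈ Y := (Subgroup.mem_normalizer_iff.1 (hTY ht) y).1 hy
    have h2 : k * (t * y * t⁻¹) * k⁻¹ * (t * y * t⁻¹)⁻¹ ∈ C := Subgroup.commutator_mem_commutator hk h1
    have := Subgroup.mul_mem_sup h2 h1
    simpa [mul_assoc] using this
  refine H73.pResidual_le_of_sup_pgroup (Q := (T : Subgroup H)) T.2 ?_
  exact top_le_iff.1 ((H22.pResidual_sup_sylow T).ge.trans
    (sup_le (hle.trans (sup_le_sup_left hYT C)) le_sup_right))

end Cfsg.Agent.S2827
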