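import Cfsg.Statements.S2830
import Cfsg.Agent.H73.PClosed

set_option autoImplicit false
open Cfsg

namespace Cfsg.Agent.S2830

/-- Let H act by conjugation on the elementary abelian p-subgroup V of a finite group G (H ≤ N(V)), with H p-irreducible and O^p(H) not centralizing V. Then C_H(V) is p-closed and C_T(V) ≤ O_p(H) for every p-subgroup T of H. If in addition O_p(H) centralizes V, then C_T(V) = T ∩ O_p(H) for every p-subgroup T of H, and V is p-reduced for H: O_p(H/C_H(V)) = 1. -/
theorem result {G : Type*} [Group G] [Finite G] {p : ℕ} [Fact p.Prime] (V H : Subgroup G) (hV : Cfsg.IsElementaryAbelian p V) (hHV : H ≤ Subgroup.normalizer (V : Set G)) (hH : Cfsg.IsPIrreducible p ↥H) (hnc : ¬ (Cfsg.pResidual p ↥H).map H.subtype ≤ Subgroup.centralizer (V : Set G)) [hn : ((Subgroup.centralizer (V : Set G)).subgroupOf H).Normal] : Cfsg.IsPClosed p ↥(H ⊓ Subgroup.centralizer (V : Set G)) ∧ (∀ T : Subgroup G, T ≤ H → IsPGroup p ↥T → T ⊓ Subgroup.centralizer (V : Set G) ≤ Cfsg.pCoreOf p H)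 ∧ (Cfsg.pCoreOf p H ≤ Subgroup.centralizer (V : Set G) → (∀ T : Subgroup G, T ≤ H → IsPGroup p ↥T → T ⊓ Subgroup.centralizer (V : Set G) = T ⊓ Cfsg.pCoreOf p H) ∧ Cfsg.pCore p (↥H ⧸ (Subgroup.centralizer (V : Set G)).subgroupOf H) = ⊥) := by
  set C := (Subgroup.centralizer (V : Set G)).subgroupOf H with hC
  have hres : ¬ pResidual p ↥H ≤ C := fun h => hnc (by
    rintro _ ⟨x, hx, rfl⟩; exact h hx)
  have hclosed : IsPClosed p ↥C := by
    by_contra h
    exact hres (hH.2 C hn h)
  have hO : ∀ T : Subgroup G, T ≤ H → IsPGroup p ↥T → T ⊓ Subgroup.centralizer (V : Set G) ≤ pCoreOf p H := by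
    intro T hT hTp
    rw [← Subgroup.map_subgroupOf_eq_of_le (inf_le_left.trans hT)]
    refine Subgroup.map_mono (H73.le_pCore_of_pClosed_normal hclosed ?_ ?_)
    · exact fun x hx => hx.2
    · exact (hTp.to_le inf_le_left).comap_of_injective _ H.subtype_injective
  refine ⟨?_, hO, fun hOC => ⟨fun T hT hTp => ?_, ?_⟩⟩
  · rw [H73.pClosed_subgroup_iff]
    intro Q hQ hQp
    have h1 := (H73.pClosed_subgroup_iff C).1 hclosed (Q.subgroupOf H) (fun x hx => (hQ hx).2)
      (hQp.comap_of_injective _ H.subtype_injective)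
    rw [← Subgroup.map_subgroupOf_eq_of_le (hQ.trans inf_le_left)]
    refine (Subgroup.map_mono h1).trans (H74.le_pCoreOf ?_ ?_ ((H74.pCoreOf_isPGroup C).map _))
    · refine le_inf (Subgroup.map_subtype_le _) ?_
      rintro _ ⟨x, hx, rfl⟩
      exact H74.pCoreOf_le C hx
    · intro g hg
      refine Subgroup.le_normalizer_map H.subtype ⟨⟨g, hg.1⟩, ?_, rfl⟩
      exact H74.le_normalizer_pCoreOf C (show (⟨g, hg.1⟩ : H) ∈ C from hg.2)
  · exact le_antisymm (le_inf inf_le_left (hO T hT hTp)) (inf_le_inf_left T hOC)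
  · obtain ⟨T⟩ := (inferInstance : Nonempty (Sylow p ↥H))
    have hcore := H19.pCore_normal p (↥H ⧸ C)
    set N := (pCore p (↥H ⧸ C)).comap (QuotientGroup.mk' C) with hN
    have hNn : N.Normal := hcore.comap _
    have hCN : C ≤ N := (QuotientGroup.ker_mk' C).ge.trans (MonoidHom.ker_le_comap _ _)
    have hquot : IsPGroup p (N.map (QuotientGroup.mk' C)) := by
      rw [hN, Subgroup.map_comap_eq_self_of_surjective (QuotientGroup.mk'_surjective C)]
      exact H19.pCore_isPGroup p
    have hcl : IsPClosed p ↥N := by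
      by_contra h
      refine hres ?_
      have h1 := hH.2 N hNn h
      refine H73.pResidual_le_of_sup_pgroup (Q := (T : Subgroup ↥H)) T.2 ?_
      have hsup : N ≤ C ⊔ (T : Subgroup ↥H) := by
        have h2 : (N.map (QuotientGroup.mk' C)) ≤ (T.mapSurjective (QuotientGroup.mk'_surjective C) : Sylow p _) :=
          hquot.le_sylow_of_normal _
        rw [Sylow.coe_mapSurjective] at h2
        intro x hx
        obtain ⟨t, ht, hxt⟩ := h2 ⟨x, hx, rfl⟩
        have hd : x * t⁻¹ ∈ C := by
          rw [← (QuotientGroup.ker_mk' C), MonoidHom.mem_ker, map_mul, map_inv, hxt, mul_inv_cancel]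
        have := Subgroup.mul_mem_sup hd ht
        simpa using this
      exact top_le_iff.1 ((H22.pResidual_sup_sylow T).ge.trans (sup_le (h1.trans hsup) le_sup_right))
    have hOC' : pCore p ↥H ≤ C := fun x hx => hOC ⟨x, hx, rfl⟩
    have hTN : (T : Subgroup ↥H) ⊓ N ≤ C := ((H73.pClosed_normal_iff N T).1 hcl).trans hOC'
    have hrel : C.relIndex N ∣ (T : Subgroup ↥H).relIndex N := by
      rw [← Subgroup.inf_relIndex_right (T : Subgroup ↥H) N]
      exact Subgroup.relIndex_dvd_of_le_left N hTN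
    have h1 : C.relIndex N = 1 := by
      obtain ⟨k, hk⟩ := IsPGroup.iff_card.1 hquot
      have hk' : C.relIndex N = p ^ k := by
        rw [← hk, ← Subgroup.relIndex_bot_left (N.map (QuotientGroup.mk' C)), ← QuotientGroup.map_mk'_self C,
          Subgroup.relIndex_map_map, QuotientGroup.ker_mk', sup_idem, sup_eq_left.2 hCN]
      rcases k with _ | k
      · rw [hk', pow_zero]
      · exfalso
        refine H22.sylow_not_dvd_relIndex_normal T N ?_
        exact (dvd_pow_self p (Nat.succ_ne_zero k)).trans (hk' ▸ hrel)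
    rw [Subgroup.relIndex_eq_one] at h1
    rw [← Subgroup.map_comap_eq_self_of_surjective (QuotientGroup.mk'_surjective C) (pCore p (↥H ⧸ C)),
      eq_bot_iff, Subgroup.map_le_iff_le_comap, MonoidHom.comap_bot, QuotientGroup.ker_mk']
    exact h1

end Cfsg.Agent.S2830
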