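import Cfsg.Statements.S2832
import Cfsg.Agent.H73.PClosed

set_option autoImplicit false
open Cfsg

namespace Cfsg.Agent.S2832

/-- Let H be a finite group with Sylow p-subgroup T such that H is T-minimal (generated by the conjugates of T, with T in exactly one maximal subgroup), and let N be a normal subgroup of H. Then either H/N is a p-group or H/N is minimal over the image of T in the same sense. -/
theorem result {H : Type*} [Group H] [Finite H] {p : ℕ} [Fact p.Prime] (T : Sylow p H) (hmin : Cfsg.IsMinimalOver (T : Subgroup H)) (N : Subgroup H) [N.Normal] : IsPGroup p (H ⧸ N) ∨ Cfsg.IsMinimalOver ((T : Subgroup H).map (QuotientGroup.mk' N)) := by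
  by_cases h : N ⊔ (T : Subgroup H) = ⊤
  · refine Or.inl ?_
    have : (⊤ : Subgroup H).map (QuotientGroup.mk' N) = (T : Subgroup H).map (QuotientGroup.mk' N) := by
      rw [← h, Subgroup.map_sup, QuotientGroup.map_mk'_self, bot_sup_eq]
    rw [Subgroup.map_top_of_surjective _ (QuotientGroup.mk'_surjective N)] at this
    exact ((T.2.map (QuotientGroup.mk' N)).of_equiv (MulEquiv.subgroupCongr this.symm)).of_equiv
      Subgroup.topEquiv
  · refine Or.inr ?_
    obtain ⟨hgen, M, ⟨hM, hTM⟩, huniq⟩ := hmin
    have hsurj := QuotientGroup.mk'_surjective N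
    obtain ⟨M', hM', hle⟩ := (eq_top_or_exists_le_coatom (N ⊔ (T : Subgroup H))).resolve_left h
    obtain rfl := huniq M' ⟨hM', le_sup_right.trans hle⟩
    have hker : (QuotientGroup.mk' N).ker ≤ M' := (QuotientGroup.ker_mk' N).le.trans (le_sup_left.trans hle)
    refine ⟨?_, M'.map (QuotientGroup.mk' N), ⟨?_, Subgroup.map_mono hTM⟩, ?_⟩
    · refine top_le_iff.1 ?_
      rw [← Subgroup.map_top_of_surjective _ hsurj, ← hgen, Subgroup.map_le_iff_le_comap]
      have : (Subgroup.normalClosure (((T : Subgroup H).map (QuotientGroup.mk' N) : Subgroup (H ⧸ N)) : Set (H ⧸ N))).Normal :=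
        inferInstance
      exact Subgroup.normalClosure_le_normal fun x hx => Subgroup.subset_normalClosure ⟨x, hx, rfl⟩
    · refine ⟨fun h' => hM'.1 ?_, fun X hX => ?_⟩
      · rw [← Subgroup.comap_map_eq_self hker, h', Subgroup.comap_top]
      · have h1 : M' < X.comap (QuotientGroup.mk' N) := by
          rw [← Subgroup.comap_map_eq_self hker]
          exact Subgroup.comap_lt_comap_of_surjective hsurj |>.2 hX
        rw [← Subgroup.map_comap_eq_self_of_surjective hsurj X, hM'.2 _ h1,
          Subgroup.map_top_of_surjective _ hsurj]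
    · rintro X ⟨hX, hTX⟩
      have h1 : X.comap (QuotientGroup.mk' N) ≠ ⊤ := fun h' => hX.1 (by
        rw [← Subgroup.map_comap_eq_self_of_surjective hsurj X, h', Subgroup.map_top_of_surjective _ hsurj])
      have h2 : IsCoatom (X.comap (QuotientGroup.mk' N)) := by
        refine ⟨h1, fun Y hY => ?_⟩
        have hkY : (QuotientGroup.mk' N).ker ≤ Y := (MonoidHom.ker_le_comap _ X).trans hY.le
        have h3 : X < Y.map (QuotientGroup.mk' N) := by
          rw [← Subgroup.comap_lt_comap_of_surjective hsurj, Subgroup.comap_map_eq_self hkY]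
          exact hY
        rw [← Subgroup.comap_map_eq_self hkY, hX.2 _ h3, Subgroup.comap_top]
      rw [← huniq _ ⟨h2, Subgroup.map_le_iff_le_comap.1 hTX⟩, Subgroup.map_comap_eq_self_of_surjective hsurj]

end Cfsg.Agent.S2832
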