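import Cfsg.Statements.S2833
import Mathlib.GroupTheory.Commutator.Basic
import Mathlib.Tactic.Group

set_option autoImplicit false
open Cfsg
open scoped commutatorElement Pointwise

namespace Cfsg.Agent.S2833

/-- Let V be a subgroup of a finite group G normalized by the subgroup L, let X ≤ L and g ∈ L with [V, X, X] = 1 and L generated by X and gXg⁻¹. Put W = [V, L]. Then W = [V, X]·[V, gXg⁻¹], C_W(X) = [V, X], and C_W(L) = [V, X] ∩ [V, gXg⁻¹]. -/
theorem result {G : Type*} [Group G] [Finite G] (V L : Subgroup G) (hLV : L ≤ Subgroup.normalizer (V : Set G)) (X : Subgroup G) (hX : X ≤ L) (g : G) (hg : g ∈ L) (hq : ⁅⁅V, X⁆, X⁆ = ⊥) (hgen : X ⊔ X.map (MulAut.conj g).toMonoidHom = L) (W : Subgroup G) (hW : W = ⁅V, L⁆) : ⁅V, X⁆ ⊔ ⁅V, X.map (MulAut.conj g).toMonoidHom⁆ = W ∧ W ⊓ Subgroup.centralizer (X : Set G) = ⁅V, X⁆ ∧ W ⊓ Subgroup.centralizer (L : Set G) = ⁅V, X⁆ ⊓ ⁅V, X.map (MulAut.conj g).toMonoidHom⁆ := by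
  subst hW
  set cg := (MulAut.conj g).toMonoidHom with hcg
  set U := ⁅V, X⁆ ⊔ ⁅V, X.map cg⁆ with hU
  have hgV : g ∈ Subgroup.normalizer (V : Set G) := hLV hg
  have hVg : V.map cg = V := Subgroup.mem_normalizer_iff_map_conj_eq.1 hgV
  have hmapU : ⁅V, X.map cg⁆ = ⁅V, X⁆.map cg := by rw [Subgroup.map_commutator, hVg]
  have hXg : X.map cg ≤ L := hgen ▸ le_sup_right
  have hUV : U ≤ V := by
    refine sup_le ?_ ?_ <;> rw [← Subgroup.le_normalizer_iff_commutator_le_left]
    · exact hX.trans hLV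
    · exact hXg.trans hLV
  -- commutators of the generators
  let S : Subgroup G :=
    { carrier := {a | a ∈ Subgroup.normalizer (V : Set G) ∧ (∀ v ∈ V, ⁅v, a⁆ ∈ U) ∧ a ∈ Subgroup.normalizer (U : Set G)}
      one_mem' := ⟨one_mem _, fun v _ => by rw [commutatorElement_one_right]; exact one_mem _, one_mem _⟩
      mul_mem' := by
        rintro a b ⟨ha, hav, haU⟩ ⟨hb, hbv, hbU⟩
        refine ⟨mul_mem ha hb, fun v hv => ?_, mul_mem haU hbU⟩
        have : ⁅v, a * b⁆ = ⁅v, a⁆ * (a * ⁅v, b⁆ * a⁻¹) := by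
          simp only [commutatorElement_def]; group
        rw [this]
        exact mul_mem (hav v hv) ((Subgroup.mem_normalizer_iff.1 haU _).1 (hbv v hv))
      inv_mem' := by
        rintro a ⟨ha, hav, haU⟩
        refine ⟨inv_mem ha, fun v hv => ?_, inv_mem haU⟩
        have : ⁅v, a⁻¹⁆ = a⁻¹ * ⁅v, a⁆⁻¹ * a⁻¹⁻¹ := by simp only [commutatorElement_def]; group
        rw [this]
        exact (Subgroup.mem_normalizer_iff.1 (inv_mem haU) _).1 (inv_mem (hav v hv)) }
  have hnorm : ∀ Z : Subgroup G, Z ≤ Subgroup.normalizer (V : Set G) → ⁅V, Z⁆ ≤ U →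
      Z ≤ Subgroup.normalizer (U : Set G) := by
    intro Z hZV hZ
    rw [Subgroup.le_normalizer_iff]
    intro a ha u hu
    have h1 : ⁅u, a⁆ ∈ U := hZ (Subgroup.commutator_mem_commutator (hUV hu) ha)
    have := mul_mem (inv_mem h1) hu
    simpa [commutatorElement_def, mul_assoc] using this
  have hgenS : L ≤ S := by
    rw [← hgen]
    refine sup_le (fun a ha => ?_) (fun a ha => ?_)
    · exact ⟨hLV (hX ha), fun v hv => Subgroup.mem_sup_left (Subgroup.commutator_mem_commutator hv ha),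
        hnorm X (hX.trans hLV) le_sup_left ha⟩
    · exact ⟨hLV (hXg ha), fun v hv => Subgroup.mem_sup_right (Subgroup.commutator_mem_commutator hv ha),
        hnorm _ (hXg.trans hLV) le_sup_right ha⟩
  have hW' : U = ⁅V, L⁆ := le_antisymm
    (sup_le (Subgroup.commutator_mono le_rfl hX) (Subgroup.commutator_mono le_rfl hXg))
    (Subgroup.commutator_le.2 fun v hv a ha => (hgenS ha).2.1 v hv)
  rw [← hW']
  have hcen : ⁅V, X⁆ ≤ Subgroup.centralizer (X : Set G) := Subgroup.commutator_eq_bot_iff_le_centralizer.1 hq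
  have hcen' : ⁅V, X.map cg⁆ ≤ Subgroup.centralizer ((X.map cg : Subgroup G) : Set G) := by
    rw [hmapU, ← Subgroup.commutator_eq_bot_iff_le_centralizer, ← Subgroup.map_commutator, hq, Subgroup.map_bot]
  have hconjfix : ∀ w : G, w ∈ Subgroup.centralizer (L : Set G) → ∀ Z : Subgroup G, (w ∈ Z.map cg ↔ w ∈ Z) := by
    intro w hw Z
    have h1 : g * w = w * g := Subgroup.mem_centralizer_iff.1 hw g hg
    rw [hcg, Subgroup.mem_map_equiv, MulAut.conj_symm_apply]
    rw [mul_assoc, ← h1, inv_mul_cancel_left]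
  have hCL : ∀ w, w ∈ Subgroup.centralizer (X : Set G) → w ∈ Subgroup.centralizer ((X.map cg : Subgroup G) : Set G) →
      w ∈ Subgroup.centralizer (L : Set G) := by
    intro w h1 h2
    refine Subgroup.mem_centralizer_iff.2 fun l hl => ?_
    have : L ≤ Subgroup.centralizer ({w} : Set G) := hgen ▸ sup_le
      (fun a ha => Subgroup.mem_centralizer_singleton_iff.2 (Subgroup.mem_centralizer_iff.1 h1 a ha))
      (fun a ha => Subgroup.mem_centralizer_singleton_iff.2 (Subgroup.mem_centralizer_iff.1 h2 a ha))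
    exact Subgroup.mem_centralizer_singleton_iff.1 (this hl)
  have hVU : ∀ Z : Subgroup G, V ≤ Subgroup.normalizer ((⁅V, Z⁆ : Subgroup G) : Set G) := fun Z =>
    Subgroup.normalizer_commutator_ge_left (H₁ := V) (H₂ := Z)
  refine ⟨rfl, ?_, ?_⟩
  · refine le_antisymm (fun w hw => ?_) (le_inf le_sup_left hcen)
    have hset := Subgroup.coe_mul_of_left_le_normalizer_right ⁅V, X⁆ ⁅V, X.map cg⁆
      ((le_sup_left.trans hUV).trans (hVU _))
    have hw1 : w ∈ ((⁅V, X⁆ : Subgroup G) : Set G) * ((⁅V, X.map cg⁆ : Subgroup G) : Set G) := by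
      rw [← hset]; exact hw.1
    obtain ⟨a, ha, b, hb, rfl⟩ := Set.mem_mul.1 hw1
    have hb1 : b ∈ Subgroup.centralizer (X : Set G) := by
      have := mul_mem (inv_mem (hcen ha)) hw.2
      simpa using this
    have hbL := hCL b hb1 (hcen' hb)
    rw [hmapU] at hb
    exact mul_mem ha ((hconjfix b hbL _).1 hb)
  · refine le_antisymm (fun w hw => ?_) (fun w hw => ⟨Subgroup.mem_sup_left hw.1, hCL w (hcen hw.1) (hcen' hw.2)⟩)
    have hset := Subgroup.coe_mul_of_left_le_normalizer_right ⁅V, X⁆ ⁅V, X.map cg⁆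
      ((le_sup_left.trans hUV).trans (hVU _))
    have hw1 : w ∈ ((⁅V, X⁆ : Subgroup G) : Set G) * ((⁅V, X.map cg⁆ : Subgroup G) : Set G) := by
      rw [← hset]; exact hw.1
    obtain ⟨a, ha, b, hb, rfl⟩ := Set.mem_mul.1 hw1
    have hwX : a * b ∈ Subgroup.centralizer (X : Set G) :=
      Subgroup.centralizer_le (SetLike.coe_subset_coe.2 hX) hw.2
    have hb1 : b ∈ Subgroup.centralizer (X : Set G) := by
      have := mul_mem (inv_mem (hcen ha)) hwX
      simpa using this
    have hbL := hCL b hb1 (hcen' hb)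
    have hab : a * b ∈ ⁅V, X⁆ := mul_mem ha ((hconjfix b hbL _).1 (hmapU ▸ hb))
    refine ⟨hab, ?_⟩
    rw [SetLike.mem_coe, hmapU]
    exact (hconjfix _ hw.2 _).2 hab

end Cfsg.Agent.S2833
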