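import Cfsg.Statements.S2834
import Cfsg.Agent.H73.LLemma

set_option autoImplicit false
open Cfsg Cfsg.Agent
open scoped Pointwise commutatorElement

namespace Cfsg.Agent.S2834

/-- The L-Lemma: let H be a finite group with Sylow p-subgroup T such that H is T-minimal (generated by the conjugates of T, T in exactly one maximal subgroup M), and let A ≤ T with A not contained in O_p(H). Then there is a subgroup L of H containing A·O_p(H) such that (a) A·O_p(L) lies in exactly one maximal subgroup L₀ of L, and L₀ = L ∩ gMg⁻¹ for some g ∈ H; (b) L = ⟨A, xAx⁻¹⟩·O_p(L) for every x ∈ L outside L₀. -/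
theorem result {H : Type*} [Group H] [Finite H] {p : ℕ} [Fact p.Prime] (T : Sylow p H) (hmin : Cfsg.IsMinimalOver (T : Subgroup H)) (M : Subgroup H) (hM : IsCoatom M ∧ (T : Subgroup H) ≤ M) (A : Subgroup H) (hAT : A ≤ (T : Subgroup H)) (hA : ¬ A ≤ Cfsg.pCore p H) : ∃ L : Subgroup H, A ⊔ Cfsg.pCore p H ≤ L ∧ ∃ L₀ : Subgroup H, A ⊔ (Cfsg.pCoreOf p L) ≤ L₀ ∧ L₀ < L ∧ (∀ X : Subgroup H, A ⊔ (Cfsg.pCoreOf p L) ≤ X → X < L → X ≤ L₀) ∧ (∃ g : H, L₀ = L ⊓ ((M : Subgroup H).map (MulAut.conj (g : H)).toMonoidHom)) ∧ ∀ x ∈ L, x ∉ L₀ → (A ⊔ ((A : Subgroup H).map (MulAut.conj (x : H)).toMonoidHom)) ⊔ (Cfsg.pCoreOf p L) = L := by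
  classical
  obtain ⟨hM, hTM⟩ := hM
  obtain ⟨Q, g, hQp, hOQ, hAn, hAQ, huniq, hN⟩ := H73.exists_unique_member_pair T hmin hM hTM hAT hA
  set M1 := M.map (MulAut.conj g).toMonoidHom with hM1
  haveI : Fintype (Subgroup H) := Fintype.ofFinite _
  obtain ⟨L, hL, hLmin⟩ := Finset.exists_min_image
    (Finset.univ.filter fun L : Subgroup H => A ⊔ Q ≤ L ∧ L ≤ Subgroup.normalizer (Q : Set H) ∧ ¬ L ≤ M1)
    (fun L => Nat.card L)
    ⟨_, Finset.mem_filter.2 ⟨Finset.mem_univ _, sup_le hAn Subgroup.le_normalizer, le_rfl, hN⟩⟩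
  obtain ⟨hAQL, hLN, hLM⟩ := (Finset.mem_filter.1 hL).2
  have hQL : Q ≤ Cfsg.pCoreOf p L := H74.le_pCoreOf (le_sup_right.trans hAQL) hLN hQp
  have hprop : ∀ X : Subgroup H, A ⊔ Q ≤ X → X < L → X ≤ M1 := by
    intro X hX hlt
    by_contra hXM
    exact (H74.card_lt_card_of_lt hlt).not_ge
      (hLmin X (Finset.mem_filter.2 ⟨Finset.mem_univ _, hX, hlt.le.trans hLN, hXM⟩))
  have hAL : A ≤ L := le_sup_left.trans hAQL
  have hAOp : IsPGroup p (A ⊔ Cfsg.pCoreOf p L : Subgroup H) :=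
    (T.2.to_le hAT).to_sup_of_normal_right' (H74.pCoreOf_isPGroup L)
      (hAL.trans (H74.le_normalizer_pCoreOf L))
  have hAOM : A ⊔ Cfsg.pCoreOf p L ≤ M1 := by
    obtain ⟨R, hR⟩ := hAOp.exists_le_sylow
    obtain ⟨a, ha⟩ := MulAction.exists_smul_eq H T R
    have h1 : A ⊔ Cfsg.pCoreOf p L ≤ M.map (MulAut.conj a).toMonoidHom :=
      hR.trans (by rw [← ha, Sylow.coe_subgroup_smul]; exact Subgroup.map_mono hTM)
    rw [← huniq a ((sup_le_sup_left hQL A).trans h1)]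
    exact h1
  refine ⟨L, sup_le hAL ((hOQ.trans le_sup_right).trans hAQL), L ⊓ M1,
    le_inf (sup_le hAL (H74.pCoreOf_le L)) hAOM,
    lt_of_le_of_ne inf_le_left (fun h => hLM (inf_eq_left.1 h)),
    fun X hX hlt => le_inf hlt.le (hprop X ((sup_le_sup_left hQL A).trans hX) hlt), ⟨g, rfl⟩,
    fun x hx hx0 => ?_⟩
  set X := A ⊔ A.map (MulAut.conj x).toMonoidHom ⊔ Cfsg.pCoreOf p L with hXdef
  have hXL : X ≤ L := sup_le (sup_le hAL ((Subgroup.map_mono hAL).trans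
    (H50.map_conj_eq_iff.2 (Subgroup.le_normalizer hx)).le)) (H74.pCoreOf_le L)
  by_contra hne
  have hXM := hprop X (sup_le (le_sup_of_le_left le_sup_left) (hQL.trans le_sup_right))
    (lt_of_le_of_ne hXL hne)
  apply hx0
  refine Subgroup.mem_inf.2 ⟨hx, ?_⟩
  have hAQx : A ⊔ Q ≤ M.map (MulAut.conj (x⁻¹ * g)).toMonoidHom := by
    rw [← H50.map_conj_map]
    refine sup_le (H73.map_conj_le_iff.1 ((le_sup_of_le_left le_sup_right).trans hXM)) ?_
    refine H73.map_conj_le_iff.1 ?_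
    rw [H50.map_conj_eq_iff.2 (hLN hx)]
    exact le_sup_right.trans hAQ
  have h := huniq _ hAQx
  rw [← H50.map_conj_map, ← hM1] at h
  have hx' : x⁻¹ ∈ Subgroup.normalizer (M1 : Set H) := H50.map_conj_eq_iff.1 h
  have hself := H73.normalizer_eq_of_minimalOver hmin hM hTM
  rw [hM1, H73.mem_normalizer_conj_iff, hself] at hx'
  refine inv_mem_iff.1 ?_
  exact ⟨g⁻¹ * x⁻¹ * g, hx', by simp [mul_assoc]⟩

end Cfsg.Agent.S2834
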