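import Cfsg.Statements.S2836
import Cfsg.Agent.H73.YMinimal

set_option autoImplicit false
open Cfsg

namespace Cfsg.Agent.S2836

/-- Let L be a finite group, L₀ a maximal subgroup, T a Sylow p-subgroup of L₀, Y ≤ T, and suppose L is Y-minimal. Let D be the intersection of the conjugates of L₀ (the core of L₀). Then D contains O_p(L) and D/O_p(L) is the Frattini subgroup of L/O_p(L), so D is p-closed; and every normal subgroup N of L contained in L₀ is p-closed with N/O_p(N) a nilpotent group of order prime to p. -/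
theorem result {L : Type*} [Group L] [Finite L] {p : ℕ} [Fact p.Prime] (L₀ : Subgroup L) (hL₀ : IsCoatom L₀) (T : Sylow p ↥L₀) (Y : Subgroup L) (hYT : Y ≤ (T : Subgroup ↥L₀).map L₀.subtype) (hmin : Cfsg.IsMinimalOver Y) : (Cfsg.pCore p L ≤ L₀.normalCore ∧ (L₀.normalCore).map (QuotientGroup.mk' (Cfsg.pCore p L)) = frattini (L ⧸ Cfsg.pCore p L) ∧ Cfsg.IsPClosed p ↥(L₀.normalCore)) ∧ ∀ (N : Subgroup L) [N.Normal], N ≤ L₀ → Cfsg.IsPClosed p ↥N ∧ Group.IsNilpotent (↥N ⧸ Cfsg.pCore p ↥N) ∧ (Nat.card (↥N ⧸ Cfsg.pCore p ↥N)).Coprime p := by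
  have hY : Y ≤ L₀ := hYT.trans (Subgroup.map_subtype_le _)
  obtain ⟨P, hP⟩ := H73.exists_sylow_eq hmin hL₀ T hYT
  have hYP : Y ≤ (P : Subgroup L) := hYT.trans hP.ge
  have hPL : (P : Subgroup L) ≤ L₀ := hP.le.trans (Subgroup.map_subtype_le _)
  have : (pCore p L).Normal := H19.pCore_normal p L
  set O := pCore p L with hO
  set f := QuotientGroup.mk' O with hf
  have hsurj := QuotientGroup.mk'_surjective O
  have hOL : O ≤ L₀ := (H19.pCore_le_sylow P).trans hPL
  have hker : f.ker ≤ L₀ := (QuotientGroup.ker_mk' O).le.trans hOL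
  obtain ⟨hmin', hco⟩ := H73.minimalOver_map f hsurj hmin hL₀ hY hker
  have hP' : ((P.mapSurjective hsurj : Sylow p (L ⧸ O)) : Subgroup (L ⧸ O)) = (P : Subgroup L).map f :=
    Sylow.coe_mapSurjective hsurj P
  have hcore : pCore p (L ⧸ O) = ⊥ := H19.pCore_quotient_pCore p
  have hcl : ∀ (N : Subgroup L) [N.Normal], N ≤ L₀ → IsPClosed p ↥N := fun N _ hN =>
    (H73.pClosed_normal_iff N P).2 (H73.sylow_inf_le_pCore hmin hL₀ hYP hPL N hN)
  refine ⟨⟨Subgroup.normal_le_normalCore.2 hOL, ?_, hcl _ L₀.normalCore_le⟩, fun N _ hN => ⟨hcl N hN, ?_⟩⟩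
  · have hn : (L₀.normalCore.map f).Normal := Subgroup.Normal.map inferInstance f hsurj
    refine le_antisymm (H73.le_frattini_of_minimalOver (P := P.mapSurjective hsurj) hmin' hco
      (hP' ▸ Subgroup.map_mono hYP) (hP' ▸ Subgroup.map_mono hPL) hcore _
      (Subgroup.map_mono L₀.normalCore_le)) ?_
    have h1 : (frattini (L ⧸ O)).comap f ≤ L₀ := by
      rw [← Subgroup.comap_map_eq_self hker]
      exact Subgroup.comap_mono (frattini_le_coatom hco)
    have h2 := Subgroup.normal_le_normalCore.2 h1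
    rw [← Subgroup.map_comap_eq_self_of_surjective hsurj (frattini (L ⧸ O))]
    exact Subgroup.map_mono h2
  · have hn : (N.map f).Normal := Subgroup.Normal.map inferInstance f hsurj
    obtain ⟨hdvd, hnil⟩ := H73.nilpotent_coprime_of_minimalOver (P := P.mapSurjective hsurj) hmin' hco
      (hP' ▸ Subgroup.map_mono hYP) (hP' ▸ Subgroup.map_mono hPL) hcore (N.map f) (Subgroup.map_mono hN)
    have hk : (f.comp N.subtype).ker = pCore p ↥N := by
      ext x
      rw [MonoidHom.mem_ker, MonoidHom.comp_apply, hf, QuotientGroup.mk'_apply, QuotientGroup.eq_one_iff]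
      constructor
      · intro h
        have h2 : (x : L) ∈ pCoreOf p N := (H73.pCoreOf_normal N).ge ⟨x.2, h⟩
        obtain ⟨y, hy, hyx⟩ := h2
        rwa [← Subtype.ext hyx]
      · intro h
        exact ((H73.pCoreOf_normal (p := p) N).le ⟨x, h, rfl⟩).2
    have hr : (f.comp N.subtype).range = N.map f := by
      rw [MonoidHom.range_comp, Subgroup.range_subtype]
    have e : (↥N ⧸ pCore p ↥N) ≃* ↥(N.map f) :=
      ((QuotientGroup.quotientMulEquivOfEq hk.symm).trans
        (QuotientGroup.quotientKerEquivRange (f.comp N.subtype))).trans (MulEquiv.subgroupCongr hr)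
    refine ⟨Group.nilpotent_of_mulEquiv e.symm, ?_⟩
    rw [Nat.card_congr e.toEquiv]
    exact Nat.Coprime.symm ((Fact.out : p.Prime).coprime_iff_not_dvd.2 hdvd)

end Cfsg.Agent.S2836
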