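import Cfsg.Statements.S2838
import Cfsg.Agent.H73.WeaklyClosed

set_option autoImplicit false
open Cfsg Cfsg.Agent
open Subgroup (normalizer commutator_comm)

namespace Cfsg.Agent.S2838

/-- For a nontrivial p-subgroup Q of a finite group H the following are equivalent: Q is a weakly closed subgroup (it is the only H-conjugate of itself inside some Sylow p-subgroup containing it); Q = P for every conjugate P of Q with [Q, P] ≤ Q ∩ P; Q is normal in N_H(R) for every p-subgroup R of H containing Q. -/
theorem result {H : Type*} [Group H] [Finite H] {p : ℕ} [Fact p.Prime] (Q : Subgroup H) (hQp : IsPGroup p ↥Q) (hQ1 : Q ≠ ⊥) : (Cfsg.IsWeaklyClosedSubgroup p Q ↔ ∀ g : H, ⁅Q, ((Q : Subgroup H).map (MulAut.conj (g : H)).toMonoidHom)⁆ ≤ Q ⊓ ((Q : Subgroup H).map (MulAut.conj (g : H)).toMonoidHom) → ((Q : Subgroup H).map (MulAut.conj (g : H)).toMonoidHom) = Q) ∧ (Cfsg.IsWeaklyClosedSubgroup p Q ↔ ∀ R : Subgroup H, IsPGroup p ↥R → Q ≤ R → Subgroup.normalizer ((R : Subgroup H) : Set H) ≤ Subgroup.normalizer ((Q : Subgroup H) : Set H)) := by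

  have comm_of : ∀ g : H, Q.map (MulAut.conj g).toMonoidHom ≤ normalizer (Q : Set H) →
      Q ≤ normalizer ((Q.map (MulAut.conj g).toMonoidHom : Subgroup H) : Set H) →
      ⁅Q, Q.map (MulAut.conj g).toMonoidHom⁆ ≤ Q ⊓ Q.map (MulAut.conj g).toMonoidHom := by
    intro g h1 h2
    refine le_inf ?_ (H73.commutator_le_of_le_normalizer h2)
    rw [commutator_comm]
    exact H73.commutator_le_of_le_normalizer h1
  constructor
  · constructor
    · intro hwc g hg
      refine H73.wc_eq_of_le_normalizer hwc (H73.le_normalizer_of_commutator_le ?_)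
      rw [Subgroup.commutator_comm]
      exact hg.trans inf_le_left
    · intro h
      have hmut : ∀ g : H, Q.map (MulAut.conj g).toMonoidHom ≤ Subgroup.normalizer (Q : Set H) →
          Q ≤ Subgroup.normalizer ((Q.map (MulAut.conj g).toMonoidHom : Subgroup H) : Set H) →
          Q.map (MulAut.conj g).toMonoidHom = Q := fun g h1 h2 => h g (comm_of g h1 h2)
      refine H73.wc_of_forall_normalizer hQp fun R hR hQR => ?_
      have hRN : R ≤ Subgroup.normalizer (Q : Set H) := by
        by_contra hne
        set M := R ⊓ Subgroup.normalizer (Q : Set H)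
        have hMR : M < R := lt_of_le_of_ne inf_le_left fun h => hne (h ▸ inf_le_right)
        have hlt : M.subgroupOf R < ⊤ := lt_top_iff_ne_top.2 fun h =>
          hMR.ne (le_antisymm inf_le_left (Subgroup.subgroupOf_eq_top.1 h))
        obtain ⟨⟨t, htR⟩, htN, htM⟩ := SetLike.exists_of_lt
          (@Group.normalizerCondition_of_isNilpotent _ _ hR.isNilpotent _ hlt)
        have htN' : t ∈ Subgroup.normalizer (M : Set H) := by
          rw [← Subgroup.subgroupOf_normalizer_eq hMR.le] at htN
          exact htN
        have htM' : M.map (MulAut.conj t).toMonoidHom = M := H50.map_conj_eq_iff.2 htN'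
        have hQM : Q ≤ M := le_inf hQR Subgroup.le_normalizer
        have e := hmut t (((Subgroup.map_mono hQM).trans htM'.le).trans inf_le_right)
          (hQM.trans (htM'.ge.trans (H73.map_conj_le_normalizer_map_conj inf_le_right t)))
        exact htM ⟨htR, H50.map_conj_eq_iff.1 e⟩
      intro g hg
      have hgR : R.map (MulAut.conj g).toMonoidHom = R := H50.map_conj_eq_iff.2 hg
      refine H50.map_conj_eq_iff.1 (hmut g ?_ ?_)
      · exact ((Subgroup.map_mono hQR).trans hgR.le).trans hRN
      · exact hQR.trans (hgR.ge.trans (H73.map_conj_le_normalizer_map_conj hRN g))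
  · exact ⟨fun hwc R hR hQR => H73.wc_normalizer_le hwc hR hQR,
      fun h => H73.wc_of_forall_normalizer hQp h⟩

end Cfsg.Agent.S2838
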