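import Cfsg.Statements.S2839
import Cfsg.Agent.H73.WeaklyClosed

set_option autoImplicit false
open Cfsg Cfsg.Agent
open scoped Pointwise

namespace Cfsg.Agent.S2839

/-- Let Q be a nontrivial p-subgroup of the finite group H that is a weakly closed subgroup, K a subgroup containing Q and N a normal subgroup of H. Then Q is a weakly closed subgroup of K; every H-conjugate of Q contained in K is a K-conjugate of Q; N_K(Q) contains a Sylow p-subgroup of K; N = N_N(Q)·O^p(N); and QN/N is a weakly closed subgroup of H/N. -/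
theorem result {H : Type*} [Group H] [Finite H] {p : ℕ} [Fact p.Prime] (Q : Subgroup H) (hQp : IsPGroup p ↥Q) (hQ1 : Q ≠ ⊥) (hwc : Cfsg.IsWeaklyClosedSubgroup p Q) (K : Subgroup H) (hQK : Q ≤ K) (N' : Subgroup H) [N'.Normal] : Cfsg.IsWeaklyClosedSubgroup p (Q.subgroupOf K) ∧ (∀ g : H, ((Q : Subgroup H).map (MulAut.conj (g : H)).toMonoidHom) ≤ K → ∃ k ∈ K, ((Q : Subgroup H).map (MulAut.conj (g : H)).toMonoidHom) = ((Q : Subgroup H).map (MulAut.conj (k : H)).toMonoidHom)) ∧ Cfsg.IsParabolic p ((Subgroup.normalizer ((Q : Subgroup H) : Set H)).subgroupOf K) ∧ (N' ⊓ Subgroup.normalizer ((Q : Subgroup H) : Set H)) ⊔ (Cfsg.pResidual p ↥N').map N'.subtype = N' ∧ Cfsg.IsWeaklyClosedSubgroup p (Q.map (QuotientGroup.mk' N')) := by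
  refine ⟨?_, fun g hg => H73.wc_exists_conj_mem hwc hQK hg, ?_,
    H73.wc_sup_pResidual hwc Subgroup.le_normalizer_of_normal, ?_⟩
  · obtain ⟨P, hP⟩ := (hQp.comap_subtype : IsPGroup p (Q.subgroupOf K)).exists_le_sylow
    refine ⟨P, hP, fun g hg => ?_⟩
    have e : ∀ k : ↥K, (Q.subgroupOf K).map (MulAut.conj k).toMonoidHom =
        (Q.map (MulAut.conj (k : H)).toMonoidHom).subgroupOf K := by
      intro k
      ext x
      rw [H50.mem_map_conj, Subgroup.mem_subgroupOf, Subgroup.mem_subgroupOf, H50.mem_map_conj]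
      simp
    rw [e] at hg ⊢
    have h1 : Q.map (MulAut.conj (g : H)).toMonoidHom = Q := by
      refine H73.wc_eq_of_le_pgroup hwc (P.2.map K.subtype)
        (fun x hx => ⟨⟨x, hQK hx⟩, hP hx, rfl⟩) ?_
      rintro _ ⟨x, hx, rfl⟩
      have hxK : (MulAut.conj (g : H)).toMonoidHom x ∈ K :=
        mul_mem (mul_mem g.2 (hQK hx)) (inv_mem g.2)
      exact ⟨⟨_, hxK⟩, hg ⟨x, hx, rfl⟩, rfl⟩
    rw [h1]
  · obtain ⟨P, hP⟩ := H73.wc_exists_sylow_le_normalizer hwc hQK
    exact ⟨P, fun x hx => hP ⟨x, hx, rfl⟩⟩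
  · obtain ⟨T, hT⟩ := hQp.exists_le_sylow
    have hsurj := QuotientGroup.mk'_surjective N'
    refine ⟨T.mapSurjective hsurj, Subgroup.map_mono hT, fun gq hgq => ?_⟩
    obtain ⟨g, rfl⟩ := hsurj gq
    have e : ∀ k : H, (Q.map (MulAut.conj k).toMonoidHom).map (QuotientGroup.mk' N') =
        (Q.map (QuotientGroup.mk' N')).map
          (MulAut.conj (QuotientGroup.mk' N' k)).toMonoidHom := by
      intro k
      rw [Subgroup.map_map, Subgroup.map_map]
      congr 1
    rw [← e] at hgq ⊢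
    have hK' : Q.map (MulAut.conj g).toMonoidHom ≤ (T : Subgroup H) ⊔ N' := by
      intro x hx
      obtain ⟨t, ht, htx⟩ := hgq ⟨x, hx, rfl⟩
      rw [QuotientGroup.mk'_eq_mk'] at htx
      obtain ⟨z, hz, rfl⟩ := htx
      exact Subgroup.mul_mem_sup ht hz
    obtain ⟨k, hk, hk'⟩ := H73.wc_exists_conj_mem hwc (hT.trans le_sup_left) hK'
    have hk2 : k ∈ (((T : Subgroup H) ⊔ N' : Subgroup H) : Set H) := hk
    rw [Subgroup.mul_normal] at hk2
    obtain ⟨t, ht, n, hn, rfl⟩ := hk2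
    have hn1 : QuotientGroup.mk' N' (t * n) = QuotientGroup.mk' N' t := by
      rw [QuotientGroup.mk'_eq_mk']
      exact ⟨n⁻¹, inv_mem hn, by group⟩
    rw [hk', e, hn1, ← e, H50.map_conj_eq_iff.2 (H73.wc_le_normalizer hwc T.2 hT ht)]

end Cfsg.Agent.S2839
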