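import Cfsg.Statements.S2840
import Cfsg.Agent.H73.WeaklyClosed

set_option autoImplicit false
open Cfsg Cfsg.Agent

namespace Cfsg.Agent.S2840

/-- Let Q be a nontrivial p-subgroup of the finite group H that is a weakly closed subgroup and K a subgroup containing Q; let K° be the weak closure of Q in K (generated by the H-conjugates of Q inside K). Then K° is generated by the K-conjugates of Q, and K° is the subnormal closure of Q in K. -/
theorem result {H : Type*} [Group H] [Finite H] {p : ℕ} [Fact p.Prime] (Q : Subgroup H) (hQp : IsPGroup p ↥Q) (hQ1 : Q ≠ ⊥) (hwc : Cfsg.IsWeaklyClosedSubgroup p Q) (K : Subgroup H) (hQK : Q ≤ K) (Kc : Subgroup H) (hKc : Kc = Cfsg.weakClosure Q K) : Kc = ⨆ k : ↥K, ((Q : Subgroup H).map (MulAut.conj ((k : H) : H)).toMonoidHom) ∧ Kc = (Cfsg.subnormalClosure (Q.subgroupOf K)).map K.subtype := by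
  subst hKc
  have hconj : ∀ k : H, k ∈ K → Q.map (MulAut.conj k).toMonoidHom ≤ K := by
    rintro k hk _ ⟨x, hx, rfl⟩
    exact mul_mem (mul_mem hk (hQK hx)) (inv_mem hk)
  have hsup : Cfsg.weakClosure Q K = ⨆ k : ↥K, Q.map (MulAut.conj (k : H)).toMonoidHom := by
    refine le_antisymm (iSup_le fun g => ?_) (iSup_le fun k => H73.conj_le_weakClosure (hconj k k.2))
    obtain ⟨k, hk, e⟩ := H73.wc_exists_conj_mem hwc hQK g.2
    rw [e]
    exact le_iSup (fun k : ↥K => Q.map (MulAut.conj (k : H)).toMonoidHom) ⟨k, hk⟩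
  refine ⟨hsup, le_antisymm ?_ ?_⟩
  · have key : ∀ X : Subgroup ↥K, X.IsSubnormal → Q.subgroupOf K ≤ X →
        ∀ k : ↥K, Q.map (MulAut.conj (k : H)).toMonoidHom ≤ X.map K.subtype := by
      intro X hX
      induction hX with
      | top =>
        intro _ k
        rw [← MonoidHom.range_eq_map, Subgroup.range_subtype]
        exact hconj k k.2
      | step X Y hXY hY hN ih =>
        intro hQX k
        obtain ⟨y, ⟨y', hy', rfl⟩, e⟩ := H73.wc_exists_conj_mem hwc (K := Y.map K.subtype)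
          (fun x hx => ⟨⟨x, hQK hx⟩, hXY (hQX hx), rfl⟩) (ih (hQX.trans hXY) k)
        rw [e]
        rintro _ ⟨x, hx, rfl⟩
        have hx' : (⟨x, hQK hx⟩ : ↥K) ∈ X := hQX hx
        exact ⟨y' * ⟨x, hQK hx⟩ * y'⁻¹,
          hN.conj_mem ⟨_, hXY hx'⟩ hx' ⟨y', hy'⟩, by simp⟩
    rw [hsup]
    refine iSup_le fun k => ?_
    intro x hx
    refine ⟨⟨x, hconj k k.2 hx⟩, ?_, rfl⟩
    simp only [Cfsg.subnormalClosure, SetLike.mem_coe, Subgroup.mem_sInf]
    rintro X ⟨hQX, hX⟩
    obtain ⟨y, hy, e⟩ := key X hX hQX k hx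
    rw [show (⟨x, hconj k k.2 hx⟩ : ↥K) = y from Subtype.ext e.symm]
    exact hy
  · refine Subgroup.map_le_iff_le_comap.2 (sInf_le ⟨?_, ?_⟩)
    · exact fun x hx => H73.le_weakClosure hQK hx
    · refine Subgroup.IsSubnormal.step _ ⊤ le_top Subgroup.IsSubnormal.top ?_
      have hn : ((Cfsg.weakClosure Q K).subgroupOf K).Normal :=
        (Subgroup.normal_subgroupOf_iff_le_normalizer (H73.weakClosure_le Q K)).2
          (H73.le_normalizer_weakClosure Q K)
      exact hn.subgroupOf ⊤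

end Cfsg.Agent.S2840
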