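import Cfsg.Statements.S2841
import Cfsg.Agent.H73.WeaklyClosed

set_option autoImplicit false
open Cfsg Cfsg.Agent
open scoped Pointwise commutatorElement

namespace Cfsg.Agent.S2841

/-- Let Q be a nontrivial p-subgroup of the finite group H that is a weakly closed subgroup and N a normal subgroup of H. Then N = N_N(Q)·[N, Q] and [N, Q] = (Q ∩ [N, Q])·[N, Q, Q]. -/
theorem result {H : Type*} [Group H] [Finite H] {p : ℕ} [Fact p.Prime] (Q : Subgroup H) (hQp : IsPGroup p ↥Q) (hQ1 : Q ≠ ⊥) (hwc : Cfsg.IsWeaklyClosedSubgroup p Q) (N' : Subgroup H) [N'.Normal] : (∀ n : H, n ∈ N' → ∃ a ∈ N' ⊓ Subgroup.normalizer ((Q : Subgroup H) : Set H), ∃ b ∈ ⁅N', Q⁆, n = a * b) ∧ (∀ c : H, c ∈ ⁅N', Q⁆ → ∃ a ∈ Q ⊓ ⁅N', Q⁆, ∃ b ∈ ⁅⁅N', Q⁆, Q⁆, c = a * b) := by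
  set R := ⁅N', Q⁆ with hR
  have hRN : R ≤ N' := Subgroup.commutator_le_left N' Q
  have hNR : N' ≤ Subgroup.normalizer (R : Set H) := Subgroup.normalizer_commutator_ge_left _ _
  have hQR : Q ≤ Subgroup.normalizer (R : Set H) := Subgroup.normalizer_commutator_ge_right _ _
  have part1 : ∀ n : H, n ∈ N' →
      ∃ a ∈ N' ⊓ Subgroup.normalizer (Q : Set H), ∃ b ∈ R, n = a * b := by
    intro n hn
    have hle : Q.map (MulAut.conj n).toMonoidHom ≤ R ⊔ Q := by
      rintro _ ⟨q, hq, rfl⟩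
      have e : (MulAut.conj n).toMonoidHom q = ⁅n, q⁆ * q := by simp [commutatorElement_def]
      rw [e]
      exact mul_mem (Subgroup.mem_sup_left (Subgroup.commutator_mem_commutator hn hq))
        (Subgroup.mem_sup_right hq)
    obtain ⟨k, hk, he⟩ := H73.wc_exists_conj_mem hwc le_sup_right hle
    have hk2 : k ∈ ((R ⊔ Q : Subgroup H) : Set H) := hk
    rw [Subgroup.coe_mul_of_right_le_normalizer_left _ _ hQR] at hk2
    obtain ⟨c, hc, q, hq, rfl⟩ := hk2
    have hq' : Q.map (MulAut.conj q).toMonoidHom = Q :=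
      H50.map_conj_eq_iff.2 (Subgroup.le_normalizer hq)
    rw [← H50.map_conj_map, hq'] at he
    have ha : c⁻¹ * n ∈ Subgroup.normalizer (Q : Set H) := by
      rw [← H50.map_conj_eq_iff, ← H50.map_conj_map, he, H50.map_conj_map, inv_mul_cancel,
        H50.map_conj_eq_iff]
      exact one_mem _
    have ha' : c⁻¹ * n ∈ N' := mul_mem (inv_mem (hRN hc)) hn
    refine ⟨c⁻¹ * n, ⟨ha', ha⟩, (c⁻¹ * n)⁻¹ * c * (c⁻¹ * n), ?_, by group⟩
    simpa using (Subgroup.mem_normalizer_iff.1 (hNR (inv_mem ha')) c).1 hc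
  refine ⟨part1, ?_⟩
  set B := ⁅R, Q⁆ with hB
  have hRB : R ≤ Subgroup.normalizer (B : Set H) := Subgroup.normalizer_commutator_ge_left _ _
  have hQB : Q ≤ Subgroup.normalizer (B : Set H) := Subgroup.normalizer_commutator_ge_right _ _
  have hBR : B ≤ R := by
    rw [hB, Subgroup.commutator_comm]
    exact H73.commutator_le_of_le_normalizer hQR
  set W := B ⊔ Q with hW
  have hRW : ∀ r ∈ R, W.map (MulAut.conj r).toMonoidHom ≤ W := by
    intro r hr
    rw [hW, Subgroup.map_sup]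
    refine sup_le (((H50.map_conj_eq_iff.2 (hRB hr)).le).trans le_sup_left) ?_
    rintro _ ⟨q, hq, rfl⟩
    have e : (MulAut.conj r).toMonoidHom q = ⁅r, q⁆ * q := by simp [commutatorElement_def]
    rw [e]
    exact mul_mem (Subgroup.mem_sup_left (Subgroup.commutator_mem_commutator hr hq))
      (Subgroup.mem_sup_right hq)
  have hsub : R ≤ B ⊔ (Q ⊓ R) := by
    refine le_of_eq_of_le hR ?_
    rw [Subgroup.commutator_le]
    intro n hn q hq
    obtain ⟨a, ⟨haN, haQ⟩, b, hb, rfl⟩ := part1 n hn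
    have h1 : (a * b) * q * (a * b)⁻¹ ∈ W := by
      have hbq : b * q * b⁻¹ ∈ W := hRW b hb ⟨q, Subgroup.mem_sup_right hq, rfl⟩
      have haW : W.map (MulAut.conj a).toMonoidHom = W := by
        rw [hW, Subgroup.map_sup, H50.map_conj_eq_iff.2 haQ, hB, Subgroup.map_commutator,
          H50.map_conj_eq_iff.2 haQ, H50.map_conj_eq_iff.2 (hNR haN)]
      have := haW.le ⟨_, hbq, rfl⟩
      simpa [mul_assoc] using this
    have h2 : ⁅a * b, q⁆ ∈ ((B ⊔ Q : Subgroup H) : Set H) := by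
      rw [commutatorElement_def]
      exact mul_mem h1 (inv_mem (Subgroup.mem_sup_right hq))
    rw [Subgroup.coe_mul_of_right_le_normalizer_left _ _ hQB] at h2
    obtain ⟨u, hu, v, hv, huv⟩ := h2
    have hvR : v ∈ R := by
      have h3 : u * v ∈ R := by
        change u * v = _ at huv
        rw [huv, hR]
        exact Subgroup.commutator_mem_commutator hn hq
      simpa using mul_mem (inv_mem (hBR hu)) h3
    change u * v = _ at huv
    rw [← huv]
    exact Subgroup.mul_mem_sup hu ⟨hv, hvR⟩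
  intro c hc
  have h1 : c ∈ (((Q ⊓ R) ⊔ B : Subgroup H) : Set H) := by
    rw [sup_comm]
    exact hsub hc
  rw [Subgroup.coe_mul_of_left_le_normalizer_right _ _ (inf_le_left.trans hQB)] at h1
  obtain ⟨a, ha, b, hb, e⟩ := h1
  exact ⟨a, ha, b, hb, e.symm⟩

end Cfsg.Agent.S2841
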