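import Cfsg.Statements.S2843
import Cfsg.Agent.H73.WeaklyClosed

set_option autoImplicit false
open Cfsg Cfsg.Agent
open scoped Pointwise commutatorElement

namespace Cfsg.Agent.S2843

/-- Let Q be a nontrivial large p-subgroup of the finite group H, Q ≤ L ≤ H, and Y a nontrivial p-subgroup of H normalized by L. Let L° be the weak closure of Q in L (generated by the conjugates of Q inside L). Then L° equals the weak closure of Q in L·C_H(Y), and [L°, C_H(Y)] ≤ O_p(L°); in particular C_H(Y) normalizes L°. -/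
theorem result {H : Type*} [Group H] [Finite H] {p : ℕ} [Fact p.Prime] (Q : Subgroup H) (hQp : IsPGroup p ↥Q) (hQ1 : Q ≠ ⊥) (hL : Cfsg.IsLarge Q) (L : Subgroup H) (hQL : Q ≤ L) (Y : Subgroup H) (hYp : IsPGroup p ↥Y) (hY1 : Y ≠ ⊥) (hLY : L ≤ Subgroup.normalizer ((Y : Subgroup H) : Set H)) : Cfsg.weakClosure Q L = Cfsg.weakClosure Q (L ⊔ Subgroup.centralizer ((Y : Subgroup H) : Set H)) ∧ ⁅Cfsg.weakClosure Q L, Subgroup.centralizer ((Y : Subgroup H) : Set H)⁆ ≤ (Cfsg.pCoreOf p (Cfsg.weakClosure Q L)) ∧ Subgroup.centralizer ((Y : Subgroup H) : Set H) ≤ Subgroup.normalizer (((Cfsg.weakClosure Q L) : Subgroup H) : Set H) := by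
  set C := Subgroup.centralizer ((Y : Subgroup H) : Set H) with hC
  have hwc := H73.large_isWeaklyClosedSubgroup hQp hQ1 hL
  have hLC : L ≤ Subgroup.normalizer (C : Set H) :=
    hLY.trans H74.normalizer_le_normalizer_centralizer
  have hCN : ∀ g : H, Q.map (MulAut.conj g).toMonoidHom ≤ L →
      C ≤ Subgroup.normalizer ((Q.map (MulAut.conj g).toMonoidHom : Subgroup H) : Set H) :=
    fun g hg => H73.large_centralizer_pgroup_le_normalizer (hQp.map _) (H73.large_conj hL g) hYp hY1
      (hg.trans hLY)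
  have hCW : C ≤ Subgroup.normalizer ((Cfsg.weakClosure Q L : Subgroup H) : Set H) := by
    refine H73.le_normalizer_weakClosure_of_conj fun c hc g hg => ?_
    rw [← H50.map_conj_map, H50.map_conj_eq_iff.2 (hCN g hg hc)]
    exact hg
  refine ⟨le_antisymm ?_ ?_, ?_, hCW⟩
  · exact iSup_le fun g => H73.conj_le_weakClosure (g.2.trans le_sup_left)
  · refine iSup_le fun g => ?_
    obtain ⟨k, hk, he⟩ := H73.wc_exists_conj_mem hwc (hQL.trans le_sup_left) g.2
    have hk2 : k ∈ ((L ⊔ C : Subgroup H) : Set H) := hk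
    rw [Subgroup.coe_mul_of_left_le_normalizer_right _ _ hLC] at hk2
    obtain ⟨l, hl, c, hc, rfl⟩ := hk2
    have hc' : Q.map (MulAut.conj c).toMonoidHom = Q := by
      have h1 := hCN 1 (by rwa [H50.map_conj_eq_iff.2 (one_mem _)]) hc
      rw [H50.map_conj_eq_iff.2 (one_mem _)] at h1
      exact H50.map_conj_eq_iff.2 h1
    rw [he, ← H50.map_conj_map, hc']
    refine H73.conj_le_weakClosure ?_
    rintro _ ⟨x, hx, rfl⟩
    exact mul_mem (mul_mem hl (hQL hx)) (inv_mem hl)
  · set W := Cfsg.weakClosure Q L with hW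
    set O := Cfsg.pCoreOf p W with hO
    let K : Subgroup H :=
      { carrier := {a | a ∈ W ∧ ∀ c ∈ C, ⁅a, c⁆ ∈ O}
        one_mem' := ⟨one_mem _, fun c _ => by simp [commutatorElement_def]⟩
        mul_mem' := by
          rintro a b ⟨ha, ha'⟩ ⟨hb, hb'⟩
          refine ⟨mul_mem ha hb, fun c hc => ?_⟩
          have e : ⁅a * b, c⁆ = a * ⁅b, c⁆ * a⁻¹ * ⁅a, c⁆ := by
            simp only [commutatorElement_def]; group
          rw [e]
          exact mul_mem ((Subgroup.mem_normalizer_iff.1 (H74.le_normalizer_pCoreOf W ha) _).1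
            (hb' c hc)) (ha' c hc)
        inv_mem' := by
          rintro a ⟨ha, ha'⟩
          refine ⟨inv_mem ha, fun c hc => ?_⟩
          have e : ⁅a⁻¹, c⁆ = a⁻¹ * ⁅a, c⁆⁻¹ * a⁻¹⁻¹ := by
            simp only [commutatorElement_def]; group
          rw [e]
          exact (Subgroup.mem_normalizer_iff.1 (H74.le_normalizer_pCoreOf W (inv_mem ha)) _).1
            (inv_mem (ha' c hc)) }
    have hWK : W ≤ K := by
      rw [hW]
      refine iSup_le fun g => ?_
      set Q' := Q.map (MulAut.conj (g : H)).toMonoidHom with hQ'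
      have hQ'W : Q' ≤ W := H73.conj_le_weakClosure g.2
      have hWL : W ≤ L := H73.weakClosure_le Q L
      have hQ'C : ∀ q ∈ Q', ∀ c ∈ C, ⁅q, c⁆ ∈ Q' ⊓ C := by
        intro q hq c hc
        constructor
        · have := H73.commutator_le_of_le_normalizer (hCN g g.2)
          rw [Subgroup.commutator_comm] at this
          exact this (Subgroup.commutator_mem_commutator hq hc)
        · exact H73.commutator_le_of_le_normalizer ((g.2 : Q' ≤ L).trans hLC)
            (Subgroup.commutator_mem_commutator hq hc)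
      have h1 : Q' ⊓ C ≤ Cfsg.pCoreOf p (W ⊓ C) := H74.le_pCoreOf (inf_le_inf_right C hQ'W)
        (H73.normalizer_inf_le (inf_le_right.trans (hCN g g.2))
          (inf_le_right.trans Subgroup.le_normalizer)) ((hQp.map _).to_le inf_le_left)
      have h2 : Cfsg.pCoreOf p (W ⊓ C) ≤ O := H74.le_pCoreOf
        ((H74.pCoreOf_le _).trans inf_le_left)
        ((H73.normalizer_inf_le Subgroup.le_normalizer (hWL.trans hLC)).trans
          (H73.normalizer_le_normalizer_pCoreOf _)) (H74.pCoreOf_isPGroup _)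
      exact fun q hq => ⟨hQ'W hq, fun c hc => h2 (h1 (hQ'C q hq c hc))⟩
    exact Subgroup.commutator_le.2 fun w hw c hc => (hWK hw).2 c hc

end Cfsg.Agent.S2843
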