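import Cfsg.Statements.S2844
import Cfsg.Agent.H73.WeaklyClosed

set_option autoImplicit false
open Cfsg Cfsg.Agent
open scoped Pointwise commutatorElement

namespace Cfsg.Agent.S2844

/-- Let Q be a nontrivial large p-subgroup of the finite group H and Q• = O_p(N_H(Q)). Then for every g ∈ H outside N_H(Q): C_H(Q) ∩ C_H(gQg⁻¹) = 1, C_H(Q•) ∩ C_H(gQ•g⁻¹) = 1, Z(Q) ∩ Z(gQg⁻¹) = 1 and Z(Q•) ∩ Z(gQ•g⁻¹) = 1; moreover N_H(Q) = N_H(Q•) and Q• is large in H. -/
theorem result {H : Type*} [Group H] [Finite H] {p : ℕ} [Fact p.Prime] (Q : Subgroup H) (hQp : IsPGroup p ↥Q) (hQ1 : Q ≠ ⊥) (hL : Cfsg.IsLarge Q) (Qb : Subgroup H) (hQb : Qb = Cfsg.largeBullet p Q) : (∀ g : H, g ∉ Subgroup.normalizer ((Q : Subgroup H) : Set H) → Subgroup.centralizer ((Q : Subgroup H) : Set H) ⊓ Subgroup.centralizer ((((Q : Subgroup H).map (MulAut.conj (g : H)).toMonoidHom) : Subgroup H) : Set H) = ⊥ ∧ Subgroup.centralizer ((Qb : Subgroup H) : Set H) ⊓ Subgroup.centralizer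 ((((Qb : Subgroup H).map (MulAut.conj (g : H)).toMonoidHom) : Subgroup H) : Set H) = ⊥ ∧ (Q ⊓ Subgroup.centralizer ((Q : Subgroup H) : Set H)) ⊓ (((Q : Subgroup H).map (MulAut.conj (g : H)).toMonoidHom) ⊓ Subgroup.centralizer ((((Q : Subgroup H).map (MulAut.conj (g : H)).toMonoidHom) : Subgroup H) : Set H)) = ⊥ ∧ (Qb ⊓ Subgroup.centralizer ((Qb : Subgroup H) : Set H)) ⊓ (((Qb : Subgroup H).map (MulAut.conj (g : H)).toMonoidHom) ⊓ Subgroup.centralizer ((((Qb : Subgroup H).map (MulAut.conj (g : H)).toMonoidHom) : Subgroup H) : Set H)) = ⊥) ∧ Subgroup.normalizer ((Q : Subgroup H) : Set H) = Subgroup.normalizer ((Qb : Subgroup H) : Set H) ∧ Cfsg.IsLarge Qb := by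
  have hwc := H73.large_isWeaklyClosedSubgroup hQp hQ1 hL
  subst hQb
  set Qb := Cfsg.largeBullet p Q with hQb
  have hQQb : Q ≤ Qb :=
    H74.le_pCoreOf Subgroup.le_normalizer le_rfl hQp
  have hQbp : IsPGroup p Qb := H74.pCoreOf_isPGroup _
  have hNN : Subgroup.normalizer ((Q : Subgroup H) : Set H) =
      Subgroup.normalizer ((Qb : Subgroup H) : Set H) :=
    le_antisymm (H74.le_normalizer_pCoreOf _) (H73.wc_normalizer_le hwc hQbp hQQb)
  have hcQ : Subgroup.centralizer ((Qb : Subgroup H) : Set H) ≤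
      Subgroup.centralizer ((Q : Subgroup H) : Set H) := Subgroup.centralizer_le hQQb
  refine ⟨fun g hg => ?_, hNN, (hcQ.trans hL.1).trans hQQb,
    fun U hU hU1 => (hL.2 U (hU.trans hcQ) hU1).trans hNN.le⟩
  have h1 : Subgroup.centralizer ((Q : Subgroup H) : Set H) ⊓
      Subgroup.centralizer ((Q.map (MulAut.conj g).toMonoidHom : Subgroup H) : Set H) = ⊥ := by
    by_contra hne
    set U := Subgroup.centralizer ((Q : Subgroup H) : Set H) ⊓
      Subgroup.centralizer ((Q.map (MulAut.conj g).toMonoidHom : Subgroup H) : Set H)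
    have hle : Q.map (MulAut.conj g).toMonoidHom ≤ Subgroup.normalizer (U : Set H) :=
      (Subgroup.le_centralizer_iff.1 (inf_le_right : U ≤ _)).trans
        (Subgroup.centralizer_le_normalizer _)
    exact hg (H50.map_conj_eq_iff.1
      (H73.wc_eq_of_le_normalizer hwc (hle.trans (hL.2 U inf_le_left hne))))
  have h2 : Subgroup.centralizer ((Qb : Subgroup H) : Set H) ⊓
      Subgroup.centralizer ((Qb.map (MulAut.conj g).toMonoidHom : Subgroup H) : Set H) = ⊥ :=
    le_bot_iff.1 ((inf_le_inf hcQ (Subgroup.centralizer_le (Subgroup.map_mono hQQb))).trans h1.le)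
  exact ⟨h1, h2, le_bot_iff.1 ((inf_le_inf inf_le_right inf_le_right).trans h1.le),
    le_bot_iff.1 ((inf_le_inf inf_le_right inf_le_right).trans h2.le)⟩

end Cfsg.Agent.S2844
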