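import Cfsg.Statements.S2845
import Cfsg.Agent.H73.WeaklyClosed

set_option autoImplicit false
open Cfsg Cfsg.Agent
open scoped Pointwise commutatorElement

namespace Cfsg.Agent.S2845

/-- Let Q be a nontrivial large p-subgroup of the finite group H. Then for every subgroup L ≥ Q with O_p(L) ≠ 1, C_H(O_p(L)) is a p-group and L has characteristic p, and either the weak closure L° of Q in L equals Q or C_H(L°) = 1; for every subgroup R of H containing a Sylow p-subgroup of H with O_p(R) ≠ 1, C_H(O_p(R)) ≤ O_p(R); and H has parabolic characteristic p. -/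
theorem result {H : Type*} [Group H] [Finite H] {p : ℕ} [Fact p.Prime] (Q : Subgroup H) (hQp : IsPGroup p ↥Q) (hQ1 : Q ≠ ⊥) (hL : Cfsg.IsLarge Q) : (∀ L : Subgroup H, Q ≤ L → Cfsg.pCore p ↥L ≠ ⊥ → IsPGroup p ↥(Subgroup.centralizer (((Cfsg.pCoreOf p L) : Subgroup H) : Set H)) ∧ Subgroup.centralizer (Cfsg.pCore p ↥L : Set ↥L) ≤ Cfsg.pCore p ↥L ∧ (Cfsg.weakClosure Q L = Q ∨ Subgroup.centralizer (((Cfsg.weakClosure Q L) : Subgroup H) : Set H) = ⊥)) ∧ (∀ R : Subgroup H, Cfsg.IsParabolic p R → Cfsg.pCore p ↥R ≠ ⊥ → Subgroup.centralizer (((Cfsg.pCoreOf p R) : Subgroup H) : Set H) ≤ (Cfsg.pCoreOf p R)) ∧ Cfsg.IsOfParabolicCharacteristic p H := by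
  have hwc := H73.large_isWeaklyClosedSubgroup hQp hQ1 hL
  have hne : ∀ L : Subgroup H, Cfsg.pCore p ↥L ≠ ⊥ → Cfsg.pCoreOf p L ≠ ⊥ := fun L h he =>
    h ((Subgroup.map_eq_bot_iff_of_injective _ L.subtype_injective).1 he)
  have hlarge : ∀ (Q' : Subgroup H), IsPGroup p Q' → Cfsg.IsLarge Q' → ∀ L : Subgroup H, Q' ≤ L →
      Cfsg.pCore p ↥L ≠ ⊥ → IsPGroup p ↥(Subgroup.centralizer ((Cfsg.pCoreOf p L : Subgroup H) : Set H)) ∧
        L ⊓ Subgroup.centralizer ((Cfsg.pCoreOf p L : Subgroup H) : Set H) ≤ Cfsg.pCoreOf p L := by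
    intro Q' hQ'p hL' L hQL hO
    exact (H73.centralizer_pCoreOf_of_le_normalizer hQ'p hL'.1 hQL
      (H73.large_centralizer_pgroup_le_normalizer hQ'p hL' (H74.pCoreOf_isPGroup L) (hne L hO)
        (hQL.trans (H74.le_normalizer_pCoreOf L)))).2
  have hpar : ∀ R : Subgroup H, Cfsg.IsParabolic p R → Cfsg.pCore p ↥R ≠ ⊥ →
      Subgroup.centralizer ((Cfsg.pCoreOf p R : Subgroup H) : Set H) ≤ Cfsg.pCoreOf p R := by
    rintro R ⟨T, hT⟩ hO
    obtain ⟨S, hS⟩ := hQp.exists_le_sylow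
    obtain ⟨g, hg⟩ := MulAction.exists_smul_eq H S T
    have hQg : Q.map (MulAut.conj g).toMonoidHom ≤ R := by
      refine le_trans ?_ hT
      rw [← hg, Sylow.coe_subgroup_smul]
      exact Subgroup.map_mono hS
    obtain ⟨hp, hc⟩ := hlarge _ (hQp.map _) (H73.large_conj hL g) R hQg hO
    set C := Subgroup.centralizer ((Cfsg.pCoreOf p R : Subgroup H) : Set H) with hC
    have hTC : (T : Subgroup H) ≤ Subgroup.normalizer (C : Set H) := hT.trans
      ((H74.le_normalizer_pCoreOf R).trans H74.normalizer_le_normalizer_centralizer)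
    have hCT : C ≤ (T : Subgroup H) := sup_eq_right.1
      (T.is_maximal' (IsPGroup.to_sup_of_normal_left' hp T.2 hTC) le_sup_right)
    exact (le_inf (hCT.trans hT) le_rfl).trans hc
  refine ⟨fun L hQL hO => ?_, hpar, ?_⟩
  · obtain ⟨hp, hc⟩ := hlarge Q hQp hL L hQL hO
    refine ⟨hp, (H74.charP_subgroup_iff L).2 hc, ?_⟩
    refine or_iff_not_imp_left.2 fun hne' => ?_
    obtain ⟨g, hg⟩ : ∃ g : H, Q.map (MulAut.conj g).toMonoidHom ≤ L ∧
        Q.map (MulAut.conj g).toMonoidHom ≠ Q := by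
      by_contra! hall
      exact hne' (le_antisymm (iSup_le fun g => (hall g g.2).le) (H73.le_weakClosure hQL))
    set U := Subgroup.centralizer ((Cfsg.weakClosure Q L : Subgroup H) : Set H) with hU
    by_contra hU1
    have hUQ : U ≤ Subgroup.centralizer (Q : Set H) :=
      Subgroup.centralizer_le (H73.le_weakClosure hQL)
    have hle : Q.map (MulAut.conj g).toMonoidHom ≤ Subgroup.normalizer (U : Set H) :=
      (H73.conj_le_weakClosure hg.1).trans
        (Subgroup.le_normalizer.trans H74.normalizer_le_normalizer_centralizer)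
    exact hg.2 (H73.wc_eq_of_le_normalizer hwc (hle.trans (hL.2 U hUQ hU1)))
  · intro R hR hR1 hP
    have hO : Cfsg.pCore p ↥(Subgroup.normalizer (R : Set H)) ≠ ⊥ := by
      intro h
      apply hR1
      have h1 := H74.le_pCoreOf (L := Subgroup.normalizer (R : Set H)) Subgroup.le_normalizer
        le_rfl hR
      rw [Cfsg.pCoreOf, h, Subgroup.map_bot] at h1
      exact le_bot_iff.1 h1
    exact (H74.charP_subgroup_iff _).2 (inf_le_right.trans (hpar _ hP hO))

end Cfsg.Agent.S2845
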