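import Cfsg.Statements.S2846
import Cfsg.Agent.H73.BasicProperty
import Cfsg.Agent.S2845
import Cfsg.Agent.S2843

set_option autoImplicit false
open Cfsg Cfsg.Agent
open scoped Pointwise commutatorElement

namespace Cfsg.Agent.S2846

/-- Let Q be a nontrivial large p-subgroup of the finite group H, S a Sylow p-subgroup containing Q, and L a subgroup containing S with O_p(L) ≠ 1 and C_H(O_p(L)) ≤ O_p(L). Then there are a subgroup M containing S having the basic property (M ∈ 𝔐_H, writing Y_X for the largest p-reduced normal subgroup of X and 𝓛_H for the set of subgroups X with O_p(X) ≠ 1 and C_H(O_p(X)) ≤ O_p(X): M ∈ 𝓛_H, M·C_H(Y_M) is the only maximal member of 𝓛_H containing M and its largest p-reduced normal subgroup is again Y_M, C_M(Y_M) is p-closed, and the image of C_M(Y_M) in M/O_p(M) lies in the Frattini subgroup of M/O_p(M)) and a subgroup L* with S ≤ L* ≤ M, O_p(L*) ≠ 1, C_H(O_p(L*)) ≤ O_p(L*), such that L·C_H(Y_L) = L*·C_H(Y_L),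 the weak closures of Q in L and in L* agree and lie in that of M, and Y_L = Y_{L*} ≤ Y_M. If moreover Q is not normal in L, then Q is normal in neither L* nor M. -/
theorem result {H : Type*} [Group H] [Finite H] {p : ℕ} [Fact p.Prime] (Q : Subgroup H) (hQp : IsPGroup p ↥Q) (hQ1 : Q ≠ ⊥) (hLg : Cfsg.IsLarge Q) (S : Sylow p H) (hQS : Q ≤ (S : Subgroup H)) (L : Subgroup H) (hSL : (S : Subgroup H) ≤ L) (hL : L ∈ Cfsg.charPSubgroups p H) : ∃ M Ls : Subgroup H, (S : Subgroup H) ≤ M ∧ Cfsg.IsInFrakM p M ∧ (S : Subgroup H) ≤ Ls ∧ Ls ≤ M ∧ Ls ∈ Cfsg.charPSubgroups p H ∧ L ⊔ Subgroup.centralizer (((Cfsg.largestPReducedOf p L) : Subgroup H) : Set H) = Ls ⊔ Subgroup.centralizer (((Cfsg.largestPReducedOf p L) : Subgroup H) : Set H) ∧ Cfsg.weakClosure Q L = Cfsg.weakClosure Q Ls ∧ Cfsg.weakClosure Q Ls ≤ Cfsg.weakClosure Q M ∧ (Cfsg.largestPReducedOf p L) = (Cfsg.largestPReducedOf p Ls) ∧ (Cfsg.largestPReducedOf p Ls) ≤ (Cfsg.largestPReducedOf p M)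 ∧ (¬ L ≤ Subgroup.normalizer ((Q : Subgroup H) : Set H) → ¬ Ls ≤ Subgroup.normalizer ((Q : Subgroup H) : Set H) ∧ ¬ M ≤ Subgroup.normalizer ((Q : Subgroup H) : Set H)) := by
  obtain ⟨-, -, hpar⟩ := S2845.result Q hQp hQ1 hLg
  obtain ⟨M, Ls, hSM, hM, hSLs, hLsM, hLs, hYeq, hYM, hsup⟩ := H73.exists_frakM hpar S hSL hL
  set Y := Cfsg.largestPReducedOf p L
  have hY := H73.yl_reduced (H73.charP_of_mem_charPSubgroups hL)
  have hY1 : Y ≠ ⊥ := H73.yl_ne_bot hL hSL
  have hLsY : Ls ≤ Subgroup.normalizer ((Y : Subgroup H) : Set H) := by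
    rw [hYeq]
    exact (H73.yl_reduced (H73.charP_of_mem_charPSubgroups hLs)).2.1
  have hYp := H73.isPGroup_of_elementary hY.2.2.1
  have h1 := (S2843.result Q hQp hQ1 hLg L (hQS.trans hSL) Y hYp hY1 hY.2.1).1
  have h2 := (S2843.result Q hQp hQ1 hLg Ls (hQS.trans hSLs) Y hYp hY1 hLsY).1
  have hWC : Cfsg.weakClosure Q L = Cfsg.weakClosure Q Ls := by rw [h1, h2, hsup]
  refine ⟨M, Ls, hSM, hM, hSLs, hLsM, hLs, hsup, hWC, ?_, hYeq, hYeq ▸ hYM, fun hn => ?_⟩
  · exact iSup_le fun g => H73.conj_le_weakClosure (g.2.trans hLsM)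
  · have hLsn : ¬ Ls ≤ Subgroup.normalizer ((Q : Subgroup H) : Set H) := by
      intro h
      apply hn
      have hwc := H73.large_isWeaklyClosedSubgroup hQp hQ1 hLg
      have hW : Cfsg.weakClosure Q Ls = Q := by
        refine le_antisymm (iSup_le fun g => ?_) (H73.le_weakClosure (hQS.trans hSLs))
        exact (H73.wc_eq_of_le_normalizer hwc (g.2.trans h)).le
      rw [← hW, ← hWC]
      exact H73.le_normalizer_weakClosure Q L
    exact ⟨hLsn, fun h => hLsn (hLsM.trans h)⟩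

end Cfsg.Agent.S2846
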