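import Cfsg.Statements.S2848
import Cfsg.Agent.H73.BasicProperty

set_option autoImplicit false
open Cfsg Cfsg.Agent
open scoped Pointwise commutatorElement

namespace Cfsg.Agent.S2848

/-- Standing hypotheses: G a finite group, S a Sylow p-subgroup, Q a nontrivial large p-subgroup of G contained in S (C_G(Q) ≤ Q and N_G(U) ≤ N_G(Q) for all nontrivial U ≤ C_G(Q)), and M a subgroup containing S with the basic property (M ∈ 𝔐_G(S)); Y_M denotes the largest p-reduced normal subgroup of M and M† = M·C_G(Y_M). Then O_p(M) is a weakly closed subgroup of M† (for p): it is the only M†-conjugate of itself inside some Sylow p-subgroup of M† containing it. -/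
theorem result {G : Type*} [Group G] [Finite G] {p : ℕ} [Fact p.Prime] (S : Sylow p G) (Q : Subgroup G) (hQp : IsPGroup p ↥Q) (hQ1 : Q ≠ ⊥) (hQS : Q ≤ (S : Subgroup G)) (hQ : Cfsg.IsLarge Q) (M : Subgroup G) (hSM : (S : Subgroup G) ≤ M) (hM : Cfsg.IsInFrakM p M) : Cfsg.IsWeaklyClosedSubgroup p (((Cfsg.pCoreOf p M)).subgroupOf (M ⊔ Subgroup.centralizer (((Cfsg.largestPReducedOf p M) : Subgroup G) : Set G))) := by
  obtain ⟨hY, hTC, hsupN, hMC⟩ := H73.frakM_facts hM hSM
  set C := Subgroup.centralizer ((Cfsg.largestPReducedOf p M : Subgroup G) : Set G)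
  set D := M ⊔ C
  set P := Cfsg.pCoreOf p M
  have hPD : P ≤ D := (H74.pCoreOf_le M).trans le_sup_left
  have hSD : (S : Subgroup G) ≤ D := hSM.trans le_sup_left
  refine ⟨S.subtype hSD, fun x hx => H73.pCoreOf_le_sylow hSM hx, fun g hg => ?_⟩
  have hDC : D ≤ Subgroup.normalizer (C : Set G) := sup_le hMC Subgroup.le_normalizer
  have hPC : P ≤ C := H73.reducedIn_pCoreOf_le_centralizer hY
  refine Subgroup.eq_of_le_of_card_ge ?_
    (Subgroup.card_map_of_injective (MulAut.conj g).injective).ge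
  rintro _ ⟨x, hx, rfl⟩
  show ((g * x * g⁻¹ : ↥D) : G) ∈ P
  rw [show P = (S : Subgroup G) ⊓ C from hTC.symm]
  refine ⟨hg ⟨x, hx, rfl⟩, ?_⟩
  simpa using (Subgroup.mem_normalizer_iff.1 (hDC g.2) (x : G)).1 (hPC hx)

end Cfsg.Agent.S2848
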