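import Cfsg.Statements.S2849
import Cfsg.Agent.H73.BasicProperty

set_option autoImplicit false
open Cfsg Cfsg.Agent
open scoped Pointwise commutatorElement

namespace Cfsg.Agent.S2849

/-- Standing hypotheses: G a finite group, S a Sylow p-subgroup, Q a nontrivial large p-subgroup of G contained in S (C_G(Q) ≤ Q and N_G(U) ≤ N_G(Q) for all nontrivial U ≤ C_G(Q)), and M a subgroup containing S with the basic property (M ∈ 𝔐_G(S)); Y_M denotes the largest p-reduced normal subgroup of M and M† = M·C_G(Y_M). Suppose Y_M is asymmetric in G. Then for every subgroup R with Y_M ≤ R ≤ M†, the normal closure of Y_M in N_G(R) is elementary abelian. -/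
theorem result {G : Type*} [Group G] [Finite G] {p : ℕ} [Fact p.Prime] (S : Sylow p G) (Q : Subgroup G) (hQp : IsPGroup p ↥Q) (hQ1 : Q ≠ ⊥) (hQS : Q ≤ (S : Subgroup G)) (hQ : Cfsg.IsLarge Q) (M : Subgroup G) (hSM : (S : Subgroup G) ≤ M) (hM : Cfsg.IsInFrakM p M) (hasym : ¬ Cfsg.IsSymmetricIn (Cfsg.largestPReducedOf p M)) (R : Subgroup G) (hYR : (Cfsg.largestPReducedOf p M) ≤ R) (hRM : R ≤ (M ⊔ Subgroup.centralizer (((Cfsg.largestPReducedOf p M) : Subgroup G) : Set G))) : Cfsg.IsElementaryAbelian p ((Subgroup.normalClosure ((((Cfsg.largestPReducedOf p M)).subgroupOf (Subgroup.normalizer ((R : Subgroup G) : Set G)) : Subgroup ↥(Subgroup.normalizer ((R : Subgroup G) : Set G))) : Set ↥(Subgroup.normalizer ((R : Subgroup G) : Set G)))).map (Subgroup.normalizer ((R : Subgroup G) : Set G)).subtype) := by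
  obtain ⟨hY, hTC, hsupN, hMC⟩ := H73.frakM_facts hM hSM
  set Y := Cfsg.largestPReducedOf p M
  set N := Subgroup.normalizer (R : Set G) with hN
  have hgen : ∀ a ∈ N, ∀ b ∈ N, Y.map (MulAut.conj a).toMonoidHom ≤
      Subgroup.normalizer ((Y.map (MulAut.conj b).toMonoidHom : Subgroup G) : Set G) := by
    intro a ha b hb
    refine (Subgroup.map_mono hYR).trans ?_
    rw [H50.map_conj_eq_iff.2 ha, ← H50.map_conj_eq_iff.2 hb]
    exact H73.map_conj_le_normalizer_map_conj (hRM.trans hsupN) b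
  set W := ⨆ x : ↥N, Y.map (MulAut.conj (x : G)).toMonoidHom with hW
  have hWc : W ≤ Subgroup.centralizer (W : Set G) := by
    refine iSup_le fun a => ?_
    rw [Subgroup.le_centralizer_iff]
    refine iSup_le fun b => ?_
    rw [Subgroup.le_centralizer_iff]
    exact H73.asymmetric_commute hasym (hgen a a.2 b b.2) (hgen b b.2 a a.2)
  have hWe : Cfsg.IsElementaryAbelian p W := by
    refine ⟨⟨⟨fun x y => Subtype.ext (Subgroup.mem_centralizer_iff.1 (hWc y.2) x x.2)⟩⟩, ?_⟩
    intro x hx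
    suffices h : x ^ p = 1 ∧ x ∈ W from h.1
    refine Subgroup.iSup_induction _ (C := fun y => y ^ p = 1 ∧ y ∈ W) hx ?_ ⟨one_pow p, one_mem _⟩ ?_
    · rintro a _ ⟨y, hy, rfl⟩
      refine ⟨?_, le_iSup (fun x : ↥N => Y.map (MulAut.conj (x : G)).toMonoidHom) a ⟨y, hy, rfl⟩⟩
      rw [← map_pow, hY.2.2.1.2 y hy, map_one]
    · rintro a b ⟨ha, ha'⟩ ⟨hb, hb'⟩
      refine ⟨?_, mul_mem ha' hb'⟩
      have hab : Commute a b := Subgroup.mem_centralizer_iff.1 (hWc hb') a ha'
      rw [hab.mul_pow, ha, hb, one_mul]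
  refine H72.isElementaryAbelian_mono hWe ?_
  rw [Subgroup.map_le_iff_le_comap]
  haveI : (W.comap N.subtype).Normal := by
    refine ⟨fun n hn g => ?_⟩
    have hle : W.map (MulAut.conj (g : G)).toMonoidHom ≤ W := by
      rw [hW, Subgroup.map_iSup]
      refine iSup_le fun x => ?_
      rw [H50.map_conj_map]
      exact le_iSup (fun x : ↥N => Y.map (MulAut.conj (x : G)).toMonoidHom) (g * x)
    exact hle ⟨_, hn, rfl⟩
  refine Subgroup.normalClosure_le_normal ?_
  intro y hy
  refine le_iSup (fun x : ↥N => Y.map (MulAut.conj (x : G)).toMonoidHom) 1 ⟨y, hy, ?_⟩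
  simp

end Cfsg.Agent.S2849
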