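import Cfsg.Statements.S2850
import Cfsg.Agent.H73.BasicProperty
import Cfsg.Agent.S2845

set_option autoImplicit false
open Cfsg Cfsg.Agent
open scoped Pointwise commutatorElement

namespace Cfsg.Agent.S2850

/-- Standing hypotheses: G a finite group, S a Sylow p-subgroup, Q a nontrivial large p-subgroup of G contained in S (C_G(Q) ≤ Q and N_G(U) ≤ N_G(Q) for all nontrivial U ≤ C_G(Q)), and M a subgroup containing S with the basic property (M ∈ 𝔐_G(S)); Y_M denotes the largest p-reduced normal subgroup of M and M† = M·C_G(Y_M). Suppose Y_M is asymmetric in G. Then N_G(L) ≤ N_G(O_p(M)) ≤ M† for every p-subgroup L containing O_p(M); O_p(M) is a weakly closed subgroup of G; for every subgroup L containing O_p(M), L ∩ M† contains a Sylow p-subgroup of L; and two elements of Y_M conjugate in G are conjugate in M. -/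
theorem result {G : Type*} [Group G] [Finite G] {p : ℕ} [Fact p.Prime] (S : Sylow p G) (Q : Subgroup G) (hQp : IsPGroup p ↥Q) (hQ1 : Q ≠ ⊥) (hQS : Q ≤ (S : Subgroup G)) (hQ : Cfsg.IsLarge Q) (M : Subgroup G) (hSM : (S : Subgroup G) ≤ M) (hM : Cfsg.IsInFrakM p M) (hasym : ¬ Cfsg.IsSymmetricIn (Cfsg.largestPReducedOf p M)) : (∀ L : Subgroup G, IsPGroup p ↥L → (Cfsg.pCoreOf p M) ≤ L → Subgroup.normalizer ((L : Subgroup G) : Set G) ≤ Subgroup.normalizer (((Cfsg.pCoreOf p M) : Subgroup G) : Set G) ∧ Subgroup.normalizer (((Cfsg.pCoreOf p M) : Subgroup G) : Set G) ≤ (M ⊔ Subgroup.centralizer (((Cfsg.largestPReducedOf p M) : Subgroup G) : Set G))) ∧ Cfsg.IsWeaklyClosedSubgroup p (Cfsg.pCoreOf p M) ∧ (∀ L : Subgroup G, (Cfsg.pCoreOf p M) ≤ L → Cfsg.IsParabolic p ((L ⊓ (M ⊔ Subgroup.centralizer (((Cfsg.largestPReducedOf p M) : Subgroup G) : Set G))).subgroupOf L)) ∧ (∀ x ∈ (Cfsg.largestPReducedOf p M), ∀ g : G, g * x * g⁻¹ ∈ (Cfsg.largestPReducedOf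 p M) → ∃ m ∈ M, m * x * m⁻¹ = g * x * g⁻¹) := by
  obtain ⟨-, -, hpar⟩ := S2845.result Q hQp hQ1 hQ
  obtain ⟨hY, hTC, hsupN, hMC⟩ := H73.frakM_facts hM hSM
  set Y := Cfsg.largestPReducedOf p M
  set D := M ⊔ Subgroup.centralizer (Y : Set G)
  set P := Cfsg.pCoreOf p M
  have hPp : IsPGroup p P := H74.pCoreOf_isPGroup M
  have hNP : Subgroup.normalizer (P : Set G) ≤ D :=
    H73.asymmetric_normalizer_le hpar hM hSM hasym hPp le_rfl ((H74.pCoreOf_le M).trans le_sup_left)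
  have hN := fun (L : Subgroup G) (hL : IsPGroup p L) (hPL : P ≤ L) =>
    H73.asymmetric_normalizer_le_pCore hpar hM hSM hasym hL hPL
  have hwc : Cfsg.IsWeaklyClosedSubgroup p P :=
    H73.wc_of_forall_normalizer hPp fun R hR hPR => (hN R hR hPR).2
  refine ⟨fun L hL hPL => ⟨(hN L hL hPL).2, hNP⟩, hwc, fun L hPL => ?_, fun x hx g hgx => ?_⟩
  · obtain ⟨T, hT⟩ := H73.wc_exists_sylow_le_normalizer hwc hPL
    exact ⟨T, fun t ht => ⟨t.2, hNP (hT ⟨t, ht, rfl⟩)⟩⟩
  · obtain ⟨T, hT⟩ := hwc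
    have hYC : Y ≤ Subgroup.centralizer (P : Set G) :=
      Subgroup.le_centralizer_iff.1 (H73.reducedIn_pCoreOf_le_centralizer hY)
    obtain ⟨h, hh, he⟩ := H50.weaklyClosed_fusion hT (hYC hx) (hYC hgx)
    have h1 : h ∈ ((D : Subgroup G) : Set G) := hNP hh
    rw [Subgroup.coe_mul_of_left_le_normalizer_right _ _ hMC] at h1
    obtain ⟨m, hm, c, hc, rfl⟩ := h1
    refine ⟨m, hm, Eq.trans ?_ he⟩
    have hcx : c * x = x * c := (Subgroup.mem_centralizer_iff.1 hc x hx).symm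
    refine Eq.symm ?_
    calc m * c * x * (m * c)⁻¹ = m * (c * x) * c⁻¹ * m⁻¹ := by group
      _ = m * (x * c) * c⁻¹ * m⁻¹ := by rw [hcx]
      _ = m * x * m⁻¹ := by group

end Cfsg.Agent.S2850
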