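import Cfsg.Statements.S2851
import Cfsg.Agent.H73.BasicProperty
import Cfsg.Agent.S2845
import Cfsg.Agent.S2850
import Cfsg.Agent.H51.FStar

set_option autoImplicit false
open Cfsg Cfsg.Agent
open scoped Pointwise commutatorElement

namespace Cfsg.Agent.S2851

/-- Standing hypotheses: G a finite group, S a Sylow p-subgroup, Q a nontrivial large p-subgroup of G contained in S, M a subgroup containing S with the basic property (M ∈ 𝔐_G(S)); Y_M the largest p-reduced normal subgroup of M and M† = M·C_G(Y_M). Let F be the preimage in M† of the generalized Fitting subgroup of M†/C_{M†}(Y_M). If Y_M is asymmetric in G and H is a subgroup of characteristic p containing F, then Y_M ≤ Y_H. -/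
theorem result {G : Type*} [Group G] [Finite G] {p : ℕ} [Fact p.Prime] (S : Sylow p G) (Q : Subgroup G) (hQp : IsPGroup p ↥Q) (hQ1 : Q ≠ ⊥) (hQS : Q ≤ (S : Subgroup G)) (hQ : Cfsg.IsLarge Q) (M : Subgroup G) (hSM : (S : Subgroup G) ≤ M) (hM : Cfsg.IsInFrakM p M) (hasym : ¬ Cfsg.IsSymmetricIn (Cfsg.largestPReducedOf p M)) [hn : ((Subgroup.centralizer (((Cfsg.largestPReducedOf p M) : Subgroup G) : Set G)).subgroupOf (M ⊔ Subgroup.centralizer (((Cfsg.largestPReducedOf p M) : Subgroup G) : Set G))).Normal] (F : Subgroup G) (hF : F = ((Cfsg.generalizedFittingSubgroup (↥(M ⊔ Subgroup.centralizer (((Cfsg.largestPReducedOf p M) : Subgroup G) : Set G)) ⧸ (Subgroup.centralizer (((Cfsg.largestPReducedOf p M) : Subgroup G) : Set G)).subgroupOf (M ⊔ Subgroup.centralizer (((Cfsg.largestPReducedOf p M) : Subgroup G) : Set G)))).comap (QuotientGroup.mk' ((Subgroup.centralizer (((Cfsg.largestPReducedOf p M) : Subgroup G) : Set G)).subgroupOf (M ⊔ Subgroup.centralizer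 (((Cfsg.largestPReducedOf p M) : Subgroup G) : Set G))))).map ((M ⊔ Subgroup.centralizer (((Cfsg.largestPReducedOf p M) : Subgroup G) : Set G))).subtype) (H : Subgroup G) (hFH : F ≤ H) (hH : Subgroup.centralizer (Cfsg.pCore p ↥H : Set ↥H) ≤ Cfsg.pCore p ↥H) : (Cfsg.largestPReducedOf p M) ≤ Cfsg.largestPReducedOf p H := by
  obtain ⟨hY, hTC, hsupN, hMC⟩ := H73.frakM_facts hM hSM
  obtain ⟨hNp, hwc, -, -⟩ := S2850.result S Q hQp hQ1 hQS hQ M hSM hM hasym
  set Y := Cfsg.largestPReducedOf p M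
  set C := Subgroup.centralizer (Y : Set G) with hC
  set D := M ⊔ C with hD
  set P := Cfsg.pCoreOf p M
  set π := QuotientGroup.mk' (C.subgroupOf D) with hπ
  set Fs := Cfsg.generalizedFittingSubgroup (↥D ⧸ C.subgroupOf D) with hFs
  have hCF : C ≤ F := by
    intro c hc
    rw [hF]
    refine ⟨⟨c, Subgroup.mem_sup_right hc⟩, ?_, rfl⟩
    show π ⟨c, Subgroup.mem_sup_right hc⟩ ∈ Fs
    have h1 : π ⟨c, Subgroup.mem_sup_right hc⟩ = 1 := (QuotientGroup.eq_one_iff _).2 hc
    rw [h1]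
    exact one_mem _
  have hYC : Y ≤ C := H73.le_centralizer_of_elementary hY.2.2.1
  have hPH : P ≤ H := (H73.reducedIn_pCoreOf_le_centralizer hY).trans (hCF.trans hFH)
  obtain ⟨T, hT⟩ := H73.wc_exists_sylow_le_normalizer hwc hPH
  have hTD : (T : Subgroup H).map H.subtype ≤ H ⊓ D :=
    le_inf (Subgroup.map_subtype_le _)
      (hT.trans (hNp P (H74.pCoreOf_isPGroup M) le_rfl).2)
  refine H73.yl_mono' T hTD inf_le_left ((H74.charP_subgroup_iff H).1 hH) ?_
  -- `Y` is `p`-reduced in `H ⊓ M†`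
  have hYR : Y ≤ H ⊓ D := le_inf (hYC.trans (hCF.trans hFH)) (hYC.trans le_sup_right)
  refine ⟨hYR, inf_le_right.trans hsupN, hY.2.2.1, fun E hER hRE hmod => ?_⟩
  have hYD : H73.ReducedIn p D Y :=
    H73.reducedIn_of_sup_eq hY (hYC.trans le_sup_right) (by rw [hD, hC, sup_assoc, sup_idem])
  have hOp : Cfsg.pCore p (↥D ⧸ C.subgroupOf D) = ⊥ := by
    rw [eq_bot_iff]
    intro z hz
    obtain ⟨⟨x, hxD⟩, rfl⟩ := QuotientGroup.mk'_surjective _ z
    haveI := H74.pCore_normal (G := ↥D ⧸ C.subgroupOf D) (p := p)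
    have h1 := hYD.2.2.2 (((Cfsg.pCore p (↥D ⧸ C.subgroupOf D)).comap π).map D.subtype)
      (Subgroup.map_subtype_le _) ?_ ?_ ⟨⟨x, hxD⟩, hz, rfl⟩
    · exact (QuotientGroup.eq_one_iff _).2 h1
    · refine (Subgroup.normal_subgroupOf_iff_le_normalizer (Subgroup.map_subtype_le _)).1 ?_
      rw [show (((Cfsg.pCore p (↥D ⧸ C.subgroupOf D)).comap π).map D.subtype).subgroupOf D = _ from
        Subgroup.comap_map_eq_self_of_injective D.subtype_injective _]
      infer_instance
    · rintro _ ⟨y, hy, rfl⟩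
      obtain ⟨k, hk⟩ := H74.pCore_isPGroup (G := ↥D ⧸ C.subgroupOf D) (p := p) ⟨π y, hy⟩
      refine ⟨k, ?_⟩
      have h2 : π (y ^ p ^ k) = 1 := by rw [map_pow]; exact congrArg Subtype.val hk
      have h3 := (QuotientGroup.eq_one_iff _).1 h2
      simpa [Subgroup.mem_subgroupOf] using h3
  set E' := (E.subgroupOf D).map π with hE'
  have hE'p : IsPGroup p E' := by
    rintro ⟨_, e, he, rfl⟩
    obtain ⟨k, hk⟩ := hmod e he
    refine ⟨k, Subtype.ext ?_⟩
    show (π e) ^ p ^ k = 1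
    rw [← map_pow]
    exact (QuotientGroup.eq_one_iff _).2 (by simpa [Subgroup.mem_subgroupOf] using hk)
  have hFn : Fs.Normal := H51.generalizedFittingSubgroup_normal _
  have hFE : Fs ≤ Subgroup.normalizer (E' : Set _) := by
    intro z hz
    obtain ⟨⟨x, hxD⟩, rfl⟩ := QuotientGroup.mk'_surjective _ z
    have hxR : x ∈ H ⊓ D := by
      refine ⟨hFH ?_, hxD⟩
      rw [hF]
      exact ⟨⟨x, hxD⟩, hz, rfl⟩
    have hxE : (⟨x, hxD⟩ : ↥D) ∈ Subgroup.normalizer ((E.subgroupOf D : Subgroup ↥D) : Set ↥D) := by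
      rw [← Subgroup.subgroupOf_normalizer_eq (hER.trans inf_le_right)]
      exact hRE hxR
    exact Subgroup.le_normalizer_map π ⟨_, hxE, rfl⟩
  have hbot : ∀ Z : Subgroup (↥D ⧸ C.subgroupOf D), Z ≤ Fs → Fs ≤ Subgroup.normalizer (Z : Set _) →
      IsPGroup p Z → Z = ⊥ := by
    intro Z hZ hFZ hZp
    rw [eq_bot_iff, ← hOp]
    refine (H74.le_pCoreOf hZ hFZ hZp).trans ?_
    refine H74.le_pCore_of_normal ?_ (H74.pCoreOf_isPGroup Fs)
    rw [← Subgroup.normalizer_eq_top_iff, eq_top_iff]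
    exact (Subgroup.normalizer_eq_top_iff.2 hFn).ge.trans
      (H73.normalizer_le_normalizer_pCoreOf Fs)
  have hint : E' ⊓ Fs = ⊥ := hbot _ inf_le_right
    (H73.normalizer_inf_le hFE Subgroup.le_normalizer) (hE'p.to_le inf_le_left)
  have hcomm : E' ≤ Subgroup.centralizer (Fs : Set _) := by
    rw [← Subgroup.commutator_eq_bot_iff_le_centralizer, eq_bot_iff, ← hint]
    refine le_inf ?_ ?_
    · rw [Subgroup.commutator_comm]
      exact H73.commutator_le_of_le_normalizer hFE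
    · exact H73.commutator_le_of_le_normalizer Subgroup.le_normalizer_of_normal
  have hE'F : E' ≤ E' ⊓ Fs :=
    le_inf le_rfl (hcomm.trans (H51.centralizer_generalizedFitting_le _))
  rw [hint, le_bot_iff, hE', Subgroup.map_eq_bot_iff, hπ, QuotientGroup.ker_mk'] at hE'F
  exact fun e he => hE'F (x := ⟨e, (hER he).2⟩) he

end Cfsg.Agent.S2851
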