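import Cfsg.Statements.S2852
import Cfsg.Agent.H73.FrakH
import Cfsg.Agent.S2845

set_option autoImplicit false
open Cfsg Cfsg.Agent
open scoped Pointwise commutatorElement

namespace Cfsg.Agent.S2852

/-- Standing hypotheses: G a finite group, S a Sylow p-subgroup, Q a nontrivial large p-subgroup of G contained in S, M a subgroup containing S with the basic property (M ∈ 𝔐_G(S)); Y_M the largest p-reduced normal subgroup of M. If Y_M is char-p-tall and asymmetric in G, then some subgroup H of G lies in ℌ_G(O_p(M)): H has characteristic p, O_p(M) ≤ H, Y_M ≰ O_p(H), and Y_M ≤ O_p(P) for every proper subgroup P of H containing O_p(M). -/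
theorem result {G : Type*} [Group G] [Finite G] {p : ℕ} [Fact p.Prime] (S : Sylow p G) (Q : Subgroup G) (hQp : IsPGroup p ↥Q) (hQ1 : Q ≠ ⊥) (hQS : Q ≤ (S : Subgroup G)) (hQ : Cfsg.IsLarge Q) (M : Subgroup G) (hSM : (S : Subgroup G) ≤ M) (hM : Cfsg.IsInFrakM p M) (htall : Cfsg.IsCharPTall p (Cfsg.largestPReducedOf p M)) (hasym : ¬ Cfsg.IsSymmetricIn (Cfsg.largestPReducedOf p M)) : ∃ H : Subgroup G, Cfsg.IsInFrakH p M H := by
  obtain ⟨-, -, hpar⟩ := S2845.result Q hQp hQ1 hQ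
  obtain ⟨hY, hTC, hsupN, hMC⟩ := H73.frakM_facts hM hSM
  set Y := Cfsg.largestPReducedOf p M
  set C := Subgroup.centralizer (Y : Set G)
  set P := Cfsg.pCoreOf p M
  obtain ⟨T, L, hTL, hLc, hYL⟩ := htall
  obtain ⟨P₀, hP₀⟩ := H73.exists_sylow_map_eq_inf (M := M ⊔ C) (K := C) (T := S)
    (hSM.trans le_sup_left) le_sup_right (sup_le hMC Subgroup.le_normalizer)
  obtain ⟨c, hc⟩ := MulAction.exists_smul_eq C T P₀
  have hcY : (c : G) ∈ Subgroup.normalizer (Y : Set G) := Subgroup.centralizer_le_normalizer _ c.2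
  set L' := L.map (MulAut.conj (c : G)).toMonoidHom with hL'
  have hPL' : P ≤ L' := by
    intro x hx
    rw [show P = (S : Subgroup G) ⊓ C from hTC.symm, ← hP₀] at hx
    obtain ⟨y, hy, rfl⟩ := hx
    rw [SetLike.mem_coe, ← hc, Sylow.coe_subgroup_smul] at hy
    obtain ⟨t, ht, rfl⟩ := hy
    exact ⟨t, hTL ⟨t, ht, rfl⟩, rfl⟩
  let e := L.equivMapOfInjective (MulAut.conj (c : G)).toMonoidHom (MulAut.conj (c : G)).injective
  have hL'c : Subgroup.centralizer (Cfsg.pCore p ↥L' : Set ↥L') ≤ Cfsg.pCore p ↥L' :=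
    H74.charP_congr e hLc
  have hYL' : ¬ Y ≤ Cfsg.pCoreOf p L' := by
    intro h
    apply hYL
    intro y hy
    have h1 : (MulAut.conj (c : G)).toMonoidHom y ∈ Cfsg.pCoreOf p L' :=
      h ((Subgroup.mem_normalizer_iff.1 hcY y).1 hy)
    obtain ⟨z, hz, hze⟩ := h1
    rw [SetLike.mem_coe, ← H74.pCore_map_mulEquiv e] at hz
    obtain ⟨w, hw, rfl⟩ := hz
    refine ⟨w, hw, ?_⟩
    apply (MulAut.conj (c : G)).injective
    exact hze
  obtain ⟨H, ⟨hPH, hHL', hYH⟩, hHmin⟩ :=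
    (Set.toFinite {X : Subgroup G | P ≤ X ∧ X ≤ L' ∧ ¬ Y ≤ Cfsg.pCoreOf p X}).exists_minimalFor id _
      ⟨L', hPL', le_rfl, hYL'⟩
  have hwc : Cfsg.IsWeaklyClosedSubgroup p P :=
    H73.wc_of_forall_normalizer (H74.pCoreOf_isPGroup M) fun R hR hPR =>
      (H73.asymmetric_normalizer_le_pCore hpar hM hSM hasym hR hPR).2
  refine ⟨H, H73.charP_of_wc_le hwc (H73.pCoreOf_ne_bot hM.1) hM.1.2 hPH hHL' hL'c, hPH, hYH,
    fun X hPX hXH => ?_⟩
  by_contra hYX
  exact hXH.not_ge (hHmin ⟨hPX, hXH.le.trans hHL', hYX⟩ hXH.le)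

end Cfsg.Agent.S2852
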