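import Cfsg.Statements.S2853
import Cfsg.Agent.H73.FrakH
import Cfsg.Agent.S2845
import Cfsg.Agent.S2850

set_option autoImplicit false
open Cfsg Cfsg.Agent
open scoped Pointwise commutatorElement

namespace Cfsg.Agent.S2853

/-- Standing hypotheses: G a finite group, S a Sylow p-subgroup, Q a nontrivial large p-subgroup of G contained in S, M a subgroup containing S with the basic property (M ∈ 𝔐_G(S)); Y_M the largest p-reduced normal subgroup of M and M† = M·C_G(Y_M). Suppose Y_M is char-p-tall and asymmetric in G and H ∈ ℌ_G(O_p(M)). Then every Sylow p-subgroup of H ∩ M† is a Sylow p-subgroup of H; O_p(H) normalizes O_p(M) and Y_M; O^p(H) = [O^p(H), Y_M] and H = O^p(H)·O_p(M); O^p(H)·Y_M is the normal closure of Y_M in H; and H is the normal closure of O_p(M) in H. Here O^p(H) is the subgroup generated by the elements of H of order prime to p. -/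
theorem result {G : Type*} [Group G] [Finite G] {p : ℕ} [Fact p.Prime] (S : Sylow p G) (Q : Subgroup G) (hQp : IsPGroup p ↥Q) (hQ1 : Q ≠ ⊥) (hQS : Q ≤ (S : Subgroup G)) (hQ : Cfsg.IsLarge Q) (M : Subgroup G) (hSM : (S : Subgroup G) ≤ M) (hM : Cfsg.IsInFrakM p M) (htall : Cfsg.IsCharPTall p (Cfsg.largestPReducedOf p M)) (hasym : ¬ Cfsg.IsSymmetricIn (Cfsg.largestPReducedOf p M)) (H : Subgroup G) (hH : Cfsg.IsInFrakH p M H) (R : Subgroup G) (hR : R = (Cfsg.pResidual p ↥H).map H.subtype) : (∀ T : Sylow p ↥(H ⊓ (M ⊔ Subgroup.centralizer (((Cfsg.largestPReducedOf p M) : Subgroup G) : Set G))), ∃ P : Sylow p ↥H, ((P : Subgroup ↥H).map H.subtype) = (T : Subgroup ↥(H ⊓ (M ⊔ Subgroup.centralizer (((Cfsg.largestPReducedOf p M) : Subgroup G) : Set G)))).map (H ⊓ (M ⊔ Subgroup.centralizer (((Cfsg.largestPReducedOf p M) : Subgroup G) : Set G))).subtype) ∧ Cfsg.pCoreOf p H ≤ Subgroup.normalizer (((Cfsg.pCoreOf p M) : Subgroup G) : Set G) ⊓ Subgroup.normalizer (((Cfsg.largestPReducedOf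 p M) : Subgroup G) : Set G) ∧ ⁅R, (Cfsg.largestPReducedOf p M)⁆ = R ∧ R ⊔ (Cfsg.pCoreOf p M) = H ∧ R ⊔ (Cfsg.largestPReducedOf p M) = (Subgroup.normalClosure ((((Cfsg.largestPReducedOf p M)).subgroupOf H : Subgroup ↥H) : Set ↥H)).map H.subtype ∧ (Subgroup.normalClosure ((((Cfsg.pCoreOf p M)).subgroupOf H : Subgroup ↥H) : Set ↥H)).map H.subtype = H := by
  obtain ⟨-, -, hpar⟩ := S2845.result Q hQp hQ1 hQ
  obtain ⟨hwc, hUP, hNPY, hRY, hRP, hncl, hnc⟩ := H73.frakH_structure hpar hM hSM hasym hH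
  obtain ⟨-, -, hsylow, -⟩ := S2850.result S Q hQp hQ1 hQS hQ M hSM hM hasym
  obtain ⟨hY, -, -, -⟩ := H73.frakM_facts hM hSM
  subst hR
  obtain ⟨-, hPH, -, -⟩ := hH
  set Y := Cfsg.largestPReducedOf p M
  set P := Cfsg.pCoreOf p M
  set K := H ⊓ (M ⊔ Subgroup.centralizer (Y : Set G))
  have hYH : Y ≤ H := (H73.reducedIn_le_pCoreOf hY).trans hPH
  refine ⟨fun T => ?_, le_inf hUP (hUP.trans hNPY), hRY, hRP, ?_, ?_⟩
  · obtain ⟨P₁, hP₁⟩ := hsylow H hPH
    have h1 : (P₁ : Subgroup ↥H).map H.subtype ≤ K := by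
      rintro _ ⟨x, hx, rfl⟩
      exact hP₁ hx
    have hTH : (T : Subgroup ↥K).map K.subtype ≤ H :=
      (Subgroup.map_subtype_le _).trans inf_le_left
    obtain ⟨P₂, hP₂⟩ := ((T.2.map K.subtype).comap_subtype :
      IsPGroup p (((T : Subgroup ↥K).map K.subtype).subgroupOf H)).exists_le_sylow
    obtain ⟨T', hT'⟩ := ((P₁.2.map H.subtype).comap_subtype :
      IsPGroup p (((P₁ : Subgroup ↥H).map H.subtype).subgroupOf K)).exists_le_sylow
    refine ⟨P₂, (Subgroup.eq_of_le_of_card_ge ?_ ?_).symm⟩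
    · intro x hx
      exact ⟨⟨x, hTH hx⟩, hP₂ hx, rfl⟩
    · rw [Subgroup.card_map_of_injective H.subtype_injective,
        Subgroup.card_map_of_injective K.subtype_injective, P₂.card_eq_multiplicity,
        ← P₁.card_eq_multiplicity, T.card_eq_multiplicity, ← T'.card_eq_multiplicity,
        show Nat.card (P₁ : Subgroup ↥H) = Nat.card ((P₁ : Subgroup ↥H).map H.subtype) from
          (Subgroup.card_map_of_injective H.subtype_injective).symm,
        ← Nat.card_congr (Subgroup.subgroupOfEquivOfLe h1).toEquiv]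
      exact Nat.le_of_dvd Nat.card_pos (Subgroup.card_dvd_of_le hT')
  · rw [hncl]
    refine le_antisymm (iSup_le fun h => ?_) ?_
    · rintro _ ⟨y, hy, rfl⟩
      refine ⟨h * ⟨y, hYH hy⟩ * h⁻¹, ?_, by simp⟩
      exact Subgroup.normalClosure_normal.conj_mem _
        (Subgroup.subset_normalClosure (show (⟨y, hYH hy⟩ : ↥H) ∈ Y.subgroupOf H from hy)) h
    · rw [Subgroup.map_le_iff_le_comap]
      set W := ⨆ h : ↥H, Y.map (MulAut.conj (h : G)).toMonoidHom with hW
      haveI : (W.comap H.subtype).Normal := by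
        refine ⟨fun n hn g => ?_⟩
        have hle : W.map (MulAut.conj (g : G)).toMonoidHom ≤ W := by
          rw [hW, Subgroup.map_iSup]
          refine iSup_le fun x => ?_
          rw [H50.map_conj_map]
          exact le_iSup (fun x : ↥H => Y.map (MulAut.conj (x : G)).toMonoidHom) (g * x)
        exact hle ⟨_, hn, rfl⟩
      refine Subgroup.normalClosure_le_normal fun y hy => ?_
      exact le_iSup (fun x : ↥H => Y.map (MulAut.conj (x : G)).toMonoidHom) 1 ⟨y, hy, by simp⟩
  · refine hnc _ ?_ (Subgroup.map_subtype_le _) ?_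
    · intro x hx
      exact ⟨⟨x, hPH hx⟩, Subgroup.subset_normalClosure hx, rfl⟩
    · refine (Subgroup.normal_subgroupOf_iff_le_normalizer (Subgroup.map_subtype_le _)).1 ?_
      rw [show ((Subgroup.normalClosure ((P.subgroupOf H : Subgroup ↥H) : Set ↥H)).map
          H.subtype).subgroupOf H = _ from Subgroup.comap_map_eq_self_of_injective H.subtype_injective _]
      infer_instance

end Cfsg.Agent.S2853
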