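import Cfsg.Statements.S2859
import Cfsg.Agent.H73.WeakClosureResidual

set_option autoImplicit false
open Cfsg Cfsg.Agent
open scoped Pointwise commutatorElement

namespace Cfsg.Agent.S2859

/-- Let Q be a nontrivial p-subgroup of the finite group H that is a weakly closed subgroup, H° the weak closure of Q in H (generated by the conjugates of Q) and H_∘ = O^p(H°). Suppose H₁, H₂ are normal subgroups of H° with H° = H₁H₂ and [H₁, H₂] ≤ N_H(Q), and put Kᵢ = O^p of the weak closure of Q in HᵢQ. Then for i = 1, 2: Kᵢ = [Kᵢ, Q] = [Kᵢ, Hᵢ] ≤ Hᵢ′ and Kᵢ is normal in H°; H_∘ = K₁K₂; and [K₁, K₂] ≤ O_p(H°). -/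
theorem result {G : Type*} [Group G] [Finite G] {p : ℕ} [Fact p.Prime] (Q : Subgroup G) (hQp : IsPGroup p ↥Q) (hQ1 : Q ≠ ⊥) (hwc : Cfsg.IsWeaklyClosedSubgroup p Q) (Hc : Subgroup G) (hHc : Hc = Cfsg.weakClosure Q ⊤) (H₁ H₂ : Subgroup G) (hn₁ : H₁ ≤ Hc ∧ Hc ≤ Subgroup.normalizer ((H₁ : Subgroup G) : Set G)) (hn₂ : H₂ ≤ Hc ∧ Hc ≤ Subgroup.normalizer ((H₂ : Subgroup G) : Set G)) (hprod : H₁ ⊔ H₂ = Hc) (hcomm : ⁅H₁, H₂⁆ ≤ Subgroup.normalizer ((Q : Subgroup G) : Set G)) (K₁ K₂ : Subgroup G) (hK₁ : K₁ = ((Cfsg.pResidual p ↥(Cfsg.weakClosure Q (H₁ ⊔ Q))).map ((Cfsg.weakClosure Q (H₁ ⊔ Q))).subtype)) (hK₂ : K₂ = ((Cfsg.pResidual p ↥(Cfsg.weakClosure Q (H₂ ⊔ Q))).map ((Cfsg.weakClosure Q (H₂ ⊔ Q))).subtype)) : (⁅K₁, Q⁆ = K₁ ∧ ⁅K₁, H₁⁆ = K₁ ∧ K₁ ≤ ⁅H₁, H₁⁆ ∧ Hc ≤ Subgroup.normalizer ((K₁ : Subgroup G) : Set G)) ∧ (⁅K₂, Q⁆ = K₂ ∧ ⁅K₂, H₂⁆ = K₂ ∧ K₂ ≤ ⁅H₂, H₂⁆ ∧ Hc ≤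 Subgroup.normalizer ((K₂ : Subgroup G) : Set G)) ∧ K₁ ⊔ K₂ = ((Cfsg.pResidual p ↥Hc).map (Hc).subtype) ∧ ⁅K₁, K₂⁆ ≤ (Cfsg.pCoreOf p Hc) := by
  have f1 := H73.weakClosure_factor hwc hHc hn₁ hn₂ hprod hcomm hK₁
  have hcomm' : ⁅H₂, H₁⁆ ≤ Subgroup.normalizer ((Q : Subgroup G) : Set G) := by
    rwa [Subgroup.commutator_comm]
  have f2 := H73.weakClosure_factor hwc hHc hn₂ hn₁ (by rwa [sup_comm]) hcomm' hK₂
  obtain ⟨⟨hKQ₁, hKH₁, hKd₁, hKN₁⟩, hconj₁⟩ := f1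
  obtain ⟨⟨hKQ₂, hKH₂, hKd₂, hKN₂⟩, hconj₂⟩ := f2
  have hQHc : Q ≤ Hc := hHc ▸ H73.le_weakClosure le_top
  set N := K₁ ⊔ K₂ with hN
  have hHN : Hc ≤ Subgroup.normalizer (N : Set G) := by
    intro g hg
    rw [← H50.map_conj_eq_iff, hN, Subgroup.map_sup, H50.map_conj_eq_iff.2 (hKN₁ hg),
      H50.map_conj_eq_iff.2 (hKN₂ hg)]
  have hKHc : ∀ {X : Subgroup G}, X ≤ Hc →
      (Cfsg.pResidual p ↥(Cfsg.weakClosure Q X)).map (Cfsg.weakClosure Q X).subtype ≤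
        (Cfsg.pResidual p ↥Hc).map Hc.subtype := fun h =>
    H73.resid_mono ((H73.weakClosure_le Q _).trans h)
  have hsupT : K₁ ⊔ K₂ = (Cfsg.pResidual p ↥Hc).map Hc.subtype := by
    refine le_antisymm (sup_le (hK₁ ▸ hKHc (sup_le hn₁.1 hQHc)) (hK₂ ▸ hKHc (sup_le hn₂.1 hQHc))) ?_
    refine H73.resid_le_of_sup (hQHc.trans hHN) (H73.wc_isPGroup hwc)
      ((Subgroup.map_subtype_le _).trans ?_)
    have hnorm : Hc ≤ Subgroup.normalizer ((N ⊔ Q : Subgroup G) : Set G) := by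
      have key : ∀ h : G, h ∈ Hc → Q.map (MulAut.conj h).toMonoidHom ≤ N ⊔ Q →
          h ∈ Subgroup.normalizer ((N ⊔ Q : Subgroup G) : Set G) := by
        intro h hh hQh
        have hle : (N ⊔ Q).map (MulAut.conj h).toMonoidHom ≤ N ⊔ Q := by
          rw [Subgroup.map_sup, H50.map_conj_eq_iff.2 (hHN hh)]
          exact sup_le le_sup_left hQh
        exact H50.map_conj_eq_iff.1 (Subgroup.eq_of_le_of_card_ge hle
          (Subgroup.card_map_of_injective (MulAut.conj h).injective).ge)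
      rw [← hprod]
      refine sup_le (fun h hh => key h (hn₁.1 hh) ?_) (fun h hh => key h (hn₂.1 hh) ?_)
      · rintro _ ⟨q, hq, rfl⟩
        exact sup_le_sup_right (le_sup_left : K₁ ≤ N) Q (hconj₁ h hh q hq)
      · rintro _ ⟨q, hq, rfl⟩
        exact sup_le_sup_right (le_sup_right : K₂ ≤ N) Q (hconj₂ h hh q hq)
    rw [hHc]
    refine iSup_le fun g => ?_
    obtain ⟨k, hk, e⟩ := H73.wc_exists_conj_mem hwc (H73.le_weakClosure (le_top : Q ≤ ⊤))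
      (H73.conj_le_weakClosure (Q := Q) (L := ⊤) (g := (g : G)) le_top)
    rw [e]
    exact (Subgroup.map_mono le_sup_right).trans (H50.map_conj_eq_iff.2 (hnorm (hHc.symm ▸ hk))).le
  refine ⟨⟨hKQ₁, hKH₁, hKd₁, hKN₁⟩, ⟨hKQ₂, hKH₂, hKd₂, hKN₂⟩, hsupT, ?_⟩
  set P := Cfsg.pCoreOf p Hc with hP
  set D := ⁅H₁, H₂⁆ with hD
  have hHD : Hc ≤ Subgroup.normalizer (D : Set G) := hprod ▸
    sup_le (Subgroup.normalizer_commutator_ge_left _ _) (Subgroup.normalizer_commutator_ge_right _ _)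
  have hDH : D ≤ Hc := (Subgroup.commutator_mono hn₁.1 hn₂.1).trans (Subgroup.commutator_le_self Hc)
  have hDP : ⁅Hc, D⁆ ≤ P := H73.commutator_weakClosure_top_le hwc hHc hDH hHD hcomm
  have hPn : (P.subgroupOf Hc).Normal :=
    (Subgroup.normal_subgroupOf_iff_le_normalizer (H74.pCoreOf_le _)).2 (H74.le_normalizer_pCoreOf Hc)
  let π := QuotientGroup.mk' (P.subgroupOf Hc)
  refine Subgroup.commutator_le.2 fun k hk => ?_
  have hk₁ : k ∈ H₁ := (hKd₁.trans (Subgroup.commutator_le_self H₁)) hk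
  let u := π ⟨k, hn₁.1 hk₁⟩
  have hu : ∀ a, ∀ ha : a ∈ H₂, ∀ y : ↥Hc ⧸ P.subgroupOf Hc,
      Commute ⁅u, π ⟨a, hn₂.1 ha⟩⁆ y := by
    intro a ha y
    obtain ⟨⟨b, hb⟩, rfl⟩ := QuotientGroup.mk'_surjective _ y
    have hd : ⁅k, a⁆ ∈ D := Subgroup.commutator_mem_commutator hk₁ ha
    have h1 : ⁅b, ⁅k, a⁆⁆ ∈ P := hDP (Subgroup.commutator_mem_commutator hb hd)
    refine Commute.symm (commutatorElement_eq_one_iff_commute.1 ?_)
    rw [← map_commutatorElement, ← map_commutatorElement]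
    exact (QuotientGroup.eq_one_iff _).2 h1
  let S : Subgroup ↥Hc := (Subgroup.centralizer {u}).comap π
  have hS : ⁅H₂.subgroupOf Hc, H₂.subgroupOf Hc⁆ ≤ S := by
    rw [Subgroup.commutator_le]
    rintro ⟨a, haH⟩ ha ⟨b, hbH⟩ hb
    show π ⁅_, _⁆ ∈ Subgroup.centralizer {u}
    rw [Subgroup.mem_centralizer_singleton_iff]
    set A := π ⟨a, haH⟩
    set B := π ⟨b, hbH⟩
    have hA : u * A * u⁻¹ = ⁅u, A⁆ * A := by simp [commutatorElement_def]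
    have hB : u * B * u⁻¹ = ⁅u, B⁆ * B := by simp [commutatorElement_def]
    have hA' := hu a ha
    have hB' := hu b hb
    rw [map_commutatorElement]
    have e : u * ⁅A, B⁆ * u⁻¹ = ⁅A, B⁆ := by
      calc u * ⁅A, B⁆ * u⁻¹ = ⁅u * A * u⁻¹, u * B * u⁻¹⁆ := by
            simp only [commutatorElement_def]; group
        _ = ⁅⁅u, A⁆ * A, ⁅u, B⁆ * B⁆ := by rw [hA, hB]
        _ = ⁅A, B⁆ := by
            simp only [commutatorElement_def] at hA' hB' ⊢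
            generalize u * A * u⁻¹ * A⁻¹ = z at hA'
            generalize u * B * u⁻¹ * B⁻¹ = w at hB'
            calc z * A * (w * B) * (z * A)⁻¹ * (w * B)⁻¹
                = z * (A * w) * B * A⁻¹ * (z⁻¹ * B⁻¹) * w⁻¹ := by group
              _ = z * (w * A) * B * A⁻¹ * (B⁻¹ * z⁻¹) * w⁻¹ := by
                  rw [(hB' A).eq, ((hA' B⁻¹).inv_left).eq]
              _ = z * w * (A * B * A⁻¹ * B⁻¹) * (z⁻¹ * w⁻¹) := by group
              _ = z * w * ((z⁻¹ * w⁻¹) * (A * B * A⁻¹ * B⁻¹)) := by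
                  rw [mul_assoc, (((hA' _).inv_left).mul_left ((hB' _).inv_left)).eq.symm]
              _ = z * (w * z⁻¹) * w⁻¹ * (A * B * A⁻¹ * B⁻¹) := by group
              _ = z * (z⁻¹ * w) * w⁻¹ * (A * B * A⁻¹ * B⁻¹) := by rw [(hB' z⁻¹).eq]
              _ = A * B * A⁻¹ * B⁻¹ := by group
    exact (mul_inv_eq_iff_eq_mul.1 e).symm
  intro x hx
  have hx2 : x ∈ ⁅H₂, H₂⁆ := hKd₂ hx
  have hmap : ⁅H₂, H₂⁆ = (⁅H₂.subgroupOf Hc, H₂.subgroupOf Hc⁆ : Subgroup ↥Hc).map Hc.subtype := by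
    rw [Subgroup.map_commutator, Subgroup.map_subgroupOf_eq_of_le hn₂.1]
  rw [hmap] at hx2
  obtain ⟨x', hx', rfl⟩ := hx2
  have h1 : π x' * u = u * π x' := Subgroup.mem_centralizer_singleton_iff.1 (hS hx')
  have h2 : π ⁅(⟨k, hn₁.1 hk₁⟩ : ↥Hc), x'⁆ = 1 := by
    rw [map_commutatorElement, commutatorElement_eq_one_iff_mul_comm]
    exact h1.symm
  exact (QuotientGroup.eq_one_iff ⁅(⟨k, hn₁.1 hk₁⟩ : ↥Hc), x'⁆).1 h2

end Cfsg.Agent.S2859
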