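import Cfsg.Statements.S2860
import Cfsg.Agent.H73.QuasisimpleSection

set_option autoImplicit false
open Cfsg Cfsg.Agent
open scoped Pointwise commutatorElement

namespace Cfsg.Agent.S2860

/-- Let Q be a nontrivial large p-subgroup of the finite group H, U a nontrivial elementary abelian p-subgroup of H, and Q ≤ E ≤ N_H(U) with Q not normal in E. Suppose O_p(E/C_E(U)) = 1 and O^p(E)·C_E(U)/C_E(U) is quasisimple. Let E° be the weak closure of Q in E (generated by the conjugates of Q inside E) and E_∘ = O^p(E°). Then O^p(E)·C_E(U) = E_∘·C_E(U); E_∘ is perfect and equals O^p(E_∘); E_∘/C_{E_∘}(U) and E_∘/O_p(E_∘) are quasisimple; and E_∘ = [E_∘, Y] for every p-subgroup Y of E not centralizing U. -/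
theorem result {G : Type*} [Group G] [Finite G] {p : ℕ} [Fact p.Prime] (Q : Subgroup G) (hQp : IsPGroup p ↥Q) (hQ1 : Q ≠ ⊥) (hQ : Cfsg.IsLarge Q) (U : Subgroup G) (hU : Cfsg.IsElementaryAbelian p U) (hU1 : U ≠ ⊥) (E : Subgroup G) (hQE : Q ≤ E) (hEU : E ≤ Subgroup.normalizer ((U : Subgroup G) : Set G)) (hQn : ¬ E ≤ Subgroup.normalizer ((Q : Subgroup G) : Set G)) [hn : ((Subgroup.centralizer ((U : Subgroup G) : Set G)).subgroupOf E).Normal] (hred : Cfsg.pCore p (↥E ⧸ (Subgroup.centralizer ((U : Subgroup G) : Set G)).subgroupOf E) = ⊥) (hqs : Cfsg.IsQuasisimple ↥(((Cfsg.pResidual p ↥E) ⊔ (Subgroup.centralizer ((U : Subgroup G) : Set G)).subgroupOf E).map (QuotientGroup.mk' ((Subgroup.centralizer ((U : Subgroup G) : Set G)).subgroupOf E)))) (Er : Subgroup G) (hEr : Er = ((Cfsg.pResidual p ↥(Cfsg.weakClosure Q E)).map ((Cfsg.weakClosure Q E)).subtype)) [hn2 : ((Subgroup.centralizer ((U : Subgroup G) : Set G)).subgroupOf Er).Normal] : ((Cfsg.pResidual p ↥E).map (E).subtype)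 ⊔ (E ⊓ Subgroup.centralizer ((U : Subgroup G) : Set G)) = Er ⊔ (E ⊓ Subgroup.centralizer ((U : Subgroup G) : Set G)) ∧ ⁅Er, Er⁆ = Er ∧ ((Cfsg.pResidual p ↥Er).map (Er).subtype) = Er ∧ Cfsg.IsQuasisimple (↥Er ⧸ (Subgroup.centralizer ((U : Subgroup G) : Set G)).subgroupOf Er) ∧ Cfsg.IsQuasisimple (↥Er ⧸ Cfsg.pCore p ↥Er) ∧ ∀ Y : Subgroup G, Y ≤ E → IsPGroup p ↥Y → ¬ Y ≤ Subgroup.centralizer ((U : Subgroup G) : Set G) → ⁅Er, Y⁆ = Er := by
  set W := weakClosure Q E with hWdef
  have hwc := H73.large_isWeaklyClosedSubgroup hQp hQ1 hQ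
  have hWE : W ≤ E := H73.weakClosure_le Q E
  have hQW : Q ≤ W := H73.le_weakClosure hQE
  have hEW : E ≤ Subgroup.normalizer (W : Set G) := H73.le_normalizer_weakClosure Q E
  have hErW : Er ≤ W := hEr.le.trans (Subgroup.map_subtype_le _)
  have hErE : Er ≤ E := hErW.trans hWE
  have hEEr : E ≤ Subgroup.normalizer (Er : Set G) :=
    hEr ▸ hEW.trans (H73.normalizer_le_normalizer_resid W)
  have hmem : ∀ x ∈ W, (orderOf x).Coprime p → x ∈ Er := fun x hx hc => hEr ▸ H73.mem_resid hx hc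
  have hgenG : (pResidual p ↥Er).map Er.subtype = Er := by
    refine le_antisymm (Subgroup.map_subtype_le _) ?_
    conv_lhs => rw [hEr]
    exact H73.resid_le_of_coprime fun x hx hc => H73.mem_resid (hmem x hx hc) hc
  -- `W = Er Q`
  have hWsup : W = Er ⊔ Q := by
    refine le_antisymm (iSup_le fun g => ?_) (sup_le hErW hQW)
    have hWn : W ≤ Subgroup.normalizer ((Er ⊔ Q : Subgroup G) : Set G) := by
      conv_lhs => rw [← H73.wc_sup_pResidual hwc (N := W) (hQE.trans hEW)]
      rw [← hEr]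
      refine sup_le (fun x hx => ?_) ((le_sup_left : Er ≤ Er ⊔ Q).trans Subgroup.le_normalizer)
      have hxEr : x ∈ Subgroup.normalizer (Er : Set G) := hEEr (hWE hx.1)
      refine H50.map_conj_eq_iff.1 ?_
      rw [Subgroup.map_sup, H50.map_conj_eq_iff.2 hxEr, H50.map_conj_eq_iff.2 hx.2]
    obtain ⟨k, hk, hke⟩ :=
      H73.wc_exists_conj_mem hwc hQW (H73.conj_le_weakClosure g.2 : _ ≤ W)
    rw [hke]
    exact (Subgroup.map_mono le_sup_right).trans (H50.map_conj_eq_iff.2 (hWn hk)).le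
  set C := (Subgroup.centralizer (U : Set G)).subgroupOf E with hCdef
  set Q' := Q.subgroupOf E with hQ'def
  set R := Er.subgroupOf E with hRdef
  have hmapR : R.map E.subtype = Er := Subgroup.map_subgroupOf_eq_of_le hErE
  have hUp : IsPGroup p U := fun u => ⟨1, Subtype.ext (by simpa using hU.2 u u.2)⟩
  have hQU : Q ≤ Subgroup.normalizer (U : Set G) := hQE.trans hEU
  have d : H73.QSection p C Q' R := by
    refine ⟨hred, ?_, hQp.comap_subtype, ?_, ?_, ?_, ?_, ?_, ?_⟩
    · rw [Subgroup.map_sup, QuotientGroup.map_mk'_self, sup_bot_eq,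
        H22.map_pResidual_of_surjective _ (QuotientGroup.mk'_surjective C)] at hqs
      exact hqs
    · intro h
      refine hQn (hEU.trans (hQ.2 U (Subgroup.le_centralizer_iff.1 ?_) hU1))
      exact fun q hq => h (show (⟨q, hQE hq⟩ : ↥E) ∈ Q' from hq)
    · intro x hx
      have h := H73.large_centralizer_pgroup_le_normalizer hQp hQ hUp hU1 hQU hx
      refine Subgroup.mem_normalizer_iff.2 fun y => ?_
      exact Subgroup.mem_normalizer_iff.1 h (y : G)
    · exact (Subgroup.normal_subgroupOf_iff_le_normalizer hErE).2 hEEr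
    · intro x hx hc
      refine hmem x ?_ (by rw [Subgroup.orderOf_coe]; exact hc)
      rw [hWsup]
      have := Subgroup.mem_map_of_mem E.subtype hx
      rwa [Subgroup.map_sup, hmapR, Subgroup.map_subgroupOf_eq_of_le hQE] at this
    · refine le_antisymm (Subgroup.map_subtype_le _) fun x hx => ?_
      have h : (x : G) ∈ ((pResidual p ↥R).map R.subtype).map E.subtype := by
        refine (?_ : Er ≤ _) hx
        conv_lhs => rw [hEr]
        refine H73.resid_le_of_coprime fun y hy hc => ⟨⟨y, hWE hy⟩, ?_, rfl⟩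
        exact H73.mem_resid (show (⟨y, hWE hy⟩ : ↥E) ∈ R from hmem y hy hc)
          (by rw [← Subgroup.orderOf_coe]; exact hc)
      obtain ⟨y, hy, hye⟩ := h
      rwa [← Subtype.ext hye]
    · haveI : (W.subgroupOf E).Normal := (Subgroup.normal_subgroupOf_iff_le_normalizer hWE).2 hEW
      have hWR : W.subgroupOf E = R ⊔ Q' := by
        rw [hWsup, Subgroup.subgroupOf_sup hErE hQE]
      rw [← hWR]
      refine le_antisymm (Subgroup.normalClosure_le_normal fun q hq => hQW hq) ?_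
      apply Subgroup.map_subtype_le_map_subtype.1
      rw [Subgroup.map_subgroupOf_eq_of_le hWE]
      refine iSup_le fun g => ?_
      obtain ⟨k, hk, hke⟩ := H73.wc_exists_conj_mem hwc hQE g.2
      rw [hke]
      rintro _ ⟨q, hq, rfl⟩
      exact ⟨⟨k, hk⟩ * ⟨q, hQE hq⟩ * ⟨k, hk⟩⁻¹, Subgroup.normalClosure_normal.conj_mem _
        (Subgroup.le_normalClosure (show (⟨q, hQE hq⟩ : ↥E) ∈ Q' from hq)) _, rfl⟩
  haveI := d.normal
  refine ⟨?_, ?_, hgenG, ?_, ?_, ?_⟩
  · have h := congrArg (Subgroup.map E.subtype) d.sup_eq_residual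
    rwa [Subgroup.map_sup, Subgroup.map_sup, hmapR, Subgroup.subgroupOf_map_subtype, inf_comm] at h
  · rw [← hmapR, ← Subgroup.map_commutator, d.perfect]
  · refine H51.quasisimple_of_equiv d.quasisimple_quotient_centralizer
      (QuotientGroup.congr _ _ (Subgroup.subgroupOfEquivOfLe hErE) ?_)
    ext x
    constructor
    · rintro ⟨y, hy, rfl⟩
      exact hy
    · intro hx
      exact ⟨⟨⟨x, hErE x.2⟩, x.2⟩, hx, rfl⟩
  · haveI := H19.pCore_normal p ↥R
    haveI := H19.pCore_normal p ↥Er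
    exact H51.quasisimple_of_equiv d.quasisimple_quotient_core
      (QuotientGroup.congr _ _ (Subgroup.subgroupOfEquivOfLe hErE) (H74.pCore_map_mulEquiv _))
  · intro Y hYE hY hYU
    have hY' : ¬ Y.subgroupOf E ≤ C := fun h => hYU fun y hy =>
      h (show (⟨y, hYE hy⟩ : ↥E) ∈ Y.subgroupOf E from hy)
    have h := congrArg (Subgroup.map E.subtype) (d.commutator_eq hY.comap_subtype hY')
    rw [Subgroup.map_commutator, hmapR] at h
    exact (congrArg (⁅Er, ·⁆) (Subgroup.map_subgroupOf_eq_of_le hYE)).symm.trans h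

end Cfsg.Agent.S2860
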