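import Cfsg.Statements.S2861
import Cfsg.Agent.H73.FrakL

set_option autoImplicit false
open Cfsg Cfsg.Agent
open scoped Pointwise commutatorElement

namespace Cfsg.Agent.S2861

/-- Standing hypotheses: G a finite group, S a Sylow p-subgroup, Q a nontrivial large p-subgroup of G contained in S, M a subgroup containing S with the basic property (M ∈ 𝔐_G(S)); Y_M the largest p-reduced normal subgroup of M and M† = M·C_G(Y_M). Let L ∈ 𝔏_G(Y_M) (L ∈ 𝔏_G(Y_M): Y_M ≤ L; O_p(L) is the normal closure in L of Y_M ∩ O_p(L) and normalizes Y_M; L is Y_M-minimal of characteristic p with N_L(Y_M) its unique maximal subgroup over Y_M; and L/O_p(L) ≅ SL₂(q) with q = |Y_M : Y_M ∩ O_p(L)|, or p = 2 and L/O_p(L) is a Suzuki group Sz(q) or dihedral of order 2r, r an odd prime) and A = O_p(L). Then Y_M·A/A is the unique nontrivial elementary abelian normal p-subgroup of N_L(Y_M)/A. -/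
theorem result {G : Type*} [Group G] [Finite G] {p : ℕ} [Fact p.Prime] (S : Sylow p G) (Q : Subgroup G) (hQp : IsPGroup p ↥Q) (hQ1 : Q ≠ ⊥) (hQS : Q ≤ (S : Subgroup G)) (hQ : Cfsg.IsLarge Q) (M : Subgroup G) (hSM : (S : Subgroup G) ≤ M) (hM : Cfsg.IsInFrakM p M) (L : Subgroup G) (hL : Cfsg.IsInFrakL p M L) (NL : Subgroup G) (hNL : NL = L ⊓ Subgroup.normalizer (((Cfsg.largestPReducedOf p M) : Subgroup G) : Set G)) [hn : (((Cfsg.pCoreOf p L)).subgroupOf NL).Normal] : let Ybar : Subgroup (↥NL ⧸ ((Cfsg.pCoreOf p L)).subgroupOf NL) := (((Cfsg.largestPReducedOf p M)).subgroupOf NL).map (QuotientGroup.mk' (((Cfsg.pCoreOf p L)).subgroupOf NL)); Ybar ≠ ⊥ ∧ Ybar.Normal ∧ Cfsg.IsElementaryAbelian p Ybar ∧ ∀ (V : Subgroup (↥NL ⧸ ((Cfsg.pCoreOf p L)).subgroupOf NL)), V.Normal → Cfsg.IsElementaryAbelian p V → V ≠ ⊥ → V = Ybar := by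
  intro Ybar
  obtain ⟨hY, -, -, -⟩ := H73.frakM_facts hM hSM
  haveI := H19.pCore_normal p ↥L
  have hel : Cfsg.IsElementaryAbelian p (Cfsg.largestPReducedOf p M) := hY.2.2.1
  have hU := H73.normalElemUnique_frakLBar hel hL
  have hne := H73.frakLBar_ne_bot hL
  have hNbar := H73.normalizer_frakLBar hL
  have hNLL : NL ≤ L := hNL ▸ inf_le_left
  have hYNL : Cfsg.largestPReducedOf p M ≤ NL := hNL ▸ le_inf hL.1 Subgroup.le_normalizer
  let f : ↥NL →* ↥L ⧸ Cfsg.pCore p ↥L :=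
    (QuotientGroup.mk' (Cfsg.pCore p ↥L)).comp (Subgroup.inclusion hNLL)
  have hker : f.ker = (Cfsg.pCoreOf p L).subgroupOf NL := by
    ext x
    show QuotientGroup.mk' _ (Subgroup.inclusion hNLL x) = 1 ↔ _
    rw [QuotientGroup.mk'_apply, QuotientGroup.eq_one_iff, ← H73.pCoreOf_subgroupOf]
    exact Iff.rfl
  let ψ := QuotientGroup.lift ((Cfsg.pCoreOf p L).subgroupOf NL) f hker.ge
  have hψ : Function.Injective ψ := by
    rw [← MonoidHom.ker_eq_bot_iff, eq_bot_iff]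
    intro x hx
    obtain ⟨z, rfl⟩ := QuotientGroup.mk'_surjective _ x
    rw [Subgroup.mem_bot, QuotientGroup.mk'_apply, QuotientGroup.eq_one_iff, ← hker]
    exact hx
  have hincl : ((Cfsg.largestPReducedOf p M).subgroupOf NL).map (Subgroup.inclusion hNLL) =
      H73.frakLY p M L := by
    ext x
    constructor
    · rintro ⟨y, hy, rfl⟩; exact hy
    · intro hx; exact ⟨⟨x, hYNL hx⟩, hx, rfl⟩
  have hmapY : Ybar.map ψ = H73.frakLBar (L := L) (p := p) p M := by
    rw [Subgroup.map_map, H73.frakLBar, ← hincl, Subgroup.map_map]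
    rfl
  have hrange : ψ.range = Subgroup.normalizer
      (H73.frakLBar (L := L) (p := p) p M : Set (↥L ⧸ Cfsg.pCore p ↥L)) := by
    rw [hNbar, H73.frakL_normalizer_eq hL]
    ext x
    constructor
    · rintro ⟨z, rfl⟩
      obtain ⟨z, rfl⟩ := QuotientGroup.mk'_surjective _ z
      exact ⟨Subgroup.inclusion hNLL z, hNL.le z.2, rfl⟩
    · rintro ⟨z, hz, rfl⟩
      exact ⟨QuotientGroup.mk' _ ⟨z, hNL ▸ hz⟩, rfl⟩
  refine ⟨fun h => hne ?_, ?_, ?_, ?_⟩
  · rw [← hmapY, h, Subgroup.map_bot]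
  · refine ⟨fun y hy x => ?_⟩
    rw [← Subgroup.mem_map_iff_mem hψ, hmapY, map_mul, map_mul, map_inv]
    have hx : ψ x ∈ ψ.range := ⟨x, rfl⟩
    rw [hrange] at hx
    exact (Subgroup.mem_normalizer_iff.1 hx _).1 (hmapY.le ⟨y, hy, rfl⟩)
  · exact H73.isElementaryAbelian_map (H73.isElementaryAbelian_subgroupOf hel NL) _
  · intro V hVn hVe hV1
    have h := hU (V.map ψ) (hrange ▸ Subgroup.map_le_range ψ V) ?_ (H73.isElementaryAbelian_map hVe ψ)
      fun h => hV1 ((Subgroup.map_eq_bot_iff_of_injective _ hψ).1 h)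
    · exact Subgroup.map_injective hψ (h.trans hmapY.symm)
    · intro n hn' v hv
      rw [← hrange] at hn'
      obtain ⟨n, rfl⟩ := hn'
      obtain ⟨v, hv, rfl⟩ := hv
      exact ⟨n * v * n⁻¹, hVn.conj_mem v hv n, by rw [map_mul, map_mul, map_inv]⟩

end Cfsg.Agent.S2861
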