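import Cfsg.Statements.S2862
import Cfsg.Agent.H73.AsymLLemma
import Cfsg.Agent.S2845

set_option autoImplicit false
open Cfsg Cfsg.Agent
open scoped Pointwise commutatorElement

namespace Cfsg.Agent.S2862

/-- Standing hypotheses: G a finite group, S a Sylow p-subgroup, Q a nontrivial large p-subgroup of G contained in S, M a subgroup containing S with the basic property (M ∈ 𝔐_G(S)); Y_M the largest p-reduced normal subgroup of M and M† = M·C_G(Y_M). Suppose Y_M is char-p-tall and asymmetric in G, H ∈ ℌ_G(O_p(M)), and L is minimal among the subgroups of H containing Y_M with Y_M ≰ O_p(L). Then H = ⟨L, O_p(M)⟩ = ⟨hY_Mh⁻¹, O_p(M)⟩ for every h ∈ L outside N_L(Y_M); L is Y_M-minimal and of characteristic p, with N_L(Y_M) the unique maximal subgroup of L containing Y_M; [V, O^p(L)] ≠ 1 for every noncentral chief factor V/W of H inside O_p(H) (that is, O^p(L) does not act trivially on V/W); and the normal closure of O_p(L) ∩ Y_M in L lies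 in O_p(H). -/
theorem result {G : Type*} [Group G] [Finite G] {p : ℕ} [Fact p.Prime] (S : Sylow p G) (Q : Subgroup G) (hQp : IsPGroup p ↥Q) (hQ1 : Q ≠ ⊥) (hQS : Q ≤ (S : Subgroup G)) (hQ : Cfsg.IsLarge Q) (M : Subgroup G) (hSM : (S : Subgroup G) ≤ M) (hM : Cfsg.IsInFrakM p M) (htall : Cfsg.IsCharPTall p (Cfsg.largestPReducedOf p M)) (hasym : ¬ Cfsg.IsSymmetricIn (Cfsg.largestPReducedOf p M)) (H : Subgroup G) (hH : Cfsg.IsInFrakH p M H) (L : Subgroup G) (hLH : L ≤ H) (hYL : (Cfsg.largestPReducedOf p M) ≤ L) (hYO : ¬ (Cfsg.largestPReducedOf p M) ≤ (Cfsg.pCoreOf p L)) (hmin : ∀ L' : Subgroup G, L' ≤ L → (Cfsg.largestPReducedOf p M) ≤ L' → ¬ (Cfsg.largestPReducedOf p M) ≤ (Cfsg.pCoreOf p L') → L' = L) : (L ⊔ (Cfsg.pCoreOf p M) = H ∧ ∀ h ∈ L, h ∉ Subgroup.normalizer (((Cfsg.largestPReducedOf p M) : Subgroup G) : Set G) → (((Cfsg.largestPReducedOf p M) : Subgroup G).map (MulAut.conj (h : G)).toMonoidHom) ⊔ (Cfsg.pCoreOf p M) = H) ∧ (Cfsg.IsMinimalOver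 (((Cfsg.largestPReducedOf p M)).subgroupOf L) ∧ Subgroup.centralizer (Cfsg.pCore p ↥L : Set ↥L) ≤ Cfsg.pCore p ↥L ∧ L ⊓ Subgroup.normalizer (((Cfsg.largestPReducedOf p M) : Subgroup G) : Set G) < L ∧ ∀ X : Subgroup G, (Cfsg.largestPReducedOf p M) ≤ X → X < L → X ≤ L ⊓ Subgroup.normalizer (((Cfsg.largestPReducedOf p M) : Subgroup G) : Set G)) ∧ (∀ V W' : Subgroup G, V ≤ (Cfsg.pCoreOf p H) → H ≤ Subgroup.normalizer ((V : Subgroup G) : Set G) → H ≤ Subgroup.normalizer ((W' : Subgroup G) : Set G) → W' < V → (∀ Z' : Subgroup G, H ≤ Subgroup.normalizer ((Z' : Subgroup G) : Set G) → W' ≤ Z' → Z' ≤ V → Z' = W' ∨ Z' = V) → ¬ ⁅V, H⁆ ≤ W' → ¬ ⁅V, ((Cfsg.pResidual p ↥L).map (L).subtype)⁆ ≤ W') ∧ (Subgroup.normalClosure (((((Cfsg.pCoreOf p L) ⊓ (Cfsg.largestPReducedOf p M)).subgroupOf L : Subgroup ↥L)) : Set ↥L)).map L.subtype ≤ (Cfsg.pCoreOf p H) := by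
  obtain ⟨-, -, hpar⟩ := S2845.result Q hQp hQ1 hQ
  obtain ⟨hwc, hUP, hNPY, hRY, hRP, hncl, hnc⟩ := H73.frakH_structure hpar hM hSM hasym hH
  obtain ⟨hY, -, -, -⟩ := H73.frakM_facts hM hSM
  obtain ⟨hHc, hPH, hYH, hminH⟩ := hH
  have d : H73.AsymLData p (Cfsg.pCoreOf p M) (Cfsg.largestPReducedOf p M) H L :=
    { wc := hwc
      normalizer_le := hNPY
      le_centralizer := H73.reducedIn_pCoreOf_le_centralizer hY
      elem := hY.2.2.1
      le_core := H73.reducedIn_le_pCoreOf hY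
      core_le := hPH
      charP := (H74.charP_subgroup_iff H).1 hHc
      not_le := hYH
      min := hminH
      asym := hasym
      residual := hRY
      residual_sup := hRP
      le := hLH
      mem := hYL
      not_le_L := hYO
      minL := hmin }
  refine ⟨⟨d.sup_eq, fun h hh hn => d.conj_sup_eq hh hn⟩,
    ⟨d.isMinimalOver, ?_, d.not_le_normalizer, fun X hYX hXL => le_inf hXL.le (d.proper_le_normalizer hYX hXL)⟩,
    fun V W' hV hHV hHW' hlt hchief hncf => d.residual_nontrivial hV hHV hHW' hlt hchief hncf, ?_⟩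
  · -- `L` inherits characteristic `p` from `H`
    have hN : Cfsg.pCore p ↥H ≤ Subgroup.normalizer ((L.subgroupOf H : Subgroup ↥H) : Set ↥H) := by
      rw [← Subgroup.subgroupOf_normalizer_eq hLH]
      exact fun x hx => d.core_le_normalizer_L ⟨x, hx, rfl⟩
    exact H74.charP_congr (Subgroup.subgroupOfEquivOfLe hLH)
      ((H74.charP_subgroup_iff _).2 (H74.charP_of_normalized_by_pCore hHc hN))
  · set B := Cfsg.pCoreOf p L ⊓ Cfsg.largestPReducedOf p M
    refine Subgroup.map_le_iff_le_comap.2 ?_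
    haveI : ((Cfsg.pCoreOf p H).comap L.subtype).Normal := by
      refine ⟨fun n hn g => ?_⟩
      exact (Subgroup.mem_normalizer_iff.1 (H74.le_normalizer_pCoreOf H (hLH g.2)) _).1 hn
    refine Subgroup.normalClosure_le_normal fun b hb => ?_
    exact d.inf_core_le hb

end Cfsg.Agent.S2862
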