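import Cfsg.Statements.S2863
import Cfsg.Agent.H73.FrakLFree

set_option autoImplicit false
open Cfsg Cfsg.Agent
open scoped Pointwise commutatorElement

namespace Cfsg.Agent.S2863

/-- Standing hypotheses: G a finite group, S a Sylow p-subgroup, Q a nontrivial large p-subgroup of G contained in S, M a subgroup containing S with the basic property (M ∈ 𝔐_G(S)); Y_M the largest p-reduced normal subgroup of M and M† = M·C_G(Y_M). Let L ∈ 𝔏_G(Y_M) (L ∈ 𝔏_G(Y_M): Y_M ≤ L; O_p(L) is the normal closure in L of Y_M ∩ O_p(L) and normalizes Y_M; L is Y_M-minimal of characteristic p with N_L(Y_M) its unique maximal subgroup over Y_M; and L/O_p(L) ≅ SL₂(q) with q = |Y_M : Y_M ∩ O_p(L)|, or p = 2 and L/O_p(L) is a Suzuki group Sz(q) or dihedral of order 2r, r an odd prime), A = O_p(L), and C = C_{Y_M}(L). Then every element h of L whose order is not a power of p acts without nontrivial fixed points on A/C: for a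 ∈ A, hah⁻¹a⁻¹ ∈ C implies a ∈ C. -/
theorem result {G : Type*} [Group G] [Finite G] {p : ℕ} [Fact p.Prime] (S : Sylow p G) (Q : Subgroup G) (hQp : IsPGroup p ↥Q) (hQ1 : Q ≠ ⊥) (hQS : Q ≤ (S : Subgroup G)) (hQ : Cfsg.IsLarge Q) (M : Subgroup G) (hSM : (S : Subgroup G) ≤ M) (hM : Cfsg.IsInFrakM p M) (L : Subgroup G) (hL : Cfsg.IsInFrakL p M L) (h : G) (hh : h ∈ L) (hnp : ¬ ∃ k : ℕ, orderOf h = p ^ k) : ∀ a ∈ (Cfsg.pCoreOf p L), h * a * h⁻¹ * a⁻¹ ∈ (Cfsg.largestPReducedOf p M) ⊓ Subgroup.centralizer ((L : Subgroup G) : Set G) → a ∈ (Cfsg.largestPReducedOf p M) ⊓ Subgroup.centralizer ((L : Subgroup G) : Set G) := by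
  intro a ha hfix
  obtain ⟨hY, -, -, -⟩ := H73.frakM_facts hM hSM
  have hel : Cfsg.IsElementaryAbelian p (Cfsg.largestPReducedOf p M) := hY.2.2.1
  haveI := H19.pCore_normal p ↥L
  have d := H73.rootAction_frakL hel hL
  have hrg := H73.rootGenerated_frakLBar hel hL
  set Z := H73.frakLY p M L ⊓ Subgroup.center ↥L with hZ
  have hmem : ∀ x : ↥L, (x : G) ∈ Cfsg.largestPReducedOf p M ⊓ Subgroup.centralizer ((L : Subgroup G) : Set G) ↔
      x ∈ Z := by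
    intro x
    simp only [hZ, Subgroup.mem_inf, Subgroup.mem_subgroupOf, Subgroup.mem_centralizer_iff,
      Subgroup.mem_center_iff]
    refine and_congr_right fun _ => ⟨fun h y => Subtype.ext (h y y.2), fun h y hy => ?_⟩
    exact congrArg Subtype.val (h ⟨y, hy⟩)
  have haL : a ∈ L := H74.pCoreOf_le L ha
  have ha' : (⟨a, haL⟩ : ↥L) ∈ Cfsg.pCore p ↥L := by
    rw [← H73.pCoreOf_subgroupOf]; exact ha
  let hL' : ↥L := ⟨h, hh⟩
  have hf : H73.FixMod Z hL' ⟨a, haL⟩ := (hmem _).1 (by simpa using hfix)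
  have hpw : ∀ k : ℕ, H73.FixMod Z (hL' ^ k) ⟨a, haL⟩ := by
    intro k
    induction k with
    | zero => simp [H73.FixMod]
    | succ k ih =>
      show _ ∈ Z
      rw [pow_succ', show hL' * hL' ^ k * ⟨a, haL⟩ * (hL' * hL' ^ k)⁻¹ * (⟨a, haL⟩ : ↥L)⁻¹ =
        (hL' * (hL' ^ k * ⟨a, haL⟩ * (hL' ^ k)⁻¹ * (⟨a, haL⟩ : ↥L)⁻¹) * hL'⁻¹) *
          (hL' * ⟨a, haL⟩ * hL'⁻¹ * (⟨a, haL⟩ : ↥L)⁻¹) by group]
      exact mul_mem (d.conj_z ih hL') hf
  obtain ⟨r, hr, hrp, hrd⟩ : ∃ r : ℕ, r.Prime ∧ r ≠ p ∧ r ∣ orderOf hL' := by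
    by_contra hcon
    push_neg at hcon
    refine hnp ⟨(orderOf h).primeFactorsList.length, Nat.eq_prime_pow_of_unique_prime_dvd
      (orderOf_pos h).ne' fun {q} hq hqd => ?_⟩
    by_contra hqp
    exact hcon q hq hqp (by rwa [Subgroup.orderOf_mk])
  obtain ⟨k, hk⟩ : ∃ k : ℕ, orderOf (hL' ^ k) = r :=
    ⟨orderOf hL' / r, orderOf_pow_orderOf_div (orderOf_pos hL').ne' hrd⟩
  have hs : orderOf (QuotientGroup.mk' (Cfsg.pCore p ↥L) (hL' ^ k)) = r := by
    rcases (Nat.dvd_prime hr).1 (hk ▸ orderOf_map_dvd (QuotientGroup.mk' (Cfsg.pCore p ↥L)) (hL' ^ k)) with h1 | h1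
    · exfalso
      rw [orderOf_eq_one_iff, QuotientGroup.mk'_apply, QuotientGroup.eq_one_iff] at h1
      obtain ⟨j, hj⟩ := H19.pCore_isPGroup (G := ↥L) p ⟨_, h1⟩
      have h2 : orderOf (hL' ^ k) ∣ p ^ j := orderOf_dvd_of_pow_eq_one (congrArg Subtype.val hj)
      rw [hk] at h2
      exact hrp ((Nat.prime_dvd_prime_iff_eq hr Fact.out).1 (hr.dvd_of_dvd_pow h2))
    · exact h1
  exact (hmem ⟨a, haL⟩).2 (d.free_of_rootGood (hrg _ r hr hrp hs) _ ha' (hpw k))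

end Cfsg.Agent.S2863
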