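import Cfsg.Statements.S2864
import Cfsg.Agent.H73.ResidualCentral
import Cfsg.Agent.H73.AsymLLemma
import Cfsg.Agent.S2845
import Cfsg.Agent.H20.PxQ
import Cfsg.Agent.H24.PGroupBasic

set_option autoImplicit false
open Cfsg Cfsg.Agent
open scoped Pointwise commutatorElement

namespace Cfsg.Agent.S2864

/-- Standing hypotheses: G a finite group, S a Sylow p-subgroup, Q a nontrivial large p-subgroup of G contained in S, M a subgroup containing S with the basic property (M ∈ 𝔐_G(S)); Y_M the largest p-reduced normal subgroup of M and M† = M·C_G(Y_M). Let I be a nontrivial normal p-subgroup of M and Y ≤ O_p(M†); let L be a subgroup of G containing Y and A a normal p-subgroup of L with I ≤ A ≤ M. If [Y, A] ≤ [I, A], then Y ≤ O_p(L). -/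
theorem result {G : Type*} [Group G] [Finite G] {p : ℕ} [Fact p.Prime] (S : Sylow p G) (Q : Subgroup G) (hQp : IsPGroup p ↥Q) (hQ1 : Q ≠ ⊥) (hQS : Q ≤ (S : Subgroup G)) (hQ : Cfsg.IsLarge Q) (M : Subgroup G) (hSM : (S : Subgroup G) ≤ M) (hM : Cfsg.IsInFrakM p M) (I : Subgroup G) (hI1 : I ≠ ⊥) (hIp : IsPGroup p ↥I) (hIM : I ≤ M ∧ M ≤ Subgroup.normalizer ((I : Subgroup G) : Set G)) (Y : Subgroup G) (hY : Y ≤ (Cfsg.pCoreOf p (M ⊔ Subgroup.centralizer (((Cfsg.largestPReducedOf p M) : Subgroup G) : Set G)))) (L : Subgroup G) (hYL : Y ≤ L) (A : Subgroup G) (hAp : IsPGroup p ↥A) (hAL : A ≤ L ∧ L ≤ Subgroup.normalizer ((A : Subgroup G) : Set G)) (hIA : I ≤ A) (hAM : A ≤ M) (hc : ⁅Y, A⁆ ≤ ⁅I, A⁆) : Y ≤ (Cfsg.pCoreOf p L) := by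
  obtain ⟨-, -, hpar⟩ := S2845.result Q hQp hQ1 hQ
  obtain ⟨hYred, -, hsupN, hMC⟩ := H73.frakM_facts hM hSM
  set D := M ⊔ Subgroup.centralizer ((Cfsg.largestPReducedOf p M : Subgroup G) : Set G) with hD
  set N_I := Subgroup.normalizer (I : Set G)
  have hNI : N_I ≤ D := by
    have hmem : N_I ∈ Cfsg.charPSubgroups p G :=
      H73.mem_charPSubgroups_of_parabolic hpar (hSM.trans hIM.2) fun h =>
        hI1 (le_bot_iff.1 (h ▸ H74.le_pCoreOf Subgroup.le_normalizer le_rfl hIp))
    obtain ⟨X', hXX', hX'max⟩ := (Set.toFinite (Cfsg.charPSubgroups p G)).exists_le_maximal hmem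
    have hX'eq := hM.2.2.1 X' ⟨hX'max.1, fun Z hZ h => le_antisymm (hX'max.2 hZ h) h⟩
      (hIM.2.trans hXX')
    exact hXX'.trans hX'eq.le
  set O := Cfsg.pCoreOf p D
  set U := Cfsg.pCoreOf p L
  set C := L ⊓ Subgroup.centralizer (A : Set G)
  have hCD : C ≤ D := inf_le_right.trans ((Subgroup.centralizer_le hIA).trans
    ((Subgroup.centralizer_le_normalizer _).trans hNI))
  have hLC : L ≤ Subgroup.normalizer (C : Set G) := H73.normalizer_inf_le Subgroup.le_normalizer
    (hAL.2.trans H74.normalizer_le_normalizer_centralizer)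
  have hLU : L ≤ Subgroup.normalizer (U : Set G) := H74.le_normalizer_pCoreOf L
  -- the kernel on `A / [A, A]`
  have hLA' : L ≤ Subgroup.normalizer ((⁅A, A⁆ : Subgroup G) : Set G) := by
    intro x hx
    rw [← H50.map_conj_eq_iff, Subgroup.map_commutator, H50.map_conj_eq_iff.2 (hAL.2 hx)]
  have hYA : ⁅Y, A⁆ ≤ ⁅A, A⁆ := hc.trans (Subgroup.commutator_mono hIA le_rfl)
  set N := ⨆ l : ↥L, Y.map (MulAut.conj (l : G)).toMonoidHom with hN
  have hNL : N ≤ L := iSup_le fun l =>
    (Subgroup.map_mono hYL).trans (H50.map_conj_eq_iff.2 (Subgroup.le_normalizer l.2)).le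
  have hLN : L ≤ Subgroup.normalizer (N : Set G) := H73.le_normalizer_iSup_conj Y L
  have hNA : ⁅N, A⁆ ≤ ⁅A, A⁆ := by
    refine H73.commutator_iSup_le (hNL.trans hLA') fun l => ?_
    have h1 := Subgroup.map_mono (f := (MulAut.conj (l : G)).toMonoidHom) hYA
    rw [Subgroup.map_commutator, H50.map_conj_eq_iff.2 (hAL.2 l.2),
      H50.map_conj_eq_iff.2 (hLA' l.2)] at h1
    exact h1
  set R := (Cfsg.pResidual p ↥N).map N.subtype
  have hfr : ⁅A, A⁆ ≤ (frattini ↥A).map A.subtype := by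
    have e : ⁅A, A⁆ = (commutator ↥A).map A.subtype := by
      rw [commutator_def, Subgroup.map_commutator, ← MonoidHom.range_eq_map, Subgroup.range_subtype]
    rw [e]
    exact Subgroup.map_mono (H24.commutator_le_frattini hAp)
  have hRC : R ≤ C := by
    refine H73.resid_le_of_coprime fun x hx hcop => ⟨hNL hx, ?_⟩
    have hco : (Nat.card (Subgroup.zpowers x)).Coprime (Nat.card (frattini ↥A)) := by
      obtain ⟨k, hk⟩ := IsPGroup.iff_card.1 (hAp.to_subgroup (frattini ↥A))
      rw [Nat.card_zpowers, hk]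
      exact Nat.Coprime.pow_right _ hcop
    refine H20.le_centralizer_of_trivial_on_frattini
      (Subgroup.zpowers_le.2 (hAL.2 (hNL hx))) hco ?_ (Subgroup.mem_zpowers x)
    intro a ha k hk
    exact hfr (hNA (Subgroup.commutator_mem_commutator
      ((Subgroup.zpowers_le.2 hx) ha) hk))
  have hRN : R ≤ N := Subgroup.map_subtype_le _
  have hLR : L ≤ Subgroup.normalizer (R : Set G) := hLN.trans (H73.normalizer_le_normalizer_resid N)
  have hOC : O ⊓ C ≤ U := by
    have h1 : O ⊓ C ≤ Cfsg.pCoreOf p C := H74.le_pCoreOf inf_le_right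
      (H73.normalizer_inf_le (hCD.trans (H74.le_normalizer_pCoreOf D)) Subgroup.le_normalizer)
      ((H74.pCoreOf_isPGroup D).to_le inf_le_left)
    exact h1.trans (H74.le_pCoreOf ((H74.pCoreOf_le C).trans inf_le_left)
      (hLC.trans (H73.normalizer_le_normalizer_pCoreOf C)) (H74.pCoreOf_isPGroup C))
  have hYR : ⁅Y, R⁆ ≤ U := by
    refine le_trans (le_inf ?_ ?_) hOC
    · refine (Subgroup.commutator_mono hY (hRC.trans hCD)).trans ?_
      rw [Subgroup.commutator_comm]
      exact H73.commutator_le_of_le_normalizer (H74.le_normalizer_pCoreOf D)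
    · exact (Subgroup.commutator_mono le_rfl hRC).trans
        (H73.commutator_le_of_le_normalizer (hYL.trans hLC))
  have hcent : ⁅R, N⁆ ≤ U := by
    rw [Subgroup.commutator_comm]
    refine H73.commutator_iSup_le (hNL.trans hLU) fun l => ?_
    have h1 := Subgroup.map_mono (f := (MulAut.conj (l : G)).toMonoidHom) hYR
    rw [Subgroup.map_commutator, H50.map_conj_eq_iff.2 (hLR l.2),
      H50.map_conj_eq_iff.2 (hLU l.2)] at h1
    exact h1
  have hYN : Y ≤ N := (H50.map_conj_eq_iff.2 (one_mem _)).ge.trans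
    (le_iSup (fun l : ↥L => Y.map (MulAut.conj (l : G)).toMonoidHom) 1)
  refine (H73.pgroup_le_pCoreOf_of_residual_central (hNL.trans hLU) (H74.pCoreOf_isPGroup L) hcent
    hYN ((H74.pCoreOf_isPGroup D).to_le hY)).trans ?_
  exact H74.le_pCoreOf ((H74.pCoreOf_le N).trans hNL)
    (hLN.trans (H73.normalizer_le_normalizer_pCoreOf N)) (H74.pCoreOf_isPGroup N)

end Cfsg.Agent.S2864
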