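import Cfsg.Statements.S2872
import Cfsg.Agent.H73.CentralInvolutionTransfer
import Cfsg.Agent.H24.PGroupBasic
import Cfsg.Agent.H22.PResidual

set_option autoImplicit false
open Cfsg

namespace Cfsg.Agent.S2872

/-- Let S be a Sylow 2-subgroup of the finite group G. Then G has a proper normal subgroup of 2-power index (O²(G) ≠ G), or Ω₁(Z(S)) is contained in the Frattini subgroup of S, or N_G(S) acts nontrivially on Ω₁(Z(S)) by conjugation. -/
theorem result {G : Type*} [Group G] [Finite G] (S : Sylow 2 G) : Cfsg.pResidual 2 G ≠ ⊤ ∨ Cfsg.omegaOne 2 ((S : Subgroup G) ⊓ Subgroup.centralizer ((S : Subgroup G) : Set G)) ≤ (frattini ↥(S : Subgroup G)).map (S : Subgroup G).subtype ∨ ∃ g ∈ Subgroup.normalizer ((S : Subgroup G) : Set G), ∃ z ∈ Cfsg.omegaOne 2 ((S : Subgroup G) ⊓ Subgroup.centralizer ((S : Subgroup G) : Set G)), g * z * g⁻¹ ≠ z := by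
  classical
  by_contra hcon
  push Not at hcon
  obtain ⟨h1, h2, h3⟩ := hcon
  obtain ⟨z, hz, hz2, hzn⟩ : ∃ z, z ∈ (S : Subgroup G) ⊓ Subgroup.centralizer ((S : Subgroup G) : Set G) ∧
      z ^ 2 = 1 ∧ z ∉ (frattini ↥(S : Subgroup G)).map (S : Subgroup G).subtype := by
    by_contra hc
    push Not at hc
    exact h2 (Subgroup.closure_le _ |>.2 fun z hz => hc z hz.1 hz.2)
  have hzΩ : z ∈ omegaOne 2 ((S : Subgroup G) ⊓ Subgroup.centralizer ((S : Subgroup G) : Set G)) :=
    Subgroup.subset_closure ⟨hz, hz2⟩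
  obtain ⟨M, hM, hzM⟩ : ∃ M : Subgroup ↥(S : Subgroup G), IsCoatom M ∧ (⟨z, hz.1⟩ : ↥(S : Subgroup G)) ∉ M := by
    by_contra hc
    push Not at hc
    refine hzn ⟨⟨z, hz.1⟩, ?_, rfl⟩
    simp only [frattini, Order.radical, SetLike.mem_coe, Subgroup.mem_iInf]
    exact hc
  obtain ⟨-, hidx, -⟩ := H24.coatom_spec S.2 hM
  let θ : ↥(S : Subgroup G) →* ℤˣ :=
    MonoidHom.mk' (fun s => if s ∈ M then 1 else -1) (fun a b => by
      have := Subgroup.mul_mem_iff_of_index_two hidx (a := a) (b := b)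
      by_cases ha : a ∈ M <;> by_cases hb : b ∈ M <;> simp_all)
  have hθ : θ ⟨z, hz.1⟩ = -1 := if_neg hzM
  have hV := H73.transfer_central_involution S θ z hz.1 hz2 (fun s hs => hz.2 s hs) (fun g hg => by
    have := h3 g⁻¹ (inv_mem hg) z hzΩ
    simpa using this)
  rw [hθ] at hV
  refine absurd h1 fun htop => ?_
  have : Fact (Nat.Prime 2) := ⟨Nat.prime_two⟩
  have hle : pResidual 2 G ≤ (MonoidHom.transfer θ).ker := by
    refine H22.pResidual_le_ker _ fun u => ⟨1, ?_⟩
    rw [pow_one]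
    exact Int.units_sq u
  rw [htop] at hle
  have : MonoidHom.transfer θ z = 1 := hle (Subgroup.mem_top z)
  rw [hV] at this
  exact absurd this (by decide)

end Cfsg.Agent.S2872
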