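import Cfsg.Statements.S2873
import Cfsg.Agent.H19.Cores
import Mathlib.GroupTheory.SpecificGroups.Dihedral
import Mathlib.Algebra.Field.ZMod
import Mathlib.Tactic.LinearCombination

set_option autoImplicit false
open Cfsg

namespace Cfsg.Agent.S2873

/-- Let G be a finite group and r an odd prime such that G ⧸ O₂(G) is dihedral of order 2r, and let R be a Sylow r-subgroup of G with C_{O₂(G)}(R) = 1. Then N_G(R) is dihedral of order 2r; for any involution a of N_G(R), every involution of G outside O₂(G) is conjugate to a; and |C_{O₂(G)}(a)|² = |O₂(G)|. -/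
theorem result {G : Type*} [Group G] [Finite G] {r : ℕ} [Fact r.Prime] (hr : r ≠ 2) [hN : (Cfsg.pCore 2 G).Normal] (hquot : Nonempty (G ⧸ Cfsg.pCore 2 G ≃* DihedralGroup r)) (R : Sylow r G) (hC : Cfsg.pCore 2 G ⊓ Subgroup.centralizer ((R : Subgroup G) : Set G) = ⊥) : Nonempty (↥(Subgroup.normalizer ((R : Subgroup G) : Set G)) ≃* DihedralGroup r) ∧ ∀ a : G, a ∈ Subgroup.normalizer ((R : Subgroup G) : Set G) → orderOf a = 2 → (∀ b : G, orderOf b = 2 → b ∉ Cfsg.pCore 2 G → ∃ g : G, g * a * g⁻¹ = b) ∧ Nat.card ↥(Cfsg.pCore 2 G ⊓ Subgroup.centralizer ({a} : Set G)) ^ 2 = Nat.card ↥(Cfsg.pCore 2 G) := by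
  classical
  obtain ⟨e⟩ := hquot
  have hr2 : IsUnit (2 : ZMod r) := by
    rw [isUnit_iff_ne_zero]
    intro h
    have : (r : ℕ) ∣ 2 := (ZMod.natCast_eq_zero_iff 2 r).1 (by simpa using h)
    exact hr ((Nat.prime_dvd_prime_iff_eq Fact.out Nat.prime_two).1 this)
  have : Fact (Nat.Prime 2) := ⟨Nat.prime_two⟩
  set Q := pCore 2 G with hQdef
  set N := Subgroup.normalizer ((R : Subgroup G) : Set G) with hNdef
  set f : G →* DihedralGroup r := e.toMonoidHom.comp (QuotientGroup.mk' Q) with hf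
  have hsurj : Function.Surjective f := e.surjective.comp (QuotientGroup.mk'_surjective Q)
  have hker : ∀ g, f g = 1 ↔ g ∈ Q := fun g => by
    rw [hf, MonoidHom.comp_apply, MulEquiv.toMonoidHom_eq_coe, MonoidHom.coe_coe, map_eq_one_iff e e.injective,
      QuotientGroup.mk'_apply, QuotientGroup.eq_one_iff]
  have hRQ : (R : Subgroup G) ⊓ Q = ⊥ :=
    disjoint_iff.1 (IsPGroup.disjoint_of_ne r 2 hr _ _ R.2 (H19.pCore_isPGroup 2))
  -- `N(R)` meets `Q` trivially
  have hNQ : ∀ n ∈ N, n ∈ Q → n = 1 := by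
    intro n hn hnQ
    have : n ∈ Q ⊓ Subgroup.centralizer ((R : Subgroup G) : Set G) := by
      refine ⟨hnQ, Subgroup.mem_centralizer_iff.2 fun y hy => ?_⟩
      have h1 : n * y * n⁻¹ * y⁻¹ ∈ (R : Subgroup G) ⊓ Q :=
        Subgroup.mem_inf.2 ⟨mul_mem ((Subgroup.mem_normalizer_iff.1 hn y).1 hy) (inv_mem hy),
          by simpa [mul_assoc] using mul_mem hnQ (hN.conj_mem _ (inv_mem hnQ) y)⟩
      rw [hRQ, Subgroup.mem_bot] at h1
      exact (mul_inv_eq_iff_eq_mul.1 (mul_inv_eq_one.1 h1)).symm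
    rw [hC] at this
    exact Subgroup.mem_bot.1 this
  -- the image of `R` is the rotation subgroup
  have hRrot : ∀ y ∈ (R : Subgroup G), ∃ i : ZMod r, f y = DihedralGroup.r i := by
    intro y hy
    cases hfy : f y with
    | r i => exact ⟨i, rfl⟩
    | sr i =>
      exfalso
      obtain ⟨k, hk⟩ := R.2 ⟨y, hy⟩
      have h1 : (f y) ^ r ^ k = 1 := by
        rw [← map_pow, show y ^ r ^ k = 1 from congrArg Subtype.val hk, map_one]
      rw [hfy] at h1
      have h2 := orderOf_dvd_of_pow_eq_one h1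
      rw [DihedralGroup.orderOf_sr] at h2
      exact hr ((Nat.prime_dvd_prime_iff_eq Nat.prime_two Fact.out).1 (Nat.prime_two.dvd_of_dvd_pow h2)).symm
  have hR1 : (R : Subgroup G) ≠ ⊥ := by
    refine R.ne_bot_of_dvd_card ?_
    obtain ⟨g, hg⟩ := hsurj (DihedralGroup.r 1)
    have := orderOf_map_dvd f g
    rw [hg, DihedralGroup.orderOf_r_one] at this
    exact this.trans (orderOf_dvd_natCard g)
  obtain ⟨x₀, hx₀, hx₀1⟩ := (Subgroup.bot_or_exists_ne_one _).resolve_left hR1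
  obtain ⟨i₀, hi₀⟩ := hRrot x₀ hx₀
  have hi₀0 : i₀ ≠ 0 := fun h => hx₀1 (by
    rw [h, DihedralGroup.r_zero, hker] at hi₀
    exact Subgroup.mem_bot.1 (hRQ ▸ Subgroup.mem_inf.2 ⟨hx₀, hi₀⟩))
  set x : G := x₀ ^ (i₀⁻¹).val with hx
  have hxR : x ∈ (R : Subgroup G) := pow_mem hx₀ _
  have hfx : f x = DihedralGroup.r 1 := by
    rw [hx, map_pow, hi₀, DihedralGroup.r_pow, ZMod.natCast_zmod_val, mul_inv_cancel₀ hi₀0]
  have hfxi : ∀ i : ZMod r, f (x ^ i.val) = DihedralGroup.r i := fun i => by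
    rw [map_pow, hfx, DihedralGroup.r_one_pow, ZMod.natCast_zmod_val]
  have hRgen : ∀ y ∈ (R : Subgroup G), ∃ k : ℕ, y = x ^ k := by
    intro y hy
    obtain ⟨i, hi⟩ := hRrot y hy
    refine ⟨i.val, ?_⟩
    have h1 : (x ^ i.val)⁻¹ * y ∈ Q := by rw [← hker, map_mul, map_inv, hfxi, hi, inv_mul_cancel]
    have := Subgroup.mem_bot.1 (hRQ ▸ Subgroup.mem_inf.2 ⟨mul_mem (inv_mem (pow_mem hxR _)) hy, h1⟩)
    exact (inv_mul_eq_one.1 this).symm
  -- `N(R)` maps onto the dihedral group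
  have hNsurj : ∀ d : DihedralGroup r, ∃ n ∈ N, f n = d := by
    let K : Subgroup G := (Subgroup.zpowers (DihedralGroup.r (1 : ZMod r))).comap f
    have hrot : (Subgroup.zpowers (DihedralGroup.r (1 : ZMod r))).Normal := by
      refine ⟨fun n hn g => ?_⟩
      obtain ⟨k, rfl⟩ := Subgroup.mem_zpowers_iff.1 hn
      rw [Subgroup.mem_zpowers_iff]
      rcases g with j | j
      · exact ⟨k, by simp⟩
      · exact ⟨-k, by simp⟩
    have : K.Normal := hrot.comap f
    have hRK : (R : Subgroup G) ≤ K := fun y hy => by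
      obtain ⟨k, rfl⟩ := hRgen y hy
      exact Subgroup.mem_comap.2 (by rw [map_pow, hfx]; exact pow_mem (Subgroup.mem_zpowers _) k)
    intro d
    obtain ⟨g, rfl⟩ := hsurj d
    have hg : g ∈ Subgroup.normalizer ((R : Subgroup G) : Set G) ⊔ K := by
      rw [show Subgroup.normalizer ((R : Subgroup G) : Set G) ⊔ K = ⊤ from Sylow.normalizer_sup_eq_top' R hRK]
      trivial
    obtain ⟨n, hn, k, hk, rfl⟩ := Subgroup.mem_sup_of_normal_right.1 hg
    obtain ⟨j, hj⟩ := Subgroup.mem_zpowers_iff.1 (Subgroup.mem_comap.1 hk)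
    refine ⟨n * x ^ j, mul_mem hn (zpow_mem (Subgroup.le_normalizer hxR) j), ?_⟩
    rw [map_mul, map_mul, map_zpow, hfx, hj]
  have hNinj : ∀ n ∈ N, ∀ m ∈ N, f n = f m → n = m := by
    intro n hn m hm h
    refine (inv_mul_eq_one.1 (hNQ (n⁻¹ * m) (mul_mem (inv_mem hn) hm) ?_))
    rw [← hker, map_mul, map_inv, h, inv_mul_cancel]
  refine ⟨⟨MulEquiv.ofBijective (f.comp N.subtype) ⟨fun n m h => Subtype.ext (hNinj n n.2 m m.2 h),
    fun d => ?_⟩⟩, fun a haN ha => ?_⟩
  · obtain ⟨n, hn, hnd⟩ := hNsurj d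
    exact ⟨⟨n, hn⟩, hnd⟩
  have hinvo : ∀ b : G, orderOf b = 2 → b ∉ Q → ∃ j : ZMod r, f b = DihedralGroup.sr j := by
    intro b hb hbQ
    cases hfb : f b with
    | sr j => exact ⟨j, rfl⟩
    | r j =>
      exfalso
      have h1 : (f b) ^ 2 = 1 := by rw [← map_pow, ← hb, pow_orderOf_eq_one, map_one]
      rw [hfb, DihedralGroup.r_pow, DihedralGroup.one_def, DihedralGroup.r.injEq] at h1
      have hj : j = 0 := by simpa using hr2.mul_left_eq_zero.1 (by simpa using h1)
      rw [hj, DihedralGroup.r_zero, hker] at hfb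
      exact hbQ hfb
  have haQ : a ∉ Q := fun h => by
    rw [hNQ a haN h, orderOf_one] at ha
    omega
  obtain ⟨j₀, hj₀⟩ := hinvo a ha haQ
  set a' := a * x with ha'
  have ha'N : a' ∈ N := mul_mem haN (Subgroup.le_normalizer hxR)
  have hfa' : f a' = DihedralGroup.sr (j₀ + 1) := by rw [ha', map_mul, hj₀, hfx, DihedralGroup.sr_mul_r]
  have haa : a * a = 1 := by rw [← pow_two, ← ha, pow_orderOf_eq_one]
  have ha'a' : a' * a' = 1 := hNinj _ (mul_mem ha'N ha'N) 1 (one_mem N)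
    (by rw [map_mul, hfa', DihedralGroup.sr_mul_self, map_one])
  have hxC : ∀ q ∈ Q, q * x = x * q → q = 1 := by
    intro q hq hqx
    have : q ∈ Q ⊓ Subgroup.centralizer ((R : Subgroup G) : Set G) := by
      refine ⟨hq, Subgroup.mem_centralizer_iff.2 fun y hy => ?_⟩
      obtain ⟨k, rfl⟩ := hRgen y hy
      exact ((show Commute q x from hqx).pow_right k).eq.symm
    rw [hC] at this
    exact Subgroup.mem_bot.1 this
  have hconj : ∀ q ∈ Q, ∀ g : G, f (q * g * q⁻¹) = f g := fun q hq g => by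
    rw [map_mul, map_mul, map_inv, (hker q).2 hq, one_mul, inv_one, mul_one]
  -- elements over `x` are conjugate to `x`
  have hover : ∀ y : G, f y = f x → ∃ q ∈ Q, y = q * x * q⁻¹ := by
    intro y hy
    let φ : Q → Q := fun q => ⟨(q : G) * x * (q : G)⁻¹ * x⁻¹, by
      rw [← hker, map_mul, hconj _ q.2, map_inv, mul_inv_cancel]⟩
    have hinj : Function.Injective φ := by
      intro u v huv
      have h : (u : G) * x * (u : G)⁻¹ * x⁻¹ = (v : G) * x * (v : G)⁻¹ * x⁻¹ := congrArg Subtype.val huv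
      have h' : (u : G) * x * (u : G)⁻¹ = (v : G) * x * (v : G)⁻¹ := mul_right_cancel h
      refine Subtype.ext (inv_mul_eq_one.1 (hxC ((v : G)⁻¹ * u) (mul_mem (inv_mem v.2) u.2) ?_)).symm
      calc (v : G)⁻¹ * u * x = (v : G)⁻¹ * ((u : G) * x * (u : G)⁻¹) * u := by group
        _ = x * ((v : G)⁻¹ * u) := by rw [h']; group
    obtain ⟨q, hq⟩ := Finite.injective_iff_surjective.1 hinj
      ⟨y * x⁻¹, by rw [← hker, map_mul, hy, map_inv, mul_inv_cancel]⟩
    refine ⟨q, q.2, ?_⟩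
    have h : (q : G) * x * (q : G)⁻¹ * x⁻¹ = y * x⁻¹ := congrArg Subtype.val hq
    exact (mul_right_cancel h).symm
  -- a pair of involutions over `(a, a')` is a `Q`-conjugate of `(a, a')`
  have hpair : ∀ b c : G, b * b = 1 → c * c = 1 → f b = f a → f c = f a' →
      ∃ q ∈ Q, b = q * a * q⁻¹ ∧ c = q * a' * q⁻¹ := by
    intro b c hb hc hfb hfc
    obtain ⟨q, hq, hqy⟩ := hover (b * c) (by rw [map_mul, hfb, hfc, ← map_mul, ha', ← mul_assoc, haa, one_mul])
    set b' := q⁻¹ * b * q with hb'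
    have hbi : b⁻¹ = b := inv_eq_of_mul_eq_one_right hb
    have hci : c⁻¹ = c := inv_eq_of_mul_eq_one_right hc
    have hb'x : b' * x * b'⁻¹ = x⁻¹ := by
      have hx' : x = q⁻¹ * (b * c) * q := by rw [hqy]; group
      rw [hb', hx']
      calc q⁻¹ * b * q * (q⁻¹ * (b * c) * q) * (q⁻¹ * b * q)⁻¹
          = q⁻¹ * ((b * b) * c * b⁻¹) * q := by group
        _ = (q⁻¹ * (b * c) * q)⁻¹ := by rw [hb, one_mul, hbi, mul_inv_rev, mul_inv_rev, mul_inv_rev, inv_inv, hci, hbi]; group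
    have hb'N : b' ∈ N := by
      refine Subgroup.mem_normalizer_iff_map_conj_eq.2 ?_
      refine Subgroup.eq_of_le_of_card_ge ?_ (by
        rw [Subgroup.card_map_of_injective (MulAut.conj b').injective])
      rintro _ ⟨y, hy, rfl⟩
      obtain ⟨k, rfl⟩ := hRgen y hy
      show b' * x ^ k * b'⁻¹ ∈ (R : Subgroup G)
      rw [← conj_pow, hb'x]
      exact pow_mem (inv_mem hxR) k
    have hb'a : b' = a := hNinj b' hb'N a haN (by
      rw [hb', map_mul, map_mul, map_inv, (hker q).2 hq, inv_one, one_mul, mul_one, hfb])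
    have hbq : b = q * a * q⁻¹ := by rw [← hb'a, hb']; group
    refine ⟨q, hq, hbq, ?_⟩
    calc c = b * (b * c) := by rw [← mul_assoc, hb, one_mul]
      _ = q * a * q⁻¹ * (q * x * q⁻¹) := by rw [← hqy, ← hbq]
      _ = q * a' * q⁻¹ := by rw [ha']; group
  constructor
  · intro b hb hbQ
    obtain ⟨k, hk⟩ := hinvo b hb hbQ
    obtain ⟨u, hu⟩ := hr2
    set i : ZMod r := (↑u⁻¹ : ZMod r) * (k - j₀) with hi
    have h2i : i + i = k - j₀ := by rw [← two_mul, hi, ← mul_assoc, ← hu, Units.mul_inv, one_mul]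
    set g := x ^ i.val with hg
    have hfb : f (g * b * g⁻¹) = f a := by
      rw [map_mul, map_mul, map_inv, hfxi, hk, hj₀, DihedralGroup.r_mul_sr, DihedralGroup.inv_r,
        DihedralGroup.sr_mul_r]
      congr 1
      linear_combination -h2i
    have hbb : (g * b * g⁻¹) * (g * b * g⁻¹) = 1 := by
      calc (g * b * g⁻¹) * (g * b * g⁻¹) = g * (b * b) * g⁻¹ := by group
        _ = 1 := by rw [← pow_two, ← hb, pow_orderOf_eq_one]; group
    obtain ⟨q, -, hq, -⟩ := hpair _ a' hbb ha'a' hfb rfl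
    refine ⟨g⁻¹ * q, ?_⟩
    calc g⁻¹ * q * a * (g⁻¹ * q)⁻¹ = g⁻¹ * (q * a * q⁻¹) * g := by group
      _ = b := by rw [← hq]; group
  · -- counting
    let I : G → Type _ := fun c => {b : G // b * b = 1 ∧ f b = f c}
    have hQI : Nat.card (I a) * Nat.card (I a') = Nat.card Q := by
      rw [← Nat.card_prod]
      refine (Nat.card_eq_of_bijective (fun q : Q =>
        ((⟨(q : G) * a * (q : G)⁻¹, ?_, hconj _ q.2 a⟩ : I a),
         (⟨(q : G) * a' * (q : G)⁻¹, ?_, hconj _ q.2 a'⟩ : I a'))) ⟨?_, ?_⟩).symm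
      · calc (q : G) * a * (q : G)⁻¹ * ((q : G) * a * (q : G)⁻¹) = (q : G) * (a * a) * (q : G)⁻¹ := by group
          _ = 1 := by rw [haa]; group
      · calc (q : G) * a' * (q : G)⁻¹ * ((q : G) * a' * (q : G)⁻¹) = (q : G) * (a' * a') * (q : G)⁻¹ := by group
          _ = 1 := by rw [ha'a']; group
      · intro u v huv
        simp only [Prod.mk.injEq, Subtype.ext_iff] at huv
        obtain ⟨h1, h2⟩ := huv
        refine Subtype.ext (inv_mul_eq_one.1 (hxC ((v : G)⁻¹ * u) (mul_mem (inv_mem v.2) u.2) ?_)).symm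
        have h3 : (u : G) * x * (u : G)⁻¹ = (v : G) * x * (v : G)⁻¹ := by
          calc (u : G) * x * (u : G)⁻¹ = (u : G) * (a * a) * x * (u : G)⁻¹ := by rw [haa]; group
            _ = ((u : G) * a * (u : G)⁻¹) * ((u : G) * a' * (u : G)⁻¹) := by rw [ha']; group
            _ = ((v : G) * a * (v : G)⁻¹) * ((v : G) * a' * (v : G)⁻¹) := by rw [h1, h2]
            _ = (v : G) * (a * a) * x * (v : G)⁻¹ := by rw [ha']; group
            _ = (v : G) * x * (v : G)⁻¹ := by rw [haa]; group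
        calc (v : G)⁻¹ * u * x = (v : G)⁻¹ * ((u : G) * x * (u : G)⁻¹) * u := by group
          _ = x * ((v : G)⁻¹ * u) := by rw [h3]; group
      · rintro ⟨⟨b, hb, hfb⟩, ⟨c, hc, hfc⟩⟩
        obtain ⟨q, hq, rfl, rfl⟩ := hpair b c hb hc hfb hfc
        exact ⟨⟨q, hq⟩, rfl⟩
    have hII : Nat.card (I a') = Nat.card (I a) := by
      obtain ⟨u, hu⟩ := hr2
      set i : ZMod r := (↑u⁻¹ : ZMod r) with hi
      have h2i : i + i = 1 := by rw [← two_mul, hi, ← hu, Units.mul_inv]
      refine Nat.card_congr ((MulAut.conj (x ^ i.val)).toEquiv.subtypeEquiv fun b => ?_)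
      show _ ↔ x ^ i.val * b * (x ^ i.val)⁻¹ * (x ^ i.val * b * (x ^ i.val)⁻¹) = 1 ∧
        f (x ^ i.val * b * (x ^ i.val)⁻¹) = f a
      refine and_congr ?_ ?_
      · rw [show x ^ i.val * b * (x ^ i.val)⁻¹ * (x ^ i.val * b * (x ^ i.val)⁻¹) =
          x ^ i.val * (b * b) * (x ^ i.val)⁻¹ by group, conj_eq_one_iff]
      · have e : f a = f (x ^ i.val) * f a' * (f (x ^ i.val))⁻¹ := by
          rw [hfxi, hfa', hj₀, DihedralGroup.r_mul_sr, DihedralGroup.inv_r, DihedralGroup.sr_mul_r]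
          congr 1
          linear_combination h2i
        rw [e, map_mul f (x ^ i.val * b), map_mul f (x ^ i.val) b, map_inv, mul_left_inj, mul_right_inj]
    have horb : Nat.card (I a) * Nat.card ↥(Q ⊓ Subgroup.centralizer ({a} : Set G)) = Nat.card Q := by
      let φ : Q → I a := fun q => ⟨(q : G) * a * (q : G)⁻¹, by
        rw [show (q : G) * a * (q : G)⁻¹ * ((q : G) * a * (q : G)⁻¹) = (q : G) * (a * a) * (q : G)⁻¹ by group, haa]
        group, hconj _ q.2 a⟩
      have hfib : ∀ q q' : Q, φ q = φ q' ↔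
          (q : Q ⧸ (Subgroup.centralizer ({a} : Set G)).subgroupOf Q) = (q' : Q ⧸ _) := by
        intro q q'
        rw [QuotientGroup.eq, Subgroup.mem_subgroupOf, Subgroup.mem_centralizer_singleton_iff,
          Subtype.ext_iff]
        simp only [φ, Subgroup.coe_mul, Subgroup.coe_inv]
        constructor
        · intro h
          calc (q : G)⁻¹ * q' * a = (q : G)⁻¹ * ((q' : G) * a * (q' : G)⁻¹) * q' := by group
            _ = a * ((q : G)⁻¹ * q') := by rw [← h]; group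
        · intro h
          calc (q : G) * a * (q : G)⁻¹ = (q : G) * (a * ((q : G)⁻¹ * q')) * (q' : G)⁻¹ := by group
            _ = (q' : G) * a * (q' : G)⁻¹ := by rw [← h]; group
      have hbij : Function.Bijective (fun s : Q ⧸ (Subgroup.centralizer ({a} : Set G)).subgroupOf Q => φ s.out) := by
        refine ⟨fun s t hst => ?_, fun b => ?_⟩
        · have := (hfib _ _).1 hst
          rwa [QuotientGroup.out_eq', QuotientGroup.out_eq'] at this
        · obtain ⟨q, hq, hqb, -⟩ := hpair b.1 a' b.2.1 ha'a' b.2.2 rfl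
          refine ⟨(⟨q, hq⟩ : Q), ?_⟩
          show φ _ = b
          have := (hfib (QuotientGroup.mk (s := (Subgroup.centralizer ({a} : Set G)).subgroupOf Q) (⟨q, hq⟩ : Q)).out ⟨q, hq⟩).2
            (QuotientGroup.out_eq' _)
          rw [this]
          exact Subtype.ext hqb.symm
      have hC2 : Nat.card ((Subgroup.centralizer ({a} : Set G)).subgroupOf Q) =
          Nat.card ↥(Q ⊓ Subgroup.centralizer ({a} : Set G)) := by
        rw [inf_comm, ← Subgroup.subgroupOf_map_subtype,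
          Subgroup.card_map_of_injective Q.subtype_injective]
      rw [← Nat.card_eq_of_bijective _ hbij, ← hC2, ← Subgroup.card_eq_card_quotient_mul_card_subgroup]
    rw [hII, ← horb] at hQI
    have hpos : 0 < Nat.card (I a) := by
      have : Nonempty (I a) := ⟨⟨a, haa, rfl⟩⟩
      exact Nat.card_pos
    rw [← horb, Nat.eq_of_mul_eq_mul_left hpos hQI, pow_two]

end Cfsg.Agent.S2873
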