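import Cfsg.Statements.S2874
import Cfsg.Agent.H29.AltFourGLTwo

set_option autoImplicit false
open Cfsg

namespace Cfsg.Agent.S2874

open Agent.H29

set_option maxRecDepth 100000 in
set_option synthInstance.maxSize 20000 in
set_option synthInstance.maxHeartbeats 2000000 in
theorem A4_generators : ∃ g v : ↥(alternatingGroup (Fin 4)), g * g * g = 1 ∧ g ≠ 1 ∧ v * v = 1 ∧ v ≠ 1 ∧
    v * (g * v * (g * g)) = g * v * (g * g) * v ∧ v * (g * v * (g * g)) = g * g * v * g ∧
    ∀ x : ↥(alternatingGroup (Fin 4)), x = 1 ∨ x = g ∨ x = g * g ∨ x = v ∨ x = g * v ∨ x = g * g * v ∨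
      x = g * v * (g * g) ∨ x = g * (g * v * (g * g)) ∨ x = g * g * (g * v * (g * g)) ∨
      x = g * g * v * g ∨ x = g * (g * g * v * g) ∨ x = g * g * (g * g * v * g) := by
  refine ⟨⟨Equiv.swap (0 : Fin 4) 1 * Equiv.swap 1 2, Equiv.Perm.mem_alternatingGroup.2 (by decide)⟩, ⟨Equiv.swap (0 : Fin 4) 1 * Equiv.swap 2 3, Equiv.Perm.mem_alternatingGroup.2 (by decide)⟩, ?_⟩
  decide +kernel

/-- The standard subgroup. -/
def std (k : ℕ) : Subgroup (GL (Fin 2) (ZMod (2 ^ k))) :=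
  Subgroup.closure {X | (X : Matrix (Fin 2) (Fin 2) (ZMod (2 ^ k))) = AltFour.cyc ∨
    (X : Matrix (Fin 2) (Fin 2) (ZMod (2 ^ k))) = AltFour.mat 1 0 ((2 ^ (k - 1) : ℕ) : ZMod (2 ^ k)) 0}

theorem exists_conj_std (k : ℕ) (hk : 1 ≤ k) (H : Subgroup (GL (Fin 2) (ZMod (2 ^ k))))
    (h : Nonempty (↥H ≃* ↥(alternatingGroup (Fin 4)))) :
    ∃ P : GL (Fin 2) (ZMod (2 ^ k)), H.map (MulAut.conj P⁻¹).toMonoidHom = std k := by
  obtain ⟨e⟩ := h
  obtain ⟨g, v, hg3, hg1, hv2, hv1, hcomm, hprod, hgen⟩ := A4_generators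
  let φ : ↥(alternatingGroup (Fin 4)) →* GL (Fin 2) (ZMod (2 ^ k)) := H.subtype.comp e.symm.toMonoidHom
  have hφ : Function.Injective φ := H.subtype_injective.comp e.symm.injective
  have hrange : φ.range = H := by
    rw [MonoidHom.range_comp, MonoidHom.range_eq_top.2 e.symm.surjective, ← MonoidHom.range_eq_map,
      Subgroup.range_subtype]
  set W : Matrix (Fin 2) (Fin 2) (ZMod (2 ^ k)) := ↑(φ g) with hW
  have hq := AltFour.sq_add_self_add_one W (by rw [hW, ← Units.val_mul, ← Units.val_mul, ← map_mul,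
      ← map_mul, hg3, map_one, Units.val_one]) (fun e => hg1 (hφ (Units.ext (by rw [map_one]; exact e))))
  have q00 : W 0 0 * W 0 0 + W 0 1 * W 1 0 + W 0 0 + 1 = 0 := by
    simpa [Matrix.mul_apply, Fin.sum_univ_two] using congrFun (congrFun hq 0) 0
  have q10 : W 1 0 * W 0 0 + W 1 1 * W 1 0 + W 1 0 = 0 := by
    simpa [Matrix.mul_apply, Fin.sum_univ_two] using congrFun (congrFun hq 1) 0
  have hc : IsUnit (W 1 0) := by
    obtain ⟨z, hz⟩ : ∃ z, W 0 0 * (W 0 0 + 1) = 2 * z := by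
      obtain ⟨z, hz⟩ := Nat.even_mul_succ_self (W 0 0).val
      refine ⟨z, ?_⟩
      rw [← ZMod.natCast_zmod_val (W 0 0)]
      have := congrArg (fun n : ℕ => (n : ZMod (2 ^ k))) hz
      push_cast at this
      linear_combination this
    have : IsUnit (W 1 0 * -(W 0 1)) := by
      rw [show W 1 0 * -(W 0 1) = 2 * z + 1 by linear_combination -q00 + hz]
      exact AltFour.isUnit_two_mul_add_one _
    exact (IsUnit.mul_iff.1 this).1
  have hdet : IsUnit (Matrix.det !![(1 : ZMod (2 ^ k)), W 0 0; 0, W 1 0]) := by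
    rw [Matrix.det_fin_two_of]; simpa using hc
  obtain ⟨P, hP⟩ := (Matrix.isUnit_iff_isUnit_det _).2 hdet
  have hWP : W * (P : Matrix (Fin 2) (Fin 2) (ZMod (2 ^ k))) = (P : Matrix (Fin 2) (Fin 2) (ZMod (2 ^ k))) * AltFour.cyc := by
    rw [hP]
    ext i j
    fin_cases i <;> fin_cases j <;> simp [AltFour.cyc, AltFour.mat, Matrix.mul_apply, Fin.sum_univ_two]
    · linear_combination q00
    · linear_combination q10
  let ψ : ↥(alternatingGroup (Fin 4)) →* GL (Fin 2) (ZMod (2 ^ k)) := (MulAut.conj P⁻¹).toMonoidHom.comp φ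
  have hψ : Function.Injective ψ := (MulAut.conj P⁻¹).injective.comp hφ
  have hψg : (ψ g : Matrix (Fin 2) (Fin 2) (ZMod (2 ^ k))) = AltFour.cyc := by
    show ((P⁻¹ * φ g * P⁻¹⁻¹ : GL (Fin 2) (ZMod (2 ^ k))) : Matrix (Fin 2) (Fin 2) (ZMod (2 ^ k))) = _
    rw [inv_inv, mul_assoc, Units.val_mul, Units.val_mul, ← hW, hWP, ← mul_assoc, Units.inv_mul, one_mul]
  refine ⟨P, ?_⟩
  rw [← hrange, MonoidHom.map_range]
  have hA2 : (ψ v : Matrix (Fin 2) (Fin 2) (ZMod (2 ^ k))) * ψ v = 1 := by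
    rw [← Units.val_mul, ← map_mul, hv2, map_one, Units.val_one]
  have hst := AltFour.eq_standard hk (ψ v : Matrix (Fin 2) (Fin 2) (ZMod (2 ^ k))) hA2
    (fun e => hv1 (hψ (Units.ext (by rw [map_one]; exact e))))
    (by rw [← hψg]; simp only [← Units.val_mul, ← map_mul, hcomm])
    (by rw [← hψg]; simp only [← Units.val_mul, ← map_mul, hprod])
  have hmemv : ψ v ∈ std k := by
    have hgS : ψ g ∈ std k := Subgroup.subset_closure (Or.inl hψg)
    rcases hst with h | h | h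
    · exact Subgroup.subset_closure (Or.inr h)
    · have h' : ψ g * ψ v * (ψ g * ψ g) ∈ std k := Subgroup.subset_closure (Or.inr (by
        rw [← hψg] at h; simpa only [Units.val_mul] using h))
      simpa [mul_assoc] using mul_mem (mul_mem (inv_mem hgS) h') (inv_mem (mul_mem hgS hgS))
    · have h' : ψ g * ψ g * ψ v * ψ g ∈ std k := Subgroup.subset_closure (Or.inr (by
        rw [← hψg] at h; simpa only [Units.val_mul] using h))
      simpa [mul_assoc] using mul_mem (mul_mem (inv_mem (mul_mem hgS hgS)) h') (inv_mem hgS)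
  refine le_antisymm ?_ ((Subgroup.closure_le _).2 ?_)
  · rintro _ ⟨x, rfl⟩
    have hgS : ψ g ∈ std k := Subgroup.subset_closure (Or.inl hψg)
    show x ∈ (std k).comap ψ
    have hg' : g ∈ (std k).comap ψ := hgS
    have hv' : v ∈ (std k).comap ψ := hmemv
    rcases hgen x with rfl | rfl | rfl | rfl | rfl | rfl | rfl | rfl | rfl | rfl | rfl | rfl <;>
      first
        | exact one_mem _
        | exact hg'
        | exact hv'
        | (repeat' apply mul_mem) <;> first | exact hg' | exact hv'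
  · rintro X (hX | hX)
    · exact ⟨g, Units.ext (hψg.trans hX.symm)⟩
    · rcases hst with h | h | h
      · exact ⟨v, Units.ext (h.trans hX.symm)⟩
      · exact ⟨g * v * (g * g), Units.ext (by rw [hX, ← h, ← hψg]; simp only [← Units.val_mul, ← map_mul]; rfl)⟩
      · exact ⟨g * g * v * g, Units.ext (by rw [hX, ← h, ← hψg]; simp only [← Units.val_mul, ← map_mul]; rfl)⟩


/-- For k ≥ 2, any two subgroups of GL₂(ℤ/2ᵏℤ) (the automorphism group of the homocyclic group ℤ/2ᵏ × ℤ/2ᵏ) that are isomorphic to the alternating group of degree 4 are conjugate. -/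
theorem result (k : ℕ) (hk : 2 ≤ k) (H₁ H₂ : Subgroup (GL (Fin 2) (ZMod (2 ^ k)))) (h₁ : Nonempty (↥H₁ ≃* ↥(alternatingGroup (Fin 4)))) (h₂ : Nonempty (↥H₂ ≃* ↥(alternatingGroup (Fin 4)))) : ∃ g : GL (Fin 2) (ZMod (2 ^ k)), H₂ = H₁.map (MulAut.conj g).toMonoidHom := by
  obtain ⟨P₁, hP₁⟩ := exists_conj_std k (by omega) H₁ h₁
  obtain ⟨P₂, hP₂⟩ := exists_conj_std k (by omega) H₂ h₂
  refine ⟨P₂ * P₁⁻¹, ?_⟩
  have hmm : ∀ (a b : GL (Fin 2) (ZMod (2 ^ k))) (K : Subgroup (GL (Fin 2) (ZMod (2 ^ k)))),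
      (K.map (MulAut.conj b).toMonoidHom).map (MulAut.conj a).toMonoidHom = K.map (MulAut.conj (a * b)).toMonoidHom := by
    intro a b K
    rw [Subgroup.map_map]
    congr 1
    ext x
    simp [mul_assoc]
  rw [← hmm, hP₁, ← hP₂, hmm, mul_inv_cancel]
  ext x
  simp

end Cfsg.Agent.S2874
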