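import Cfsg.Statements.S2879
import Cfsg.Agent.H49.Q8Auto
import Cfsg.Agent.H23.QuaternionSylow
import Cfsg.Agent.H19.Fitting

set_option autoImplicit false
open Cfsg

namespace Cfsg.Agent.S2879


open QuaternionGroup in
/-- A group containing a quaternion subgroup normalised, and not centralised, by an element of
order three contains `SL(2,3)`. -/
theorem sl_two_three_of_q8 {G : Type*} [Group G] [Finite G] (R : Subgroup G)
    (ψ : QuaternionGroup 2 ≃* R) {a : G} (hoa : orderOf a = 3)
    (haR : a ∈ Subgroup.normalizer (R : Set G)) (hnt : a ∉ Subgroup.centralizer (R : Set G)) :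
    Nonempty ((R ⊔ Subgroup.zpowers a : Subgroup G) ≃* Matrix.SpecialLinearGroup (Fin 2) (ZMod 3)) ∧
      Nat.card (R ⊔ Subgroup.zpowers a : Subgroup G) = 24 := by
  set σR : MulAut R := R.normalizerMonoidHom ⟨a, haR⟩ with hσRdef
  have ha3 : a ^ 3 = 1 := hoa ▸ pow_orderOf_eq_one a
  have hσR : σR ^ 3 = 1 := by
    rw [hσRdef, ← map_pow,
      show (⟨a, haR⟩ : Subgroup.normalizer (R : Set G)) ^ 3 = 1 from Subtype.ext ha3, map_one]
  have hσR1 : σR ≠ 1 := by
    intro h
    refine hnt (Subgroup.mem_centralizer_iff.2 fun x hx => ?_)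
    have h1 : ((σR ⟨x, hx⟩ : R) : G) = a * x * a⁻¹ := rfl
    rw [h] at h1
    exact (eq_mul_inv_iff_mul_eq.1 h1)
  set α : MulAut (QuaternionGroup 2) := MulAut.congr ψ.symm σR with hαdef
  have hα : α ^ 3 = 1 := by rw [hαdef, ← map_pow, hσR, map_one]
  have hα1 : α ≠ 1 := fun h =>
    hσR1 ((MulAut.congr ψ.symm).injective (h.trans (map_one _).symm))
  obtain ⟨-, s, hs, hconj⟩ := Agent.H23.exists_sl_conj α (by decide : Odd 3) hα hα1
  set A := Subgroup.zpowers a with hA
  have hAle : A ≤ Subgroup.normalizer (R : Set G) := Subgroup.zpowers_le.2 haR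
  have hgen : ∀ x : A, x ∈ Subgroup.zpowers (⟨a, Subgroup.mem_zpowers a⟩ : A) := by
    rintro ⟨x, i, rfl⟩
    exact ⟨i, Subtype.ext (by simp)⟩
  have hoA : orderOf (⟨a, Subgroup.mem_zpowers a⟩ : A) = 3 := by
    rw [← Subgroup.orderOf_coe]; exact hoa
  let g : A →* Matrix.SpecialLinearGroup (Fin 2) (ZMod 3) :=
    monoidHomOfForallMemZpowers hgen (g' := s) (by rw [hs, hoA])
  let q : R →* Matrix.SpecialLinearGroup (Fin 2) (ZMod 3) := Agent.H23.q8Hom.comp ψ.symm.toMonoidHom
  let θ : A →* MulAut R := R.normalizerMonoidHom.comp (Subgroup.inclusion hAle)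
  have hcompat : ∀ b : A, ∀ x : R, q (θ b x) = g b * q x * (g b)⁻¹ := by
    intro b
    obtain ⟨i, rfl⟩ := mem_powers_iff_mem_zpowers.2 (hgen b)
    induction i with
    | zero => intro x; simp
    | succ i ih =>
      intro x
      simp only [] at ih ⊢
      rw [pow_succ', map_mul, map_mul, MulAut.mul_apply]
      have h1 : ∀ y : R, q (θ ⟨a, Subgroup.mem_zpowers a⟩ y)
          = g ⟨a, Subgroup.mem_zpowers a⟩ * q y * (g ⟨a, Subgroup.mem_zpowers a⟩)⁻¹ := by
        intro y
        change Agent.H23.q8Hom (ψ.symm (σR y)) = _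
        rw [show g ⟨a, Subgroup.mem_zpowers a⟩ = s from monoidHomOfForallMemZpowers_apply_gen _ _]
        have := hconj (ψ.symm y)
        rw [show q y = Agent.H23.q8Hom (ψ.symm y) from rfl, this]
        simp [hαdef, MulAut.congr]
      rw [h1, ih]
      group
  let f2 : R ⋊[θ] A →* Matrix.SpecialLinearGroup (Fin 2) (ZMod 3) :=
    SemidirectProduct.lift q g (fun b => MonoidHom.ext fun x => hcompat b x)
  let f1 : R ⋊[θ] A →* G := SemidirectProduct.monoidHomSubgroup hAle
  have hR8 : Nat.card R = 8 := by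
    rw [← Nat.card_congr ψ.toEquiv, Nat.card_eq_fintype_card, QuaternionGroup.card]
  have hcop : (Nat.card R).Coprime (Nat.card A) := by
    rw [hR8, hA, Nat.card_zpowers, hoa]; norm_num
  have hf1 : Function.Injective f1 := by
    rw [injective_iff_map_eq_one]
    intro x hx
    change (x.left : G) * (x.right : G) = 1 at hx
    have hb : (x.right : G) ∈ R ⊓ A := ⟨by
      rw [eq_inv_of_mul_eq_one_right hx]; exact R.inv_mem x.left.2, x.right.2⟩
    rw [Subgroup.inf_eq_bot_of_coprime hcop, Subgroup.mem_bot] at hb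
    rw [hb, mul_one] at hx
    exact SemidirectProduct.ext (Subtype.ext hx) (Subtype.ext hb)
  have hf1r : f1.range = R ⊔ A := by
    refine le_antisymm ?_ (sup_le (fun x hx => ⟨SemidirectProduct.inl ⟨x, hx⟩, ?_⟩)
      (fun x hx => ⟨SemidirectProduct.inr ⟨x, hx⟩, ?_⟩))
    · rintro _ ⟨x, rfl⟩
      exact Subgroup.mul_mem_sup x.left.2 x.right.2
    · simp [f1, SemidirectProduct.monoidHomSubgroup]
    · simp [f1, SemidirectProduct.monoidHomSubgroup]
  have hf2 : Function.Injective f2 := by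
    rw [injective_iff_map_eq_one]
    intro x hx
    change q x.left * g x.right = 1 at hx
    have hg3 : g x.right ^ 3 = 1 := by
      rw [← map_pow, show x.right ^ 3 = 1 from by
        have hcA : Nat.card A = 3 := (Nat.card_zpowers a).trans hoa
        have := pow_card_eq_one' (G := A) (x := x.right)
        rwa [hcA] at this, map_one]
    have hq : q x.left = (g x.right)⁻¹ := eq_inv_of_mul_eq_one_left hx
    have hqR : q x.left ^ 8 = 1 := by
      rw [← map_pow, ← hR8, pow_card_eq_one', map_one]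
    have hq3 : q x.left ^ 3 = 1 := by rw [hq, inv_pow, hg3, inv_one]
    have hq1 : q x.left = 1 := by
      have := pow_gcd_eq_one.2 ⟨hqR, hq3⟩
      simpa using this
    have hl : x.left = 1 := ψ.symm.injective
      ((Agent.H23.q8Hom_injective (hq1.trans (map_one _).symm)).trans (map_one _).symm)
    have hgr : g x.right = 1 := by rw [hq1, one_mul] at hx; exact hx
    have hr : x.right = 1 := by
      obtain ⟨i, hi⟩ := hgen x.right
      change _ ^ i = _ at hi
      rw [← hi, map_zpow, monoidHomOfForallMemZpowers_apply_gen, ← orderOf_dvd_iff_zpow_eq_one,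
        hs] at hgr
      rw [← hi, ← orderOf_dvd_iff_zpow_eq_one, hoA]
      exact hgr
    exact SemidirectProduct.ext hl hr
  have hcard : Nat.card (R ⋊[θ] A) = 24 := by
    rw [SemidirectProduct.card, hR8, hA, Nat.card_zpowers, hoa]
  have e1 : (R ⊔ A : Subgroup G) ≃* R ⋊[θ] A :=
    (MulEquiv.subgroupCongr hf1r.symm).trans (MonoidHom.ofInjective hf1).symm
  refine ⟨⟨e1.trans (MulEquiv.ofBijective f2 ⟨hf2,
    (hf2.bijective_of_nat_card_le (by rw [hcard, Agent.H23.card_sl_two_three])).2⟩)⟩, ?_⟩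
  rw [Nat.card_congr e1.toEquiv, hcard]

open QuaternionGroup in
/-- The quaternion group of order eight has at most 24 automorphisms. -/
theorem card_mulAut_q8 : Nat.card (MulAut (QuaternionGroup 2)) ≤ 24 := by
  let P := {p : QuaternionGroup 2 × QuaternionGroup 2 //
    p.1 * p.1 ≠ 1 ∧ p.2 * p.2 ≠ 1 ∧ p.2 ≠ p.1 ∧ p.2 ≠ p.1⁻¹}
  have hf : ∀ α : MulAut (QuaternionGroup 2),
      α (a 1) * α (a 1) ≠ 1 ∧ α (xa 0) * α (xa 0) ≠ 1 ∧ α (xa 0) ≠ α (a 1) ∧
        α (xa 0) ≠ (α (a 1))⁻¹ := by
    intro α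
    have h : (a 1 : QuaternionGroup 2) * a 1 ≠ 1 ∧ (xa 0 : QuaternionGroup 2) * xa 0 ≠ 1 ∧
        (xa 0 : QuaternionGroup 2) ≠ a 1 ∧ (xa 0 : QuaternionGroup 2) ≠ (a 1)⁻¹ := by decide +kernel
    refine ⟨?_, ?_, α.injective.ne h.2.2.1, ?_⟩
    · rw [← map_mul, EmbeddingLike.map_ne_one_iff]; exact h.1
    · rw [← map_mul, EmbeddingLike.map_ne_one_iff]; exact h.2.1
    · rw [← map_inv]; exact α.injective.ne h.2.2.2
  let f : MulAut (QuaternionGroup 2) → P := fun α => ⟨(α (a 1), α (xa 0)), hf α⟩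
  have hinj : Function.Injective f := by
    intro α β h
    have h1 : (α (a 1), α (xa 0)) = (β (a 1), β (xa 0)) := congrArg Subtype.val h
    obtain ⟨e1, e2⟩ := Prod.mk.injEq .. ▸ h1
    exact MulEquiv.ext fun x => by
      rw [Agent.H23.q8Map_eq α x, Agent.H23.q8Map_eq β x, e1, e2]
  refine (Nat.card_le_card_of_injective f hinj).trans (le_of_eq ?_)
  rw [Nat.card_eq_fintype_card]
  decide +kernel

/-- The structure theorem for an abstract Sylow 2-subgroup. -/
theorem main {G : Type*} [Group G] [Finite G] (hsol : IsSolvable G) (hO : Cfsg.oddCore G = ⊥)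
    (T : Sylow 2 G) (C0 : Subgroup ↥(T : Subgroup G)) [hC0 : IsCyclic C0] (h2 : C0.index = 2)
    (hna : ¬ ∀ x y : ↥(T : Subgroup G), x * y = y * x) (hne : (T : Subgroup G) ≠ ⊤)
    (hZ : ((T : Subgroup G) ⊓ Subgroup.centralizer ((T : Subgroup G) : Set G)).Normal) :
    ∃ U : Subgroup G, U.Normal ∧ Nonempty (↥U ≃* Matrix.SpecialLinearGroup (Fin 2) (ZMod 3)) := by
  classical
  haveI := Fact.mk Nat.prime_two
  haveI : Group.IsSolvable G := hsol
  set Q := Cfsg.pCore 2 G with hQ
  have hQn : Q.Normal := Agent.H19.pCore_normal 2 G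
  have hQ2 : IsPGroup 2 Q := Agent.H19.pCore_isPGroup 2
  have hQT : Q ≤ (T : Subgroup G) := Agent.H19.pCore_le_sylow T
  have hCQ : Subgroup.centralizer (Q : Set G) ≤ Q := Agent.H19.centralizer_pCore_le hO
  -- the centre of `T`
  set Z := (T : Subgroup G) ⊓ Subgroup.centralizer ((T : Subgroup G) : Set G) with hZdef
  have hTn : Nontrivial (T : Subgroup G) := by
    by_contra h
    rw [not_nontrivial_iff_subsingleton] at h
    exact hna fun x y => Subsingleton.elim _ _
  obtain ⟨z0, hz0⟩ : ∃ w : Subgroup.center ↥(T : Subgroup G), orderOf w = 2 := by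
    haveI := T.isPGroup'.center_nontrivial
    refine exists_prime_orderOf_dvd_card' 2 ?_
    obtain ⟨k, hk⟩ := (T.isPGroup'.to_subgroup (Subgroup.center ↥(T : Subgroup G))).exists_card_eq
    have : 1 < Nat.card (Subgroup.center ↥(T : Subgroup G)) := Finite.one_lt_card
    rw [hk] at this ⊢
    rcases Nat.eq_zero_or_pos k with rfl | hk0
    · simp at this
    · exact dvd_pow_self 2 hk0.ne'
  set z : G := ((z0 : ↥(T : Subgroup G)) : G) with hzdef
  have hzo : orderOf z = 2 := by rw [hzdef, Subgroup.orderOf_coe, Subgroup.orderOf_coe, hz0]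
  have hcen : ∀ w : ↥(T : Subgroup G), (w : G) ∈ Z → w ∈ C0 := by
    intro w hw
    by_contra hwC
    apply hna
    obtain ⟨c, hc⟩ := (Subgroup.isCyclic_iff_exists_zpowers_eq_top C0).1 hC0
    have hwc : ∀ y : ↥(T : Subgroup G), Commute w y := fun y =>
      Subtype.ext ((Subgroup.mem_centralizer_iff.1 hw.2) y y.2).symm
    have hform : ∀ y : ↥(T : Subgroup G), Commute c y := by
      intro y
      by_cases hy : y ∈ C0
      · rw [← hc] at hy
        obtain ⟨i, rfl⟩ := Subgroup.mem_zpowers_iff.1 hy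
        exact Commute.self_zpow c i
      · have : w⁻¹ * y ∈ C0 := (Subgroup.mul_mem_iff_of_index_two h2).mpr
          ⟨fun h => absurd (by simpa using h) hwC, fun h => absurd h hy⟩
        rw [← hc] at this
        obtain ⟨i, hi⟩ := Subgroup.mem_zpowers_iff.1 this
        rw [show y = w * c ^ i by rw [hi, mul_inv_cancel_left]]
        exact ((hwc c).symm).mul_right (Commute.self_zpow c i)
    intro x y
    by_cases hx : x ∈ C0
    · rw [← hc] at hx
      obtain ⟨i, rfl⟩ := Subgroup.mem_zpowers_iff.1 hx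
      exact ((hform y).zpow_left i).eq
    · have : w⁻¹ * x ∈ C0 := (Subgroup.mul_mem_iff_of_index_two h2).mpr
        ⟨fun h => absurd (by simpa using h) hwC, fun h => absurd h hx⟩
      rw [← hc] at this
      obtain ⟨i, hi⟩ := Subgroup.mem_zpowers_iff.1 this
      rw [show x = w * c ^ i by rw [hi, mul_inv_cancel_left]]
      exact ((hwc y).mul_left ((hform y).zpow_left i)).eq
  have hzZ : z ∈ Z := by
    refine ⟨(z0 : ↥(T : Subgroup G)).2, Subgroup.mem_centralizer_iff.2 fun y hy => ?_⟩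
    exact congrArg Subtype.val (Subgroup.mem_center_iff.1 z0.2 ⟨y, hy⟩)
  have hzfix : ∀ g : G, g * z * g⁻¹ = z := by
    intro g
    have hg : g * z * g⁻¹ ∈ Z := hZ.conj_mem z hzZ g
    obtain ⟨c, hc⟩ := (Subgroup.isCyclic_iff_exists_zpowers_eq_top C0).1 hC0
    have h1 : (⟨z, hzZ.1⟩ : ↥(T : Subgroup G)) ∈ Subgroup.zpowers c := hc ▸ hcen ⟨z, hzZ.1⟩ hzZ
    have h2' : (⟨g * z * g⁻¹, hg.1⟩ : ↥(T : Subgroup G)) ∈ Subgroup.zpowers c :=
      hc ▸ hcen ⟨_, hg.1⟩ hg
    have ho : orderOf (g * z * g⁻¹) = 2 := by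
      rw [show g * z * g⁻¹ = MulAut.conj g z from rfl, (MulAut.conj g).orderOf_eq, hzo]
    have h3 := Agent.H49.Q8Auto.zpowers_eq_of_orderOf_eq h1 h2' (by
      rw [Subgroup.orderOf_mk, Subgroup.orderOf_mk, hzo, ho])
    rw [mem_zpowers_iff_mem_range_orderOf, Subgroup.orderOf_mk, hzo] at h3
    simp only [Finset.mem_image, Finset.mem_range] at h3
    obtain ⟨i, hi, hi'⟩ := h3
    interval_cases i
    · exfalso
      have h4 : g * z * g⁻¹ = 1 := congrArg Subtype.val ((pow_zero _).symm.trans hi').symm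
      rw [h4, orderOf_one] at ho
      omega
    · exact (congrArg Subtype.val ((pow_one _).symm.trans hi')).symm
  have hzQ : z ∈ Q := by
    refine Agent.H19.le_pCore (N := Subgroup.zpowers z) ?_ ?_ (Subgroup.mem_zpowers z)
    · refine ⟨fun n hn g => ?_⟩
      obtain ⟨i, rfl⟩ := Subgroup.mem_zpowers_iff.1 hn
      rw [← conj_zpow, hzfix]
      exact Subgroup.zpow_mem _ (Subgroup.mem_zpowers z) i
    · exact IsPGroup.of_card (n := 1) (by rw [Nat.card_zpowers, hzo, pow_one])
  -- an element of odd prime order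
  obtain ⟨p, hp, hpdvd⟩ : ∃ p, p.Prime ∧ p ∣ (T : Subgroup G).index :=
    Nat.exists_prime_and_dvd (fun h => hne (Subgroup.index_eq_one.1 h))
  haveI := Fact.mk hp
  have hp2 : p ≠ 2 := fun e => T.not_dvd_index (e ▸ hpdvd)
  obtain ⟨a, ha⟩ := exists_prime_orderOf_dvd_card' p
    (hpdvd.trans (Subgroup.index_dvd_card _))
  have hodd : Odd p := hp.odd_of_ne_two hp2
  have haQ : a ∉ Q := by
    intro h
    obtain ⟨k, hk⟩ := hQ2 ⟨a, h⟩
    have : orderOf a ∣ 2 ^ k := orderOf_dvd_of_pow_eq_one (congrArg Subtype.val hk)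
    rw [ha] at this
    exact hp2 ((Nat.prime_dvd_prime_iff_eq hp Nat.prime_two).1 (hp.dvd_of_dvd_pow this))
  have hac : a ∉ Subgroup.centralizer (Q : Set G) := fun h => haQ (hCQ h)
  set σ : MulAut Q := MulAut.conjNormal a with hσ
  have hσp : σ ^ p = 1 := by rw [hσ, ← map_pow, ← ha, pow_orderOf_eq_one, map_one]
  have hσ1 : σ ≠ 1 := by
    intro h
    refine hac (Subgroup.mem_centralizer_iff.2 fun x hx => ?_)
    have h1 : ((σ ⟨x, hx⟩ : Q) : G) = a * x * a⁻¹ := MulAut.conjNormal_apply a ⟨x, hx⟩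
    rw [h] at h1
    exact (eq_mul_inv_iff_mul_eq.1 h1)
  let ι : Q →* ↥(T : Subgroup G) := Subgroup.inclusion hQT
  have hιinj : Function.Injective ι := Subgroup.inclusion_injective hQT
  haveI : IsCyclic (C0.comap ι) :=
    isCyclic_of_injective
      ((ι.comp (C0.comap ι).subtype).codRestrict C0 (fun x => x.2))
      (fun x y h => Subtype.ext (hιinj (congrArg Subtype.val h)))
  have hC0n : C0.Normal := Subgroup.normal_of_index_eq_two h2
  have hidx : (C0.comap ι).index ∣ 2 := by
    rw [Subgroup.index_comap]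
    exact (Subgroup.relIndex_dvd_index_of_normal C0 _).trans (dvd_of_eq h2)
  obtain ⟨ψ⟩ := Agent.H49.Q8Auto.q8_of_cyclic_index_two hQ2 (C0.comap ι) hidx σ hodd hσp hσ1
    ⟨z, hzQ⟩ (by rw [Subgroup.orderOf_mk, hzo])
    (Subtype.ext (by rw [hσ, MulAut.conjNormal_apply]; exact hzfix a))
  -- the order of `G`
  set α : MulAut (QuaternionGroup 2) := MulAut.congr ψ.symm σ with hα
  have hαp : α ^ p = 1 := by rw [hα, ← map_pow, hσp, map_one]
  have hα1 : α ≠ 1 := fun h => hσ1 ((MulAut.congr ψ.symm).injective (h.trans (map_one _).symm))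
  obtain ⟨hα3, -⟩ := Agent.H23.exists_sl_conj α hodd hαp hα1
  have hp3 : p = 3 := by
    by_contra h3
    have hc : p.gcd 3 = 1 := (Nat.coprime_primes hp Nat.prime_three).2 h3
    have := pow_gcd_eq_one.2 ⟨hαp, hα3⟩
    rw [hc, pow_one] at this
    exact hα1 this
  subst hp3
  obtain ⟨e, he⟩ := sl_two_three_of_q8 Q ψ ha
    (by rw [Subgroup.normalizer_eq_top]; exact Subgroup.mem_top a) hac
  set U := Q ⊔ Subgroup.zpowers a with hU
  refine ⟨U, ?_, e⟩
  let χ : G →* MulAut Q := MulAut.conjNormal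
  have hker : χ.ker = Subgroup.centralizer (Q : Set G) := by
    ext g
    rw [MonoidHom.mem_ker, Subgroup.mem_centralizer_iff]
    constructor
    · intro h x hx
      have h1 : ((χ g ⟨x, hx⟩ : Q) : G) = g * x * g⁻¹ := MulAut.conjNormal_apply g ⟨x, hx⟩
      rw [h] at h1
      exact (eq_mul_inv_iff_mul_eq.1 h1)
    · intro h
      refine MulEquiv.ext fun x => Subtype.ext ?_
      rw [MulAut.conjNormal_apply, ← h x x.2, mul_inv_cancel_right]
      rfl
  have hrange : Nat.card χ.range ≤ 24 := by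
    refine le_trans (Subgroup.card_le_card_group _) ?_
    rw [← Nat.card_congr (MulAut.congr ψ).toEquiv]
    exact card_mulAut_q8
  have hC2 : Nat.card χ.ker ≤ 2 := by
    rw [hker]
    let W := (Subgroup.center (QuaternionGroup 2))
    have hW : Nat.card W ≤ 2 := by
      rw [Nat.card_eq_fintype_card]
      decide +kernel
    refine le_trans (Nat.card_le_card_of_injective
      (fun x : Subgroup.centralizer (Q : Set G) => (⟨ψ.symm ⟨x, hCQ x.2⟩,
        Subgroup.mem_center_iff.2 fun y => ψ.injective (by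
          rw [map_mul, map_mul, MulEquiv.apply_symm_apply]
          exact Subtype.ext ((Subgroup.mem_centralizer_iff.1 x.2) _ (ψ y).2))⟩ : W))
      (fun x y h => Subtype.ext (congrArg (fun t : Q => (t : G))
        (ψ.symm.injective (congrArg Subtype.val h))))) hW
  have hG : Nat.card G ≤ 48 := by
    rw [← χ.ker.card_mul_index, Subgroup.index_ker]
    calc Nat.card χ.ker * Nat.card χ.range ≤ 2 * 24 := Nat.mul_le_mul hC2 hrange
      _ = 48 := by norm_num
  have hidxU : U.index ≤ 2 := by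
    have := U.card_mul_index
    rw [he] at this
    omega
  have hne0 : U.index ≠ 0 := Subgroup.index_ne_zero_of_finite
  rcases (by omega : U.index = 1 ∨ U.index = 2) with h1 | h1
  · rw [Subgroup.index_eq_one] at h1
    rw [h1]; infer_instance
  · exact Subgroup.normal_of_index_eq_two h1


/-- Let G be a finite solvable group with O(G) = 1 whose Sylow 2-subgroup T is dihedral of order at least 8 or semidihedral, with G ≠ T and Z(T) normal in G. Then G has a normal subgroup isomorphic to SL₂(3). -/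
theorem result {G : Type*} [Group G] [Finite G] (hsol : IsSolvable G) (hO : Cfsg.oddCore G = ⊥) (T : Sylow 2 G) (hT : (∃ n : ℕ, 4 ≤ n ∧ Nonempty (↥(T : Subgroup G) ≃* DihedralGroup n)) ∨ Cfsg.IsQuasiDihedral ↥(T : Subgroup G)) (hne : (T : Subgroup G) ≠ ⊤) (hZ : ((T : Subgroup G) ⊓ Subgroup.centralizer ((T : Subgroup G) : Set G)).Normal) : ∃ U : Subgroup G, U.Normal ∧ Nonempty (↥U ≃* Matrix.SpecialLinearGroup (Fin 2) (ZMod 3)) := by
  rcases hT with ⟨n, hn, ⟨e⟩⟩ | ⟨n, hn, hcard, x, y, hx, hy, hrel⟩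
  · have : NeZero n := ⟨by omega⟩
    refine main hsol hO T (Subgroup.zpowers (e.symm (DihedralGroup.r 1))) ?_ ?_ hne hZ
    · have h := (Subgroup.zpowers (e.symm (DihedralGroup.r 1))).card_mul_index
      rw [Nat.card_zpowers, e.symm.orderOf_eq, DihedralGroup.orderOf_r_one,
        Nat.card_congr e.toEquiv, DihedralGroup.nat_card] at h
      exact Nat.eq_of_mul_eq_mul_left (by omega : 0 < n) (by omega)
    · intro hc
      have h := congrArg e (hc (e.symm (DihedralGroup.r 1)) (e.symm (DihedralGroup.sr 0)))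
      rw [map_mul, map_mul, MulEquiv.apply_symm_apply, MulEquiv.apply_symm_apply,
        DihedralGroup.r_mul_sr, DihedralGroup.sr_mul_r, zero_sub, zero_add] at h
      have h1 : (-1 : ZMod n) = 1 := DihedralGroup.sr.inj h
      have h2 : ((2 : ℕ) : ZMod n) = 0 := by push_cast; linear_combination -h1
      rw [ZMod.natCast_eq_zero_iff] at h2
      have := Nat.le_of_dvd (by norm_num) h2
      omega
  · refine main hsol hO T (Subgroup.zpowers x) ?_ ?_ hne hZ
    · have h := (Subgroup.zpowers x).card_mul_index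
      rw [Nat.card_zpowers, hx, hcard, pow_succ] at h
      exact Nat.eq_of_mul_eq_mul_left (pow_pos (by norm_num) n) h
    · intro hc
      rw [hc y x, mul_inv_cancel_right] at hrel
      obtain ⟨m, rfl⟩ : ∃ m, n = m + 3 := ⟨n - 3, by omega⟩
      have h4 : 4 ≤ 2 ^ (m + 3 - 1) := by
        rw [show m + 3 - 1 = m + 2 by omega, pow_add]
        have : 0 < 2 ^ m := pow_pos (by norm_num) m
        omega
      have h1 : x ^ (2 ^ (m + 3 - 1) - 2) = 1 := by
        have h := hrel
        rw [show 2 ^ (m + 3 - 1) - 1 = (2 ^ (m + 3 - 1) - 2) + 1 by omega, pow_succ] at h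
        exact mul_eq_right.1 h.symm
      have hd := Nat.le_of_dvd (by omega) (orderOf_dvd_of_pow_eq_one h1)
      rw [hx] at hd
      have : 2 ^ (m + 3 - 1) ≤ 2 ^ (m + 3) := Nat.pow_le_pow_right (by norm_num) (by omega)
      omega

end Cfsg.Agent.S2879
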