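import Cfsg.Statements.S2881
import Cfsg.Agent.H73.PlusType

set_option autoImplicit false
open Cfsg

namespace Cfsg.Agent.S2881

/-- Let E be an extraspecial 2-group of order 2^(2m+1) of plus type (containing an elementary abelian subgroup of order 2^(m+1)), and let ω be an automorphism of E of order 5 whose fixed points are exactly the centre of E. Then m is divisible by 4. -/
theorem result {E : Type*} [Group E] [Finite E] (m : ℕ) (hm : 1 ≤ m) (hE : Cfsg.IsExtraspecial 2 E) (hcard : Nat.card E = 2 ^ (2 * m + 1)) (hplus : ∃ A : Subgroup E, Cfsg.IsElementaryAbelian 2 A ∧ Nat.card A = 2 ^ (m + 1)) (ω : E ≃* E) (hω : orderOf ω = 5) (hfix : ∀ x : E, ω x = x ↔ x ∈ Subgroup.center E) : 4 ∣ m := by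
  classical
  have hcount := H73.card_orderOf_eq_four m hE hcard hplus
  have h5 : 5 ∣ Nat.card {x : E // orderOf x = 4} := by
    let f : Equiv.Perm {x : E // orderOf x = 4} :=
      ω.toEquiv.subtypeEquiv (fun x => by rw [MulEquiv.toEquiv_eq_coe, EquivLike.coe_coe, MulEquiv.orderOf_eq])
    have hpw : ∀ (k : ℕ) (x : {x : E // orderOf x = 4}), ((f ^ k) x : E) = (ω ^ k : MulAut E) x.1 := by
      intro k
      induction k with
      | zero => intro x; rfl
      | succ k ih =>
        intro x
        rw [pow_succ', pow_succ', Equiv.Perm.mul_apply, MulAut.mul_apply, ← ih x]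
        rfl
    have hω5 : (ω : MulAut E) ^ 5 = 1 := by
      have h := pow_orderOf_eq_one (ω : MulAut E)
      have e : orderOf (ω : MulAut E) = 5 := hω
      rwa [e] at h
    have hf5 : f ^ 5 = 1 := Equiv.ext fun x => Subtype.ext (by rw [hpw, hω5]; rfl)
    have hP : IsPGroup 5 (Subgroup.zpowers f) := by
      intro g
      refine ⟨1, ?_⟩
      obtain ⟨k, hk⟩ := g.2
      apply Subtype.ext
      simp only [pow_one, SubmonoidClass.coe_pow, OneMemClass.coe_one, ← hk]
      rw [← zpow_natCast, zpow_comm, zpow_natCast, hf5, one_zpow]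
    have : Fact (Nat.Prime 5) := ⟨Nat.prime_five⟩
    have hmod := hP.card_modEq_card_fixedPoints {x : E // orderOf x = 4}
    have hfixed : Nat.card (MulAction.fixedPoints (Subgroup.zpowers f) {x : E // orderOf x = 4}) = 0 := by
      rw [Nat.card_eq_zero]
      refine Or.inl ⟨fun x => ?_⟩
      have h1 : ω x.1.1 = x.1.1 := congrArg Subtype.val (x.2 ⟨f, Subgroup.mem_zpowers f⟩)
      have h2 : x.1.1 ∈ Subgroup.center E := (hfix _).1 h1
      have h3 : x.1.1 ^ 2 = 1 := by
        have h := pow_card_eq_one' (G := Subgroup.center E) (x := ⟨x.1.1, h2⟩)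
        rw [hE.2] at h
        simpa using congrArg Subtype.val h
      have := orderOf_dvd_of_pow_eq_one h3
      rw [x.1.2] at this
      norm_num at this
    rw [hfixed] at hmod
    exact Nat.modEq_zero_iff_dvd.1 hmod
  rw [hcount] at h5
  have hprime : Nat.Prime 5 := Nat.prime_five
  have h2 : 2 ^ (2 * m) - 2 ^ m = 2 ^ m * (2 ^ m - 1) := by
    rw [Nat.mul_sub, mul_one, ← pow_add, two_mul]
  rw [h2, hprime.dvd_mul] at h5
  rcases h5 with h5 | h5
  · have := hprime.dvd_of_dvd_pow h5
    norm_num at this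
  · have h16 : 2 ^ m % 5 = 2 ^ (m % 4) % 5 := by
      conv_lhs => rw [← Nat.div_add_mod m 4, pow_add, pow_mul, Nat.mul_mod, Nat.pow_mod]
      norm_num
    have hpos : 0 < 2 ^ m := by positivity
    have hlt : m % 4 < 4 := Nat.mod_lt _ (by norm_num)
    have h1 : 2 ^ m % 5 = 1 := by omega
    rw [h16] at h1
    interval_cases h : m % 4 <;> omega

end Cfsg.Agent.S2881
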