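import Cfsg.Statements.S2933
import Cfsg.Agent.H53.FoursTransitive

set_option autoImplicit false
open Cfsg

namespace Cfsg.Agent.S2933

/-- Let T be a 2-subgroup of a finite group G, V ≤ Z(T) a four-group, and t, ρ ∈ N_G(V) ∩ N_G(T) elements of order 2 and 3 with t commuting with ρ and with V. If [V, ρ] = V and C_T(t) = V, then T is elementary abelian of order 16, or homocyclic of rank 2 (ℤ/2ⁿ × ℤ/2ⁿ for some n ≥ 1), or isomorphic to a Sylow 2-subgroup of PSL₃(4) or of PSU₃(4). -/
theorem result {G : Type*} [Group G] [Finite G] (T V : Subgroup G) (hT : IsPGroup 2 ↥T) (hVT : V ≤ T ⊓ Subgroup.centralizer (T : Set G)) (hV : Nat.card ↥V = 4 ∧ ∀ v ∈ V, v ^ 2 = 1) (t ρ : G) (ht : orderOf t = 2) (hρ : orderOf ρ = 3) (htn : t ∈ Subgroup.normalizer (V : Set G) ⊓ Subgroup.normalizer (T : Set G)) (hρn : ρ ∈ Subgroup.normalizer (V : Set G) ⊓ Subgroup.normalizer (T : Set G)) (htρ : t * ρ = ρ * t) (htV : t ∈ Subgroup.centralizer (V : Set G)) (hVρ : ⁅V, Subgroup.zpowers ρ⁆ = V) (hCt : T ⊓ Subgroup.centralizer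 ({t} : Set G) = V) : (Nat.card ↥T = 16 ∧ ∀ x ∈ T, x ^ 2 = 1) ∨ (∃ n : ℕ, 1 ≤ n ∧ Nonempty (↥T ≃* Multiplicative (ZMod (2 ^ n)) × Multiplicative (ZMod (2 ^ n)))) ∨ (∃ (F : Type) (_ : Field F) (_ : Fintype F), Fintype.card F = 4 ∧ ∀ P : Sylow 2 (Matrix.ProjectiveSpecialLinearGroup (Fin 3) F), Nonempty (↥T ≃* ↥(P : Subgroup (Matrix.ProjectiveSpecialLinearGroup (Fin 3) F)))) ∨ (∃ (F : Type) (_ : Field F) (_ : Fintype F), Fintype.card F = 16 ∧ ∀ P : Sylow 2 (Cfsg.PSU 3 F 4), Nonempty (↥T ≃* ↥(P : Subgroup (Cfsg.PSU 3 F 4)))) := by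
  classical
  obtain ⟨hV4, hV2⟩ := hV
  have hVT' : V ≤ T := hVT.trans inf_le_left
  let tT : (Subgroup.normalizer (T : Set G)) := ⟨t, htn.2⟩
  let rT : (Subgroup.normalizer (T : Set G)) := ⟨ρ, hρn.2⟩
  let τ : MulAut T := T.normalizerMonoidHom tT
  let σ : MulAut T := T.normalizerMonoidHom rT
  have hτv : ∀ x : T, ((τ x : T) : G) = t * x * t⁻¹ := fun x => rfl
  have hσv : ∀ x : T, ((σ x : T) : G) = ρ * x * ρ⁻¹ := fun x => rfl
  have ht2 : t * t = 1 := by rw [← sq, ← ht, pow_orderOf_eq_one]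
  have hρ3 : ρ ^ 3 = 1 := hρ ▸ pow_orderOf_eq_one ρ
  have hτ : ∀ x, τ (τ x) = x := fun x => Subtype.ext (by
    rw [hτv, hτv, ← mul_assoc, ← mul_assoc, ht2, one_mul, mul_assoc, ← mul_inv_rev, ht2, inv_one,
      mul_one])
  have hcomm : ∀ x, τ (σ x) = σ (τ x) := fun x => Subtype.ext (by
    rw [hτv, hσv, hσv, hτv, ← mul_assoc, ← mul_assoc, htρ, ← mul_assoc, ← mul_assoc, mul_assoc _ ρ⁻¹ t⁻¹,
      mul_assoc _ t⁻¹ ρ⁻¹, ← mul_inv_rev t ρ, htρ, mul_inv_rev])
  let C : Subgroup T := V.subgroupOf T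
  have hfix : ∀ x, x ∈ C ↔ τ x = x := fun x => by
    rw [Subtype.ext_iff, hτv, Subgroup.mem_subgroupOf]
    constructor
    · intro hx
      rw [← (Subgroup.mem_centralizer_iff.mp htV x hx), mul_inv_cancel_right]
    · intro hx
      rw [← hCt]
      refine ⟨x.2, Subgroup.mem_centralizer_singleton_iff.mpr ?_⟩
      rw [mul_inv_eq_iff_eq_mul] at hx
      exact hx.symm
  have hC4 : Nat.card C = 4 := by rw [Nat.card_congr (Subgroup.subgroupOfEquivOfLe hVT').toEquiv, hV4]
  have hC2 : ∀ z ∈ C, z ^ 2 = 1 := fun z hz => Subtype.ext (hV2 _ hz)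
  have hσC : ∀ z ∈ C, σ z ∈ C := fun z hz => by
    rw [hfix, hcomm, (hfix z).mp hz]
  have hperiod : ∀ x, (σ ^ 3) x = x := fun x => by
    rw [← map_pow, show rT ^ 3 = 1 from Subtype.ext hρ3, map_one, MulAut.one_apply]
  -- `ρ` moves every involution of `V`
  have hfp : ∀ v ∈ C, v ≠ 1 → σ v ≠ v := by
    intro v hv hv1 hfixv
    have hVeq : ∀ w ∈ V, ρ * w * ρ⁻¹ = w := by
      intro w hw
      let f : C → C := fun z => ⟨σ z, hσC z z.2⟩
      have hf : Function.Injective f := fun a b e =>
        Subtype.ext (σ.injective (congrArg Subtype.val e))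
      let P : Equiv.Perm C := Equiv.ofBijective f (Finite.injective_iff_bijective.mp hf)
      have hP : ∀ z : C, ((P z : C) : T) = σ z := fun z => rfl
      have hP3 : P ^ 3 = 1 := by
        refine Equiv.ext fun z => Subtype.ext ?_
        rw [pow_succ, pow_two, Equiv.Perm.mul_apply, Equiv.Perm.mul_apply, hP, hP, hP]
        exact hperiod z
      haveI := Fintype.ofFinite C
      haveI : Fact (Nat.Prime 3) := ⟨Nat.prime_three⟩
      by_contra hne
      have hP1 : P ≠ 1 := fun e => hne (by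
        have := congrArg (fun z : C => ((z : T) : G)) (Equiv.ext_iff.mp e ⟨⟨w, hVT' hw⟩, hw⟩)
        rw [← hσv ⟨w, hVT' hw⟩]
        exact this)
      have ho : orderOf P = 3 := orderOf_eq_prime hP3 hP1
      have hcard4 : Fintype.card C = 4 := by rw [← Nat.card_eq_fintype_card, hC4]
      have hsupp : (3 : ℕ) ≤ P.support.card := by
        obtain ⟨z, hz⟩ : ∃ z, P z ≠ z := by
          by_contra h
          push Not at h
          exact hP1 (Equiv.ext h)
        have e1 : P (P (P z)) = z := by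
          have := Equiv.ext_iff.mp hP3 z
          rwa [pow_succ, pow_two, Equiv.Perm.mul_apply, Equiv.Perm.mul_apply] at this
        have h12 : P (P z) ≠ P z := fun e => hz (P.injective e)
        have h02 : P (P z) ≠ z := fun e => hz (by rw [e] at e1; exact e1)
        have : ({z, P z, P (P z)} : Finset C) ⊆ P.support := by
          intro y hy
          simp only [Finset.mem_insert, Finset.mem_singleton] at hy
          rw [Equiv.Perm.mem_support]
          rcases hy with rfl | rfl | rfl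
          · exact hz
          · exact h12
          · exact fun e => h12 (P.injective e)
        refine le_trans ?_ (Finset.card_le_card this)
        rw [Finset.card_insert_of_notMem, Finset.card_insert_of_notMem, Finset.card_singleton]
        · simpa using h12.symm
        · simp only [Finset.mem_insert, Finset.mem_singleton, not_or]
          exact ⟨hz.symm, h02.symm⟩
      have hns : ({1, (⟨v, hv⟩ : C)} : Finset C) ⊆ P.supportᶜ := by
        intro y hy
        simp only [Finset.mem_insert, Finset.mem_singleton] at hy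
        rw [Finset.mem_compl, Equiv.Perm.notMem_support]
        rcases hy with rfl | rfl
        · exact Subtype.ext (map_one σ)
        · exact Subtype.ext hfixv
      have h2 := Finset.card_le_card hns
      rw [Finset.card_pair (fun e => hv1 (congrArg Subtype.val e).symm), Finset.card_compl, hcard4] at h2
      omega
    have hbot : ⁅V, Subgroup.zpowers ρ⁆ = ⊥ := by
      rw [Subgroup.commutator_eq_bot_iff_le_centralizer]
      intro w hw
      rw [Subgroup.mem_centralizer_iff]
      rintro _ ⟨k, rfl⟩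
      have : Commute ρ w := mul_inv_eq_iff_eq_mul.mp (hVeq w hw)
      exact this.zpow_left k
    rw [hbot] at hVρ
    rw [← hVρ, Subgroup.card_bot] at hV4
    omega
  have htr : ∀ v ∈ C, ∀ w ∈ C, v ≠ 1 → w ≠ 1 → ∃ k : ℕ, (σ ^ k) v = w := by
    intro v hv w hw hv1 hw1
    haveI := Fintype.ofFinite C
    have hcard4 : Fintype.card C = 4 := by rw [← Nat.card_eq_fintype_card, hC4]
    let a : C := ⟨v, hv⟩
    let b : C := ⟨σ v, hσC v hv⟩
    let c : C := ⟨σ (σ v), hσC _ (hσC v hv)⟩
    have h01 : σ v ≠ v := hfp v hv hv1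
    have h12 : σ (σ v) ≠ σ v := fun e => h01 (σ.injective e)
    have h02 : σ (σ v) ≠ v := fun e => h01 (by
      have := hperiod v
      rw [pow_succ, pow_two, MulAut.mul_apply, MulAut.mul_apply] at this
      conv_rhs => rw [← this]
      rw [show σ (σ (σ v)) = σ v by rw [e]])
    by_contra hno
    push Not at hno
    have hsub : ({1, a, b, c, ⟨w, hw⟩} : Finset C).card ≤ 4 := hcard4 ▸ Finset.card_le_univ _
    have hσ1 : σ v ≠ 1 := fun e => hv1 (σ.injective (e.trans (map_one σ).symm))
    have hσσ1 : σ (σ v) ≠ 1 := fun e => hσ1 (σ.injective (e.trans (map_one σ).symm))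
    have w0 : v ≠ w := by simpa using hno 0
    have w1 : σ v ≠ w := by simpa using hno 1
    have w2 : σ (σ v) ≠ w := by simpa [pow_two] using hno 2
    rw [Finset.card_insert_of_notMem, Finset.card_insert_of_notMem, Finset.card_insert_of_notMem,
      Finset.card_insert_of_notMem, Finset.card_singleton] at hsub
    · omega
    all_goals simp [a, b, c, Subtype.ext_iff, Ne.symm hv1, Ne.symm hσ1, Ne.symm hσσ1, Ne.symm hw1,
      Ne.symm h01, Ne.symm h02, Ne.symm h12, w0, w1, w2]
  by_cases hab : IsMulCommutative T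
  · letI : CommGroup T := { (inferInstance : Group T) with mul_comm := mul_comm' }
    rcases Cfsg.Agent.H53.Singer.abelian_of_four hT τ σ C hfix hC4 hC2 hτ hcomm hfp htr with
      ⟨h16, h2⟩ | h
    · exact Or.inl ⟨h16, fun x hx => congrArg Subtype.val (h2 ⟨x, hx⟩)⟩
    · exact Or.inr (Or.inl h)
  · have hH : Cfsg.Agent.H53.Singer.Hyp τ σ C 4 :=
      { isP := hT
        fix := hfix
        invol := hτ
        comm := hcomm
        elem := fun z hz => by rw [← sq]; exact hC2 z hz
        card := hC4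
        four := le_rfl
        period := hperiod
        trans := htr }
    rcases hH.classify hab (n := 2) rfl with ⟨E, _, _, hE, hS⟩ | ⟨E, _, _, hE, hS⟩
    · exact Or.inr (Or.inr (Or.inr ⟨E, inferInstance, inferInstance, hE, hS⟩))
    · exact Or.inr (Or.inr (Or.inl ⟨E, inferInstance, inferInstance, hE, hS⟩))

end Cfsg.Agent.S2933
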