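import Cfsg.Statements.S2971
import Cfsg.Agent.H74.Isolated

set_option autoImplicit false
open Cfsg
open scoped Pointwise

namespace Cfsg.Agent.S2971

/-- Let G be a finite group and p an odd prime such that G has p-rank at most 1 (no elementary abelian subgroup of order p²). If x ∈ G is an isolated element of order p, then x is central modulo the largest normal subgroup of G of order prime to p. -/
theorem result {G : Type*} [Group G] [Finite G] {p : ℕ} [Fact p.Prime] (hp : p ≠ 2) (hrk : Cfsg.PRankLE p 1 G) (x : G) (hx : orderOf x = p) (hiso : Cfsg.IsIsolated x) : Cfsg.InZStar p x := by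
  have hx1 : x ≠ 1 := fun h => by
    rw [h, orderOf_one] at hx
    exact (Fact.out : p.Prime).one_lt.ne hx
  obtain ⟨P, hP⟩ := (IsPGroup.of_card (n := 1) (by rw [Nat.card_zpowers, hx, pow_one]) :
    IsPGroup p (Subgroup.zpowers x)).exists_le_sylow
  have hxP := hP (Subgroup.mem_zpowers x)
  have hcyc := H74.isCyclic_sylow_of_rank_le_one hp hrk P
  obtain ⟨N, hN, hc⟩ := H74.isolated_cyclic_complement hx1 hiso P hxP hcyc
  have hNle : N ≤ Cfsg.pPrimeCore p G := by
    refine H51.le_pPrimeCore hN (Nat.Coprime.symm ((Fact.out : p.Prime).coprime_iff_not_dvd.mpr ?_))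
    rw [← hc.index_eq_card]
    exact P.not_dvd_index
  intro g
  apply hNle
  obtain ⟨n, hn, u, hu, rfl⟩ : g ∈ (N : Set G) * ((P : Subgroup G) : Set G) := by
    rw [hc.mul_eq]; trivial
  have hux : u * x * u⁻¹ = x :=
    H74.isolated_fusion hiso P.isPGroup' hxP (mul_mem (mul_mem hu hxP) (inv_mem hu))
  have e : n * u * x * (n * u)⁻¹ * x⁻¹ = n * (x * n⁻¹ * x⁻¹) := by
    calc n * u * x * (n * u)⁻¹ * x⁻¹ = n * (u * x * u⁻¹) * n⁻¹ * x⁻¹ := by group
      _ = _ := by rw [hux]; group
  simp only
  rw [e]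
  exact mul_mem hn (hN.conj_mem _ (inv_mem hn) x)

end Cfsg.Agent.S2971
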