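import Cfsg.Statements.S3040
import Cfsg.Agent.H35.Collins.SymmetricThree

set_option autoImplicit false
open Cfsg

namespace Cfsg.Agent.S3040

/-- Let G be a finite group of even order coprime to 3, and let Σ be a group of automorphisms of G isomorphic to the symmetric group of degree 3 that is fixed-point-free (only the identity of G is fixed by every element of Σ). Then G is solvable, O_{2′,2}(G) (the preimage in G of O₂(G/O(G))) has odd index in G, and G = O_{2′,2}(G) C_G(σ) for every element σ of Σ of order 3; that is, O₂(G/O(G)) is a Sylow 2-subgroup of G/O(G) and G/O(G) = O₂(G/O(G)) C_{G/O(G)}(σ). -/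
theorem result {G : Type*} [Group G] [Finite G] (heven : 2 ∣ Nat.card G) (h3 : ¬ 3 ∣ Nat.card G)
    (Sig : Subgroup (MulAut G)) (hS3 : Nonempty (↥Sig ≃* Equiv.Perm (Fin 3))) (hfpf : ∀ g : G, (∀ σ ∈ Sig, σ g = g) → g = 1) :
    Group.IsSolvable G ∧ ¬ 2 ∣ (Cfsg.pPrimePCore 2 G).index ∧ ∀ σ ∈ Sig, orderOf σ = 3 →
      Cfsg.pPrimePCore 2 G ⊔ Subgroup.closure {g : G | σ g = g} = ⊤ := by
  have hcard : Nat.card Sig = 6 := by
    obtain ⟨e⟩ := hS3
    rw [Nat.card_congr e.toEquiv, Nat.card_perm, Nat.card_fin]; rfl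
  have key : ∀ σ ∈ Sig, orderOf σ = 3 →
      Group.IsSolvable G ∧ Odd (Cfsg.pPrimePCore 2 G).index ∧
        Cfsg.pPrimePCore 2 G ⊔ Subgroup.closure {g : G | σ g = g} = ⊤ := fun σ hσ hσ3 => by
    obtain ⟨h1, h2⟩ := Cfsg.Agent.H35.Collins.fixed_abelian_odd Sig hcard hfpf hσ hσ3
    exact Cfsg.Agent.H35.Collins.of_fixed_abelian_odd h3
      (by rw [← hσ3, pow_orderOf_eq_one]) h1 h2
  haveI := Fact.mk Nat.prime_three
  obtain ⟨σ', hσ'⟩ := exists_prime_orderOf_dvd_card' 3 (G := Sig) (by rw [hcard]; norm_num)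
  obtain ⟨h1, h2, -⟩ := key σ' σ'.2 (by rw [Subgroup.orderOf_coe, hσ'])
  exact ⟨h1, fun hd => Nat.not_even_iff_odd.mpr h2 (even_iff_two_dvd.mpr hd),
    fun σ hσ hσ3 => (key σ hσ hσ3).2.2⟩

end Cfsg.Agent.S3040
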