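import Cfsg.Statements.S3179
import Mathlib
import Cfsg.Agent.S0243
import Cfsg.Agent.S2475
import Cfsg.Agent.S1163
import Cfsg.Agent.S0280

set_option autoImplicit false
open Cfsg

namespace Cfsg.Agent.S3179

abbrev GL5 := GL (Fin 5) (ZMod 2)

theorem card_GL5 : Nat.card GL5 = 9999360 := by
  have : Fact (Nat.Prime 2) := ⟨Nat.prime_two⟩
  rw [Matrix.card_GL_field, ZMod.card, Fin.prod_univ_five]
  rfl

def A0 : Matrix (Fin 5) (Fin 5) (ZMod 2) :=
  !![0,1,0,0,0; 1,1,0,0,0; 0,0,1,0,0; 0,0,0,1,0; 0,0,0,0,1]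

def B0 : Matrix (Fin 5) (Fin 5) (ZMod 2) :=
  !![1,0,0,0,0; 0,1,0,0,0; 0,0,0,1,0; 0,0,1,1,0; 0,0,0,0,1]

theorem A0_cube : A0 * (A0 * A0) = 1 ∧ (A0 * A0) * A0 = 1 := by decide
theorem B0_cube : B0 * (B0 * B0) = 1 ∧ (B0 * B0) * B0 = 1 := by decide

theorem AB0 : A0 * B0 = B0 * A0 ∧ A0 ≠ 1 ∧ B0 ≠ 1 ∧ B0 ≠ A0 ∧ B0 ≠ A0 * A0 := by decide

/-- `GL₅(2)` has no element of order 9. -/
theorem no_order_nine (x : GL5) : orderOf x ≠ 9 := by
  intro hx
  have : Fact (Nat.Prime 3) := ⟨Nat.prime_three⟩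
  obtain ⟨a, ha⟩ : ∃ a : GL5, (a : Matrix (Fin 5) (Fin 5) (ZMod 2)) = A0 :=
    ⟨⟨A0, A0 * A0, A0_cube.1, A0_cube.2⟩, rfl⟩
  obtain ⟨b, hb⟩ : ∃ b : GL5, (b : Matrix (Fin 5) (Fin 5) (ZMod 2)) = B0 :=
    ⟨⟨B0, B0 * B0, B0_cube.1, B0_cube.2⟩, rfl⟩
  have ha3 : a ^ 3 = 1 := Units.ext (by rw [Units.val_pow_eq_pow_val, pow_three, ha, Units.val_one]; exact A0_cube.1)
  have hb3 : b ^ 3 = 1 := Units.ext (by rw [Units.val_pow_eq_pow_val, pow_three, hb, Units.val_one]; exact B0_cube.1)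
  have hab : Commute a b := Units.ext (by rw [Units.val_mul, Units.val_mul, ha, hb]; exact AB0.1)
  have ha1 : a ≠ 1 := fun e => AB0.2.1 (by rw [← ha, e, Units.val_one])
  have hb1 : b ≠ 1 := fun e => AB0.2.2.1 (by rw [← hb, e, Units.val_one])
  have hba : b ≠ a := fun e => AB0.2.2.2.1 (by rw [← ha, ← hb, e])
  have hba2 : b ≠ a ^ 2 := fun e => AB0.2.2.2.2 (by rw [← ha, ← hb, e, pow_two, Units.val_mul])
  have hK : IsPGroup 3 ↥(Subgroup.closure ({a, b} : Set GL5)) := by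
    have hc : ∀ y ∈ Subgroup.closure ({a, b} : Set GL5), y ^ 3 = 1 ∧ Commute y a ∧ Commute y b := by
      intro y hy
      induction hy using Subgroup.closure_induction with
      | mem y hy =>
        rcases hy with e | e
        · rw [e]; exact ⟨ha3, Commute.refl a, hab⟩
        · rw [Set.mem_singleton_iff.mp e]; exact ⟨hb3, hab.symm, Commute.refl b⟩
      | one => exact ⟨one_pow 3, Commute.one_left a, Commute.one_left b⟩
      | mul u v hu hv iu iv =>
        refine ⟨?_, iu.2.1.mul_left iv.2.1, iu.2.2.mul_left iv.2.2⟩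
        have huv : Commute u v := by
          clear iv
          induction hv using Subgroup.closure_induction with
          | mem y hy =>
            rcases hy with e | e
            · rw [e]; exact iu.2.1
            · rw [Set.mem_singleton_iff.mp e]; exact iu.2.2
          | one => exact Commute.one_right u
          | mul s t _ _ is it => exact is.mul_right it
          | inv s _ is => exact is.inv_right
        rw [huv.mul_pow, iu.1, iv.1, mul_one]
      | inv u hu iu => exact ⟨by rw [inv_pow, iu.1, inv_one], iu.2.1.inv_left, iu.2.2.inv_left⟩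
    exact fun y => ⟨1, Subtype.ext (by rw [SubgroupClass.coe_pow, pow_one]; exact (hc y y.2).1)⟩
  obtain ⟨P, hP⟩ := hK.exists_le_sylow
  have hPcard : Nat.card ↥(P : Subgroup GL5) = 9 := by
    rw [P.card_eq_multiplicity, card_GL5]
    have hf : (9999360 : ℕ).factorization 3 = 2 := by
      have h1 : (3 : ℕ) ^ 2 ∣ 9999360 := by norm_num
      have h2 : ¬ (3 : ℕ) ^ 3 ∣ 9999360 := by norm_num
      rw [(Nat.prime_three).pow_dvd_iff_le_factorization (by norm_num)] at h1 h2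
      omega
    rw [hf]; rfl
  obtain ⟨Q, hQ⟩ := (IsPGroup.of_card (p := 3) (n := 2) (by rw [Nat.card_zpowers, hx]; rfl) :
    IsPGroup 3 ↥(Subgroup.zpowers x)).exists_le_sylow
  obtain ⟨k, hk⟩ := MulAction.exists_smul_eq GL5 Q P
  obtain ⟨y, hyd⟩ : ∃ y, y = k * x * k⁻¹ := ⟨_, rfl⟩
  have hy : y ∈ (P : Subgroup GL5) := by
    rw [← hk, hyd]; exact ⟨_, hQ (Subgroup.mem_zpowers _), rfl⟩
  have hy9 : orderOf y = 9 := by
    rw [hyd, ← hx]
    exact orderOf_injective (MulAut.conj k).toMonoidHom (MulEquiv.injective _) x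
  have htop : Subgroup.zpowers y = (P : Subgroup GL5) := Subgroup.eq_of_le_of_card_ge
    (Subgroup.zpowers_le.mpr hy) (by rw [hPcard, Nat.card_zpowers, hy9])
  have hmem : ∀ c ∈ Subgroup.closure ({a, b} : Set GL5), c ^ 3 = 1 → c = 1 ∨ c = y ^ 3 ∨ c = y ^ 6 := by
    intro c hc hc3
    have hc' : c ∈ Subgroup.zpowers y := htop ▸ hP hc
    rw [mem_zpowers_iff_mem_range_orderOf, Finset.mem_image] at hc'
    obtain ⟨i, hi, rfl⟩ := hc'
    rw [Finset.mem_range, hy9] at hi
    rw [← pow_mul, ← orderOf_dvd_iff_pow_eq_one, hy9] at hc3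
    have : i = 0 ∨ i = 3 ∨ i = 6 := by omega
    rcases this with e | e | e <;> simp [e]
  have hy3 : (y ^ 3) ^ 2 = y ^ 6 := by rw [← pow_mul]
  have hy6 : (y ^ 6) ^ 2 = y ^ 3 := by
    rw [← pow_mul, ← pow_mod_orderOf, hy9]
  rcases hmem a (Subgroup.subset_closure (Or.inl rfl)) ha3 with e | e | e
  · exact ha1 e
  · rcases hmem b (Subgroup.subset_closure (Or.inr rfl)) hb3 with e' | e' | e'
    · exact hb1 e'
    · exact hba (e'.trans e.symm)
    · exact hba2 (by rw [e, hy3]; exact e')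
  · rcases hmem b (Subgroup.subset_closure (Or.inr rfl)) hb3 with e' | e' | e'
    · exact hb1 e'
    · exact hba2 (by rw [e, hy6]; exact e')
    · exact hba (e'.trans e.symm)

theorem pow_two_le {k : ℕ} (h : 2 ^ k ∣ 9999360) : k ≤ 10 := by
  have h2 : ¬ (2 : ℕ) ^ 11 ∣ 9999360 := by norm_num
  rw [(Nat.prime_two).pow_dvd_iff_le_factorization (by norm_num)] at h h2
  omega

/-- Let X be a section of the general linear group GL(5, 2), that is, a quotient of a subgroup of it. If X is isomorphic to PSL(2, 2^n) for some n ≥ 2, to a Suzuki group over the field with 2^(2m+1) elements for some m ≥ 1, or to PSU(3, 2^n) for some n ≥ 2, then X is isomorphic to PSL(2, 4). -/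
theorem result {H : Subgroup (GL (Fin 5) (ZMod 2))}
    {K : Subgroup ↥H} [K.Normal]
    (hX : (∃ (n : ℕ) (F : Type) (_ : Field F) (_ : Fintype F), 2 ≤ n ∧ Fintype.card F = 2 ^ n ∧
        Nonempty (↥H ⧸ K ≃* Matrix.ProjectiveSpecialLinearGroup (Fin 2) F)) ∨
      (∃ (m : ℕ) (F : Type) (_ : Field F) (_ : Fintype F), 1 ≤ m ∧ Fintype.card F = 2 ^ (2 * m + 1) ∧
        Nonempty (↥H ⧸ K ≃* ↥(Cfsg.Lie.Sz F (2 ^ (m + 1))))) ∨
      (∃ (n : ℕ) (F : Type) (_ : Field F) (_ : Fintype F), 2 ≤ n ∧ Fintype.card F = 4 ^ n ∧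
        Nonempty (↥H ⧸ K ≃* Cfsg.PSU 3 F (2 ^ n)))) :
    ∃ (F : Type) (_ : Field F) (_ : Fintype F), Fintype.card F = 4 ∧
      Nonempty (↥H ⧸ K ≃* Matrix.ProjectiveSpecialLinearGroup (Fin 2) F) := by
  have hdvd : Nat.card (↥H ⧸ K) ∣ 9999360 := by
    rw [← card_GL5]
    exact (Subgroup.card_quotient_dvd_card K).trans (Subgroup.card_subgroup_dvd_card H)
  have : Fact (Nat.Prime 2) := ⟨Nat.prime_two⟩
  rcases hX with ⟨n, F, i1, i2, hn, hF, ⟨e⟩⟩ | ⟨m, F, i1, i2, hm, hF, ⟨e⟩⟩ | ⟨n, F, i1, i2, hn, hF, ⟨e⟩⟩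
  · by_cases hn2 : n = 2
    · exact ⟨F, i1, i2, by rw [hF, hn2]; rfl, ⟨e⟩⟩
    exfalso
    have hN := Cfsg.Agent.S0243.result hF 2 le_rfl
    rw [Fin.prod_univ_two] at hN
    rw [Nat.card_congr e.toEquiv] at hdvd
    have hg : Nat.gcd 2 (2 ^ n - 1) = 1 := by
      have : 4 ≤ 2 ^ n := le_trans (by norm_num) (Nat.pow_le_pow_right (by norm_num) hn)
      have h2 : 2 ∣ 2 ^ n := dvd_pow_self 2 (by omega)
      exact (Nat.prime_two.coprime_iff_not_dvd).mpr (by omega)
    rw [hg, one_mul] at hN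
    obtain ⟨N, hNd⟩ : ∃ N, N = Nat.card (Matrix.ProjectiveSpecialLinearGroup (Fin 2) F) := ⟨_, rfl⟩
    rw [← hNd] at hN hdvd
    simp only [Fin.val_zero, Fin.val_one, pow_zero, pow_one] at hN
    have hn10 : n ≤ 10 := pow_two_le (Dvd.dvd.trans (by
      have hco : (2 ^ n).Coprime (2 ^ n - 1) := by
        have : 1 ≤ 2 ^ n := Nat.one_le_two_pow
        exact (Nat.coprime_self_sub_right this).mpr (Nat.coprime_one_right _)
      refine hco.dvd_of_dvd_mul_left ?_
      rw [hN]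
      exact dvd_mul_of_dvd_right (Nat.dvd_sub (dvd_pow_self _ two_ne_zero) dvd_rfl) _) hdvd)
    by_cases hn3 : n = 3
    · have : CharP F 2 := charP_of_card_eq_prime_pow hF
      obtain ⟨s, hs⟩ : 9 ∈ Set.range (orderOf : Matrix.ProjectiveSpecialLinearGroup (Fin 2) F → ℕ) := by
        rw [Cfsg.Agent.S2475.result (F := F) 2 (by rw [hF, hn3]; norm_num)]
        right; right
        rw [hF, hn3]
        decide
      obtain ⟨g, hg'⟩ := QuotientGroup.mk'_surjective K (e.symm s)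
      have h9 : 9 ∣ orderOf (g : GL5) := by
        rw [Subgroup.orderOf_coe, ← hs, ← MulEquiv.orderOf_eq e.symm s, ← hg']
        exact orderOf_map_dvd _ g
      exact no_order_nine _ (orderOf_pow_orderOf_div (orderOf_pos _).ne' h9)
    have hNv : N = 2 ^ n * ((2 ^ n) ^ 2 - 1) := by
      interval_cases n <;> norm_num at hN ⊢ <;> omega
    rw [hNv] at hdvd
    interval_cases n <;> first
      | exact absurd rfl hn2
      | exact absurd rfl hn3
      | norm_num at hdvd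
  · exfalso
    rw [Nat.card_congr e.toEquiv, (Cfsg.Agent.S1163.result hm hF).1] at hdvd
    have hm2 : (2 * m + 1) * 2 ≤ 10 := pow_two_le (by
      rw [pow_mul]
      exact (dvd_mul_of_dvd_left (dvd_mul_right _ _) _).trans hdvd)
    have : m = 1 ∨ m = 2 := by omega
    rcases this with rfl | rfl <;> norm_num at hdvd
  · exfalso
    have hF' : Fintype.card F = (2 ^ n) ^ 2 := by rw [hF, ← pow_mul, mul_comm, pow_mul]; rfl
    have hN := Cfsg.Agent.S0280.result hF' 3 (by norm_num)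
    rw [Nat.card_congr e.toEquiv] at hdvd
    obtain ⟨N, hNd⟩ : ∃ N, N = Nat.card (Cfsg.PSU 3 F (2 ^ n)) := ⟨_, rfl⟩
    rw [← hNd] at hN hdvd
    simp only [Finset.prod_range_succ, Finset.prod_range_zero] at hN
    have hn3 : n * 3 ≤ 10 := pow_two_le (Dvd.dvd.trans (by
      rw [pow_mul]
      have h3 : ((2 ^ n) ^ 3).Coprime (Nat.gcd 3 (2 ^ n + 1) * (2 ^ n + 1)) := by
        refine Nat.Coprime.pow_left 3 ?_
        have hc : (2 ^ n).Coprime (2 ^ n + 1) := by simp
        exact Nat.Coprime.mul_right (hc.coprime_dvd_right (Nat.gcd_dvd_right _ _)) hc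
      refine h3.dvd_of_dvd_mul_left ?_
      rw [mul_assoc, hN]
      exact dvd_mul_right _ _) hdvd)
    have : n = 2 ∨ n = 3 := by omega
    rcases this with rfl | rfl
    · norm_num at hN
      have : N = 62400 := by omega
      subst this; norm_num at hdvd
    · norm_num at hN
      have : N = 5515776 := by omega
      subst this; norm_num at hdvd

end Cfsg.Agent.S3179
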