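import Cfsg.Statements.S3192
import Cfsg.Agent.H63.RankThreeGen.Main
import Cfsg.Agent.H1.PSLSimple
import Cfsg.Agent.S2507
import Cfsg.Agent.S5748
import Cfsg.Agent.S0205

set_option autoImplicit false
open Cfsg

namespace Cfsg.Agent.S3192

open Cfsg.Agent.H63.RankThree

theorem center_eq_bot {G : Type*} [Group G] [IsSimpleGroup G] (hG : ¬ IsMulCommutative G) :
    Subgroup.center G = ⊥ := by
  rcases (inferInstance : (Subgroup.center G).Normal).eq_bot_or_eq_top with h | h
  · exact h
  · exact absurd ⟨⟨fun a b =>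
      (Subgroup.mem_center_iff.1 (h ▸ Subgroup.mem_top b : b ∈ Subgroup.center G) a)⟩⟩ hG

/-- The forward direction. -/
theorem forward {G : Type*} [Group G] [Finite G] (hs : IsSimpleGroup G) (hG : ¬ IsMulCommutative G)
    (h3 : Set.ncard {m : ℕ | ∃ x : G, x ∉ Subgroup.center G ∧
      m = (Subgroup.centralizer ({x} : Set G)).index} = 3) :
    ∀ a b c : G, a ≠ 1 → b ≠ 1 → c ≠ 1 → Commute a b → Commute b c → Commute a c := by
  haveI := hs
  have hns : ¬ Group.IsSolvable G := fun hsol =>
    hG ⟨⟨fun a b => (IsSimpleGroup.comm_iff_isSolvable.2 hsol) a b⟩⟩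
  have hsub : {n : ℕ | 1 < n ∧ ∃ x : G, (C x).index = n} ⊆ {m : ℕ | ∃ x : G, x ∉ Subgroup.center G ∧
      m = (Subgroup.centralizer ({x} : Set G)).index} := by
    rintro n ⟨hn, x, rfl⟩
    refine ⟨x, fun hx => hn.ne' (Subgroup.index_eq_one.2 (eq_top_iff.2 fun g _ => ?_)), rfl⟩
    exact mem_C.2 (Subgroup.mem_center_iff.1 hx g)
  have hle := Set.ncard_le_ncard hsub (Set.finite_of_ncard_ne_zero (by omega))
  have hCA := isCA_of_three (center_eq_bot hG) hns (by rw [Nat.card_coe_set_eq]; omega)
  intro a b c _ hb _ hab hbc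
  exact hCA b hb a (mem_C.2 hab) c (mem_C.2 hbc.symm)

/-- Simple groups of conjugate type rank three. For a finite group G consider the set of indices of the centralizers of the non-central elements of G. Then G is a non-abelian simple group for which this set has exactly three members if and only if G is isomorphic to PSL(2, 2^m) for some m ≥ 2. -/
theorem result (G : Type*) [Group G] [Finite G] :
    (IsSimpleGroup G ∧ ¬ IsMulCommutative G ∧
        Set.ncard {m : ℕ | ∃ x : G, x ∉ Subgroup.center G ∧ m = (Subgroup.centralizer ({x} : Set G)).index} = 3) ↔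
      ∃ (m : ℕ) (F : Type) (_ : Field F) (_ : Fintype F), 2 ≤ m ∧ Fintype.card F = 2 ^ m ∧
        Nonempty (G ≃* Matrix.ProjectiveSpecialLinearGroup (Fin 2) F) := by
  constructor
  · rintro ⟨hs, hG, h3⟩
    haveI := hs
    obtain ⟨F, i1, i2, f, hf, hc, he⟩ := (S5748.result hG).1 (forward hs hG h3)
    exact ⟨f, F, i1, i2, hf, hc, he⟩
  · rintro ⟨f, F, i1, i2, hf, hc, ⟨e⟩⟩
    classical
    set q := Fintype.card F with hq
    have hq4 : 4 ≤ q := hc ▸ le_trans (by norm_num) (Nat.pow_le_pow_right two_pos hf)
    have hq2 : 2 ∣ q := hc ▸ dvd_pow_self 2 (by omega)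
    haveI : IsSimpleGroup (Matrix.ProjectiveSpecialLinearGroup (Fin 2) F) := by
      refine H1.isSimpleGroup_PSL (Or.inr ?_)
      by_contra hall
      push Not at hall
      have hsub : (Finset.univ : Finset F) ⊆ {0, 1, -1} := fun x _ => by
        rcases eq_or_ne x 0 with h | h
        · simp [h]
        · rcases sq_eq_one_iff.1 (hall x h) with h' | h' <;> simp [h']
      have h3 := (Finset.card_le_card hsub).trans Finset.card_le_three
      rw [Finset.card_univ] at h3
      omega
    haveI hs : IsSimpleGroup G := e.isSimpleGroup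
    set I : G → ℕ := fun g => (Subgroup.centralizer ({g} : Set G)).index with hI
    have hrange : Set.range I = {1, q * (q - 1), q ^ 2 - 1, q * (q + 1)} := by
      rw [← S2507.result (F := F) hq2 hq4]
      have key : ∀ g : G, I g =
          (Subgroup.centralizer ({e g} : Set (Matrix.ProjectiveSpecialLinearGroup (Fin 2) F))).index := by
        intro g
        have hm : Subgroup.centralizer ({e g} : Set (Matrix.ProjectiveSpecialLinearGroup (Fin 2) F))
            = (Subgroup.centralizer ({g} : Set G)).map e.toMonoidHom := by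
          ext h
          rw [Subgroup.mem_map_equiv, Subgroup.mem_centralizer_singleton_iff,
            Subgroup.mem_centralizer_singleton_iff, ← e.symm.injective.eq_iff, map_mul, map_mul,
            e.symm_apply_apply]
        rw [hm, hI]
        exact (Subgroup.index_map_equiv _ e).symm
      ext n
      constructor
      · rintro ⟨g, rfl⟩; exact ⟨e g, (key g).symm⟩
      · rintro ⟨g, rfl⟩; exact ⟨e.symm g, by rw [key, e.apply_symm_apply]⟩
    obtain ⟨k, hk⟩ := Nat.exists_eq_add_of_le hq4
    have e1 : q * (q - 1) = k * k + 7 * k + 12 := by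
      rw [hk, show 4 + k - 1 = k + 3 by omega]; ring
    have e2 : q ^ 2 - 1 = k * k + 8 * k + 15 := by
      have : q ^ 2 = k * k + 8 * k + 16 := by rw [hk]; ring
      omega
    have e3 : q * (q + 1) = k * k + 9 * k + 20 := by rw [hk]; ring
    rw [e1, e2, e3] at hrange
    have hnc : ∀ g : G, I g = 1 ↔ g ∈ Subgroup.center G := fun g => by
      rw [hI, Subgroup.index_eq_one, Subgroup.eq_top_iff']
      simp only [Subgroup.mem_centralizer_singleton_iff, Subgroup.mem_center_iff]
    have hne : ¬ IsMulCommutative G := by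
      intro hG
      obtain ⟨g, hg⟩ : k * k + 7 * k + 12 ∈ Set.range I := hrange ▸ by simp
      have h1 : I g = 1 := (hnc g).2 (Subgroup.mem_center_iff.2 fun x => mul_comm' x g)
      omega
    refine ⟨hs, hne, ?_⟩
    have hset : {m : ℕ | ∃ x : G, x ∉ Subgroup.center G ∧
        m = (Subgroup.centralizer ({x} : Set G)).index} = Set.range I \ {1} := by
      ext n
      constructor
      · rintro ⟨g, hg, rfl⟩
        exact ⟨⟨g, rfl⟩, fun h => hg ((hnc g).1 h)⟩
      · rintro ⟨⟨g, rfl⟩, h⟩
        exact ⟨g, fun hg => h ((hnc g).2 hg), rfl⟩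
    rw [hset, hrange, Set.insert_diff_of_mem _ (Set.mem_singleton 1), Set.diff_singleton_eq_self]
    · exact Set.ncard_eq_three.2 ⟨_, _, _, by omega, by omega, by omega, rfl⟩
    · simp only [Set.mem_insert_iff, Set.mem_singleton_iff, not_or]
      omega

end Cfsg.Agent.S3192
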