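import Cfsg.Statements.S3222
import Cfsg.Agent.H77.TwoSymFourMain
-- import your own Cfsg.Agent.* helpers here

set_option autoImplicit false
open Cfsg
open scoped commutatorElement

namespace Cfsg.Agent.S3222

open Subgroup Cfsg.Agent.H77.TwoSymFour in
/-- The data attached to the hypotheses. -/
theorem exists_data {G : Type*} [Group G] [Finite G] (t : G) (ht : orderOf t = 2) (T : Sylow 2 G)
    (htc : ∀ s ∈ (T : Subgroup G), s * t = t * s)
    (e : ↥(Subgroup.centralizer ({t} : Set G)) ≃* (Multiplicative (ZMod 2) × Equiv.Perm (Fin 4)))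
    (h2 : ∀ S : Sylow 2 G,
      Subgroup.centralizer ((⁅(S : Subgroup G), (S : Subgroup G)⁆ : Subgroup G) : Set G) = (S : Subgroup G)) :
    ∃ d : Data G, d.t = t := by
  haveI : Fact (Nat.Prime 2) := ⟨Nat.prime_two⟩
  set C := centralizer ({t} : Set G) with hC
  set E : Z2 × Equiv.Perm (Fin 4) →* G := C.subtype.comp e.symm.toMonoidHom with hE
  have hinj : Function.Injective E := C.subtype_injective.comp e.symm.injective
  have htC : t ∈ C := mem_centralizer_singleton_iff.2 rfl
  have hEt : E (u0, 1) = t := by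
    rcases center_pair (e ⟨t, htC⟩) (fun y => by
      apply e.symm.injective
      rw [map_mul, map_mul, e.symm_apply_apply]
      exact Subtype.ext (mem_centralizer_singleton_iff.1 (e.symm y).2).symm) with h | h
    · rw [MulEquiv.map_eq_one_iff] at h
      have := congrArg Subtype.val h
      simp only [Subgroup.coe_one] at this
      simp [this] at ht
    · rw [← h, hE]
      simp
  have hrange : ∀ g, g * t = t * g → ∃ x, E x = g := fun g hg =>
    ⟨e ⟨g, mem_centralizer_singleton_iff.2 hg⟩, by simp [hE]⟩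
  have hC48 : Nat.card C = 48 := by
    rw [Nat.card_congr e.toEquiv, Nat.card_prod, Nat.card_perm]
    simp
    decide
  set T0 := ((⊤ : Subgroup Z2).prod D0).map E with hT0
  have hT16 : Nat.card T0 = 16 := by
    rw [hT0, ← Nat.card_congr (equivMapOfInjective _ E hinj).toEquiv,
      Nat.card_congr (prodEquiv _ _).toEquiv, Nat.card_prod, card_D0, Subgroup.card_top]
    simp
  have hTC : (T : Subgroup G) ≤ C := fun s hs => mem_centralizer_singleton_iff.2 (htc s hs)
  have hsyl : Nat.card T0 = 2 ^ (Nat.card G).factorization 2 := by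
    obtain ⟨m, hm⟩ := T.isPGroup'.exists_card_eq
    have h1 : Nat.card (T : Subgroup G) ∣ 48 := hC48 ▸ card_dvd_of_le hTC
    obtain ⟨P, hP⟩ := (IsPGroup.of_card (n := 4) (by rw [hT16]; rfl) : IsPGroup 2 T0).exists_le_sylow
    have h3 : 16 ∣ Nat.card (T : Subgroup G) := by
      rw [T.card_eq_multiplicity, ← P.card_eq_multiplicity, ← hT16]
      exact card_dvd_of_le hP
    rw [← T.card_eq_multiplicity, hT16]
    rw [hm] at h1 h3 ⊢
    have : m ≤ 5 := by
      by_contra h
      have := (Nat.pow_le_pow_right (show 1 ≤ 2 by norm_num) (show 6 ≤ m by omega)).trans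
        (Nat.le_of_dvd (by norm_num) h1)
      norm_num at this
    interval_cases m <;> first | rfl | (exfalso; revert h1 h3; decide)
  let S0 : Sylow 2 G := Sylow.ofCard T0 hsyl
  have hS0 : (S0 : Subgroup G) = T0 := rfl
  have hcomm : ⁅T0, T0⁆ ≤ zpowers (E (1, c0)) := by
    rw [Subgroup.commutator_le]
    rintro _ ⟨x, hx, rfl⟩ _ ⟨y, hy, rfl⟩
    rw [← map_commutatorElement]
    have hfst : (⁅x, y⁆ : Z2 × Equiv.Perm (Fin 4)).1 = 1 := by
      simp [commutatorElement_def, mul_comm x.1 y.1]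
    rcases comm_D0 _ hx.2 _ hy.2 with h | h
    · rw [show (⁅x, y⁆ : Z2 × Equiv.Perm (Fin 4)) = 1 from Prod.ext hfst (by
        simpa [commutatorElement_def] using h), map_one]
      exact one_mem _
    · rw [show (⁅x, y⁆ : Z2 × Equiv.Perm (Fin 4)) = (1, c0) from Prod.ext hfst (by
        simpa [commutatorElement_def] using h)]
      exact mem_zpowers _
  refine ⟨⟨E, hinj, fun g hg => hrange g (hEt ▸ hg), fun g hg => ?_, ?_⟩, hEt⟩
  · have hgS : g ∈ centralizer ((⁅(S0 : Subgroup G), (S0 : Subgroup G)⁆ : Subgroup G) : Set G) := by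
      rw [mem_centralizer_iff, hS0]
      intro a ha
      obtain ⟨i, rfl⟩ := hcomm ha
      exact (Commute.zpow_right (show Commute g (E (1, c0)) from hg) i).eq.symm
    rw [h2 S0, hS0] at hgS
    obtain ⟨x, hx, rfl⟩ := hgS
    exact ⟨x, hx.2, rfl⟩
  · exact S0.not_dvd_index

open Subgroup Cfsg.Agent.H77.TwoSymFour in
/-- A sign homomorphism negative on the involution. -/
theorem exists_conf {G : Type*} [Group G] [Finite G] (d : Data G) : Nonempty (Conf G) := by
  classical
  let H : Subgroup G := (D0.map (MonoidHom.inr Z2 (Equiv.Perm (Fin 4)))).map d.E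
  have hH : Nat.card H = 8 := by
    rw [← Nat.card_congr (equivMapOfInjective _ d.E d.inj).toEquiv,
      ← Nat.card_congr (equivMapOfInjective D0 (MonoidHom.inr Z2 (Equiv.Perm (Fin 4)))
        fun a b h => congrArg Prod.snd h).toEquiv, card_D0]
  have hodd : Odd d.T0.index := Nat.not_even_iff_odd.1 fun he => d.syl (even_iff_two_dvd.1 he)
  have hHi : H.index = 2 * d.T0.index := by
    have h1 := H.card_mul_index
    have h2 := d.T0.card_mul_index
    rw [hH] at h1
    rw [d.card_T0] at h2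
    omega
  have hcase : ∀ x : G, ∀ g : G, x ^ 2 = 1 → x ≠ 1 → ¬ IsConj x d.c → g⁻¹ * x * g ∈ H →
      IsConj x (d.E (1, b0)) := by
    intro x g hx hx1 hxc hg
    obtain ⟨_, ⟨σ, hσ, rfl⟩, he⟩ := hg
    have hxσ : IsConj x (d.E (1, σ)) := isConj_iff.2 ⟨g⁻¹, by rw [inv_inv]; exact he.symm⟩
    have hσ1 : σ ≠ 1 := fun h => hx1 (by
      rw [h, show ((1, 1) : Z2 × Equiv.Perm (Fin 4)) = 1 from rfl, map_one] at hxσ
      exact isConj_one_left.1 hxσ)
    have hσ2 : σ * σ = 1 := by
      have e : (g⁻¹ * x * g) ^ 2 = 1 := by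
        rw [sq]; calc g⁻¹ * x * g * (g⁻¹ * x * g) = g⁻¹ * (x ^ 2) * g := by rw [sq]; group
          _ = 1 := by rw [hx, mul_one, inv_mul_cancel]
      rw [← he, ← map_pow, ← map_one d.E] at e
      simpa [sq] using congrArg Prod.snd (d.inj e)
    rcases D0_invol σ hσ hσ2 hσ1 with hV | ⟨τ, hτ⟩
    · exact absurd (hxσ.trans (d.isConj_V hV hσ1 1)) hxc
    · exact hxσ.trans (d.isConj_E (isConj_iff.2 ⟨(1, τ), by simp [hτ]⟩)).symm
  have hsq : ∀ x : Z2 × Equiv.Perm (Fin 4), x ^ 2 = 1 → d.E x ^ 2 = 1 := fun x hx => by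
    rw [← map_pow, hx, map_one]
  obtain ⟨φ, hφ⟩ : ∃ φ : G →* ℤˣ, φ d.t = -1 := by
    by_cases h : ∀ g : G, g⁻¹ * d.t * g ∉ H
    · exact H29.exists_hom_neg_one H hodd hHi d.t (hsq _ (by decide)) h
    · push Not at h
      obtain ⟨g, hg⟩ := h
      have htb := hcase d.t g (hsq _ (by decide)) (d.ne_one (by decide)) d.not_conj_t_c hg
      obtain ⟨φ, hφ⟩ := H29.exists_hom_neg_one H hodd hHi (d.E (u0, c0)) (hsq _ (by decide))
        fun g hg => d.not_conj_t_tc (htb.trans
          (hcase _ g (hsq _ (by decide)) (d.ne_one (by decide)) d.not_conj_tc_c hg).symm)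
      refine ⟨φ, ?_⟩
      rw [show ((u0, c0) : Z2 × Equiv.Perm (Fin 4)) = (u0, 1) * (1, c0) by decide, map_mul, map_mul] at hφ
      obtain ⟨σ, -, τ, -, hc⟩ := c0_commutator
      have : φ (d.E (1, c0)) = 1 := by
        rw [show ((1, c0) : Z2 × Equiv.Perm (Fin 4)) = (1, σ) * (1, τ) * (1, σ)⁻¹ * (1, τ)⁻¹ by simp [hc]]
        simp only [map_mul, map_inv]
        rw [mul_right_comm (φ (d.E (1, σ))) _ _, mul_inv_cancel, one_mul, mul_inv_cancel]
      rwa [this, mul_one] at hφ
  -- twist the embedding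
  let χ : Equiv.Perm (Fin 4) →* ℤˣ := φ.comp (d.E.comp (MonoidHom.inr _ _))
  let δ : ℤˣ →* Z2 :=
    { toFun := fun u => if u = 1 then 1 else u0
      map_one' := if_pos rfl
      map_mul' := by decide }
  let τ : Z2 × Equiv.Perm (Fin 4) →* Z2 × Equiv.Perm (Fin 4) :=
    ((MonoidHom.fst _ _) * ((δ.comp χ).comp (MonoidHom.snd _ _))).prod (MonoidHom.snd _ _)
  have hτ2 : ∀ x, τ (τ x) = x := fun x => by
    refine Prod.ext ?_ rfl
    show x.1 * δ (χ x.2) * δ (χ x.2) = x.1
    rw [mul_assoc, show ∀ z : Z2, z * z = 1 by decide, mul_one]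
  have hτinj : Function.Injective τ := Function.Involutive.injective hτ2
  have hτt : τ (u0, 1) = (u0, 1) := Prod.ext (show u0 * δ (χ 1) = u0 by rw [map_one, map_one, mul_one]) rfl
  have hχc : χ c0 = 1 := by
    obtain ⟨σ, -, π, -, hc⟩ := c0_commutator
    rw [← hc, map_mul, map_mul, map_mul, map_inv, map_inv, mul_right_comm (χ σ) _ _, mul_inv_cancel,
      one_mul, mul_inv_cancel]
  have hτc : τ (1, c0) = (1, c0) := Prod.ext (show (1 : Z2) * δ (χ c0) = 1 by rw [hχc, map_one, mul_one]) rfl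
  have hTmap : ((⊤ : Subgroup Z2).prod D0).map (d.E.comp τ) = d.T0 := by
    ext g
    constructor
    · rintro ⟨x, hx, rfl⟩
      exact d.mem_T0.2 ⟨τ x, hx.2, rfl⟩
    · intro hg
      obtain ⟨x, hx, rfl⟩ := d.mem_T0.1 hg
      exact ⟨τ x, ⟨mem_top _, hx⟩, congrArg d.E (hτ2 x)⟩
  exact ⟨{ E := d.E.comp τ
           inj := d.inj.comp hτinj
           cent := fun g hg => by
            rw [MonoidHom.comp_apply, hτt] at hg
            obtain ⟨x, hx⟩ := d.cent g hg
            exact ⟨τ x, by rw [MonoidHom.comp_apply, hτ2, hx]⟩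
           cent2 := fun g hg => by
            rw [MonoidHom.comp_apply, hτc] at hg
            obtain ⟨x, hx, hxe⟩ := d.cent2 g hg
            exact ⟨τ x, hx, by rw [MonoidHom.comp_apply, hτ2, hxe]⟩
           syl := hTmap ▸ d.syl
           φ := φ
           φ_t := by rw [MonoidHom.comp_apply, hτt]; exact hφ
           φ_E := fun σ => by
            show φ (d.E (1 * δ (χ σ), σ)) = 1
            rw [one_mul, show ((δ (χ σ), σ) : Z2 × Equiv.Perm (Fin 4)) = (δ (χ σ), 1) * (1, σ) by simp,
              map_mul, map_mul]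
            show φ (d.E (δ (χ σ), 1)) * χ σ = 1
            rcases Int.units_eq_one_or (χ σ) with h | h
            · rw [h, map_one, show ((1, 1) : Z2 × Equiv.Perm (Fin 4)) = 1 from rfl, map_one, map_one, mul_one]
            · rw [h, show δ (-1) = u0 from rfl, show φ (d.E (u0, 1)) = -1 from hφ]
              decide }⟩

/-- Statement S3222. -/
theorem result {G : Type*} [Group G] [Finite G] (hev : Even (Nat.card G))
    (t : G) (ht : orderOf t = 2) (T : Sylow 2 G) (htT : t ∈ (T : Subgroup G)) (htc : ∀ s ∈ (T : Subgroup G), s * t = t * s)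
    (e : ↥(Subgroup.centralizer ({t} : Set G)) ≃* (Multiplicative (ZMod 2) × Equiv.Perm (Fin 4)))
    (h2 : ∀ S : Sylow 2 G, Subgroup.centralizer ((⁅(S : Subgroup G), (S : Subgroup G)⁆ : Subgroup G) : Set G) = (S : Subgroup G)) :
    (Group.IsSolvable G → Subgroup.centralizer ({t} : Set G) = ⊤) ∧
      (¬ Group.IsSolvable G → Nonempty (G ≃* Equiv.Perm (Fin 6))) := by
  obtain ⟨d, hd⟩ := exists_data t ht T htc e h2
  refine ⟨fun hs => ?_, fun hns => ?_⟩
  · haveI := hs
    haveI : Nontrivial G := ⟨⟨t, 1, fun h => by simp [h] at ht⟩⟩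
    have hex : ∃ n, derivedSeries G n = ⊥ := Group.IsSolvable.solvable
    classical
    obtain ⟨m, hm⟩ : ∃ m, Nat.find hex = m + 1 := by
      refine Nat.exists_eq_succ_of_ne_zero fun h => ?_
      have := Nat.find_spec hex
      rw [h, derivedSeries_zero] at this
      exact top_ne_bot this
    have hab : ∀ a ∈ derivedSeries G m, ∀ b ∈ derivedSeries G m, a * b = b * a := fun a ha b hb => by
      have h : ⁅a, b⁆ ∈ derivedSeries G (m + 1) := by
        rw [derivedSeries_succ]; exact Subgroup.commutator_mem_commutator ha hb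
      rw [← hm, Nat.find_spec hex, Subgroup.mem_bot, commutatorElement_eq_one_iff_mul_comm] at h
      exact h
    have hA : derivedSeries G m ≠ ⊥ := Nat.find_min hex (by omega)
    rw [eq_top_iff]
    intro g _
    rw [Subgroup.mem_centralizer_singleton_iff, ← hd]
    exact d.t_central_of_normal (derivedSeries G m) hA hab g
  · obtain ⟨c⟩ := exists_conf d
    exact c.equiv_sym_six hns

end Cfsg.Agent.S3222
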