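import Cfsg.Statements.S3277
import Cfsg.Agent.H37.KleinCentralizerCases
import Cfsg.Agent.H37.KleinSylowA5

set_option autoImplicit false
open Cfsg

namespace Cfsg.Agent.S3277

/-- Let G be a finite group containing an involution whose centralizer is elementary abelian of order 4. If G has no normal 2-complement and no normal elementary abelian 2-subgroup of order 2 or 4, then G is isomorphic to the alternating group of degree 5 (that is, to PSL(2, 5)). -/
theorem result {G : Type*} [Group G] [Finite G] (x : G) (hx : orderOf x = 2)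
    (hC4 : Nat.card ↥(Subgroup.centralizer ({x} : Set G)) = 4) (hCe : ∀ c ∈ Subgroup.centralizer ({x} : Set G), c ^ 2 = 1)
    (hnc : ¬ Cfsg.HasNormalPComplement 2 G)
    (hne : ∀ E : Subgroup G, E.Normal → Cfsg.IsElementaryAbelian 2 E → Nat.card ↥E ≠ 2 ∧ Nat.card ↥E ≠ 4) :
    Nonempty (G ≃* ↥(alternatingGroup (Fin 5))) := by
  have : Fact (Nat.Prime 2) := ⟨Nat.prime_two⟩
  obtain ⟨P, hP⟩ := (IsPGroup.of_card (n := 2) (by rw [hC4]; norm_num) :
    IsPGroup 2 ↥(Subgroup.centralizer ({x} : Set G))).exists_le_sylow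
  rcases Nat.lt_or_ge 4 (Nat.card (P : Subgroup G)) with h4 | h4
  · rcases Cfsg.Agent.H37.large_sylow_case x hx P hP hC4 h4 with h | ⟨E, hEn, hEe, hE⟩
    · exact absurd h hnc
    · obtain ⟨h2, h4'⟩ := hne E hEn hEe
      rcases hE with h | h
      · exact absurd h h2
      · exact absurd h h4'
  · have hPC : (P : Subgroup G) = Subgroup.centralizer ({x} : Set G) :=
      (Subgroup.eq_of_le_of_card_ge hP (by omega)).symm
    exact Cfsg.Agent.H37.a5_of_self_centralizing_klein_sylow x hx P hPC (by rw [hPC, hC4])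
      (fun c hc => hCe c (hPC ▸ hc)) hnc hne

end Cfsg.Agent.S3277
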