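import Cfsg.Statements.S3280
import Cfsg.Agent.H69.Small4.Reduce
import Cfsg.Agent.H69.Small4.Main
import Cfsg.Agent.S0984
-- import your own Cfsg.Agent.* helpers here

set_option autoImplicit false
open Cfsg

namespace Cfsg.Agent.S3280

/-- A non-cyclic finite simple group containing an element whose centralizer has order at most 4 is isomorphic to the alternating group of degree 5, 6 or 7, or to PSL(2, 7). -/
theorem result {G : Type*} [Group G] [Finite G] [IsSimpleGroup G] (hG : ¬ IsCyclic G)
    (w : G) (hw : Nat.card ↥(Subgroup.centralizer ({w} : Set G)) ≤ 4) :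
    Nonempty (G ≃* ↥(alternatingGroup (Fin 5))) ∨ Nonempty (G ≃* ↥(alternatingGroup (Fin 6))) ∨
      Nonempty (G ≃* ↥(alternatingGroup (Fin 7))) ∨
      (∃ (F : Type) (_ : Field F) (_ : Fintype F), Fintype.card F = 7 ∧ Nonempty (G ≃* Matrix.ProjectiveSpecialLinearGroup (Fin 2) F)) := by
  rcases H69.Small4.reduce hG w hw with h | h | ⟨P, σ, τ, R, C⟩
  · exact Or.inl h
  · exact Or.inr (Or.inr (Or.inr h))
  · exact C.classify hG fun h => S0984.result h

end Cfsg.Agent.S3280
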