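import Cfsg.Agent.H59.PSLSeven.Main
import Cfsg.Agent.H31.PSLRingEquiv
import Cfsg.Agent.S1475

set_option autoImplicit false
open Cfsg

namespace Cfsg.Agent.S3396

/-- Let G be a finite group whose order has at least three distinct prime divisors, and suppose every nonidentity element of G has order a power of 2 or a prime other than 5. Then G is isomorphic to PSL₂(7) (here F is any field with 7 elements). In particular a finite group whose set of element orders is {1, 2, 3, 4, 7} is PSL₂(7). -/
theorem result {G : Type*} [Group G] [Finite G]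
    {F : Type*} [Field F] [Fintype F] (hF : Fintype.card F = 7)
    (h3 : 3 ≤ (Nat.card G).primeFactors.card)
    (hord : ∀ g : G, g ≠ 1 → (∃ k : ℕ, orderOf g = 2 ^ k) ∨ ((orderOf g).Prime ∧ orderOf g ≠ 5)) :
    Nonempty (G ≃* Matrix.ProjectiveSpecialLinearGroup (Fin 2) F) := by
  haveI : Fact (Nat.Prime 7) := ⟨by norm_num⟩
  have h : H59.PSLSeven.Hyp G := fun g hg => (hord g hg).imp_right And.left
  have h5 : ¬ 5 ∣ Nat.card G := fun hd => by
    haveI : Fact (Nat.Prime 5) := ⟨by norm_num⟩
    obtain ⟨g, hg⟩ := exists_prime_orderOf_dvd_card' 5 hd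
    rcases hord g (by rintro rfl; simp at hg) with ⟨k, hk⟩ | ⟨-, h5'⟩
    · have hd5 : 5 ∣ 2 ^ k := ⟨1, by omega⟩
      exact absurd ((Nat.prime_dvd_prime_iff_eq (by norm_num) Nat.prime_two).1
        ((show Nat.Prime 5 by norm_num).dvd_of_dvd_pow hd5)) (by norm_num)
    · exact h5' hg
  have hns : ¬ Group.IsSolvable G := fun hs => by
    haveI := hs
    have := S1475.result (G := G) fun g => by
      rcases eq_or_ne g 1 with e | e
      · exact Or.inr e
      · exact Or.inl (h.epo g e)
    omega
  obtain ⟨e⟩ := H59.PSLSeven.main _ G rfl h h5 hns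
  obtain ⟨f⟩ := H31.nonempty_psl_ringEquiv
    (FiniteField.ringEquivOfCardEq (K := ZMod 7) (K' := F) (by rw [ZMod.card, hF])) (Fin 2)
  exact ⟨e.trans f⟩

end Cfsg.Agent.S3396
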