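import Cfsg.Agent.H59.FiveOrbits.SE
import Cfsg.Agent.H59.FiveOrbits.Klein
import Cfsg.Agent.H59.FiveOrbits.CaseEven
import Cfsg.Agent.H59.FiveOrbits.CaseFour
import Cfsg.Agent.S0252

set_option autoImplicit false
set_option linter.style.haveILetI false
open Cfsg

namespace Cfsg.Agent.S3406

/-- A non-abelian finite simple group on whose elements the full automorphism group has at most five orbits is isomorphic to the alternating group of degree 5 or 6, to PSL(2, 7) or to PSL(2, 8). -/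
theorem result {G : Type*} [Group G] [Finite G] [IsSimpleGroup G] (hG : ¬ IsMulCommutative G)
    (h5 : Nat.card (MulAction.orbitRel.Quotient (MulAut G) G) ≤ 5) :
    Nonempty (G ≃* ↥(alternatingGroup (Fin 5))) ∨ Nonempty (G ≃* ↥(alternatingGroup (Fin 6))) ∨
      (∃ (F : Type) (_ : Field F) (_ : Fintype F), (Fintype.card F = 7 ∨ Fintype.card F = 8) ∧
        Nonempty (G ≃* Matrix.ProjectiveSpecialLinearGroup (Fin 2) F)) := by
  classical
  obtain ⟨O, hO, hO4, horb⟩ := H59.FiveOrbits.exists_orders h5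
  have hns : ¬ Group.IsSolvable G := fun hs => hG ⟨⟨IsSimpleGroup.comm_iff_isSolvable.2 hs⟩⟩
  have hev : Even (Nat.card G) :=
    (Nat.even_or_odd _).resolve_right fun ho => hns (S0205.result ho)
  set ps := (Nat.card G).primeFactors with hps
  have hps3 : 3 ≤ ps.card := by
    by_contra hc
    exact hns (H59.FiveOrbits.isSolvable_of_card_primeFactors (show ps.card ≤ 2 by omega))
  have hsub : ps ⊆ O := fun r hr => by
    obtain ⟨hrp, hrd, -⟩ := Nat.mem_primeFactors.1 hr
    haveI := Fact.mk hrp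
    exact (hO r).2 ⟨hrp.ne_one, exists_prime_orderOf_dvd_card' r hrd⟩
  have hmemps : ∀ g : G, (orderOf g).Prime → orderOf g ∈ ps := fun g hg =>
    Nat.mem_primeFactors.2 ⟨hg, orderOf_dvd_natCard g, Nat.card_pos.ne'⟩
  have heven : (∀ g : G, 2 ∣ orderOf g → orderOf g = 2) →
      Nonempty (G ≃* ↥(alternatingGroup (Fin 5))) ∨ Nonempty (G ≃* ↥(alternatingGroup (Fin 6))) ∨
      (∃ (F : Type) (_ : Field F) (_ : Fintype F), (Fintype.card F = 7 ∨ Fintype.card F = 8) ∧
        Nonempty (G ≃* Matrix.ProjectiveSpecialLinearGroup (Fin 2) F)) := fun h2 => by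
    obtain ⟨F, iF, iFt, hF | hF, ⟨e⟩⟩ := H59.FiveOrbits.case_even hG hev h2 hO hO4
    · obtain ⟨e'⟩ := S0252.result hF
      exact Or.inl ⟨e.trans e'⟩
    · exact Or.inr (Or.inr ⟨F, iF, iFt, Or.inr hF, ⟨e⟩⟩)
  by_cases hcomp : ∃ g : G, g ≠ 1 ∧ ¬ (orderOf g).Prime
  swap
  · push Not at hcomp
    refine heven fun g hg => ?_
    rcases eq_or_ne g 1 with rfl | hg1
    · simp at hg
    · exact ((Nat.prime_dvd_prime_iff_eq Nat.prime_two (hcomp g hg1)).1 hg).symm
  obtain ⟨gx, hgx1, hgxp⟩ := hcomp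
  set x := orderOf gx with hx
  have hx1 : x ≠ 1 := fun e => hgx1 (orderOf_eq_one_iff.1 e)
  have hxO : x ∈ O := (hO x).2 ⟨hx1, gx, rfl⟩
  have hxps : x ∉ ps := fun e => hgxp (Nat.mem_primeFactors.1 e).1
  have hins : insert x ps = O := by
    refine Finset.eq_of_subset_of_card_le (Finset.insert_subset hxO hsub) ?_
    rw [Finset.card_insert_of_notMem hxps]
    omega
  have hOc : O.card = ps.card + 1 := by rw [← hins, Finset.card_insert_of_notMem hxps]
  have hord : ∀ g : G, g ≠ 1 → orderOf g = x ∨ orderOf g ∈ ps := fun g hg => by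
    have h1 := (hO _).2 ⟨fun e => hg (orderOf_eq_one_iff.1 e), g, rfl⟩
    rwa [← hins, Finset.mem_insert] at h1
  have hxpos : 0 < x := orderOf_pos gx
  have hdiv : ∀ d, d ∣ x → d ≠ 1 → d ≠ x → d.Prime := by
    intro d hd hd1 hdx
    obtain ⟨c, hc⟩ := hd
    have hc0 : c ≠ 0 := fun z => by rw [z, mul_zero] at hc; omega
    have ho : orderOf (gx ^ c) = d := by
      rw [orderOf_pow_of_dvd hc0 ⟨d, by rw [← hx, hc, mul_comm]⟩, ← hx, hc,
        Nat.mul_div_cancel _ (Nat.pos_of_ne_zero hc0)]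
    rcases hord (gx ^ c) (fun e => hd1 (by rw [← ho, e, orderOf_one])) with e | e
    · exact absurd (ho.symm.trans e) hdx
    · exact (Nat.mem_primeFactors.1 (ho ▸ e)).1
  obtain ⟨s, hs⟩ := Nat.minFac_dvd x
  set r := x.minFac
  have hr : r.Prime := Nat.minFac_prime hx1
  have hs1 : s ≠ 1 := fun e => hgxp (by rw [hs, e, mul_one]; exact hr)
  have hsp : s.Prime := hdiv s ⟨r, by rw [hs, mul_comm]⟩ hs1 fun e => by
    have := hr.two_le
    rw [e] at hs
    nlinarith
  rcases eq_or_ne r 2 with hr2 | hr2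
  swap
  · refine heven fun g hg => ?_
    rcases eq_or_ne g 1 with rfl | hg1
    · simp at hg
    rcases hord g hg1 with e | e
    · exfalso
      rw [e] at hg
      have := Nat.minFac_le_of_dvd le_rfl hg
      have := hr.two_le
      omega
    · exact ((Nat.prime_dvd_prime_iff_eq Nat.prime_two (Nat.mem_primeFactors.1 e).1).1 hg).symm
  rcases eq_or_ne s 2 with hs2 | hs2
  · have hx4 : x = 4 := by rw [hs, hr2, hs2]
    refine H59.FiveOrbits.case_four hG (fun g hg => ?_) (show ps.card ≤ 3 by omega) (fun g hg => ?_)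
      ⟨gx, hx4⟩
    · rcases hord g hg with e | e
      · exact Or.inl ⟨2, by rw [e, hx4]; norm_num⟩
      · exact Or.inr (Nat.mem_primeFactors.1 e).1
    · exact (hord g hg).imp_left fun e => e.trans hx4
  exfalso
  have hps2 : 2 ∈ ps := Nat.mem_primeFactors.2 ⟨Nat.prime_two, even_iff_two_dvd.1 hev, Nat.card_pos.ne'⟩
  have hsps : s ∈ ps := Nat.mem_primeFactors.2 ⟨hsp,
    (show s ∣ x from ⟨r, by rw [hs, mul_comm]⟩).trans (orderOf_dvd_natCard gx), Nat.card_pos.ne'⟩
  have hc1 : ((ps.erase 2).erase s).card = 1 := by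
    rw [Finset.card_erase_of_mem (Finset.mem_erase.2 ⟨hs2, hsps⟩), Finset.card_erase_of_mem hps2]
    omega
  obtain ⟨q, hq⟩ := Finset.card_eq_one.1 hc1
  have hq' : q ∈ (ps.erase 2).erase s := hq ▸ Finset.mem_singleton_self q
  simp only [Finset.mem_erase] at hq'
  have hT : H59.FiveOrbits.TwoP G s q :=
    { hp := hsp
      hq := (Nat.mem_primeFactors.1 hq'.2.2).1
      hp2 := hs2
      hq2 := hq'.2.1
      hpq := Ne.symm hq'.1
      ord := fun g hg => by
        rcases hord g hg with e | e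
        · exact Or.inr (Or.inr (Or.inr (by rw [e, hs, hr2])))
        · rcases eq_or_ne (orderOf g) 2 with e2 | e2
          · exact Or.inl e2
          rcases eq_or_ne (orderOf g) s with e3 | e3
          · exact Or.inr (Or.inl e3)
          have : orderOf g ∈ (ps.erase 2).erase s := Finset.mem_erase.2 ⟨e3, Finset.mem_erase.2 ⟨e2, e⟩⟩
          rw [hq, Finset.mem_singleton] at this
          exact Or.inr (Or.inr (Or.inl this))
      orb := horb (by omega)
      hx := ⟨gx, by rw [← hx, hs, hr2]⟩ }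
  haveI : Fact (Nat.Prime 2) := ⟨Nat.prime_two⟩
  obtain ⟨S⟩ : Nonempty (Sylow 2 G) := inferInstance
  rcases hT.se_or_small S with hse | ⟨hcore, hsmall⟩
  · exact hT.false_of_se hG S hse
  · exact hT.false_of_klein hG S hcore hsmall

end Cfsg.Agent.S3406
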