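import Cfsg.Statements.S3520
import Cfsg.Agent.H80.PrimitiveNormal
import Cfsg.Agent.H80.SimpleFactorConj

set_option autoImplicit false
open Cfsg

namespace Cfsg.Agent.S3520

/-- Let a finite group G act faithfully and primitively on a finite set Ω with at least two points, suppose G is not almost simple (no non-abelian simple normal subgroup with trivial centralizer), and suppose the derangements of G form exactly two conjugacy classes. Then either Ω has 3 points and G has order 3; or G has a non-trivial abelian normal subgroup N acting regularly, every non-identity element of G fixes at most one point (so, when n > 3, G is a Frobenius group with kernel N), the number n of points is odd and a point stabilizer has order (n − 1)/2; or G is 2-transitive with a non-trivial abelian regular normal subgroup and some non-identity element fixes at least two points (a non-Frobenius 2-transitive affine group). -/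
theorem result {G : Type*} [Group G] [Finite G] {Ω : Type*} [Fintype Ω] [MulAction G Ω] [FaithfulSMul G Ω] (hΩ : 2 ≤ Fintype.card Ω) (hprim : MulAction.IsPreprimitive G Ω) (hnas : ¬ ∃ T : Subgroup G, T.Normal ∧ IsSimpleGroup T ∧ ¬ IsMulCommutative T ∧ Subgroup.centralizer (T : Set G) = ⊥)
    (hκ : Nat.card {c : ConjClasses G // ∃ g : G, ConjClasses.mk g = c ∧ ∀ ω : Ω, g • ω ≠ ω} = 2) (α : Ω) :
    (Fintype.card Ω = 3 ∧ Nat.card G = 3) ∨
    ((∃ N : Subgroup G, N.Normal ∧ N ≠ ⊥ ∧ IsMulCommutative N ∧ ∀ ω : Ω, MulAction.stabilizer N ω = ⊥) ∧ (∀ g : G, g ≠ 1 → Nat.card (MulAction.fixedBy Ω g) ≤ 1) ∧ ¬ 2 ∣ Fintype.card Ω ∧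
        2 * Nat.card (MulAction.stabilizer G α) = Fintype.card Ω - 1) ∨
    ((∃ N : Subgroup G, N.Normal ∧ N ≠ ⊥ ∧ IsMulCommutative N ∧ ∀ ω : Ω, MulAction.stabilizer N ω = ⊥) ∧ MulAction.IsMultiplyPretransitive G Ω 2 ∧ ∃ g : G, g ≠ 1 ∧ 2 ≤ Nat.card (MulAction.fixedBy Ω g)) := by
  classical
  have : Nontrivial Ω := Fintype.one_lt_card_iff_nontrivial.1 (by omega)
  have hcardΩ : Nat.card Ω = Fintype.card Ω := Nat.card_eq_fintype_card
  obtain ⟨β, hβ⟩ := exists_ne α
  obtain ⟨g₀, hg₀⟩ := hprim.toIsPretransitive.exists_smul_eq α β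
  have : Nontrivial G := ⟨g₀, 1, by rintro rfl; exact hβ (by simpa using hg₀.symm)⟩
  have hthree : ∀ x y z : G, (∀ ω : Ω, x • ω ≠ ω) → (∀ ω : Ω, y • ω ≠ ω) → (∀ ω : Ω, z • ω ≠ ω) →
      ¬ IsConj x y → ¬ IsConj x z → ¬ IsConj y z → False := by
    intro x y z hx hy hz hxy hxz hyz
    have := Fintype.ofFinite {c : ConjClasses G // ∃ g : G, ConjClasses.mk g = c ∧ ∀ ω : Ω, g • ω ≠ ω}
    rw [Nat.card_eq_fintype_card] at hκ
    have h3 : ({⟨ConjClasses.mk x, x, rfl, hx⟩, ⟨ConjClasses.mk y, y, rfl, hy⟩,
        ⟨ConjClasses.mk z, z, rfl, hz⟩} : Finset {c : ConjClasses G //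
          ∃ g : G, ConjClasses.mk g = c ∧ ∀ ω : Ω, g • ω ≠ ω}).card = 3 := by
      rw [Finset.card_insert_of_notMem, Finset.card_pair]
      · simp only [ne_eq, Subtype.mk.injEq, ConjClasses.mk_eq_mk_iff_isConj]
        exact hyz
      · simp only [Finset.mem_insert, Finset.mem_singleton, Subtype.mk.injEq, ConjClasses.mk_eq_mk_iff_isConj, not_or]
        exact ⟨hxy, hxz⟩
    have hle := Finset.card_le_univ ({⟨ConjClasses.mk x, x, rfl, hx⟩, ⟨ConjClasses.mk y, y, rfl, hy⟩,
        ⟨ConjClasses.mk z, z, rfl, hz⟩} : Finset {c : ConjClasses G //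
          ∃ g : G, ConjClasses.mk g = c ∧ ∀ ω : Ω, g • ω ≠ ω})
    omega
  obtain ⟨N, -, hN⟩ := H80.exists_minimalNormalized (⊤ : Subgroup G) ⊤ top_ne_bot le_rfl
    (fun _ _ _ _ => trivial)
  have hNn := hN.normal
  have hNt : MulAction.IsPretransitive N Ω := H80.isPretransitive_of_normal hprim hNn hN.ne_bot
  by_cases hc : ∀ x ∈ N, ∀ y ∈ N, x * y = y * x
  · -- affine type
    have hreg : ∀ ω : Ω, MulAction.stabilizer N ω = ⊥ := H80.stabilizer_eq_bot_of_comm hc
    have hNdata : ∃ N : Subgroup G, N.Normal ∧ N ≠ ⊥ ∧ IsMulCommutative N ∧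
        ∀ ω : Ω, MulAction.stabilizer N ω = ⊥ :=
      ⟨N, hNn, hN.ne_bot, ⟨⟨fun x y => Subtype.ext (hc x.1 x.2 y.1 y.2)⟩⟩, hreg⟩
    have hfree : ∀ x ∈ N, x ≠ 1 → ∀ ω : Ω, x • ω ≠ ω := by
      intro x hx hx1 ω hω
      refine hx1 (congrArg Subtype.val ?_ : ((⟨x, hx⟩ : N) : G) = ((1 : N) : G))
      exact (Subgroup.eq_bot_iff_forall _).1 (hreg ω) ⟨x, hx⟩ hω
    -- conjugation is realised by the stabiliser
    have hconjH : ∀ x ∈ N, ∀ y : G, IsConj x y → ∃ h : G, h • α = α ∧ h * x * h⁻¹ = y := by
      intro x hx y hxy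
      obtain ⟨g, rfl⟩ := isConj_iff.1 hxy
      obtain ⟨m, hm⟩ := MulAction.exists_smul_eq N α (g • α)
      refine ⟨m.1⁻¹ * g, by rw [mul_smul, ← hm]; exact inv_smul_smul _ _, ?_⟩
      have h1 := hNn.conj_mem x hx g
      calc m.1⁻¹ * g * x * (m.1⁻¹ * g)⁻¹ = m.1⁻¹ * (g * x * g⁻¹) * m.1 := by group
        _ = g * x * g⁻¹ := by rw [hc _ (inv_mem m.2) _ h1]; group
    have hcardN : Nat.card N = Nat.card Ω :=
      Nat.card_congr (Equiv.ofBijective (fun x : N => x • α) ⟨fun x y h => by
        have h' : x⁻¹ * y ∈ MulAction.stabilizer N α := by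
          rw [MulAction.mem_stabilizer_iff, mul_smul, inv_smul_eq_iff]
          exact h.symm
        rw [hreg α, Subgroup.mem_bot] at h'
        exact inv_mul_eq_one.1 h', fun ω => MulAction.exists_smul_eq N α ω⟩)
    by_cases hout : ∃ d : G, d ∉ N ∧ ∀ ω : Ω, d • ω ≠ ω
    · obtain ⟨d, hdN, hd⟩ := hout
      have hone : ∀ x ∈ N, x ≠ 1 → ∀ y ∈ N, y ≠ 1 → IsConj x y := by
        intro x hx hx1 y hy hy1
        by_contra hne
        refine hthree x y d (hfree x hx hx1) (hfree y hy hy1) hd hne ?_ ?_ <;>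
          · intro hcj
            obtain ⟨c, rfl⟩ := isConj_iff.1 hcj
            exact hdN (hNn.conj_mem _ (by assumption) c)
      refine Or.inr (Or.inr ⟨hNdata, ?_, ?_⟩)
      · have hstab : ∀ b c : Ω, b ≠ α → c ≠ α → ∃ g : G, g • α = α ∧ g • b = c := by
          intro b c hb hc'
          obtain ⟨x, hx⟩ := MulAction.exists_smul_eq N α b
          obtain ⟨y, hy⟩ := MulAction.exists_smul_eq N α c
          have hx1 : x.1 ≠ 1 := fun h => hb (by rw [← hx, Subgroup.smul_def, h, one_smul])
          have hy1 : y.1 ≠ 1 := fun h => hc' (by rw [← hy, Subgroup.smul_def, h, one_smul])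
          obtain ⟨g, hg, hgx⟩ := hconjH x.1 x.2 y.1 (hone _ x.2 hx1 _ y.2 hy1)
          refine ⟨g, hg, ?_⟩
          rw [← hx, ← hy, Subgroup.smul_def, Subgroup.smul_def, ← hgx, mul_smul, mul_smul,
            show g⁻¹ • α = α by rw [inv_smul_eq_iff, hg]]
        rw [MulAction.is_two_pretransitive_iff]
        intro a b c d hab hcd
        obtain ⟨g, hg⟩ := hprim.toIsPretransitive.exists_smul_eq a α
        obtain ⟨k, hk⟩ := hprim.toIsPretransitive.exists_smul_eq c α
        obtain ⟨m, hm, hm'⟩ := hstab (g • b) (k • d)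
          (fun h => hab (smul_left_cancel g (hg.trans h.symm)))
          (fun h => hcd (smul_left_cancel k (hk.trans h.symm)))
        exact ⟨k⁻¹ * m * g, by rw [mul_smul, mul_smul, hg, hm, ← hk, inv_smul_smul],
          by rw [mul_smul, mul_smul, hm', inv_smul_smul]⟩
      · by_contra hle
        push Not at hle
        -- if no element fixes two points the derangements are those in `N`
        have hle' : ∀ g : G, g ≠ 1 → Nat.card (MulAction.fixedBy Ω g) ≤ 1 :=
          fun g hg => Nat.lt_succ_iff.1 (hle g hg)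
        have := Fintype.ofFinite G
        have htot : ∑ g : G, Nat.card (MulAction.fixedBy Ω g) = Nat.card G := by
          rw [H80.sum_card_fixedBy_eq]
          have := (MulAction.pretransitive_iff_subsingleton_quotient G Ω).1 hprim.toIsPretransitive
          rw [Nat.card_of_subsingleton (Quotient.mk _ α), one_mul]
        have hrest : ∑ g ∈ Finset.univ.filter (fun g : G => g ∈ N), Nat.card (MulAction.fixedBy Ω g) =
            Nat.card Ω := by
          rw [Finset.sum_eq_single_of_mem (1 : G) (by simp)]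
          · rw [MulAction.fixedBy_one_eq_univ, Nat.card_coe_set_eq, Set.ncard_univ]
          · intro g hg hg1
            rw [Nat.card_eq_zero]
            exact Or.inl ⟨fun ω => hfree g (Finset.mem_filter.1 hg).2 hg1 ω.1 ω.2⟩
        have hlt : ∑ g ∈ Finset.univ.filter (fun g : G => g ∉ N), Nat.card (MulAction.fixedBy Ω g) <
            ∑ g ∈ Finset.univ.filter (fun g : G => g ∉ N), 1 := by
          refine Finset.sum_lt_sum (fun g hg => hle' g ?_) ⟨d, by simp [hdN], ?_⟩
          · rintro rfl; exact (Finset.mem_filter.1 hg).2 (one_mem N)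
          · rw [Nat.lt_one_iff, Nat.card_eq_zero]
            exact Or.inl ⟨fun ω => hd ω.1 ω.2⟩
        have hsplit := Finset.sum_filter_add_sum_filter_not Finset.univ (fun g : G => g ∈ N)
          (fun g => Nat.card (MulAction.fixedBy Ω g))
        have hcnt := Finset.card_filter_add_card_filter_not (s := (Finset.univ : Finset G))
          (fun g : G => g ∈ N)
        have hcN : (Finset.univ.filter (fun g : G => g ∈ N)).card = Nat.card N := by
          rw [Nat.card_eq_fintype_card, Fintype.card_subtype]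
        rw [Finset.sum_const, smul_eq_mul, mul_one] at hlt
        rw [Finset.card_univ, ← Nat.card_eq_fintype_card, hcN] at hcnt
        omega
    · push Not at hout
      -- the derangements are the non-identity elements of `N`
      have hone : ∀ g : G, g ∉ N → Nat.card (MulAction.fixedBy Ω g) = 1 := by
        intro g hg
        have := Fintype.ofFinite N
        have hge : ∀ x ∈ (Finset.univ : Finset N), 1 ≤ Nat.card (MulAction.fixedBy Ω (g * (x : G))) := by
          intro x _
          obtain ⟨ω, hω⟩ := hout (g * x) (fun h => hg ((Subgroup.mul_mem_cancel_right N x.2).1 h))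
          have : Nonempty (MulAction.fixedBy Ω (g * (x : G))) := ⟨⟨ω, hω⟩⟩
          exact Nat.card_pos
        have heq : ∑ x : N, Nat.card (MulAction.fixedBy Ω (g * (x : G))) = ∑ _x : N, 1 := by
          rw [H80.sum_card_fixedBy_coset]
          simp [Nat.card_eq_fintype_card]
        simpa using ((Finset.sum_eq_sum_iff_of_le hge).1 heq.symm 1 (Finset.mem_univ _)).symm
      have hfrob : ∀ g : G, g ≠ 1 → Nat.card (MulAction.fixedBy Ω g) ≤ 1 := by
        intro g hg
        by_cases hgN : g ∈ N
        · have : IsEmpty (MulAction.fixedBy Ω g) := ⟨fun ω => hfree g hgN hg ω.1 ω.2⟩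
          simp
        · exact (hone g hgN).le
      have hclass : ∀ x ∈ N, x ≠ 1 →
          Nat.card {y : G // IsConj x y} = Nat.card (MulAction.stabilizer G α) := by
        intro x hx hx1
        refine (Nat.card_congr (Equiv.ofBijective
          (fun h : MulAction.stabilizer G α =>
            (⟨h.1 * x * h.1⁻¹, isConj_iff.2 ⟨h.1, rfl⟩⟩ : {y : G // IsConj x y})) ⟨?_, ?_⟩)).symm
        · intro h k e
          have e' : h.1 * x * h.1⁻¹ = k.1 * x * k.1⁻¹ := congrArg Subtype.val e
          set u := k.1⁻¹ * h.1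
          have hu : u • α = α := by
            rw [mul_smul, MulAction.mem_stabilizer_iff.1 h.2, inv_smul_eq_iff,
              MulAction.mem_stabilizer_iff.1 k.2]
          have hux : u * x = x * u := by
            calc u * x = k.1⁻¹ * (h.1 * x * h.1⁻¹) * h.1 := by simp only [u]; group
              _ = x * u := by rw [e']; simp only [u]; group
          by_contra hne
          have hu1 : u ≠ 1 := fun h1 => hne (Subtype.ext (inv_mul_eq_one.1 h1).symm)
          exact hfree x hx hx1 α (H80.eq_of_card_fixedBy_eq_one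
            (hone u fun huN => hu1 (by
              by_contra h1; exact hfree u huN h1 α hu))
            (by rw [← mul_smul, hux, mul_smul, hu]) hu)
        · rintro ⟨y, hy⟩
          obtain ⟨h, hh, e⟩ := hconjH x hx y hy
          exact ⟨⟨h, hh⟩, Subtype.ext e⟩
      obtain ⟨x, hx, hx1⟩ := (Subgroup.bot_or_exists_ne_one N).resolve_left hN.ne_bot
      obtain ⟨y, hy, hy1, hxy⟩ : ∃ y ∈ N, y ≠ 1 ∧ ¬ IsConj x y := by
        by_contra hall
        push Not at hall
        have hsub : Subsingleton {c : ConjClasses G // ∃ g : G, ConjClasses.mk g = c ∧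
            ∀ ω : Ω, g • ω ≠ ω} := by
          refine ⟨?_⟩
          rintro ⟨_, g, rfl, hg⟩ ⟨_, k, rfl, hk⟩
          have hmem : ∀ u : G, (∀ ω : Ω, u • ω ≠ ω) → IsConj x u := fun u hu => hall u
            (by by_contra h; obtain ⟨ω, hω⟩ := hout u h; exact hu ω hω)
            (fun h => hu α (by rw [h, one_smul]))
          exact Subtype.ext (ConjClasses.mk_eq_mk_iff_isConj.2 ((hmem g hg).symm.trans (hmem k hk)))
        have := Finite.card_le_one_iff_subsingleton.2 hsub
        omega
      have hcover : ∀ z ∈ N, z ≠ 1 → IsConj x z ∨ IsConj y z := by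
        intro z hz hz1
        by_contra hno
        push Not at hno
        exact hthree x y z (hfree x hx hx1) (hfree y hy hy1) (hfree z hz hz1) hxy hno.1 hno.2
      have hsum : Nat.card N - 1 = 2 * Nat.card (MulAction.stabilizer G α) := by
        have := Fintype.ofFinite G
        have hmemN : ∀ u v : G, u ∈ N → u ≠ 1 → IsConj u v → v ∈ N ∧ v ≠ 1 := by
          intro u v hu hu1 huv
          obtain ⟨c, rfl⟩ := isConj_iff.1 huv
          exact ⟨hNn.conj_mem u hu c, fun h => hu1 (conj_eq_one_iff.1 h)⟩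
        have hset : (Finset.univ.filter (fun g : G => g ∈ N)).erase 1 =
            Finset.univ.filter (fun g : G => IsConj x g) ∪
              Finset.univ.filter (fun g : G => IsConj y g) := by
          ext z
          simp only [Finset.mem_erase, Finset.mem_filter, Finset.mem_union, Finset.mem_univ,
            true_and]
          exact ⟨fun h => hcover z h.2 h.1, fun h => h.elim
            (fun h => (hmemN x z hx hx1 h).symm) (fun h => (hmemN y z hy hy1 h).symm)⟩
        have hdisj : Disjoint (Finset.univ.filter (fun g : G => IsConj x g))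
            (Finset.univ.filter (fun g : G => IsConj y g)) := by
          rw [Finset.disjoint_left]
          intro z h1 h2
          exact hxy ((Finset.mem_filter.1 h1).2.trans (Finset.mem_filter.1 h2).2.symm)
        have h0 := congrArg Finset.card hset
        rw [Finset.card_erase_of_mem (by simp), Finset.card_union_of_disjoint hdisj] at h0
        have e1 := hclass x hx hx1
        have e2 := hclass y hy hy1
        have e3 : Nat.card N = (Finset.univ.filter (fun g : G => g ∈ N)).card := by
          rw [Nat.card_eq_fintype_card, Fintype.card_subtype]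
        rw [Nat.card_eq_fintype_card, Fintype.card_subtype] at e1 e2
        rw [e3, h0, e1, e2, two_mul]
      rw [hcardN, hcardΩ] at hsum
      exact Or.inr (Or.inl ⟨hNdata, hfrob, fun h2 => by omega, hsum.symm⟩)
  -- non-abelian socle: three classes of derangements
  exfalso
  obtain ⟨T, hT⟩ := H80.exists_simpleFactor hN hc
  haveI : Fact (Nat.Prime 2) := ⟨Nat.prime_two⟩
  obtain ⟨p, hp, -, u, hu, hup⟩ := hT.exists_prime_ne 2
  haveI := Fact.mk hp
  obtain ⟨q, hq, hqp, v, hv, hvq⟩ := hT.exists_prime_ne p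
  have hu1 : u ≠ 1 := by rintro rfl; rw [orderOf_one] at hup; exact hp.one_lt.ne hup
  have hv1 : v ≠ 1 := by rintro rfl; rw [orderOf_one] at hvq; exact hq.one_lt.ne hvq
  have hordconj : ∀ (g x : G), orderOf (g * x * g⁻¹) = orderOf x := fun g x =>
    (SemiconjBy.orderOf_eq g (by simp [SemiconjBy, mul_assoc])).symm
  have horders : ∀ x y z : G, (∀ ω : Ω, x • ω ≠ ω) → (∀ ω : Ω, y • ω ≠ ω) → (∀ ω : Ω, z • ω ≠ ω) →
      orderOf x = p → orderOf y = q → p * q ∣ orderOf z → False := by
    intro x y z hx hy hz ex ey ez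
    have ord : ∀ a b : G, IsConj a b → orderOf a = orderOf b := by
      intro a b h
      obtain ⟨c, rfl⟩ := isConj_iff.1 h
      exact (hordconj c a).symm
    refine hthree x y z hx hy hz (fun h => hqp ?_) (fun h => ?_) (fun h => ?_)
    · rw [← ey, ← ord _ _ h, ex]
    · have := Nat.le_of_dvd hp.pos (ex ▸ (ord _ _ h).symm ▸ ez)
      nlinarith [hp.two_le, hq.two_le]
    · have := Nat.le_of_dvd hq.pos (ey ▸ (ord _ _ h).symm ▸ ez)
      nlinarith [hp.two_le, hq.two_le]
  by_cases hC : Subgroup.centralizer (N : Set G) = ⊥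
  swap
  · have hCt := H80.isPretransitive_of_normal hprim
      (inferInstance : (Subgroup.centralizer (N : Set G)).Normal) hC
    have hfree : ∀ x ∈ N, x ≠ 1 → ∀ ω : Ω, x • ω ≠ ω := fun x hx hx1 ω hω => hx1
      (H80.eq_one_of_commute_transitive (C := Subgroup.centralizer (N : Set G))
        (fun c hc => Subgroup.mem_centralizer_iff.1 hc x hx) hω)
    obtain ⟨M, hM, hMmin⟩ := H80.exists_minimalNormalized (⊤ : Subgroup G)
      (Subgroup.centralizer (N : Set G)) hC le_top
      (fun a _ x hx => (inferInstance : (Subgroup.centralizer (N : Set G)).Normal).conj_mem x hx a)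
    have hMc : ¬ ∀ x ∈ M, ∀ y ∈ M, x * y = y * x := by
      intro hab
      have hMn := hMmin.normal
      have := H80.isPretransitive_of_normal hprim hMn hMmin.ne_bot
      -- `N` centralises an abelian regular normal subgroup, so lies in it
      refine hc fun x hx y hy => ?_
      have hxM : x ∈ M := by
        obtain ⟨m, hm⟩ := MulAction.exists_smul_eq M α (x • α)
        have h1 : m.1⁻¹ * x = 1 := by
          refine H80.eq_one_of_commute_transitive (C := M) (fun c hcM => ?_) (a := α)
            (by rw [mul_smul, ← hm]; exact inv_smul_smul _ _)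
          have hxc := Subgroup.mem_centralizer_iff.1 (hM hcM) x hx
          rw [mul_assoc, hxc, ← mul_assoc, hab _ (inv_mem m.2) c hcM, mul_assoc]
        rw [← inv_mul_eq_one.1 h1]; exact m.2
      exact Subgroup.mem_centralizer_iff.1 (hM hxM) y hy |>.symm
    obtain ⟨S, hS⟩ := H80.exists_simpleFactor hMmin hMc
    obtain ⟨r, hr, hrp, w, hw, hwr⟩ := hS.exists_prime_ne p
    have hcm : Commute u w := Subgroup.mem_centralizer_iff.1 (hM (hS.factor.le hw)) u (hT.factor.le hu)
    by_cases hrq : r = q
    · subst hrq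
      refine horders u v (u * w) (hfree u (hT.factor.le hu) hu1) (hfree v (hT.factor.le hv) hv1)
        ?_ hup hvq ?_
      · intro ω hω
        have h1 : u ^ r • ω = ω := by
          have hwr1 : w ^ r = 1 := by rw [← hwr, pow_orderOf_eq_one]
          have h2 : (u * w) ^ r = u ^ r := by rw [hcm.mul_pow, hwr1, mul_one]
          rw [← h2]
          exact MulAction.mem_stabilizer_iff.1 (pow_mem (MulAction.mem_stabilizer_iff.2 hω) r)
        refine hfree (u ^ r) (pow_mem (hT.factor.le hu) r) (fun h => ?_) ω h1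
        exact hrp ((Nat.prime_dvd_prime_iff_eq hp hr).1 (hup ▸ orderOf_dvd_of_pow_eq_one h)).symm
      · rw [hcm.orderOf_mul_eq_mul_orderOf_of_coprime (by
          rw [hup, hwr]; exact (Nat.coprime_primes hp hr).2 (Ne.symm hrp)), hup, hwr]
    · -- three different prime orders
      have hwfree : ∀ ω : Ω, w • ω ≠ ω := by
        have hNw := Subgroup.mem_centralizer_iff.1 (hM (hS.factor.le hw))
        intro ω hω
        have hw1 : w ≠ 1 := by rintro rfl; rw [orderOf_one] at hwr; exact hr.one_lt.ne hwr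
        exact hw1 (H80.eq_one_of_commute_transitive (C := N) (fun c hc => (hNw c hc).symm) hω)
      have ord : ∀ a b : G, IsConj a b → orderOf a = orderOf b := by
        intro a b h
        obtain ⟨c, rfl⟩ := isConj_iff.1 h
        exact (hordconj c a).symm
      refine hthree u v w (hfree u (hT.factor.le hu) hu1) (hfree v (hT.factor.le hv) hv1) hwfree
        (fun h => hqp ?_) (fun h => hrp ?_) (fun h => hrq ?_)
      · rw [← hvq, ← ord _ _ h, hup]
      · rw [← hwr, ← ord _ _ h, hup]
      · rw [← hwr, ← ord _ _ h, hvq]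
  by_cases hTN : T = N
  · subst hTN
    exact hnas ⟨T, hNn, hT.isSimpleGroup, fun h => hc fun x hx z hz =>
      congrArg Subtype.val (h.is_comm.comm (⟨x, hx⟩ : T) ⟨z, hz⟩), hC⟩
  obtain ⟨c, hcB⟩ := hT.exists_conj_mem_centralizer hTN
  rcases hT.exists_derangement α with hfree | ⟨d, hd, hdd⟩
  · have hcm : Commute u (c * v * c⁻¹) :=
      Subgroup.mem_centralizer_iff.1 (hcB v hv).2 u hu
    refine horders u v (u * (c * v * c⁻¹)) (hfree u hu hu1) (hfree v hv hv1) ?_ hup hvq ?_
    · intro ω hω
      have h2 : (u * (c * v * c⁻¹)) ^ q = u ^ q := by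
        rw [hcm.mul_pow, conj_pow, ← hvq, pow_orderOf_eq_one]; simp
      have h1 : u ^ q • ω = ω := h2 ▸
        MulAction.mem_stabilizer_iff.1 (pow_mem (MulAction.mem_stabilizer_iff.2 hω) q)
      refine hfree (u ^ q) (pow_mem hu q) (fun h => ?_) ω h1
      exact hqp ((Nat.prime_dvd_prime_iff_eq hp hq).1 (hup ▸ orderOf_dvd_of_pow_eq_one h)).symm
    · rw [hcm.orderOf_mul_eq_mul_orderOf_of_coprime (by
        rw [hup, hordconj, hvq]; exact (Nat.coprime_primes hp hq).2 (Ne.symm hqp)), hup, hordconj, hvq]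
  set b := c * u * c⁻¹
  set b' := c * v * c⁻¹
  have hb : b ∈ N ⊓ Subgroup.centralizer (T : Set G) := hcB u hu
  have hb' : b' ∈ N ⊓ Subgroup.centralizer (T : Set G) := hcB v hv
  have hd1 : d ≠ 1 := fun h => hdd 1 (one_mem _) α (by rw [h, one_mul, one_smul])
  have hBT : ∀ x, x ∈ T → x ∈ Subgroup.centralizer (T : Set G) → x = 1 := fun x hx hxc =>
    hT.eq_one_of_mem hx fun y hy => (Subgroup.mem_centralizer_iff.1 hxc y hy).symm
  have hbord : orderOf b = p := (hordconj c u).trans hup
  have hb'ord : orderOf b' = q := (hordconj c v).trans hvq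
  have hsingle : ∀ e ∈ N ⊓ Subgroup.centralizer (T : Set G), e ≠ 1 → ¬ IsConj d (d * e) := by
    intro e he he1 hcj
    obtain ⟨g, hg⟩ := isConj_iff.1 hcj
    rcases hT.conj_mem_or g with h | h
    · have h1 := h d hd
      rw [hg] at h1
      refine he1 (hBT e ?_ he.2)
      simpa using mul_mem (inv_mem hd) h1
    · have h1 := (h d hd).2
      rw [hg] at h1
      refine hd1 (hBT d hd ?_)
      simpa [mul_assoc] using Subgroup.mul_mem _ h1 (Subgroup.inv_mem _ he.2)
  refine hthree d (d * b) (d * b') ?_ (hdd b hb) (hdd b' hb') ?_ ?_ ?_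
  · simpa using hdd 1 (one_mem _)
  · refine hsingle b hb ?_
    intro h; rw [h, orderOf_one] at hbord; exact hp.one_lt.ne hbord
  · refine hsingle b' hb' ?_
    intro h; rw [h, orderOf_one] at hb'ord; exact hq.one_lt.ne hb'ord
  intro hcj
  obtain ⟨g, hg⟩ := isConj_iff.1 hcj
  have hg' : g * d * g⁻¹ * (g * b * g⁻¹) = d * b' := by rw [← hg]; group
  have hgb : g * b * g⁻¹ = (g * c) * u * (g * c)⁻¹ := by simp only [b]; group
  have hob : orderOf (g * b * g⁻¹) = p := (hordconj g b).trans hbord
  rcases hT.conj_mem_or g with h1 | h1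
  · rcases hT.conj_mem_or (g * c) with h2 | h2
    · have h3 : d * b' ∈ T := hg' ▸ mul_mem (h1 d hd) (hgb ▸ h2 u hu)
      have h4 : b' ∈ T := by simpa using mul_mem (inv_mem hd) h3
      rw [hBT b' h4 hb'.2, orderOf_one] at hb'ord
      exact hq.one_lt.ne hb'ord
    · obtain ⟨-, e⟩ := hT.eq_and_eq_of_mul_eq (h1 d hd) hd (hgb ▸ (h2 u hu).2) hb'.2 hg'
      rw [e, hb'ord] at hob
      exact hqp hob
  · rcases hT.conj_mem_or (g * c) with h2 | h2
    · have hcm : g * d * g⁻¹ * (g * b * g⁻¹) = g * b * g⁻¹ * (g * d * g⁻¹) :=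
        (Subgroup.mem_centralizer_iff.1 (h1 d hd).2 _ (hgb ▸ h2 u hu)).symm
      rw [hcm] at hg'
      obtain ⟨e1, e2⟩ := hT.eq_and_eq_of_mul_eq (hgb ▸ h2 u hu) hd (h1 d hd).2 hb'.2 hg'
      refine hqp ?_
      rw [← hb'ord, ← e2, hordconj g d, ← hob, e1]
    · have h3 : d * b' ∈ Subgroup.centralizer (T : Set G) :=
        hg' ▸ mul_mem (h1 d hd).2 (hgb ▸ (h2 u hu).2)
      refine hd1 (hBT d hd ?_)
      simpa [mul_assoc] using mul_mem h3 (inv_mem hb'.2)

end Cfsg.Agent.S3520
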