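import Cfsg.Statements.S3554
-- import your own Cfsg.Agent.* helpers here

set_option autoImplicit false
open Cfsg

namespace Cfsg.Agent.S3554

/-- Let G act faithfully and transitively on a finite set and suppose G has a non-trivial cyclic normal subgroup. Then some element of G of prime order fixes no point. -/
theorem result {G Ω : Type*} [Group G] [Finite G] [MulAction G Ω] [FaithfulSMul G Ω] [Finite Ω]
    (htrans : MulAction.IsPretransitive G Ω) (C : Subgroup G) (hC : C.Normal) (hC1 : C ≠ ⊥) (hcyc : IsCyclic ↥C) :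
    ∃ g : G, (orderOf g).Prime ∧ ∀ ω : Ω, g • ω ≠ ω := by
  have := hcyc
  have : C.Normal := hC
  have hnt : Nontrivial C := (Subgroup.nontrivial_iff_ne_bot C).2 hC1
  have hp : (Nat.card C).minFac.Prime := Nat.minFac_prime (by
    have := Finite.one_lt_card (α := C); omega)
  haveI := Fact.mk hp
  obtain ⟨x, hx⟩ := exists_prime_orderOf_dvd_card' (G := C) _ (Nat.minFac_dvd (Nat.card C))
  refine ⟨x.1, by rw [Subgroup.orderOf_coe, hx]; exact hp, fun ω hω => ?_⟩
  obtain ⟨c, hc⟩ := IsCyclic.exists_generator (α := C)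
  have key : ∀ g : G, (g * x.1 * g⁻¹) ∈ Subgroup.zpowers x.1 := by
    intro g
    obtain ⟨k, hk⟩ := Subgroup.mem_zpowers_iff.1 (hc x)
    obtain ⟨j, hj⟩ := Subgroup.mem_zpowers_iff.1 (hc ⟨g * c.1 * g⁻¹, hC.conj_mem _ c.2 g⟩)
    rw [Subgroup.mem_zpowers_iff]
    refine ⟨j, ?_⟩
    have hk' : (c.1) ^ k = x.1 := by rw [← hk]; simp
    have hj' : (c.1) ^ j = g * c.1 * g⁻¹ := by
      have := congrArg Subtype.val hj; simpa using this
    rw [← hk', ← zpow_mul, mul_comm k j, zpow_mul, hj', conj_zpow]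
  have hall : ∀ ω' : Ω, x.1 • ω' = ω' := by
    intro ω'
    obtain ⟨g, rfl⟩ := htrans.exists_smul_eq ω ω'
    obtain ⟨n, hn⟩ := Subgroup.mem_zpowers_iff.1 (key g⁻¹)
    have h1 : (g⁻¹ * x.1 * g⁻¹⁻¹) • ω = ω := by
      rw [← hn]
      exact MulAction.mem_stabilizer_iff.1 (zpow_mem (MulAction.mem_stabilizer_iff.2 hω) n)
    rw [inv_inv, mul_smul, mul_smul, inv_smul_eq_iff] at h1
    exact h1
  have h2 : x.1 = 1 := eq_of_smul_eq_smul (α := Ω) (by simpa using hall)
  have h3 : x = 1 := Subtype.ext h2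
  rw [h3, orderOf_one] at hx
  exact hp.one_lt.ne hx

end Cfsg.Agent.S3554
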