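import Cfsg.Statements.S3555
import Cfsg.Agent.H80.DerangeInvol


set_option autoImplicit false
open Cfsg

namespace Cfsg.Agent.S3555

/-- Let G act faithfully and transitively on a finite set and suppose every element of G fixing no point is an involution. Then either G is an elementary abelian 2-group, or G is a Frobenius group whose Frobenius kernel is an elementary abelian 2-group: G has a Frobenius complement H, and the elements lying in no conjugate of H, together with the identity, pairwise commute and square to the identity. -/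
theorem result {G Ω : Type*} [Group G] [Finite G] [MulAction G Ω] [FaithfulSMul G Ω] [Finite Ω]
    (htrans : MulAction.IsPretransitive G Ω) (hinv : ∀ g : G, (∀ ω : Ω, g • ω ≠ ω) → orderOf g = 2) :
    (IsMulCommutative G ∧ ∀ g : G, g ^ 2 = 1) ∨
    (∃ H : Subgroup G, Cfsg.IsFrobeniusComplement H ∧
      (∀ x ∈ Cfsg.frobeniusKernel H, x ^ 2 = 1) ∧
      ∀ x ∈ Cfsg.frobeniusKernel H, ∀ y ∈ Cfsg.frobeniusKernel H, x * y = y * x) := by
  classical
  cases nonempty_fintype G
  cases nonempty_fintype Ω
  haveI := htrans
  haveI hne : Nonempty Ω := by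
    by_contra hc
    rw [not_nonempty_iff] at hc
    have := hinv 1 (fun ω => (hc.false ω).elim)
    simp at this
  set F : G → Finset Ω := fun g => Finset.univ.filter (fun a => g • a = a) with hF
  have key : ∀ g : G, (F g).card ≤ 1 ∨ g = 1 := H80.fix_le_one F (fun g a => by simp [hF]) hinv
  have two : ∀ (g : G) (a b : Ω), g • a = a → g • b = b → a ≠ b → g = 1 := by
    intro g a b ha hb hab
    rcases key g with h | h
    · exact absurd (Finset.card_le_one.1 h a (by simp [hF, ha]) b (by simp [hF, hb])) hab
    · exact h
  have sq : ∀ g : G, (∀ ω : Ω, g • ω ≠ ω) → g * g = 1 := fun g hg => by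
    have := pow_orderOf_eq_one g
    rwa [hinv g hg, pow_two] at this
  obtain ⟨α⟩ := hne
  set H := MulAction.stabilizer G α with hH
  have hmem : ∀ g : G, g ∈ H ↔ g • α = α := fun g => MulAction.mem_stabilizer_iff
  by_cases hb : H = ⊥
  · left
    have all : ∀ g : G, g * g = 1 := by
      intro g
      by_cases hg : ∀ ω : Ω, g • ω ≠ ω
      · exact sq g hg
      · simp only [not_forall, not_not] at hg
        obtain ⟨ω, hω⟩ := hg
        obtain ⟨k, rfl⟩ := MulAction.exists_smul_eq G α ω
        have h1 : k⁻¹ * g * k ∈ H := by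
          rw [hmem, mul_smul, mul_smul, hω, inv_smul_smul]
        rw [hb, Subgroup.mem_bot] at h1
        have h2 : g = 1 := by
          have := congrArg (fun z => k * z * k⁻¹) h1
          simpa [mul_assoc] using this
        simp [h2]
    refine ⟨⟨⟨fun a b => ?_⟩⟩, fun g => by rw [pow_two]; exact all g⟩
    have hi : ∀ g : G, g⁻¹ = g := fun g => inv_eq_of_mul_eq_one_right (all g)
    calc a * b = (a * b)⁻¹ := (hi _).symm
      _ = b * a := by rw [mul_inv_rev, hi, hi]
  · right
    have kerD : ∀ x ∈ Cfsg.frobeniusKernel H, x = 1 ∨ ∀ ω : Ω, x • ω ≠ ω := by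
      intro x hx
      rcases hx with h | h
      · exact Or.inl h
      · refine Or.inr fun ω hω => ?_
        obtain ⟨k, rfl⟩ := MulAction.exists_smul_eq G α ω
        refine h k ?_
        rw [Subgroup.mem_pointwise_smul_iff_inv_smul_mem, hmem, ← map_inv, MulAut.smul_def,
          MulAut.conj_apply, inv_inv, mul_smul, mul_smul, hω, inv_smul_smul]
    refine ⟨H, ⟨hb, ?_, ?_⟩, ?_, ?_⟩
    · intro ht
      apply hb
      rw [eq_bot_iff]
      intro x _
      have allfix : ∀ ω : Ω, x • ω = ω := by
        intro ω
        obtain ⟨k, rfl⟩ := MulAction.exists_smul_eq G α ω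
        have h1 : ∀ y : G, y • α = α := fun y => (hmem y).1 (ht ▸ Subgroup.mem_top y)
        rw [h1 k, h1 x]
      rw [Subgroup.mem_bot]
      exact FaithfulSMul.eq_of_smul_eq_smul (α := Ω) (fun ω => by rw [allfix, one_smul])
    · intro g hg
      rw [eq_bot_iff]
      intro x hx
      obtain ⟨hx1, hx2⟩ := Subgroup.mem_inf.1 hx
      rw [Subgroup.mem_pointwise_smul_iff_inv_smul_mem, hmem, ← map_inv, MulAut.smul_def,
          MulAut.conj_apply, inv_inv, mul_smul, mul_smul, inv_smul_eq_iff] at hx2
      rw [Subgroup.mem_bot]
      exact two x α (g • α) ((hmem x).1 hx1) hx2 (fun h => hg ((hmem g).2 h.symm))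
    · intro x hx
      rcases kerD x hx with h | h
      · simp [h]
      · rw [pow_two]; exact sq x h
    · intro x hx y hy
      rcases kerD x hx with h | hx'
      · simp [h]
      rcases kerD y hy with h | hy'
      · simp [h]
      have hxi : x⁻¹ = x := inv_eq_of_mul_eq_one_right (sq x hx')
      have hyi : y⁻¹ = y := inv_eq_of_mul_eq_one_right (sq y hy')
      by_cases hxy : ∀ ω : Ω, (x * y) • ω ≠ ω
      · have h := inv_eq_of_mul_eq_one_right (sq _ hxy)
        rw [mul_inv_rev, hxi, hyi] at h
        exact h.symm
      · simp only [not_forall, not_not] at hxy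
        obtain ⟨ω, hω⟩ := hxy
        have e1 : y • ω = x • ω := by
          have := congrArg (fun z => x⁻¹ • z) hω
          simp only [mul_smul, inv_smul_smul] at this
          rwa [hxi] at this
        have e2 : (x * y) • (x • ω) = x • ω := by
          rw [mul_smul]
          congr 1
          rw [← e1, ← mul_smul, sq y hy', one_smul]
        have h1 := two (x * y) ω (x • ω) hω e2 (fun h => hx' ω h.symm)
        have h2 : y = x := by rw [← inv_eq_of_mul_eq_one_right h1, hxi]
        rw [h2]

end Cfsg.Agent.S3555
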