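import Cfsg.Statements.S3556
import Cfsg.Agent.H80.PrimitiveNormal

set_option autoImplicit false
open Cfsg

namespace Cfsg.Agent.S3556

/-- Let G act faithfully and primitively on a finite set with at least two points, and suppose that for some fixed prime p every element of G fixing no point has order a power of p. Then G is of affine type (it has a regular normal subgroup that is an elementary abelian r-group for some prime r) or almost simple (it has a non-abelian simple normal subgroup with trivial centralizer). -/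
theorem result {G Ω : Type*} [Group G] [Finite G] [MulAction G Ω] [FaithfulSMul G Ω] [Finite Ω]
    (hprim : MulAction.IsPreprimitive G Ω) (hΩ : 2 ≤ Nat.card Ω) (p : ℕ) (hp : p.Prime)
    (hder : ∀ g : G, (∀ ω : Ω, g • ω ≠ ω) → ∃ k : ℕ, orderOf g = p ^ k) :
    (∃ (N : Subgroup G) (r : ℕ), r.Prime ∧ N.Normal ∧ Cfsg.IsElementaryAbelian r N ∧
      MulAction.IsPretransitive N Ω ∧ ∀ a : Ω, MulAction.stabilizer N a = ⊥) ∨
    (∃ T : Subgroup G, T.Normal ∧ IsSimpleGroup ↥T ∧ ¬ IsMulCommutative ↥T ∧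
      Subgroup.centralizer (T : Set G) = ⊥) := by
  classical
  haveI := Fact.mk hp
  have : Nontrivial Ω := Finite.one_lt_card_iff_nontrivial.1 (by omega)
  obtain ⟨a, b, hab⟩ := exists_pair_ne Ω
  obtain ⟨g₀, hg₀⟩ := hprim.toIsPretransitive.exists_smul_eq a b
  have : Nontrivial G := ⟨g₀, 1, by rintro rfl; exact hab (by simpa using hg₀)⟩
  obtain ⟨N, -, hN⟩ := H80.exists_minimalNormalized (⊤ : Subgroup G) ⊤ top_ne_bot le_rfl
    (fun _ _ _ _ => trivial)
  have hNn := hN.normal
  have hNt : MulAction.IsPretransitive N Ω := H80.isPretransitive_of_normal hprim hNn hN.ne_bot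
  by_cases hc : ∀ x ∈ N, ∀ y ∈ N, x * y = y * x
  · obtain ⟨r, hr, hr'⟩ := hN.exists_prime_pow_eq_one hc
    exact Or.inl ⟨N, r, hr, hNn,
      ⟨⟨⟨fun x y => Subtype.ext (hc x.1 x.2 y.1 y.2)⟩⟩, hr'⟩, hNt,
      H80.stabilizer_eq_bot_of_comm hc⟩
  refine Or.inr ?_
  obtain ⟨T, hT⟩ := H80.exists_simpleFactor hN hc
  -- no derangement has order divisible by a prime other than `p`
  have hord : ∀ g : G, (∀ ω : Ω, g • ω ≠ ω) → ∀ q : ℕ, q.Prime → q ∣ orderOf g → q = p := by
    intro g hg q hq hqd
    obtain ⟨k, hk⟩ := hder g hg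
    exact (Nat.prime_dvd_prime_iff_eq hq hp).1 (hq.dvd_of_dvd_pow (hk ▸ hqd))
  obtain ⟨q, hq, hqp, y, hy, hyq⟩ := hT.exists_prime_ne p
  have hy1 : y ≠ 1 := by rintro rfl; rw [orderOf_one] at hyq; exact hq.one_lt.ne hyq
  have hC : Subgroup.centralizer (N : Set G) = ⊥ := by
    by_contra hne
    have := H80.isPretransitive_of_normal hprim inferInstance hne
    exact hqp (hord y (fun ω hω => hy1 (H80.eq_one_of_commute_transitive
      (C := Subgroup.centralizer (N : Set G))
      (fun c hc => Subgroup.mem_centralizer_iff.1 hc y (hT.factor.le hy)) hω)) q hq (hyq ▸ dvd_rfl))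
  refine ⟨N, hNn, ?_, fun h => hc fun x hx z hz =>
    congrArg Subtype.val (h.is_comm.comm (⟨x, hx⟩ : N) ⟨z, hz⟩), hC⟩
  by_cases hTN : T = N
  · subst hTN; exact hT.isSimpleGroup
  exfalso
  obtain ⟨d, hd, hdd⟩ : ∃ d ∈ T, ∀ b ∈ N ⊓ Subgroup.centralizer (T : Set G), ∀ ω : Ω,
      (d * b) • ω ≠ ω :=
    (hT.exists_derangement a).resolve_left fun h =>
      hqp (hord y (h y hy hy1) q hq (hyq ▸ dvd_rfl))
  -- a conjugate of `y` outside `T` centralises `T`
  have hB : ∃ c ∈ N ⊓ Subgroup.centralizer (T : Set G), orderOf c = q ∧ c ∉ T := by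
    by_contra hno
    push Not at hno
    apply hTN
    have hsub : ∀ g : G, g * y * g⁻¹ ∈ T := by
      intro g
      have hmem := hNn.conj_mem y (hT.factor.le hy) g
      obtain ⟨t, ht, b, hb, e⟩ := hT.decomp _ hmem
      have hcm : Commute t b := Subgroup.mem_centralizer_iff.1 hb.2 t ht
      have hpow : (t * b) ^ q = 1 := by rw [← e, conj_pow, ← hyq, pow_orderOf_eq_one]; simp
      rw [hcm.mul_pow] at hpow
      have hbq : b ^ q = 1 := by
        have h1 : t ^ q = (b ^ q)⁻¹ := eq_inv_of_mul_eq_one_left hpow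
        have h2 : t ^ q ∈ T := pow_mem ht q
        have h3 := hT.eq_one_of_mem h2 fun z hz => by
          rw [h1]
          exact (Subgroup.mem_centralizer_iff.1 (inv_mem (pow_mem hb q)).2 z hz).symm
        rwa [h3, one_mul] at hpow
      have : b = 1 := by
        by_contra hb1
        haveI := Fact.mk hq
        have hbT := hno b hb (orderOf_eq_prime_iff.2 ⟨hbq, hb1⟩ : orderOf b = q)
        exact hb1 (hT.eq_one_of_mem hbT fun z hz =>
          (Subgroup.mem_centralizer_iff.1 hb.2 z hz).symm)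
      rw [e, this, mul_one]; exact ht
    have hle : Subgroup.normalClosure ({y} : Set G) ≤ T := by
      rw [Subgroup.normalClosure, Subgroup.closure_le]
      intro x hx
      obtain ⟨u, hu, hux⟩ := Group.mem_conjugatesOfSet_iff.1 hx
      rw [Set.mem_singleton_iff] at hu; subst hu
      obtain ⟨c, rfl⟩ := isConj_iff.1 hux
      exact hsub c
    have hne : Subgroup.normalClosure ({y} : Set G) ≠ ⊥ := fun h => hy1
      (Subgroup.mem_bot.1 (h ▸ Subgroup.subset_normalClosure rfl))
    exact le_antisymm hT.factor.le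
      ((hN.eq_of_normal inferInstance (hle.trans hT.factor.le) hne).symm.le.trans hle)
  obtain ⟨c, hc', hcq, -⟩ := hB
  have hcm : Commute d c := Subgroup.mem_centralizer_iff.1 hc'.2 d hd
  have hpow : d ^ orderOf (d * c) * c ^ orderOf (d * c) = 1 := by
    rw [← hcm.mul_pow, pow_orderOf_eq_one]
  have hd' : c ^ orderOf (d * c) = 1 := by
    have h1 : d ^ orderOf (d * c) = (c ^ orderOf (d * c))⁻¹ := eq_inv_of_mul_eq_one_left hpow
    have h3 := hT.eq_one_of_mem (pow_mem hd _) fun z hz => by
      rw [h1]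
      exact (Subgroup.mem_centralizer_iff.1 (inv_mem (pow_mem hc' _)).2 z hz).symm
    rwa [h3, one_mul] at hpow
  exact hqp (hord (d * c) (hdd c hc') q hq (hcq ▸ orderOf_dvd_of_pow_eq_one hd'))

end Cfsg.Agent.S3556
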