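import Cfsg.Statements.S3557
-- import your own Cfsg.Agent.* helpers here

set_option autoImplicit false
open Cfsg

namespace Cfsg.Agent.S3557

/-- Let G act faithfully and transitively on a finite set with 2p² points, p a prime, and suppose G is 2-closed: every permutation of the set which, on each ordered pair of points, agrees with some element of G, is itself induced by an element of G. Then some element of G of prime order fixes no point. -/
theorem result {G Ω : Type*} [Group G] [Finite G] [MulAction G Ω] [FaithfulSMul G Ω] [Finite Ω]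
    (htrans : MulAction.IsPretransitive G Ω) (p : ℕ) (hp : p.Prime) (hcard : Nat.card Ω = 2 * p ^ 2)
    (hcl : ∀ σ : Equiv.Perm Ω, (∀ a b : Ω, ∃ g : G, σ a = g • a ∧ σ b = g • b) → ∃ g : G, ∀ a : Ω, σ a = g • a) :
    ∃ g : G, (orderOf g).Prime ∧ ∀ ω : Ω, g • ω ≠ ω := by
  classical
  haveI := Fact.mk hp
  obtain ⟨P⟩ : Nonempty (Sylow p G) := inferInstance
  have hP : IsPGroup p ↥(P : Subgroup G) := P.2
  have hΩ : Nonempty Ω := (Nat.card_pos_iff.1 (hcard ▸ Nat.mul_pos two_pos (pow_pos hp.pos 2))).1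
  obtain ⟨ω₀⟩ := hΩ
  -- orbits of a Sylow subgroup
  have horb : ∀ ω : Ω, ∃ j, 2 ≤ j ∧ Nat.card (MulAction.orbit (P : Subgroup G) ω) = p ^ j := by
    intro ω
    obtain ⟨j, hj⟩ := hP.card_orbit ω
    refine ⟨j, ?_, hj⟩
    have h1 := Subgroup.card_mul_index (MulAction.stabilizer (P : Subgroup G) ω)
    rw [MulAction.index_stabilizer, ← Nat.card_coe_set_eq, hj] at h1
    have h2 := Subgroup.card_mul_index (MulAction.stabilizer G ω)
    rw [MulAction.index_stabilizer_of_transitive, hcard] at h2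
    have h3 : IsPGroup p (MulAction.stabilizer (P : Subgroup G) ω) := hP.to_subgroup _
    obtain ⟨i, hi⟩ := IsPGroup.iff_card.1 h3
    have h4 : p ^ i ∣ Nat.card (MulAction.stabilizer G ω) := by
      rw [← hi]
      exact Subgroup.card_dvd_of_injective
        (((P : Subgroup G).subtype.comp (MulAction.stabilizer (P : Subgroup G) ω).subtype).codRestrict
          (MulAction.stabilizer G ω) (fun x => x.2))
        (fun x y h => Subtype.ext (Subtype.ext (congrArg (fun z : MulAction.stabilizer G ω => (z : G)) h)))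
    have h5 : p ^ (i + 2) ∣ Nat.card G := by
      rw [← h2, pow_add, show 2 * p ^ 2 = p ^ 2 * 2 by ring, ← mul_assoc]
      exact dvd_mul_of_dvd_left (mul_dvd_mul_right h4 _) _
    have h6 : p ^ (i + 2) ∣ p ^ (i + j) := by
      rw [pow_add p i j, ← hi, h1, Sylow.card_eq_multiplicity]
      exact pow_dvd_pow p ((Nat.Prime.pow_dvd_iff_le_factorization hp Nat.card_pos.ne').1 h5)
    have := (Nat.pow_dvd_pow_iff_le_right hp.one_lt).1 h6
    omega
  -- any central element of order p
  have hfinish : ∀ g : G, g ^ p = 1 → (∀ ω : Ω, g • ω ≠ ω) →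
      ∃ g : G, (orderOf g).Prime ∧ ∀ ω : Ω, g • ω ≠ ω := by
    intro g hg hfree
    refine ⟨g, ?_, hfree⟩
    rw [orderOf_eq_prime hg (fun h => hfree ω₀ (by rw [h, one_smul]))]
    exact hp
  by_contra hno
  -- the two orbits
  let P' : Subgroup G := P
  have hnotfree : ∀ g : G, g ^ p = 1 → ∃ ω : Ω, g • ω = ω := fun g hg => by
    by_contra h
    exact hno (hfinish g hg fun ω hω => h ⟨ω, hω⟩)
  have hcentral_fix : ∀ z : P', (∀ g : P', g * z = z * g) → ∀ ω : Ω, z.1 • ω = ω →
      ∀ ω' ∈ MulAction.orbit P' ω, z.1 • ω' = ω' := by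
    rintro z hz ω hω _ ⟨g, rfl⟩
    change z • g • ω = g • ω
    rw [← mul_smul, ← hz g, mul_smul]
    exact congrArg (g • ·) hω
  have hP1 : Nontrivial P' := by
    obtain ⟨j, hj2, hj⟩ := horb ω₀
    have h1 := Subgroup.card_mul_index (MulAction.stabilizer P' ω₀)
    rw [MulAction.index_stabilizer, ← Nat.card_coe_set_eq, hj] at h1
    refine Finite.one_lt_card_iff_nontrivial.1 ?_
    rw [← h1]
    calc 1 < p ^ j := Nat.one_lt_pow (by omega) hp.one_lt
      _ ≤ _ := Nat.le_mul_of_pos_left _ Nat.card_pos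
  have hcen : ∃ z : P', z ≠ 1 ∧ z ^ p = 1 ∧ ∀ g : P', g * z = z * g := by
    have := IsPGroup.center_nontrivial (hG := (hP : IsPGroup p P'))
    have hc : p ∣ Nat.card (Subgroup.center P') := by
      rcases (IsPGroup.to_subgroup (hP : IsPGroup p P') (Subgroup.center P')).card_eq_or_dvd with h | h
      · exact absurd h (Finite.one_lt_card (α := Subgroup.center P')).ne'
      · exact h
    obtain ⟨z, hz⟩ := exists_prime_orderOf_dvd_card' p hc
    have hzp : z ^ p = 1 := orderOf_dvd_iff_pow_eq_one.1 (hz ▸ dvd_rfl)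
    refine ⟨z.1, fun h => ?_, by simpa using congrArg Subtype.val hzp,
      fun g => Subgroup.mem_center_iff.1 z.2 g⟩
    rw [show z = 1 from Subtype.ext h, orderOf_one] at hz
    exact hp.one_lt.ne hz
  obtain ⟨z, hz1, hzp, hzc⟩ := hcen
  have hzG : z.1 ^ p = 1 := by rw [← SubgroupClass.coe_pow, hzp]; rfl
  obtain ⟨b₀, hb₀⟩ := hnotfree z.1 hzG
  set O₂ := MulAction.orbit P' b₀
  have hzO₂ : ∀ b ∈ O₂, z.1 • b = b := hcentral_fix z hzc b₀ hb₀
  obtain ⟨a₀, ha₀⟩ : ∃ a₀ : Ω, z.1 • a₀ ≠ a₀ := by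
    by_contra hall
    push Not at hall
    exact hz1 (Subtype.ext (eq_of_smul_eq_smul (α := Ω) fun ω => by simpa using hall ω))
  set O₁ := MulAction.orbit P' a₀
  have hne : a₀ ∉ O₂ := fun h => ha₀ (hzO₂ a₀ h)
  have hdisj : ∀ x ∈ O₁, x ∉ O₂ := by
    intro x hx hx2
    refine hne ?_
    rw [← MulAction.orbit_eq_iff] at hx hx2 ⊢
    rw [← hx, hx2]
  have hzO₁ : ∀ x ∈ O₁, z.1 • x ≠ x := fun x hx h =>
    ha₀ (hcentral_fix z hzc x h a₀ (MulAction.mem_orbit_symm.1 hx))
  have hsize : Nat.card O₁ = p ^ 2 ∧ Nat.card O₂ = p ^ 2 ∧ ∀ x, x ∈ O₁ ∨ x ∈ O₂ := by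
    obtain ⟨i, hi2, hi⟩ := horb a₀
    obtain ⟨j, hj2, hj⟩ := horb b₀
    have hd : Disjoint O₁ O₂ := Set.disjoint_left.2 hdisj
    have hu := Set.ncard_union_eq hd
    have hle := Set.ncard_le_card (O₁ ∪ O₂)
    have e1 : O₁.ncard = p ^ i := (Nat.card_coe_set_eq O₁).symm.trans hi
    have e2 : O₂.ncard = p ^ j := (Nat.card_coe_set_eq O₂).symm.trans hj
    have l1 := Nat.pow_le_pow_right hp.pos hi2
    have l2 := Nat.pow_le_pow_right hp.pos hj2
    have huniv : O₁ ∪ O₂ = Set.univ :=
      Set.eq_of_subset_of_ncard_le (Set.subset_univ _) (by rw [Set.ncard_univ]; omega)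
    exact ⟨by rw [Nat.card_coe_set_eq]; omega, by rw [Nat.card_coe_set_eq]; omega,
      fun x => (huniv.symm ▸ Set.mem_univ x : x ∈ O₁ ∪ O₂)⟩
  obtain ⟨hc1, hc2, hcover⟩ := hsize
  -- the kernel on `O₁` is trivial
  have hK1 : ∀ w : P', (∀ x ∈ O₁, w.1 • x = x) → (∀ g : P', g * w = w * g) → w ^ p = 1 → w = 1 := by
    intro w hw hwc hwp
    by_contra hw1
    have hwfree : ∀ b ∈ O₂, w.1 • b ≠ b := by
      intro b hb h
      refine hw1 (Subtype.ext (eq_of_smul_eq_smul (α := Ω) fun x => ?_))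
      rw [OneMemClass.coe_one, one_smul]
      rcases hcover x with hx | hx
      · exact hw x hx
      · refine hcentral_fix w hwc b h x ?_
        rw [← MulAction.orbit_eq_iff] at hb hx ⊢
        rw [hx, hb]
    obtain ⟨ω, hω⟩ := hnotfree (z * w : P').1 (by
      rw [← SubgroupClass.coe_pow,
        Commute.mul_pow (show Commute z w from hwc z), hzp, hwp, mul_one]; rfl)
    rw [Subgroup.coe_mul, mul_smul] at hω
    rcases hcover ω with hx | hx
    · rw [hw ω hx] at hω; exact hzO₁ ω hx hω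
    · have : w.1 • ω ∈ O₂ := MulAction.mem_orbit_of_mem_orbit w hx
      rw [hzO₂ _ this] at hω
      exact hwfree ω hx hω
  -- the subgroup `M`
  obtain ⟨M, hMn, hMb, hMmove⟩ : ∃ M : Subgroup P', M.Normal ∧
      (∀ u ∈ M, ∀ a ∈ O₁, ∀ b ∈ O₂, ∃ g : P', g • a = a ∧ g • b = u • b) ∧
      ∃ u ∈ M, ∃ b ∈ O₂, u • b ≠ b := by
    by_cases hA : ∀ a ∈ O₁, ∀ b ∈ O₂, ∀ b' ∈ O₂, ∃ g : P', g • a = a ∧ g • b = b'
    · refine ⟨⊤, inferInstance, fun u _ a ha b hb => hA a ha b hb _ ?_, ?_⟩
      · exact MulAction.mem_orbit_of_mem_orbit u hb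
      · have : 1 < O₂.ncard := by
          rw [← Nat.card_coe_set_eq, hc2]; exact Nat.one_lt_pow two_ne_zero hp.one_lt
        obtain ⟨x, hx, hxb⟩ := Set.exists_ne_of_one_lt_ncard this b₀
        obtain ⟨u, rfl⟩ := hx
        exact ⟨u, trivial, b₀, MulAction.mem_orbit_self b₀, hxb⟩
    -- otherwise every suborbit has `p` points
    let S : Ω → Subgroup P' := fun x => MulAction.stabilizer P' x
    have hprod : ∀ a ∈ O₁, ∀ b ∈ O₂, Nat.card (MulAction.orbit (S a) b) =
        Nat.card (MulAction.orbit (S b) a) := by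
      intro a ha b hb
      have hSa : Nat.card (S a) = Nat.card (S b) := by
        have h1 := Subgroup.card_mul_index (S a)
        have h2 := Subgroup.card_mul_index (S b)
        rw [MulAction.index_stabilizer, ← Nat.card_coe_set_eq,
          MulAction.orbit_eq_iff.2 ha, hc1] at h1
        rw [MulAction.index_stabilizer, ← Nat.card_coe_set_eq,
          MulAction.orbit_eq_iff.2 hb, hc2] at h2
        exact Nat.eq_of_mul_eq_mul_right (pow_pos hp.pos 2) (h1.trans h2.symm)
      have h1 := Subgroup.card_mul_index (MulAction.stabilizer (S a) b)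
      have h2 := Subgroup.card_mul_index (MulAction.stabilizer (S b) a)
      have e : Nat.card (MulAction.stabilizer (S a) b) = Nat.card (MulAction.stabilizer (S b) a) :=
        Nat.card_congr ⟨fun g => ⟨⟨g.1.1, g.2⟩, g.1.2⟩, fun g => ⟨⟨g.1.1, g.2⟩, g.1.2⟩,
          fun _ => rfl, fun _ => rfl⟩
      rw [MulAction.index_stabilizer, ← Nat.card_coe_set_eq] at h1 h2
      exact Nat.eq_of_mul_eq_mul_left (Nat.card_pos (α := MulAction.stabilizer (S a) b))
        (h1.trans (hSa.trans (by rw [e]; exact h2.symm)))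
    have hsub : ∀ a ∈ O₁, ∀ b ∈ O₂, MulAction.orbit (S a) b ⊆ O₂ := by
      rintro a _ b hb _ ⟨g, rfl⟩
      exact MulAction.mem_orbit_of_mem_orbit g.1 hb
    have horbp : ∀ a ∈ O₁, ∀ b ∈ O₂, Nat.card (MulAction.orbit (S a) b) = p := by
      intro a ha b hb
      obtain ⟨j, hj⟩ := (hP.to_subgroup (S a) : IsPGroup p (S a)).card_orbit b
      have hge : 1 < Nat.card (MulAction.orbit (S a) b) := by
        rw [hprod a ha b hb, Nat.card_coe_set_eq]
        exact (Set.one_lt_ncard_iff (Set.toFinite _)).2 ⟨a, z • a, MulAction.mem_orbit_self a,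
          ⟨⟨z, hzO₂ b hb⟩, rfl⟩, fun h => hzO₁ a ha h.symm⟩
      have hle : Nat.card (MulAction.orbit (S a) b) ≤ p ^ 2 := by
        rw [← hc2, Nat.card_coe_set_eq, Nat.card_coe_set_eq]
        exact Set.ncard_le_ncard (hsub a ha b hb)
      rw [hj] at hge hle ⊢
      have hj2 : j ≤ 2 := (Nat.pow_le_pow_iff_right hp.one_lt).1 hle
      interval_cases j
      · simp at hge
      · simp
      · exfalso
        apply hA
        intro a' ha' b' hb' b'' hb''
        have heq : MulAction.orbit (S a) b = O₂ :=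
          Set.eq_of_subset_of_ncard_le (hsub a ha b hb)
            (by rw [← Nat.card_coe_set_eq, ← Nat.card_coe_set_eq, hj, hc2])
        obtain ⟨k, rfl⟩ : a' ∈ MulAction.orbit P' a := (MulAction.orbit_eq_iff.2 ha).symm ▸ ha'
        obtain ⟨g₁, e₁⟩ : k⁻¹ • b' ∈ MulAction.orbit (S a) b :=
          heq ▸ MulAction.mem_orbit_of_mem_orbit _ hb'
        obtain ⟨g₂, e₂⟩ : k⁻¹ • b'' ∈ MulAction.orbit (S a) b :=
          heq ▸ MulAction.mem_orbit_of_mem_orbit _ hb''
        have e₁' : g₁.1 • b = k⁻¹ • b' := e₁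
        have e₂' : g₂.1 • b = k⁻¹ • b'' := e₂
        refine ⟨k * g₂.1 * g₁.1⁻¹ * k⁻¹, ?_, ?_⟩
        · show _ • k • a = k • a
          rw [mul_smul, inv_smul_smul, mul_smul, mul_smul,
            MulAction.mem_stabilizer_iff.1 (inv_mem g₁.2), MulAction.mem_stabilizer_iff.1 g₂.2]
        · rw [mul_smul, ← e₁', mul_smul, inv_smul_smul, mul_smul, e₂', smul_inv_smul]
    -- the blocks are the orbits of `z`
    let Z : Subgroup P' := Subgroup.zpowers z
    have hZfix : ∀ b ∈ O₂, Z ≤ S b := fun b hb => (Subgroup.zpowers_le).2 (hzO₂ b hb)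
    let M : Subgroup P' :=
      { carrier := {g | g • a₀ ∈ MulAction.orbit Z a₀}
        one_mem' := by simp
        mul_mem' := by
          rintro g h hg ⟨w, hw⟩
          obtain ⟨w', hw'⟩ := hg
          have hw0 : w.1 • a₀ = h • a₀ := hw
          have hw1 : w'.1 • a₀ = g • a₀ := hw'
          have hcw : g * w.1 = w.1 * g :=
            Commute.eq (by
              obtain ⟨i, hi⟩ := Subgroup.mem_zpowers_iff.1 w.2
              rw [← hi]; exact (show Commute g z from hzc g).zpow_right i)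
          refine ⟨w * w', ?_⟩
          show (w.1 * w'.1) • a₀ = (g * h) • a₀
          rw [mul_smul, hw1, ← mul_smul, ← hcw, mul_smul, hw0, ← mul_smul]
        inv_mem' := by
          rintro g ⟨w, hw⟩
          have hw0 : w.1 • a₀ = g • a₀ := hw
          have hcw : g * w.1⁻¹ = w.1⁻¹ * g :=
            Commute.eq (by
              obtain ⟨i, hi⟩ := Subgroup.mem_zpowers_iff.1 w.2
              rw [← hi]; exact ((show Commute g z from hzc g).zpow_right i).inv_right)
          refine ⟨w⁻¹, ?_⟩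
          show w.1⁻¹ • a₀ = g⁻¹ • a₀
          rw [eq_inv_smul_iff, ← mul_smul, hcw, mul_smul, ← hw0, inv_smul_smul] }
    have hMindex : Nat.card (MulAction.orbit Z a₀) = p := by
      rw [Nat.card_coe_set_eq, ← MulAction.index_stabilizer]
      have hbot : MulAction.stabilizer Z a₀ = ⊥ := by
        refine (Subgroup.eq_bot_iff_forall _).2 fun w hw => ?_
        by_contra hne
        have hzo : orderOf z = p := orderOf_eq_prime hzp hz1
        have hZp : IsSimpleGroup Z :=
          isSimpleGroup_of_prime_card (p := p) (by rw [Nat.card_zpowers, hzo])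
        have htop : MulAction.stabilizer Z a₀ = ⊤ := by
          rcases hZp.eq_bot_or_eq_top_of_normal (MulAction.stabilizer Z a₀)
            ⟨fun x hx g => by rwa [show g * x * g⁻¹ = x from by
              rw [(Subgroup.zpowers_isMulCommutative z).is_comm.comm g x, mul_inv_cancel_right]]⟩ with h | h
          · rw [h, Subgroup.mem_bot] at hw; exact absurd hw hne
          · exact h
        exact ha₀ (htop ▸ Subgroup.mem_top (⟨z, Subgroup.mem_zpowers z⟩ : Z) :
          (⟨z, Subgroup.mem_zpowers z⟩ : Z) ∈ MulAction.stabilizer Z a₀)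
      rw [hbot, Subgroup.index_bot, Nat.card_zpowers, orderOf_eq_prime hzp hz1]
    have hidx : M.index = p := by
      have hle : S a₀ ≤ M := fun g hg => by
        show g • a₀ ∈ MulAction.orbit Z a₀
        rw [MulAction.mem_stabilizer_iff.1 hg]; exact MulAction.mem_orbit_self a₀
      have horbM : MulAction.orbit M a₀ = MulAction.orbit Z a₀ := by
        refine Set.Subset.antisymm ?_ ?_
        · rintro _ ⟨g, rfl⟩; exact g.2
        · rintro _ ⟨w, rfl⟩; exact ⟨⟨w.1, ⟨w, rfl⟩⟩, rfl⟩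
      have h1 : (MulAction.stabilizer M a₀).index = p := by
        rw [MulAction.index_stabilizer, horbM, ← Nat.card_coe_set_eq, hMindex]
      have h2 := Subgroup.relIndex_mul_index hle
      rw [show (S a₀).relIndex M = (MulAction.stabilizer M a₀).index from rfl, h1,
        MulAction.index_stabilizer, ← Nat.card_coe_set_eq, hc1, sq] at h2
      exact Nat.eq_of_mul_eq_mul_left hp.pos h2
    have hMn : M.Normal := by
      obtain ⟨n, hn⟩ := IsPGroup.iff_card.1 (hP : IsPGroup p P')
      refine Subgroup.normal_of_index_eq_minFac_card ?_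
      rw [hidx, hn, Nat.Prime.pow_minFac hp]
      rintro rfl
      rw [pow_zero] at hn
      exact (Finite.one_lt_card (α := P')).ne' hn
    have hSb : ∀ b ∈ O₂, S b ≤ M := by
      intro b hb g hg
      have heq : MulAction.orbit (S b) a₀ = MulAction.orbit Z a₀ := by
        refine (Set.eq_of_subset_of_ncard_le ?_ ?_).symm
        · rintro _ ⟨w, rfl⟩; exact ⟨⟨w.1, hZfix b hb w.2⟩, rfl⟩
        · rw [← Nat.card_coe_set_eq, ← Nat.card_coe_set_eq, hMindex,
            ← hprod a₀ (MulAction.mem_orbit_self a₀) b hb, horbp a₀ (MulAction.mem_orbit_self a₀) b hb]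
      show g • a₀ ∈ MulAction.orbit Z a₀
      rw [← heq]
      exact ⟨⟨g, hg⟩, rfl⟩
    have hSa : ∀ a ∈ O₁, S a ≤ M := by
      rintro _ ⟨k, rfl⟩ g hg
      have h1 : k⁻¹ * g * k ∈ M := by
        show _ • a₀ ∈ MulAction.orbit Z a₀
        rw [mul_smul, mul_smul, MulAction.mem_stabilizer_iff.1 hg, inv_smul_smul]
        exact MulAction.mem_orbit_self a₀
      simpa [mul_assoc] using hMn.conj_mem _ h1 k
    refine ⟨M, hMn, ?_, ?_⟩
    · intro u hu a ha b hb
      have heq : MulAction.orbit (S a) b = MulAction.orbit M b := by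
        refine Set.eq_of_subset_of_ncard_le ?_ ?_
        · rintro _ ⟨g, rfl⟩; exact ⟨⟨g.1, hSa a ha g.2⟩, rfl⟩
        · rw [← Nat.card_coe_set_eq (MulAction.orbit (S a) b), horbp a ha b hb,
            ← MulAction.index_stabilizer]
          have h2 := Subgroup.relIndex_mul_index (hSb b hb)
          rw [show (S b).relIndex M = (MulAction.stabilizer M b).index from rfl, hidx,
            MulAction.index_stabilizer P', ← Nat.card_coe_set_eq,
            MulAction.orbit_eq_iff.2 hb, hc2, sq] at h2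
          exact (Nat.eq_of_mul_eq_mul_right hp.pos h2).le
      obtain ⟨g, hg⟩ : u • b ∈ MulAction.orbit (S a) b := heq ▸ ⟨⟨u, hu⟩, rfl⟩
      exact ⟨g.1, g.2, hg⟩
    · have : 1 < Nat.card (MulAction.orbit (S a₀) b₀) := by
        rw [horbp a₀ (MulAction.mem_orbit_self a₀) b₀ (MulAction.mem_orbit_self b₀)]; exact hp.one_lt
      rw [Nat.card_coe_set_eq] at this
      obtain ⟨x, ⟨g, rfl⟩, hgb⟩ := Set.exists_ne_of_one_lt_ncard this b₀
      exact ⟨g.1, hSa a₀ (MulAction.mem_orbit_self a₀) g.2, b₀, MulAction.mem_orbit_self b₀, hgb⟩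
  -- a central element of the image of `M` on `O₂`
  obtain ⟨u, huM, hub, huc, hup⟩ : ∃ u ∈ M, (∃ b ∈ O₂, u • b ≠ b) ∧
      (∀ g : P', ∀ b ∈ O₂, g • u • b = u • g • b) ∧ ∀ b ∈ O₂, u ^ p • b = b := by
    let ρ : P' →* Equiv.Perm O₂ := MulAction.toPermHom P' O₂
    have hρ : ∀ (g : P') (b : Ω) (hb : b ∈ O₂), (ρ g ⟨b, hb⟩ : Ω) = g • b := fun _ _ _ => rfl
    let Q := ρ.range
    have hQ : IsPGroup p Q := (hP : IsPGroup p P').of_surjective ρ.rangeRestrict ρ.rangeRestrict_surjective
    let M' : Subgroup Q := M.map ρ.rangeRestrict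
    have hM'n : M'.Normal := hMn.map _ ρ.rangeRestrict_surjective
    have hM' : Nontrivial M' := by
      obtain ⟨u, hu, b, hb, hub⟩ := hMmove
      refine (Subgroup.nontrivial_iff_ne_bot _).2 fun h => hub ?_
      have h1 : ρ.rangeRestrict u ∈ M' := Subgroup.mem_map_of_mem _ hu
      rw [h, Subgroup.mem_bot] at h1
      have h2 := congrArg (fun q : Q => ((q : Equiv.Perm O₂) ⟨b, hb⟩ : Ω)) h1
      exact h2
    have hdvd : p ∣ Nat.card M' := by
      rcases (hQ.to_subgroup M').card_eq_or_dvd with h | h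
      · exact absurd h (Finite.one_lt_card (α := M')).ne'
      · exact h
    -- conjugation fixed points in `M'`
    have hQ' : IsPGroup p (ConjAct Q) := hQ.of_equiv ConjAct.toConjAct
    obtain ⟨w, hwfix, hw1⟩ := hQ'.exists_fixed_point_of_prime_dvd_card_of_fixed_point M' hdvd
      (a := (1 : M')) (fun g => smul_one g)
    have hcardp : p ∣ orderOf w := (hQ.to_subgroup M').dvd_orderOf (Ne.symm hw1)
    set w' := w ^ (orderOf w / p)
    have hw'p : orderOf w' = p := orderOf_pow_orderOf_div (orderOf_pos w).ne' hcardp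
    have hw'fix : ∀ g : ConjAct Q, g • w' = w' := fun g => by
      rw [smul_pow', hwfix g]
    obtain ⟨u, hu, hu'⟩ := w'.2
    refine ⟨u, hu, ?_, ?_, ?_⟩
    · by_contra hall
      push Not at hall
      have hone : w' = 1 := Subtype.ext (hu' ▸ Subtype.ext (Equiv.ext fun b => Subtype.ext (hall b.1 b.2)))
      rw [hone, orderOf_one] at hw'p
      exact hp.one_lt.ne hw'p
    · intro g b hb
      have h1 := congrArg Subtype.val (hw'fix (ConjAct.toConjAct (ρ.rangeRestrict g)))
      have h2 : ρ.rangeRestrict g * ρ.rangeRestrict u * (ρ.rangeRestrict g)⁻¹ = ρ.rangeRestrict u := by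
        rw [hu']; exact h1
      rw [mul_inv_eq_iff_eq_mul] at h2
      exact congrArg (fun q : Q => ((q : Equiv.Perm O₂) ⟨b, hb⟩ : Ω)) h2
    · intro b hb
      have h1 : w' ^ p = 1 := by rw [← hw'p, pow_orderOf_eq_one]
      have h2 : ρ.rangeRestrict (u ^ p) = 1 := by
        rw [map_pow, hu']; exact congrArg Subtype.val h1
      exact congrArg (fun q : Q => ((q : Equiv.Perm O₂) ⟨b, hb⟩ : Ω)) h2
  obtain ⟨b₁, hb₁, hub₁⟩ := hub
  have hufree : ∀ b ∈ O₂, u • b ≠ b := by
    intro b hb h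
    obtain ⟨g, rfl⟩ : b₁ ∈ MulAction.orbit P' b := (MulAction.orbit_eq_iff.2 hb).symm ▸ hb₁
    exact hub₁ ((huc g b hb).symm.trans (congrArg (g • ·) h))
  -- the permutation in the closure
  let σ : Equiv.Perm Ω :=
    { toFun := fun x => if x ∈ O₂ then u • x else x
      invFun := fun x => if x ∈ O₂ then u⁻¹ • x else x
      left_inv := fun x => by
        by_cases hx : x ∈ O₂
        · have hm : u • x ∈ O₂ := MulAction.mem_orbit_of_mem_orbit u hx
          simp [hx, hm]
        · simp [hx]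
      right_inv := fun x => by
        by_cases hx : x ∈ O₂
        · have hm : u⁻¹ • x ∈ O₂ := MulAction.mem_orbit_of_mem_orbit u⁻¹ hx
          simp [hx, hm]
        · simp [hx] }
  have hσ2 : ∀ x ∈ O₂, σ x = u • x := fun x hx => if_pos hx
  have hσ1 : ∀ x ∈ O₁, σ x = x := fun x hx => if_neg (hdisj x hx)
  obtain ⟨g₀, hg₀⟩ := hcl σ (fun a b => by
    rcases hcover a with ha | ha <;> rcases hcover b with hb | hb
    · exact ⟨1, by rw [one_smul, hσ1 a ha], by rw [one_smul, hσ1 b hb]⟩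
    · obtain ⟨g, hga, hgb⟩ := hMb u huM a ha b hb
      exact ⟨g.1, by rw [hσ1 a ha]; exact hga.symm, by rw [hσ2 b hb]; exact hgb.symm⟩
    · obtain ⟨g, hgb, hga⟩ := hMb u huM b hb a ha
      exact ⟨g.1, by rw [hσ2 a ha]; exact hga.symm, by rw [hσ1 b hb]; exact hgb.symm⟩
    · exact ⟨u.1, hσ2 a ha, hσ2 b hb⟩)
  have hτ1 : ∀ x ∈ O₁, (z.1 * g₀) • x = z.1 • x := fun x hx => by
    rw [mul_smul, ← hg₀, hσ1 x hx]
  have hτ2 : ∀ x ∈ O₂, (z.1 * g₀) • x = u • x := fun x hx => by
    rw [mul_smul, ← hg₀, hσ2 x hx]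
    exact hzO₂ _ (MulAction.mem_orbit_of_mem_orbit u hx)
  have hpow1 : ∀ n : ℕ, ∀ x ∈ O₁, (z.1 * g₀) ^ n • x = z.1 ^ n • x := by
    intro n
    induction n with
    | zero => intro x _; simp
    | succ n ih =>
      intro x hx
      have hzx : z.1 • x ∈ O₁ := MulAction.mem_orbit_of_mem_orbit z hx
      rw [pow_succ, mul_smul, hτ1 x hx, ih _ hzx, ← mul_smul, ← pow_succ]
  have hpow2 : ∀ n : ℕ, ∀ x ∈ O₂, (z.1 * g₀) ^ n • x = u ^ n • x := by
    intro n
    induction n with
    | zero => intro x _; simp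
    | succ n ih =>
      intro x hx
      rw [pow_succ, mul_smul, hτ2 x hx, ih _ (MulAction.mem_orbit_of_mem_orbit u hx), ← mul_smul,
        ← pow_succ]
  obtain ⟨ω, hω⟩ := hnotfree (z.1 * g₀) (eq_of_smul_eq_smul (α := Ω) fun x => by
    rw [one_smul]
    rcases hcover x with hx | hx
    · rw [hpow1 p x hx, hzG, one_smul]
    · rw [hpow2 p x hx, hup x hx])
  rcases hcover ω with hx | hx
  · exact hzO₁ ω hx ((hτ1 ω hx).symm.trans hω)
  · exact hufree ω hx ((hτ2 ω hx).symm.trans hω)

end Cfsg.Agent.S3557
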