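import Cfsg.Statements.S3600
import Cfsg.Agent.S3433
import Cfsg.Agent.H80.CritFive.Group


set_option autoImplicit false
open Cfsg

namespace Cfsg.Agent.S3600

/-- A finite group is critical with respect to a set Ω of natural numbers when its set of element orders is Ω while no proper section has Ω as its set of element orders. A finite group critical with respect to {1, 2, 3, 4, 5} (the set of element orders of the alternating group of degree 6) is isomorphic either to the alternating group of degree 6 or to the affine group F² ⋊ SL(2,F) over the field F with four elements (realised as the matrices of SL(3,F) with last row (0, 0, 1)). -/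
theorem result {G : Type*} [Group G] [Finite G]
    (hcrit : Set.range (orderOf : G → ℕ) = ({1, 2, 3, 4, 5} : Set ℕ) ∧
      ∀ (H : Subgroup G) (N : Subgroup ↥H) [N.Normal], (H ≠ ⊤ ∨ N ≠ ⊥) → Set.range (orderOf : (↥H ⧸ N) → ℕ) ≠ ({1, 2, 3, 4, 5} : Set ℕ)) :
    Nonempty (G ≃* alternatingGroup (Fin 6)) ∨
      ∃ (F : Type) (_ : Field F) (_ : Fintype F), Fintype.card F = 4 ∧
        Nonempty (G ≃* ↥(Subgroup.closure {M : Matrix.SpecialLinearGroup (Fin 3) F |
          (M : Matrix (Fin 3) (Fin 3) F) 2 0 = 0 ∧ (M : Matrix (Fin 3) (Fin 3) F) 2 1 = 0 ∧ (M : Matrix (Fin 3) (Fin 3) F) 2 2 = 1})) := by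
  obtain ⟨hsp, hmin⟩ := hcrit
  have hset : ({1, 2, 3, 4, 5} : Set ℕ) = {k : ℕ | 1 ≤ k ∧ k ≤ 5} := by
    ext k; simp only [Set.mem_insert_iff, Set.mem_singleton_iff, Set.mem_ofPred_eq]; omega
  rcases Cfsg.Agent.S3433.result (G := G) (hsp.trans hset) with hA | ⟨N, hN, hel, ⟨e⟩⟩
  · exact Or.inl hA
  · refine Or.inr ?_
    let π : G →* ↥(alternatingGroup (Fin 5)) := e.toMonoidHom.comp (QuotientGroup.mk' N)
    have hker : π.ker = N := by
      ext g; simp [π, MonoidHom.mem_ker]
    have le5 : ∀ g : G, orderOf g ≤ 5 := by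
      intro g
      have : orderOf g ∈ Set.range (orderOf : G → ℕ) := ⟨g, rfl⟩
      rw [hsp.trans hset] at this
      exact this.2
    have hex : ∀ k : ℕ, 1 ≤ k → k ≤ 5 → ∃ g : G, orderOf g = k := by
      intro k h1 h2
      have : k ∈ Set.range (orderOf : G → ℕ) := by rw [hsp.trans hset]; exact ⟨h1, h2⟩
      exact this
    have hne : N ≠ ⊥ := by
      intro hb
      obtain ⟨g, hg⟩ := hex 4 (by norm_num) (by norm_num)
      have h1 : π g ^ 4 = 1 := by rw [← map_pow, ← hg, pow_orderOf_eq_one, map_one]
      have a5 : ∀ x : ↥(alternatingGroup (Fin 5)), x ^ 4 = 1 → x ^ 2 = 1 := by decide +kernel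
      have h2 : g ^ 2 ∈ N := by rw [← hker, MonoidHom.mem_ker, map_pow]; exact a5 _ h1
      rw [hb, Subgroup.mem_bot] at h2
      have := Nat.le_of_dvd two_pos (orderOf_dvd_of_pow_eq_one h2)
      omega
    have hsq : ∀ x ∈ N, x * x = 1 := fun x hx => by rw [← pow_two]; exact hel.2 x hx
    refine H80.CritFive.Crit.iso (N := N) (π := π) ⟨?_, hker, ?_, hsq, hne, le5, ?_⟩
    · exact e.surjective.comp (QuotientGroup.mk'_surjective N)
    · exact fun x hx y hy => congrArg Subtype.val (hel.1.is_comm.comm (⟨x, hx⟩ : N) ⟨y, hy⟩)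
    · intro M hM hMN hM1 g hg4
      by_contra hg2
      haveI := hM
      let K : Subgroup (⊤ : Subgroup G) := M.subgroupOf ⊤
      have hK : K ≠ ⊥ := by
        intro h
        apply hM1
        rw [Subgroup.subgroupOf_eq_bot, disjoint_top] at h
        exact h
      apply hmin ⊤ K (Or.inr hK)
      let φ : G →* ((⊤ : Subgroup G) ⧸ K) :=
        (QuotientGroup.mk' K).comp Subgroup.topEquiv.symm.toMonoidHom
      have hφ : ∀ x, φ x = 1 ↔ x ∈ M := by
        intro x
        change ((⟨x, _⟩ : (⊤ : Subgroup G)) : (⊤ : Subgroup G) ⧸ K) = 1 ↔ x ∈ M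
        rw [QuotientGroup.eq_one_iff, Subgroup.mem_subgroupOf]
      have hsurj : Function.Surjective φ :=
        (QuotientGroup.mk'_surjective K).comp Subgroup.topEquiv.symm.surjective
      rw [hset]
      ext k
      constructor
      · rintro ⟨q, rfl⟩
        obtain ⟨x, rfl⟩ := hsurj q
        exact ⟨orderOf_pos _, (Nat.le_of_dvd (orderOf_pos x) (orderOf_map_dvd φ x)).trans (le5 x)⟩
      · rintro ⟨h1, h2⟩
        have o4 : orderOf (φ g) = 4 := by
          haveI : Fact (Nat.Prime 2) := ⟨Nat.prime_two⟩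
          refine orderOf_eq_prime_pow (p := 2) (n := 1) ?_ ?_
          · rw [← map_pow, hφ]; simpa using hg2
          · rw [← map_pow, hφ]; simpa using hg4
        have op : ∀ p : ℕ, p.Prime → 2 < p → p ≤ 5 → ∃ q : (⊤ : Subgroup G) ⧸ K, orderOf q = p := by
          intro p hp hp2 hp5
          haveI := Fact.mk hp
          obtain ⟨x, hx⟩ := hex p (by omega) hp5
          refine ⟨φ x, orderOf_eq_prime ?_ ?_⟩
          · rw [← map_pow, ← hx, pow_orderOf_eq_one, map_one]
          · intro h
            have := orderOf_dvd_of_pow_eq_one (hel.2 x (hMN ((hφ x).1 h)))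
            have := Nat.le_of_dvd two_pos this
            omega
        interval_cases k
        · exact ⟨1, orderOf_one⟩
        · refine ⟨φ g ^ 2, ?_⟩
          rw [orderOf_pow, o4]; rfl
        · exact op 3 Nat.prime_three (by norm_num) (by norm_num)
        · exact ⟨φ g, o4⟩
        · exact op 5 Nat.prime_five (by norm_num) (by norm_num)

end Cfsg.Agent.S3600
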