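import Cfsg.Statements.S3626
import Cfsg.Agent.H84.ReeCubeSpectrum
import Cfsg.Agent.S1159

set_option autoImplicit false
open Cfsg

namespace Cfsg.Agent.S3626

/-- Let R be the small Ree group over the field with q = 3^(2m+1) ≥ 27 elements. Then there are finite groups of arbitrarily large order with exactly the same set of element orders as R × R × R. -/
theorem result {K : Type*} [Field K] [Fintype K] {m : ℕ} (hm : 1 ≤ m) (hK : Fintype.card K = 3 ^ (2 * m + 1)) (N : ℕ) :
    ∃ (H : Type) (_ : Group H) (_ : Fintype H), N < Fintype.card H ∧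
      Set.range (orderOf : H → ℕ) = Set.range (orderOf : ↥(Cfsg.Lie.twistedG2 K (3 ^ m)) × ↥(Cfsg.Lie.twistedG2 K (3 ^ m)) × ↥(Cfsg.Lie.twistedG2 K (3 ^ m)) → ℕ) := by
  classical
  have h3 : Nat.Prime 3 := Nat.prime_three
  haveI : CharP K 3 := by
    obtain ⟨p, hp⟩ := CharP.exists K
    haveI := hp
    haveI : Fact p.Prime := ⟨CharP.char_is_prime K p⟩
    obtain ⟨n, -, hn⟩ := FiniteField.card K p
    rw [hK] at hn
    have h : p ∣ 3 ^ (2 * m + 1) := hn ▸ dvd_pow_self p n.ne_zero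
    have e := (Nat.prime_dvd_prime_iff_eq (Fact.out : p.Prime) h3).1 ((Fact.out : p.Prime).dvd_of_dvd_pow h)
    exact e ▸ hp
  have hq : Fintype.card K % 4 = 3 := by
    rw [hK, pow_succ, pow_mul, Nat.mul_mod, Nat.pow_mod]
    norm_num
  refine Cfsg.Agent.H84.ReeCube.exists_large_isospectral (K := K) hq
    (A := 3 ^ (2 * m + 1) - 3 ^ (m + 1) + 1) (B := 3 ^ (2 * m + 1) + 3 ^ (m + 1) + 1) (fun d => ?_) N
  rw [hK]
  exact Cfsg.Agent.S1159.result hm hK d

end Cfsg.Agent.S3626
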