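import Cfsg.Statements.S3776
import Cfsg.Agent.H83.Suzuki.Exponent

set_option autoImplicit false
open Cfsg

namespace Cfsg.Agent.S3776

/-- Let G be a finite non-abelian 2-group with more than one involution admitting a solvable group of automorphisms that permutes its involutions transitively. Then the derived subgroup, the Frattini subgroup and the centre of G coincide and consist exactly of the elements x with x² = 1. -/
theorem result {G : Type*} [Group G] [Finite G] (hG : IsPGroup 2 G) (hna : ¬ IsMulCommutative G) (htwo : ∃ x y : G, x ≠ y ∧ x ≠ 1 ∧ x ^ 2 = 1 ∧ y ≠ 1 ∧ y ^ 2 = 1) (hY : ∃ Y : Subgroup (MulAut G), Group.IsSolvable Y ∧ ∀ x y : G, x ≠ 1 → x ^ 2 = 1 → y ≠ 1 → y ^ 2 = 1 → ∃ a ∈ Y, a x = y) : commutator G = frattini G ∧ frattini G = Subgroup.center G ∧ ∀ x : G, x ∈ Subgroup.center G ↔ x ^ 2 = 1 := by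
  obtain ⟨Y, hsol, hY⟩ := hY
  have hS : H83.Suzuki.Setup Y := ⟨hG, by
    obtain ⟨x, y, hxy, hx, hx2, hy, hy2⟩ := htwo
    exact ⟨x, y, hxy, hx, by rwa [← sq], hy, by rwa [← sq]⟩,
    fun x y hx hx2 hy hy2 => hY x y hx (by rwa [sq]) hy (by rwa [sq])⟩
  have hne : ∃ x y : G, x * y ≠ y * x := by
    by_contra h
    push Not at h
    exact hna (IsMulCommutative.of_comm h)
  obtain ⟨h1, h2, h3⟩ := H83.Suzuki.suzuki_structure hS hsol hne
  refine ⟨h1.trans h2.symm, h2.trans h3.symm, fun x => ?_⟩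
  rw [h3, sq]
  rfl

end Cfsg.Agent.S3776
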