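import Cfsg.Statements.S3808
import Mathlib
import Cfsg.Agent.H84.EspecIndex

set_option autoImplicit false
open Cfsg
open scoped commutatorElement

namespace Cfsg.Agent.S3808

/-- Let S be a finite p-group with an extraspecial subgroup Q of index p. Then either Z(S) = Z(Q), or S = Q·Z(S) and Z(S) has order p². -/
theorem result {S : Type*} [Group S] [Finite S] (p : ℕ) [Fact p.Prime] (hS : IsPGroup p S) (Q : Subgroup S) (hQ : Cfsg.IsExtraspecial p ↥Q) (hQi : Q.index = p) :
    Subgroup.center S = (Subgroup.center ↥Q).map Q.subtype ∨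
      (Q ⊔ Subgroup.center S = ⊤ ∧ Nat.card (Subgroup.center S) = p ^ 2) := by
  obtain ⟨hco, hn, -⟩ := Cfsg.Agent.H84.index_prime_spec hS hQi
  rw [Cfsg.Agent.H84.center_map_eq hS hQ hQi]
  by_cases h : Subgroup.center S ≤ Q
  · exact Or.inl (inf_eq_right.2 h).symm
  · have htop : Q ⊔ Subgroup.center S = ⊤ :=
      hco.2 _ (lt_of_le_of_ne le_sup_left fun he => h (he ▸ le_sup_right))
    refine Or.inr ⟨htop, ?_⟩
    have h1 := (Q.subgroupOf (Subgroup.center S)).card_mul_index
    have h2 : Q.relIndex (Subgroup.center S) = p := by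
      have h3 := Subgroup.relIndex_dvd_index_of_normal Q (Subgroup.center S)
      rw [hQi] at h3
      exact ((Nat.dvd_prime (Fact.out : p.Prime)).1 h3).resolve_left
        fun h4 => h (Subgroup.relIndex_eq_one.1 h4)
    have h4 : Nat.card (Q.subgroupOf (Subgroup.center S)) = p := by
      rw [← hQ.2, ← Subgroup.card_map_of_injective (K := Subgroup.center ↥Q) Q.subtype_injective,
        Cfsg.Agent.H84.center_map_eq hS hQ hQi,
        ← Subgroup.card_map_of_injective (Subgroup.center S).subtype_injective,
        Subgroup.subgroupOf_map_subtype]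
    rw [show (Q.subgroupOf (Subgroup.center S)).index = Q.relIndex (Subgroup.center S) from rfl,
      h2, h4] at h1
    rw [← h1, sq]

end Cfsg.Agent.S3808
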