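import Cfsg.Statements.S3809
import Mathlib
import Cfsg.Agent.H84.EspecIndex

set_option autoImplicit false
open Cfsg
open scoped commutatorElement

namespace Cfsg.Agent.S3809

/-- Let S be a finite p-group with an extraspecial subgroup of index p. Then S has order p^(2+2n) for some n ≥ 1, derived length at most 3, and exponent dividing p³. -/
theorem result {S : Type*} [Group S] [Finite S] (p : ℕ) [Fact p.Prime] (hS : IsPGroup p S) (Q : Subgroup S) (hQ : Cfsg.IsExtraspecial p ↥Q) (hQi : Q.index = p) :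
    (∃ n : ℕ, 1 ≤ n ∧ Nat.card S = p ^ (2 + 2 * n)) ∧ derivedSeries S 3 = ⊥ ∧ ∀ x : S, x ^ (p ^ 3) = 1 := by
  obtain ⟨-, hn, hcom⟩ := Cfsg.Agent.H84.index_prime_spec hS hQi
  refine ⟨?_, ?_, fun x => ?_⟩
  · obtain ⟨n, hn1, hc⟩ := Cfsg.Agent.H24.espec_card hQ
    refine ⟨n, hn1, ?_⟩
    rw [← Subgroup.card_mul_index Q, hc, hQi, ← pow_succ]
    ring_nf
  · have h1 : derivedSeries S 1 ≤ Q := (derivedSeries_one S).le.trans hcom
    set Z := (Subgroup.center ↥Q).map Q.subtype with hZ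
    have h2 : derivedSeries S 2 ≤ Z := by
      rw [derivedSeries_succ]
      refine (Subgroup.commutator_mono h1 h1).trans (Subgroup.commutator_le.2 fun a ha b hb => ?_)
      refine ⟨⁅(⟨a, ha⟩ : Q), ⟨b, hb⟩⁆, ?_, rfl⟩
      exact Cfsg.Agent.H24.espec_comm_mem hQ _ _
    rw [derivedSeries_succ, eq_bot_iff]
    refine (Subgroup.commutator_mono h2 h2).trans (Subgroup.commutator_le.2 fun a ha b hb => ?_)
    obtain ⟨a', ha', rfl⟩ := ha
    obtain ⟨b', hb', rfl⟩ := hb
    rw [Subgroup.mem_bot, commutatorElement_eq_one_iff_mul_comm]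
    exact congrArg Subtype.val (Subgroup.mem_center_iff.1 hb' a')
  · have h1 : x ^ p ∈ Q := hQi ▸ Subgroup.pow_index_mem Q x
    have h2 := Cfsg.Agent.H24.espec_pow_mem hQ ⟨x ^ p, h1⟩
    have h3 := congrArg Subtype.val (Cfsg.Agent.H24.pow_eq_one_of_card_eq hQ.2 h2)
    rw [show p ^ 3 = p * p * p by ring, pow_mul, pow_mul]
    exact h3

end Cfsg.Agent.S3809
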