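import Cfsg.Statements.S3810
import Mathlib
import Cfsg.Agent.H84.EspecIndex

set_option autoImplicit false
open Cfsg
open scoped commutatorElement

namespace Cfsg.Agent.S3810

/-- Let S be a finite p-group with an extraspecial subgroup of index p. Then S has an abelian subgroup of index p if and only if S has order p⁴. -/
theorem result {S : Type*} [Group S] [Finite S] (p : ℕ) [Fact p.Prime] (hS : IsPGroup p S) (Q : Subgroup S) (hQ : Cfsg.IsExtraspecial p ↥Q) (hQi : Q.index = p) :
    (∃ A : Subgroup S, IsMulCommutative ↥A ∧ A.index = p) ↔ Nat.card S = p ^ 4 := by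
  obtain ⟨-, hn, -⟩ := Cfsg.Agent.H84.index_prime_spec hS hQi
  have hp := (Fact.out : p.Prime)
  obtain ⟨n, hn1, hcQ⟩ := Cfsg.Agent.H24.espec_card hQ
  have hcS : Nat.card S = p ^ (2 * n + 1) * p := by rw [← Subgroup.card_mul_index Q, hcQ, hQi]
  constructor
  · rintro ⟨A, hA, hAi⟩
    obtain ⟨-, hAn, -⟩ := Cfsg.Agent.H84.index_prime_spec hS hAi
    set K := A.subgroupOf Q ⊔ Subgroup.center ↥Q with hK
    have hKc : K ≤ Subgroup.centralizer (K : Set Q) := by
      have hH : A.subgroupOf Q ≤ Subgroup.centralizer (A.subgroupOf Q : Set Q) := fun x hx =>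
        Subgroup.mem_centralizer_iff.2 fun y hy => Subtype.ext
          (congrArg Subtype.val (hA.is_comm.comm (⟨(y : S), hy⟩ : A) ⟨(x : S), hx⟩) :)
      have key : A.subgroupOf Q ⊔ Subgroup.center ↥Q ≤
          Subgroup.centralizer (A.subgroupOf Q : Set Q) :=
        sup_le hH (Subgroup.center_le_centralizer _)
      refine sup_le ?_ (Subgroup.center_le_centralizer _)
      rw [Subgroup.le_centralizer_iff]
      exact key
    have h1 := Cfsg.Agent.H24.espec_card_mul_centralizer hQ
      (le_sup_right : Subgroup.center ↥Q ≤ K)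
    have h2 : Nat.card K * Nat.card K ≤ p * Nat.card Q :=
      (Nat.mul_le_mul_left _ (Subgroup.card_le_of_le hKc)).trans h1.le
    have h3 : Nat.card Q ≤ Nat.card K * p := by
      have h4 : (A.subgroupOf Q).index ∣ p := hAi ▸ Subgroup.relIndex_dvd_index_of_normal A Q
      calc Nat.card Q = Nat.card (A.subgroupOf Q) * (A.subgroupOf Q).index :=
            (Subgroup.card_mul_index _).symm
        _ ≤ Nat.card K * p :=
            Nat.mul_le_mul (Subgroup.card_le_of_le le_sup_left) (Nat.le_of_dvd hp.pos h4)
    have hne : n = 1 := by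
      by_contra h
      have hn2 : 2 ≤ n := by omega
      have h5 : p ^ 3 < Nat.card Q := hcQ ▸ Nat.pow_lt_pow_right hp.one_lt (by omega)
      have h6 : Nat.card Q * Nat.card Q ≤ (p * Nat.card Q) * (p * p) := by
        calc Nat.card Q * Nat.card Q ≤ (Nat.card K * p) * (Nat.card K * p) := Nat.mul_le_mul h3 h3
          _ = (Nat.card K * Nat.card K) * (p * p) := by ring
          _ ≤ _ := Nat.mul_le_mul_right _ h2
      nlinarith
    rw [hcS, hne]; ring
  · intro h4
    obtain ⟨a, ha, hanc, hai⟩ := Cfsg.Agent.H84.exists_centralizer_index_prime hS hQ hQi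
    set C := Subgroup.centralizer ({a} : Set S) with hC
    have hCcard : Nat.card C = p ^ 3 := by
      have := Subgroup.card_mul_index C
      rw [hai, h4] at this
      exact Nat.eq_of_mul_eq_mul_right hp.pos (this.trans (by ring))
    set Z := (Subgroup.center ↥Q).map Q.subtype with hZ
    have hZeq := Cfsg.Agent.H84.center_map_eq hS hQ hQi
    rw [← hZ] at hZeq
    have hZC : Z ≤ C := hZeq.le.trans (inf_le_right.trans (Subgroup.center_le_centralizer _))
    have hlt : Z.subgroupOf C < Subgroup.center ↥C := by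
      refine lt_of_le_of_ne (fun z hz => Subgroup.mem_center_iff.2 fun y => Subtype.ext
        (Subgroup.mem_center_iff.1 (hZeq.le hz).2 y)) fun he => hanc ?_
      have h1 : (⟨a, Subgroup.mem_centralizer_singleton_iff.2 rfl⟩ : C) ∈ Subgroup.center ↥C :=
        Subgroup.mem_center_iff.2 fun y =>
          Subtype.ext (Subgroup.mem_centralizer_singleton_iff.1 y.2)
      rw [← he] at h1
      exact (hZeq.le h1).2
    have hZcard : Nat.card (Z.subgroupOf C) = p := by
      rw [Nat.card_congr (Subgroup.subgroupOfEquivOfLe hZC).toEquiv, hZ,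
        Subgroup.card_map_of_injective Q.subtype_injective, hQ.2]
    have hbig : p < Nat.card (Subgroup.center ↥C) := by
      rw [← hZcard]
      by_contra h
      exact hlt.ne (Subgroup.eq_of_le_of_card_ge hlt.le (not_lt.1 h))
    obtain ⟨i, -, hi⟩ := (Nat.dvd_prime_pow hp).1
      (hCcard ▸ Subgroup.card_subgroup_dvd_card (Subgroup.center ↥C))
    have hi2 : 2 ≤ i := by
      by_contra h
      rw [hi] at hbig
      rcases (show i = 0 ∨ i = 1 by omega) with rfl | rfl
      · rw [pow_zero] at hbig; exact absurd hp.one_lt (by omega)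
      · rw [pow_one] at hbig; exact lt_irrefl p hbig
    have hidx : Nat.card (↥C ⧸ Subgroup.center ↥C) ∣ p := by
      have h5 := Subgroup.card_mul_index (Subgroup.center ↥C)
      rw [hi, hCcard, Subgroup.index_eq_card] at h5
      refine Nat.dvd_of_mul_dvd_mul_left (pow_pos hp.pos 2) ?_
      rw [← pow_succ, ← h5]
      exact Nat.mul_dvd_mul_right (pow_dvd_pow p hi2) _
    haveI : IsCyclic (↥C ⧸ Subgroup.center ↥C) := by
      rcases (Nat.dvd_prime hp).1 hidx with h | h
      · haveI : Subsingleton (↥C ⧸ Subgroup.center ↥C) :=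
          (Nat.card_eq_one_iff_unique.1 h).1
        infer_instance
      · exact isCyclic_of_prime_card h
    exact ⟨C, isMulCommutative_of_isCyclic_quotient_center_self ↥C, hai⟩

end Cfsg.Agent.S3810
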