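import Cfsg.Statements.S3824
import Mathlib
import Cfsg.Agent.H25.Burnside

set_option autoImplicit false
open Cfsg

namespace Cfsg.Agent.S3824

/-- Every finite group having an abelian subgroup whose index is a power of 2 is solvable. -/
theorem result {G : Type*} [Group G] [Finite G]
    (A : Subgroup G) (hA : IsMulCommutative A) (hidx : ∃ k : ℕ, A.index = 2 ^ k) : Group.IsSolvable G := by
  suffices key : ∀ (n : ℕ) (H : Type _) [Group H] [Finite H], Nat.card H ≤ n →
      ∀ B : Subgroup H, IsMulCommutative B → (∃ k : ℕ, B.index = 2 ^ k) → Group.IsSolvable H from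
    key (Nat.card G) G le_rfl A hA hidx
  clear hidx hA A
  intro n
  induction n with
  | zero =>
    intro H _ _ hle
    exact absurd hle (Nat.not_le.2 Nat.card_pos)
  | succ n ih =>
    intro H _ _ hle B hB hidx
    obtain ⟨k, hk⟩ := hidx
    by_cases hsub : Subsingleton H
    · exact Group.isSolvable_of_comm fun a b => Subsingleton.elim _ _
    haveI : Nontrivial H := not_subsingleton_iff_nontrivial.1 hsub
    by_cases hnor : ∃ N : Subgroup H, N.Normal ∧ N ≠ ⊥ ∧ N ≠ ⊤
    · obtain ⟨N, hN, hN0, hN1⟩ := hnor
      have hNlt : Nat.card N ≤ n := by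
        have h1 : Nat.card N ≠ Nat.card H := fun h => hN1 (Subgroup.eq_top_of_card_eq N h)
        have := Subgroup.card_le_card_group N
        omega
      have hQlt : Nat.card (H ⧸ N) ≤ n := by
        have h1 := N.index_mul_card
        have h2 : 1 < Nat.card N :=
          Finite.one_lt_card_iff_nontrivial.2 ((Subgroup.nontrivial_iff_ne_bot N).2 hN0)
        have h3 : 0 < N.index := Nat.pos_of_ne_zero Subgroup.index_ne_zero_of_finite
        rw [← Subgroup.index_eq_card]
        nlinarith
      have hS : Group.IsSolvable N := by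
        refine ih N hNlt (B.subgroupOf N) ⟨⟨fun a b => ?_⟩⟩ ?_
        · obtain ⟨⟨a, haN⟩, ha⟩ := a
          obtain ⟨⟨b, hbN⟩, hb⟩ := b
          have h := congrArg Subtype.val (hB.is_comm.comm (⟨a, ha⟩ : B) ⟨b, hb⟩)
          exact Subtype.ext (Subtype.ext h)
        · have key : B.relIndex N = B.relIndex (N ⊔ B) := by
            have e1 := Subgroup.relIndex_mul_relIndex (B ⊓ N) N (N ⊔ B) inf_le_right le_sup_left
            have e2 := Subgroup.relIndex_mul_relIndex (B ⊓ N) B (N ⊔ B) inf_le_left le_sup_right
            rw [Subgroup.inf_relIndex_right, Subgroup.relIndex_sup_left] at e1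
            rw [Subgroup.inf_relIndex_left] at e2
            have hne : N.relIndex B ≠ 0 := Subgroup.index_ne_zero_of_finite
            rw [← e2, mul_comm] at e1
            exact mul_left_cancel₀ hne e1
          have hd : (B.subgroupOf N).index ∣ 2 ^ k := by
            show B.relIndex N ∣ _
            rw [key, ← hk]
            exact Subgroup.relIndex_dvd_index_of_le le_sup_right
          obtain ⟨j, -, hj⟩ := (Nat.dvd_prime_pow Nat.prime_two).1 hd
          exact ⟨j, hj⟩
      have hQ : Group.IsSolvable (H ⧸ N) := by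
        refine ih _ hQlt (B.map (QuotientGroup.mk' N)) ⟨⟨?_⟩⟩ ?_
        · rintro ⟨_, a, ha, rfl⟩ ⟨_, b, hb, rfl⟩
          refine Subtype.ext ?_
          simp only [Subgroup.coe_mul, ← map_mul]
          exact congrArg _ (congrArg Subtype.val (hB.is_comm.comm (⟨a, ha⟩ : B) ⟨b, hb⟩))
        · have hd : (B.map (QuotientGroup.mk' N)).index ∣ 2 ^ k :=
            hk ▸ Subgroup.index_map_dvd B (QuotientGroup.mk'_surjective N)
          obtain ⟨j, -, hj⟩ := (Nat.dvd_prime_pow Nat.prime_two).1 hd
          exact ⟨j, hj⟩
      haveI := hS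
      haveI := hQ
      exact Group.isSolvable_of_ker_le_range N.subtype (QuotientGroup.mk' N)
        (by rw [QuotientGroup.ker_mk', Subgroup.range_subtype])
    · push Not at hnor
      haveI : IsSimpleGroup H := ⟨fun N hN => or_iff_not_imp_left.2 (hnor N hN)⟩
      by_cases hB0 : B = ⊥
      · rw [hB0, Subgroup.index_bot] at hk
        haveI := (IsPGroup.of_card (p := 2) hk).isNilpotent
        infer_instance
      · obtain ⟨⟨b, hb⟩, hb1⟩ : ∃ b : B, b ≠ 1 := by
          haveI := (Subgroup.nontrivial_iff_ne_bot B).2 hB0
          exact exists_ne 1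
        have hle' : B ≤ Subgroup.centralizer ({b} : Set H) := fun x hx =>
          Subgroup.mem_centralizer_singleton_iff.2
            (congrArg Subtype.val (hB.is_comm.comm (⟨x, hx⟩ : B) ⟨b, hb⟩))
        obtain ⟨j, -, hj⟩ := (Nat.dvd_prime_pow Nat.prime_two).1
          (hk ▸ Subgroup.index_dvd_of_le hle')
        have hprime := Cfsg.Agent.H25.prime_card_of_simple_of_primePow_class Nat.prime_two
          (fun h => hb1 (Subtype.ext h)) hj
        haveI := Fact.mk hprime
        haveI := isCyclic_of_prime_card (α := H) rfl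
        exact Group.isSolvable_of_comm fun a b =>
          let _ := IsCyclic.commGroup (α := H); mul_comm a b

end Cfsg.Agent.S3824
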