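import Cfsg.Statements.S3870
-- import your own Cfsg.Agent.* helpers here
import Cfsg.Agent.H85.MinimalNonPClosed

set_option autoImplicit false
open Cfsg

namespace Cfsg.Agent.S3870

/-- Let G be a finite simple group whose Sylow p-subgroups are not normal but such that every proper subgroup of G has a normal Sylow p-subgroup. Then any two distinct Sylow p-subgroups of G intersect trivially, and for every Sylow p-subgroup P the normalizer of every non-identity subgroup of P lies in the normalizer of P. -/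
theorem result {G : Type*} [Group G] [Finite G] [IsSimpleGroup G] {p : ℕ} [Fact p.Prime]
    (hnc : ¬ Cfsg.IsPClosed p G) (hsub : ∀ H : Subgroup G, H ≠ ⊤ → Cfsg.IsPClosed p ↥H) :
    (∀ P Q : Sylow p G, P ≠ Q → (P : Subgroup G) ⊓ (Q : Subgroup G) = ⊥) ∧
      ∀ (P : Sylow p G) (R : Subgroup G), R ≤ P → R ≠ ⊥ →
        Subgroup.normalizer (R : Set G) ≤ Subgroup.normalizer ((P : Subgroup G) : Set G) := by
  classical
  haveI : Fintype (Sylow p G) := Fintype.ofFinite _
  have hbig : ∀ (D : Subgroup G), D ≠ ⊥ → IsPGroup p D → ∀ P Q : Sylow p G,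
      D < (P : Subgroup G) → D ≤ (Q : Subgroup G) → Subgroup.normalizer (D : Set G) ≠ ⊤ := by
    intro D hD _ P Q hDP _ htop
    rcases IsSimpleGroup.eq_bot_or_eq_top_of_normal D (Subgroup.normalizer_eq_top_iff.1 htop) with h | h
    · exact hD h
    · exact (h ▸ hDP).not_ge le_top
  have hti : ∀ P Q : Sylow p G, P ≠ Q → (P : Subgroup G) ⊓ (Q : Subgroup G) = ⊥ := by
    by_contra hcon
    push Not at hcon
    obtain ⟨P₀, Q₀, hne₀, hD₀⟩ := hcon
    obtain ⟨⟨P, Q⟩, hmem, hmax⟩ := Finset.exists_max_image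
      ((Finset.univ : Finset (Sylow p G × Sylow p G)).filter (fun x => x.1 ≠ x.2))
      (fun x => Nat.card ↥((x.1 : Subgroup G) ⊓ (x.2 : Subgroup G)))
      ⟨(P₀, Q₀), Finset.mem_filter.2 ⟨Finset.mem_univ _, hne₀⟩⟩
    have hne : P ≠ Q := (Finset.mem_filter.1 hmem).2
    set D := (P : Subgroup G) ⊓ (Q : Subgroup G) with hD
    have hDbot : D ≠ ⊥ := fun h => hD₀ (by
      have h1 := hmax (P₀, Q₀) (Finset.mem_filter.2 ⟨Finset.mem_univ _, hne₀⟩)
      change Nat.card ↥((P₀ : Subgroup G) ⊓ (Q₀ : Subgroup G)) ≤ Nat.card D at h1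
      rw [h, Subgroup.card_bot] at h1
      exact Subgroup.card_eq_one.1 (le_antisymm h1 Nat.card_pos))
    have hDP : D < (P : Subgroup G) := lt_of_le_of_ne inf_le_left fun h =>
      hne (Sylow.ext ((P.3 Q.2 (inf_eq_left.1 h)).symm))
    have hDQ : D < (Q : Subgroup G) := lt_of_le_of_ne inf_le_right fun h =>
      hne (Sylow.ext (Q.3 P.2 (inf_eq_right.1 h)))
    set H := Subgroup.normalizer (D : Set G) with hH
    have hHtop : H ≠ ⊤ := hbig D hDbot (P.2.to_le inf_le_left) P Q hDP hDQ.le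
    obtain ⟨R⟩ := (inferInstance : Nonempty (Sylow p H))
    obtain ⟨S, hS⟩ := (R.2.map H.subtype).exists_le_sylow
    haveI := Sylow.unique_of_normal R (hsub H hHtop R)
    have hgrow : ∀ X : Sylow p G, D < (X : Subgroup G) → S = X := by
      intro X hDX
      by_contra hSX
      haveI : Fact (Group.IsNilpotent (X : Subgroup G)) := ⟨X.2.isNilpotent⟩
      haveI := X.2.isNilpotent
      have hlt : D.subgroupOf X < Subgroup.normalizer ((D.subgroupOf X : Subgroup (X : Subgroup G)) : Set (X : Subgroup G)) :=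
        Group.normalizerCondition_of_isNilpotent _ (lt_top_iff_ne_top.2 fun h =>
          hDX.not_ge (Subgroup.subgroupOf_eq_top.1 h))
      obtain ⟨y, hy, hyD⟩ := SetLike.exists_of_lt hlt
      have hyH : (y : G) ∈ H := by
        rw [hH, Subgroup.mem_normalizer_iff]
        intro d
        constructor <;> intro hd
        · exact (Subgroup.mem_normalizer_iff.1 hy ⟨d, hDX.le hd⟩).1 hd
        · have hdX : d ∈ (X : Subgroup G) := by
            simpa [mul_assoc] using mul_mem (mul_mem (inv_mem y.2) (hDX.le hd)) y.2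
          exact (Subgroup.mem_normalizer_iff.1 hy ⟨d, hdX⟩).2 hd
      set L := (X : Subgroup G) ⊓ H with hL
      have hLS : L ≤ (S : Subgroup G) := by
        have hLp : IsPGroup p (L.subgroupOf H) :=
          (X.2.to_le inf_le_left).of_equiv (Subgroup.subgroupOfEquivOfLe inf_le_right).symm
        obtain ⟨R', hR'⟩ := hLp.exists_le_sylow
        rw [Subsingleton.elim R' R] at hR'
        intro g hg
        exact hS ⟨⟨g, hg.2⟩, hR' hg, rfl⟩
      have hDL : D < (S : Subgroup G) ⊓ (X : Subgroup G) :=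
        lt_of_le_of_ne (le_inf ((le_inf hDX.le Subgroup.le_normalizer).trans hLS) hDX.le) fun h =>
          hyD (show (y : G) ∈ D from h ▸ Subgroup.mem_inf.2 ⟨hLS (Subgroup.mem_inf.2 ⟨y.2, hyH⟩), y.2⟩)
      have h1 := hmax (S, X) (Finset.mem_filter.2 ⟨Finset.mem_univ _, hSX⟩)
      have h2 : D = (S : Subgroup G) ⊓ (X : Subgroup G) := Subgroup.eq_of_le_of_card_ge hDL.le h1
      exact hDL.ne h2
    exact hne ((hgrow P hDP).symm.trans (hgrow Q hDQ))
  refine ⟨hti, fun P R hRP hR g hg => ?_⟩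
  refine Sylow.smul_eq_iff_mem_normalizer.1 ?_
  by_contra hne
  apply hR
  refine le_bot_iff.1 ((hti (g • P) P hne) ▸ le_inf (fun r hr => ?_) hRP)
  rw [Sylow.coe_subgroup_smul]
  exact ⟨g⁻¹ * r * g, hRP ((Subgroup.mem_normalizer_iff''.1 hg r).1 hr), by simp [mul_assoc]⟩

end Cfsg.Agent.S3870
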