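import Cfsg.Statements.S3872
import Cfsg.Agent.H89.RegularPowers
import Cfsg.Agent.H89.PolySequence
import Cfsg.Agent.H35.Regular
import Cfsg.Agent.H61.PairOrder
import Cfsg.Agent.H21.Complement

set_option autoImplicit false
open Cfsg Cfsg.Agent Cfsg.Agent.H61

namespace Cfsg.Agent.S3872

/-- Say that a finite group is p-exponent closed when its elements of order dividing p form a subgroup. Let G be a finite p-group that is not p-exponent closed, but all of whose proper subgroups and proper quotients are. Then G is generated by two elements, has nilpotency class at least p, has exponent p², has cyclic center, and has order at least p^(p+1). -/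
theorem result {G : Type*} [Group G] [Finite G] {p : ℕ} [Fact p.Prime] (hG : IsPGroup p G)
    (hnc : ¬ (∃ H : Subgroup G, (H : Set G) = {g : G | g ^ p = 1})) (hsub : ∀ K : Subgroup G, K ≠ ⊤ → (∃ H : Subgroup ↥K, (H : Set ↥K) = {g : ↥K | g ^ p = 1}))
    (hquo : ∀ (N : Subgroup G) [N.Normal], N ≠ ⊥ → (∃ H : Subgroup (G ⧸ N), (H : Set (G ⧸ N)) = {g : (G ⧸ N) | g ^ p = 1})) :
    (∃ x y : G, Subgroup.closure ({x, y} : Set G) = ⊤) ∧ (⊤ : Subgroup G).lowerCentralSeries (p - 1) ≠ ⊥ ∧
      Monoid.exponent G = p ^ 2 ∧ IsCyclic ↥(Subgroup.center G) ∧ p ^ (p + 1) ≤ Nat.card G := by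
  haveI : Group.IsNilpotent G := hG.isNilpotent
  have hp : p.Prime := Fact.out
  -- two elements of order `p` with product of larger order
  obtain ⟨x, y, hx, hy, hxy⟩ : ∃ x y : G, x ^ p = 1 ∧ y ^ p = 1 ∧ (x * y) ^ p ≠ 1 := by
    by_contra hno
    push Not at hno
    exact hnc ⟨{ carrier := {g | g ^ p = 1}
                 one_mem' := one_pow p
                 mul_mem' := fun {a b} ha hb => hno a b ha hb
                 inv_mem' := fun {a} ha => by
                   show a⁻¹ ^ p = 1
                   rw [inv_pow, show a ^ p = 1 from ha, inv_one] }, rfl⟩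
  have htop : Subgroup.closure ({x, y} : Set G) = ⊤ := by
    by_contra hne
    obtain ⟨H, hH⟩ := hsub _ hne
    have hxm : x ∈ Subgroup.closure ({x, y} : Set G) := Subgroup.subset_closure (by simp)
    have hym : y ∈ Subgroup.closure ({x, y} : Set G) := Subgroup.subset_closure (by simp)
    have h1 : (⟨x, hxm⟩ : Subgroup.closure ({x, y} : Set G)) ∈ (H : Set _) := by
      rw [hH]; exact Subtype.ext hx
    have h2 : (⟨y, hym⟩ : Subgroup.closure ({x, y} : Set G)) ∈ (H : Set _) := by
      rw [hH]; exact Subtype.ext hy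
    have h3 := H.mul_mem h1 h2
    rw [← SetLike.mem_coe, hH] at h3
    exact hxy (congrArg Subtype.val h3)
  -- class at least `p`
  have hcl : (⊤ : Subgroup G).lowerCentralSeries (p - 1) ≠ ⊥ := by
    intro h
    obtain ⟨H, -, hH⟩ := Cfsg.Agent.H89.exists_omega_of_regular
      (Cfsg.Agent.H89.isRegularPGroup_of_class_lt hG h) 1
    exact hnc ⟨H, by rw [hH]; ext g; simp⟩
  -- proper quotients have exponent `p`
  have hquot : ∀ (N : Subgroup G) [N.Normal], N ≠ ⊥ → ∀ g : G, g ^ p ∈ N := by
    intro N _ hN g
    obtain ⟨H, hH⟩ := hquo N hN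
    have hle : Subgroup.closure ({x, y} : Set G) ≤ H.comap (QuotientGroup.mk' N) := by
      rw [Subgroup.closure_le]
      rintro a (rfl | rfl)
      · show QuotientGroup.mk' N a ∈ (H : Set _)
        rw [hH]; exact (map_pow _ _ _).symm.trans (by rw [hx, map_one])
      · show QuotientGroup.mk' N a ∈ (H : Set _)
        rw [hH]; exact (map_pow _ _ _).symm.trans (by rw [hy, map_one])
    rw [htop] at hle
    have h : QuotientGroup.mk' N g ∈ (H : Set _) := hle (Subgroup.mem_top g)
    rw [hH] at h
    refine (QuotientGroup.eq_one_iff (g ^ p)).mp ?_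
    exact (map_pow (QuotientGroup.mk' N) g p).trans h
  haveI : Nontrivial G := ⟨⟨(x * y) ^ p, 1, hxy⟩⟩
  have hcyc : IsCyclic ↥(Subgroup.center G) := by
    by_contra hnc'
    haveI := hG.center_nontrivial
    obtain ⟨a, ha, b, hb, hap, hbp, ha1, hb1, hab⟩ : ∃ a ∈ Subgroup.center G,
        ∃ b ∈ Subgroup.center G, a ^ p = 1 ∧ b ^ p = 1 ∧ a ≠ 1 ∧ b ≠ 1 ∧
          b ∉ Subgroup.zpowers a := by
      have hZ : IsPGroup p (Subgroup.center G) := hG.to_subgroup _
      obtain ⟨c, hc⟩ := exists_prime_orderOf_dvd_card' (G := Subgroup.center G) p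
        (hZ.card_eq_or_dvd.resolve_left
          (fun h => absurd h (Finite.one_lt_card (α := Subgroup.center G)).ne'))
      by_contra hno
      push Not at hno
      haveI : IsMulCommutative (Subgroup.center G) := inferInstance
      refine hnc' (Cfsg.Agent.H21.isCyclic_of_comm_unique hZ fun A B hA hB => ?_)
      obtain ⟨u, hu⟩ : ∃ u : A, u ≠ 1 := by
        haveI : Nontrivial A := Finite.one_lt_card_iff_nontrivial.mp (hA ▸ (Fact.out : p.Prime).one_lt)
        exact exists_ne 1
      obtain ⟨v, hv⟩ : ∃ v : B, v ≠ 1 := by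
        haveI : Nontrivial B := Finite.one_lt_card_iff_nontrivial.mp (hB ▸ (Fact.out : p.Prime).one_lt)
        exact exists_ne 1
      have hup : (u : Subgroup.center G) ^ p = 1 := by
        have := congrArg Subtype.val (hA ▸ pow_card_eq_one' (x := u) : u ^ p = 1)
        simpa using this
      have hvp : (v : Subgroup.center G) ^ p = 1 := by
        have := congrArg Subtype.val (hB ▸ pow_card_eq_one' (x := v) : v ^ p = 1)
        simpa using this
      have hu1 : (u : Subgroup.center G) ≠ 1 := fun e => hu (Subtype.ext e)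
      have hv1 : (v : Subgroup.center G) ≠ 1 := fun e => hv (Subtype.ext e)
      have hgen : ∀ (C : Subgroup (Subgroup.center G)) (c : C), Nat.card C = p → (c : Subgroup.center G) ≠ 1 →
          Subgroup.zpowers (c : Subgroup.center G) = C := fun C c hC hc => by
        refine Subgroup.eq_of_le_of_card_ge (Subgroup.zpowers_le.mpr c.2) ?_
        rw [Nat.card_zpowers, hC, orderOf_eq_prime (p := p) ?_ hc]
        have := congrArg Subtype.val (hC ▸ pow_card_eq_one' (x := c) : c ^ p = 1)
        simpa using this
      obtain ⟨i, hi⟩ := hno (u : Subgroup.center G) (u : Subgroup.center G).2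
        (v : Subgroup.center G) (v : Subgroup.center G).2 (congrArg Subtype.val hup)
        (congrArg Subtype.val hvp) (fun e => hu1 (Subtype.ext e)) (fun e => hv1 (Subtype.ext e))
      rw [← hgen A u hA hu1, ← hgen B v hB hv1]
      refine (Subgroup.eq_of_le_of_card_ge (Subgroup.zpowers_le.mpr (Subgroup.mem_zpowers_iff.mpr ⟨i, Subtype.ext hi⟩)) ?_).symm
      rw [Nat.card_zpowers, Nat.card_zpowers, orderOf_eq_prime hup hu1, orderOf_eq_prime hvp hv1]
    have hna : (Subgroup.zpowers a).Normal := ⟨fun z hz g => by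
      rw [Subgroup.mem_center_iff.mp ((Subgroup.zpowers_le.mpr ha) hz) g, mul_inv_cancel_right]
      exact hz⟩
    have hnb : (Subgroup.zpowers b).Normal := ⟨fun z hz g => by
      rw [Subgroup.mem_center_iff.mp ((Subgroup.zpowers_le.mpr hb) hz) g, mul_inv_cancel_right]
      exact hz⟩
    obtain ⟨i, hi⟩ := hquot (Subgroup.zpowers a) (by simpa using ha1) (x * y)
    obtain ⟨j, hj⟩ := hquot (Subgroup.zpowers b) (by simpa using hb1) (x * y)
    replace hi : a ^ i = (x * y) ^ p := hi
    replace hj : b ^ j = (x * y) ^ p := hj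
    refine hxy ?_
    by_cases hd : (p : ℤ) ∣ j
    · obtain ⟨m, hm⟩ := hd
      rw [← hj, hm, zpow_mul, zpow_natCast, hbp, one_zpow]
    · exact absurd (Cfsg.Agent.H61.dvd_of_zpow_mem_zpowers hp hbp hab ⟨i, hi.trans hj.symm⟩) hd
  refine ⟨⟨x, y, htop⟩, hcl, ?_, hcyc, ?_⟩
  · obtain ⟨c, hc, hc1⟩ : ∃ c ∈ Subgroup.center G, orderOf c = p := by
      haveI := hG.center_nontrivial
      obtain ⟨c, hc⟩ := exists_prime_orderOf_dvd_card' (G := Subgroup.center G) p
        ((hG.to_subgroup _).card_eq_or_dvd.resolve_left
          (fun h => absurd h (Finite.one_lt_card (α := Subgroup.center G)).ne'))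
      exact ⟨c, c.2, (Subgroup.orderOf_coe c).trans hc⟩
    have hn : (Subgroup.zpowers c).Normal := ⟨fun z hz g => by
      rw [Subgroup.mem_center_iff.mp ((Subgroup.zpowers_le.mpr hc) hz) g, mul_inv_cancel_right]
      exact hz⟩
    have hdvd : Monoid.exponent G ∣ p ^ 2 := Monoid.exponent_dvd_of_forall_pow_eq_one fun g => by
      obtain ⟨i, hi⟩ := hquot (Subgroup.zpowers c) (fun h => by
        rw [Subgroup.zpowers_eq_bot] at h; rw [h, orderOf_one] at hc1; exact hp.one_lt.ne hc1) g
      rw [pow_two, pow_mul, ← hi]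
      show (c ^ i) ^ p = 1
      rw [← zpow_natCast, ← zpow_mul, mul_comm, zpow_mul, zpow_natCast, ← hc1, pow_orderOf_eq_one,
        one_zpow]
    obtain ⟨k, hk2, hk⟩ := (Nat.dvd_prime_pow hp).mp hdvd
    rw [hk]
    rcases hk2.lt_or_eq with h | h
    · refine absurd ?_ hxy
      exact Monoid.exponent_dvd_iff_forall_pow_eq_one.mp
        (hk ▸ (by
          have := pow_dvd_pow p (show k ≤ 1 by omega)
          rwa [pow_one] at this) : Monoid.exponent G ∣ p) (x * y)
    · rw [h]
  · have hcard : ∀ j : ℕ, 1 ≤ j → j ≤ p - 1 + 1 →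
        p ^ (j + 1) ∣ ((⊤ : Subgroup G).lowerCentralSeries j).index := by
      intro j hj hjp
      induction j, hj using Nat.le_induction with
      | base =>
        rw [Subgroup.top_lowerCentralSeries_one]
        obtain ⟨k, hk⟩ := IsPGroup.iff_card.mp (hG.to_quotient (commutator G))
        rw [Subgroup.index_eq_card, hk]
        refine pow_dvd_pow p ?_
        by_contra hk2
        haveI : IsCyclic (G ⧸ commutator G) := by
          interval_cases k
          · haveI := (Nat.card_eq_one_iff_unique.mp (hk.trans (pow_zero p))).1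
            infer_instance
          · exact isCyclic_of_prime_card (hk.trans (pow_one p))
        obtain ⟨g, hg⟩ := (inferInstance : IsCyclic (G ⧸ commutator G)).exists_generator
        obtain ⟨g, rfl⟩ := QuotientGroup.mk'_surjective (commutator G) g
        have hz : Subgroup.zpowers g = ⊤ := Cfsg.Agent.H35.eq_top_of_sup_commutator (by
          refine eq_top_iff.mpr fun a _ => ?_
          obtain ⟨i, hi⟩ := hg (QuotientGroup.mk' _ a)
          rw [show a = g ^ i * ((g ^ i)⁻¹ * a) by group]
          refine mul_mem ((le_sup_left : _ ≤ Subgroup.zpowers g ⊔ commutator G) ⟨i, rfl⟩)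
            ((le_sup_right : _ ≤ Subgroup.zpowers g ⊔ commutator G) ?_)
          rw [← QuotientGroup.eq_one_iff, ← QuotientGroup.mk'_apply, map_mul, map_inv, map_zpow,
            ← hi, inv_mul_cancel])
        refine hxy ?_
        have hc : Commute x y := by
          obtain ⟨i, hi⟩ := (hz.symm ▸ Subgroup.mem_top x : x ∈ Subgroup.zpowers g)
          obtain ⟨j, hj⟩ := (hz.symm ▸ Subgroup.mem_top y : y ∈ Subgroup.zpowers g)
          rw [← hi, ← hj]; exact (Commute.refl g).zpow_zpow i j
        rw [hc.mul_pow, hx, hy, mul_one]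
      | succ j hj ih =>
        have hne : (⊤ : Subgroup G).lowerCentralSeries j ≠ ⊥ := fun h =>
          hcl (le_bot_iff.mp (h ▸ Subgroup.lowerCentralSeries_antitone (⊤ : Subgroup G) (show j ≤ p - 1 by omega)))
        have hle : (⊤ : Subgroup G).lowerCentralSeries (j + 1) ≤ (⊤ : Subgroup G).lowerCentralSeries j :=
          Subgroup.lowerCentralSeries_antitone _ j.le_succ
        obtain ⟨k, hk⟩ := IsPGroup.iff_card.mp hG
        have hd : ((⊤ : Subgroup G).lowerCentralSeries (j + 1)).relIndex
            ((⊤ : Subgroup G).lowerCentralSeries j) ∣ p ^ k :=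
          hk ▸ ((Subgroup.relIndex_dvd_card _ _).trans (Subgroup.card_subgroup_dvd_card _))
        obtain ⟨m, -, hm⟩ := (Nat.dvd_prime_pow hp).mp hd
        rw [← Subgroup.relIndex_mul_index hle, hm, pow_succ' p (j + 1)]
        refine mul_dvd_mul ?_ (ih (by omega))
        rcases Nat.eq_zero_or_pos m with rfl | hm0
        · exfalso
          rw [pow_zero, Subgroup.relIndex_eq_one] at hm
          obtain ⟨n, hn⟩ := (Subgroup.isNilpotent_iff_lowerCentralSeries (S := (⊤ : Subgroup G))).mp
            ((Group.isNilpotent_congr Subgroup.topEquiv).mpr inferInstance)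
          have hst : ∀ i, (⊤ : Subgroup G).lowerCentralSeries (j + i) =
              (⊤ : Subgroup G).lowerCentralSeries j := by
            intro i
            induction i with
            | zero => rfl
            | succ i ih2 =>
              rw [← add_assoc, Subgroup.lowerCentralSeries_succ, ih2,
                ← Subgroup.lowerCentralSeries_succ]
              exact le_antisymm hle hm
          exact hne (le_bot_iff.mp ((hst n).symm.le.trans
            ((Subgroup.lowerCentralSeries_antitone _ (Nat.le_add_left n j)).trans hn.le)))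
        · exact dvd_pow_self p hm0.ne'
    have h1 := hcard (p - 1 + 1) (by omega) le_rfl
    rw [Nat.sub_add_cancel hp.one_le] at h1
    exact Nat.le_of_dvd Nat.card_pos (h1.trans (Subgroup.index_dvd_card _))

end Cfsg.Agent.S3872
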