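import Cfsg.Statements.S3893
import Cfsg.Agent.H7.SzPartition
import Cfsg.Agent.H7.SzLie
import Cfsg.Agent.H85.NilpotentCover

set_option autoImplicit false
open Cfsg

namespace Cfsg.Agent.S3893

/-- A cover of a group is a finite set of proper subgroups whose union is the whole group; it is minimal when no cover has fewer members, and nilpotent when all its members are nilpotent. The Suzuki groups Sz(q), q = 2^(2m+1) with m ≥ 1, have no nilpotent minimal cover. -/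
theorem result {F : Type*} [Field F] [Fintype F] (m : ℕ) (hm : 1 ≤ m) (hF : Fintype.card F = 2 ^ (2 * m + 1)) :
    ¬ ∃ 𝓐 : Finset (Subgroup ↥(Cfsg.Lie.Sz F (2 ^ (m + 1)))), ((∀ A ∈ 𝓐, A ≠ ⊤) ∧ (∀ g : ↥(Cfsg.Lie.Sz F (2 ^ (m + 1))), ∃ A ∈ 𝓐, g ∈ A)) ∧ (∀ 𝓑 : Finset (Subgroup ↥(Cfsg.Lie.Sz F (2 ^ (m + 1)))), (∀ A ∈ 𝓑, A ≠ ⊤) ∧ (∀ g : ↥(Cfsg.Lie.Sz F (2 ^ (m + 1))), ∃ A ∈ 𝓑, g ∈ A) → 𝓐.card ≤ 𝓑.card) ∧ (∀ A ∈ 𝓐, Group.IsNilpotent ↥A) := by
  classical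
  rintro ⟨𝓐₀, h𝓐⟩
  have hc₀ : Cfsg.Agent.H85.NilpCover 𝓐₀ := h𝓐
  have H := Cfsg.Agent.H7.SzHyp.of_fintype hm hF
  have hc := hc₀.map_equiv H.lieEquiv.symm
  haveI := H.finite_Sz
  haveI := H.fin
  -- an element of the split torus, and one of the Sylow 2-subgroup
  obtain ⟨k, hk⟩ : ∃ k : Fˣ, k ≠ 1 := by
    haveI : Nontrivial Fˣ := by
      rw [← Finite.one_lt_card_iff_nontrivial, Nat.card_units, Nat.card_eq_fintype_card, hF]
      have : 2 ^ 2 ≤ 2 ^ (2 * m + 1) := Nat.pow_le_pow_right (by norm_num) (by omega)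
      omega
    exact exists_ne 1
  set u := H.us 1 0 with hu
  have hu1 : u ≠ 1 := H.us_one_zero_ne_one
  have huQ : u ∈ H.Q := H.us_mem_Q 1 0
  -- nilpotent subgroups containing them
  have hcen : ∀ (A : Subgroup (Cfsg.Sz F m)) (x : Cfsg.Sz F m), Group.IsNilpotent A → x ∈ A → x ≠ 1 →
      ∃ z, z ≠ 1 ∧ z ∈ Subgroup.centralizer ({x} : Set (Cfsg.Sz F m)) ∧
        A ≤ Subgroup.centralizer ({z} : Set (Cfsg.Sz F m)) := by
    intro A x hA hxA hx1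
    obtain ⟨z, hzA, hz1, hzc⟩ : ∃ z ∈ A, z ≠ 1 ∧ ∀ a ∈ A, Commute z a := by
      by_contra hno
      push Not at hno
      refine hx1 (Cfsg.Agent.H85.nilpotent_induction hA (fun a => a = 1) rfl (fun a ha h => ?_) x hxA)
      by_contra ha1
      obtain ⟨y, hy, hay⟩ := hno a ha ha1
      exact hay (mul_inv_eq_iff_eq_mul.1 (mul_inv_eq_one.1 (h y hy)))
    exact ⟨z, hz1, Subgroup.mem_centralizer_singleton_iff.2 (hzc x hxA).eq,
      fun a ha => Subgroup.mem_centralizer_singleton_iff.2 (hzc a ha).eq.symm⟩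
  have hdsne : H.ds k ≠ 1 := fun h => by
    have hT := H.centralizer_ds hk
    rw [h] at hT
    apply H.isCoatom_B.1
    rw [eq_top_iff]
    intro g _
    have hg : g ∈ H.T := hT ▸ Subgroup.mem_centralizer_singleton_iff.2 (by simp)
    obtain ⟨l, rfl⟩ := hg
    exact H.ds_mem_B l
  have hT : ∀ A : Subgroup _, A ≠ ⊤ → Group.IsNilpotent A → H.ds k ∈ A → A ≤ H.T := by
    intro A _ hA hkA
    obtain ⟨z, hz1, hzc, hle⟩ := hcen A _ hA hkA hdsne
    rw [H.centralizer_ds hk] at hzc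
    obtain ⟨l, rfl⟩ := hzc
    exact hle.trans (H.centralizer_ds (fun h => hz1 (by rw [h]; exact H.ds_one))).le
  have hQ : ∀ A : Subgroup _, A ≠ ⊤ → Group.IsNilpotent A → u ∈ A → A ≤ H.Q := by
    intro A _ hA huA
    obtain ⟨z, hz1, hzc, hle⟩ := hcen A _ hA huA hu1
    exact hle.trans (H.centralizer_le_Q (H.centralizer_le_Q huQ hu1 hzc) hz1)
  have hTB : H.T ≤ H.B := by
    rintro _ ⟨l, rfl⟩
    exact H.ds_mem_B l
  obtain ⟨A, hA, hkA, huA⟩ := hc.exists_common H.isCoatom_B.1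
    (fun A h1 h2 h3 => (hT A h1 h2 h3).trans hTB) (fun A h1 h2 h3 => (hQ A h1 h2 h3).trans H.Q_le_B)
  -- a common member would put `u` into the torus
  have huT := hT A (hc.1.1 A hA) (hc.2.2 A hA) hkA huA
  have h1 := Subgroup.orderOf_dvd_natCard _ huT
  have h2 := Subgroup.orderOf_dvd_natCard _ huQ
  rw [H.card_T] at h1
  rw [H.card_Q_two_pow] at h2
  obtain ⟨j, -, hj⟩ := (Nat.dvd_prime_pow Nat.prime_two).1 h2
  rcases Nat.eq_zero_or_pos j with rfl | hj0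
  · exact hu1 (orderOf_eq_one_iff.1 hj)
  · have h3 : 2 ∣ 2 ^ (2 * m + 1) - 1 := (hj ▸ dvd_pow_self 2 hj0.ne').trans h1
    have h4 : 2 ∣ 2 ^ (2 * m + 1) := dvd_pow_self 2 (by omega)
    have h5 : 1 ≤ 2 ^ (2 * m + 1) := Nat.one_le_two_pow
    omega

end Cfsg.Agent.S3893
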