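import Cfsg.Statements.S3894
-- import your own Cfsg.Agent.* helpers here
import Cfsg.Agent.H85.LinearCover

set_option autoImplicit false
open Cfsg

namespace Cfsg.Agent.S3894

/-- A cover of a group is a finite set of proper subgroups whose union is the whole group; it is minimal when no cover has fewer members, and nilpotent when all its members are nilpotent. Let F be a finite field with q elements and n ≥ 3, or n = 2 and q ≥ 4. Then no subgroup of PGL_n(F) = GL_n(F)/Z(GL_n(F)) containing the image of SL_n(F) has a nilpotent minimal cover. -/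
theorem result {F : Type*} [Field F] [Fintype F] (n : ℕ) (hn : 3 ≤ n ∨ (n = 2 ∧ 4 ≤ Fintype.card F))
    (G : Subgroup (GL (Fin n) F ⧸ Subgroup.center (GL (Fin n) F)))
    (hG : ((Matrix.SpecialLinearGroup.toGL : Matrix.SpecialLinearGroup (Fin n) F →* GL (Fin n) F).range).map
      (QuotientGroup.mk' (Subgroup.center (GL (Fin n) F))) ≤ G) :
    ¬ ∃ 𝓐 : Finset (Subgroup ↥G), ((∀ A ∈ 𝓐, A ≠ ⊤) ∧ (∀ g : ↥G, ∃ A ∈ 𝓐, g ∈ A)) ∧ (∀ 𝓑 : Finset (Subgroup ↥G), (∀ A ∈ 𝓑, A ≠ ⊤) ∧ (∀ g : ↥G, ∃ A ∈ 𝓑, g ∈ A) → 𝓐.card ≤ 𝓑.card) ∧ (∀ A ∈ 𝓐, Group.IsNilpotent ↥A) := by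
  classical
  rintro ⟨𝓐, h𝓐⟩
  have h : Cfsg.Agent.H85.NilpCover 𝓐 := h𝓐
  rcases hn with hn | ⟨rfl, hq⟩
  · exact Cfsg.Agent.H85.no_nilpCover_ge_three G hG (m := n - 1) (by omega) (by omega) 𝓐 h
  rw [← Nat.card_eq_fintype_card] at hq
  by_cases hr : ∃ r : ℕ, r.Prime ∧ r ≠ 2 ∧ r ∣ Nat.card F - 1
  · obtain ⟨r, hr, hr2, hrq⟩ := hr
    exact Cfsg.Agent.H85.no_nilpCover_two_split G hG hr hr2 hrq 𝓐 h
  push Not at hr
  obtain ⟨k, hk⟩ : ∃ k, Nat.card F - 1 = 2 ^ k :=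
    ⟨_, Nat.eq_prime_pow_of_unique_prime_dvd (p := 2) (by omega) fun {d} hd hdvd => by
      by_contra hne
      exact hr d hd hne hdvd⟩
  have hk2 : 2 ≤ k := by
    rcases k with _ | _ | k
    · rw [pow_zero] at hk; omega
    · rw [zero_add, pow_one] at hk; omega
    · omega
  obtain ⟨l, rfl⟩ : ∃ l, k = l + 2 := ⟨k - 2, by omega⟩
  have hq1 : Nat.card F = 4 * 2 ^ l + 1 := by
    rw [pow_add] at hk
    omega
  obtain ⟨p, hchar⟩ := CharP.exists F
  have hp : Fact p.Prime := ⟨CharP.char_is_prime F p⟩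
  have hp2 : p ≠ 2 := by
    rintro rfl
    have h2 : 2 ∣ Nat.card F := (CharP.cast_eq_zero_iff F 2 _).1 (by
      rw [Nat.card_eq_fintype_card]; exact Nat.cast_card_eq_zero F)
    omega
  obtain ⟨x, hx⟩ : IsSquare (-1 : F) :=
    FiniteField.isSquare_neg_one_iff.2 (by rw [← Nat.card_eq_fintype_card]; omega)
  have hx0 : x ≠ 0 := fun h0 => by simp [h0] at hx
  set r := (2 * 2 ^ l + 1).minFac with hrdef
  have hne1 : 2 * 2 ^ l + 1 ≠ 1 := by
    have : 0 < 2 ^ l := Nat.two_pow_pos l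
    omega
  have hrdvd : r ∣ 2 * 2 ^ l + 1 := Nat.minFac_dvd _
  refine Cfsg.Agent.H85.no_nilpCover_two_nonsplit G hG (Nat.minFac_prime hne1) (fun h2 => ?_) ?_ p hp2
    (Units.mk0 x hx0) hx.symm 𝓐 h
  · rw [← hrdef] at h2
    rw [h2] at hrdvd
    omega
  · rw [hq1, show 4 * 2 ^ l + 1 + 1 = (2 * 2 ^ l + 1) * 2 by ring]
    exact hrdvd.mul_right 2

end Cfsg.Agent.S3894
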