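import Cfsg.Statements.S3930
import Cfsg.Agent.H45.Pyramidal.Main
import Cfsg.Agent.H45.Pyramidal.Example

set_option autoImplicit false
open Cfsg

namespace Cfsg.Agent.S3930

/-- Call a finite group m-pyramidal when it has exactly m involutions and they form a single conjugacy class. Let p be an odd prime and k ≥ 1. Then every p^k-pyramidal finite group is solvable if and only if k is odd or p^k = 9. -/
theorem result (p k : ℕ) (hp : p.Prime) (hp2 : p ≠ 2) (hk : 1 ≤ k) :
    (∀ (G : Type) [Group G] [Finite G], Nat.card {x : G // orderOf x = 2} = p ^ k →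
      (∀ x y : G, orderOf x = 2 → orderOf y = 2 → ∃ g : G, g * x * g⁻¹ = y) → Group.IsSolvable G) ↔ (Odd k ∨ p ^ k = 9) := by
  constructor
  · intro h
    by_contra hneg
    rw [not_or, Nat.not_odd_iff_even] at hneg
    obtain ⟨⟨m, rfl⟩, h9⟩ := hneg
    haveI : Fact p.Prime := ⟨hp⟩
    have hm : m ≠ 0 := by omega
    have hF : Nat.card (GaloisField p m) = p ^ m := GaloisField.card p m hm
    have h3 : 3 ≤ p := lt_of_le_of_ne hp.two_le (Ne.symm hp2)
    have hodd : Odd (Nat.card (GaloisField p m)) := by
      rw [hF]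
      exact (hp.odd_of_ne_two hp2).pow
    have h5 : 5 ≤ Nat.card (GaloisField p m) := by
      rw [hF]
      by_contra hlt
      have h1 : p ≤ p ^ m := Nat.le_self_pow hm p
      have h4 : p ^ m = 3 := by
        obtain ⟨i, hi⟩ := (hp.odd_of_ne_two hp2).pow (n := m)
        omega
      exact h9 (by rw [pow_add, h4]; norm_num)
    haveI : Finite (GaloisField p m) := Nat.finite_of_card_ne_zero (by omega)
    obtain ⟨hc, hj, hns⟩ := H45.Pyramidal.affine_example hodd h5
    haveI : Finite (H45.Pyramidal.ASL2 (GaloisField p m)) :=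
      Finite.of_equiv _ SemidirectProduct.equivProd.symm
    refine hns (h _ ?_ hj)
    rw [hc, hF, ← pow_mul, mul_two]
  · intro hpk G _ _ hcard hconj
    exact H45.Pyramidal.isSolvable_of_pyramidal hp hk hpk hcard hconj

end Cfsg.Agent.S3930
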