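import Cfsg.Statements.S4018
import Mathlib
import Cfsg.Agent.H76.AbelianTICentralizer
import Cfsg.Agent.H77.TransferTwo

set_option autoImplicit false
open Cfsg

namespace Cfsg.Agent.S4018

/-- Let G be a finite group with an abelian Sylow 3-subgroup P such that the normalizer of P has order 4·#P, the centralizer C of P has order 2·#P, C meets each of its conjugates by elements outside its normalizer trivially, and every proper subgroup of G of even order has order dividing 4·#P. Then G is not simple. -/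
theorem result {G : Type*} [Group G] [Finite G]
    (P : Sylow 3 G) (hab : IsMulCommutative P)
    (hN : Nat.card (Subgroup.normalizer ((P : Subgroup G) : Set G)) = 4 * Nat.card P)
    (hC : Nat.card (Subgroup.centralizer (P : Set G)) = 2 * Nat.card P)
    (hTI : Cfsg.IsTISubset (Subgroup.centralizer (P : Set G) : Set G))
    (heven : ∀ H : Subgroup G, H ≠ ⊤ → 2 ∣ Nat.card H → Nat.card H ∣ 4 * Nat.card P) :
    ¬ IsSimpleGroup G := by
  classical
  have : Fintype G := Fintype.ofFinite G
  intro hsimple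
  have h3p : Fact (Nat.Prime 3) := ⟨by norm_num⟩
  have h2p : Fact (Nat.Prime 2) := ⟨Nat.prime_two⟩
  set C := Subgroup.centralizer (P : Set G) with hCdef
  set N := Subgroup.normalizer ((P : Subgroup G) : Set G) with hNdef
  set n := Nat.card P with hndef
  obtain ⟨a, ha⟩ := P.2.exists_card_eq
  have hna : n = 3 ^ a := ha
  have hnpos : 0 < n := Nat.card_pos
  have hnodd : Odd n := hna ▸ (by decide : Odd 3).pow
  -- the Sylow subgroup is not trivial
  have ha0 : a ≠ 0 := by
    intro h0
    rw [h0, pow_zero] at hna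
    have hP : (P : Subgroup G) = ⊥ := Subgroup.card_eq_one.mp hna
    have hNtop : N = ⊤ := by rw [hNdef, hP]; exact Subgroup.normalizer_eq_top _
    have hCtop : C = ⊤ := by
      rw [hCdef, eq_top_iff]
      intro g _
      rw [Subgroup.mem_centralizer_iff]
      intro x hx
      have : x ∈ (P : Subgroup G) := hx
      rw [hP, Subgroup.mem_bot] at this
      simp [this]
    rw [hNtop, Subgroup.card_top, hna] at hN
    rw [hCtop, Subgroup.card_top, hna] at hC
    omega
  have hn3 : 3 ∣ n := hna ▸ dvd_pow_self 3 ha0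
  have hPC : (P : Subgroup G) ≤ C := fun x hx => by
    rw [hCdef, Subgroup.mem_centralizer_iff]
    intro y hy
    exact congrArg Subtype.val (hab.is_comm.comm (⟨y, hy⟩ : P) ⟨x, hx⟩)
  have hidxP : ((P : Subgroup G).subgroupOf C).index = 2 := by
    have h := Subgroup.card_mul_index ((P : Subgroup G).subgroupOf C)
    rw [Nat.card_congr (Subgroup.subgroupOfEquivOfLe hPC).toEquiv, hC] at h
    exact Nat.eq_of_mul_eq_mul_left hnpos (by linarith)
  obtain ⟨⟨t, htC⟩, htord⟩ := exists_prime_orderOf_dvd_card' (G := C) 2 (hC ▸ dvd_mul_right 2 n)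
  have ht2 : orderOf t = 2 := by simpa using htord
  have htne : t ≠ 1 := fun h => by rw [h, orderOf_one] at ht2; omega
  have htsq : t * t = 1 := by rw [← pow_two, ← ht2]; exact pow_orderOf_eq_one t
  have hpow : ∀ x ∈ (P : Subgroup G), x ^ n = 1 := fun x hx => by
    have := pow_card_eq_one' (G := P) (x := ⟨x, hx⟩)
    exact congrArg Subtype.val this
  have htP : t ∉ (P : Subgroup G) := fun h => htne (by
    obtain ⟨k, hk⟩ := hnodd
    have := hpow t h
    rw [hk, pow_succ, pow_mul, pow_two, htsq, one_pow, one_mul] at this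
    exact this)
  have hdec : ∀ c ∈ C, c ∈ (P : Subgroup G) ∨ c * t ∈ (P : Subgroup G) := fun c hc => by
    by_cases h : c ∈ (P : Subgroup G)
    · exact Or.inl h
    · have := Subgroup.mul_mem_iff_of_index_two hidxP (a := ⟨c, hc⟩) (b := ⟨t, htC⟩)
      exact Or.inr (this.2 (iff_of_false h htP))
  have hPt : ∀ x ∈ (P : Subgroup G), x * t = t * x := fun x hx =>
    Subgroup.mem_centralizer_iff.mp htC x hx
  have hcomm : ∀ x ∈ C, ∀ y ∈ C, x * y = y * x := by
    have hP1 : ∀ x ∈ (P : Subgroup G), ∀ y ∈ C, x * y = y * x := fun x hx y hy =>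
      Subgroup.mem_centralizer_iff.mp hy x hx
    intro x hx y hy
    rcases hdec x hx with h | h
    · exact hP1 x h y hy
    · have hty : t * y = y * t := by
        rcases hdec y hy with h' | h'
        · exact (hPt y h').symm
        · calc t * y = t * ((y * t) * t) := by rw [mul_assoc y, htsq, mul_one]
            _ = (y * t) * t * t := by rw [← mul_assoc, ← hPt _ h']
            _ = y * t := by rw [mul_assoc, htsq, mul_one]
      calc x * y = (x * t) * (t * y) := by rw [mul_assoc, ← mul_assoc t t, htsq, one_mul]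
        _ = (x * t) * (y * t) := by rw [hty]
        _ = ((x * t) * y) * t := by group
        _ = (y * (x * t)) * t := by rw [hP1 _ h y hy]
        _ = y * x := by rw [mul_assoc y, mul_assoc x, htsq, mul_one]
  have hoddP : ∀ x ∈ (P : Subgroup G), x * x = 1 → x = 1 := fun x hx h => by
    obtain ⟨k, hk⟩ := hnodd
    have := hpow x hx
    rw [hk, pow_succ, pow_mul, pow_two, h, one_pow, one_mul] at this
    exact this
  have hsqC : ∀ c ∈ C, c * c = 1 → c = 1 ∨ c = t := by
    intro c hc h
    rcases hdec c hc with hp | hp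
    · exact Or.inl (hoddP c hp h)
    · have h1 : (c * t) * (c * t) = 1 := by
        rw [mul_assoc, ← mul_assoc t c t, ← hcomm c hc t htC, mul_assoc c t t, htsq, mul_one, h]
      exact Or.inr (by rw [mul_eq_one_iff_eq_inv.1 (hoddP _ hp h1), inv_eq_of_mul_eq_one_right htsq])
  have hCN : C ≤ N := Subgroup.centralizer_le_normalizer _
  -- normalising `C` means normalising `P`
  have hnorm : ∀ x : G, (∀ c ∈ C, x * c * x⁻¹ ∈ C) → x ∈ N := by
    intro x hx
    refine (Subgroup.mem_normalizer_fintype (S := ((P : Subgroup G) : Set G)) (x := x) ?_)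
    intro p hp
    rcases hdec _ (hx p (hPC hp)) with h | h
    · exact h
    · exfalso
      have hpn : (x * p * x⁻¹) ^ n = 1 := by rw [conj_pow, hpow p hp, mul_one, mul_inv_cancel]
      have hq := hpow _ h
      rw [(show Commute _ t from hcomm _ (hx p (hPC hp)) t htC).mul_pow, hpn, one_mul] at hq
      obtain ⟨k, hk⟩ := hnodd
      rw [hk, pow_succ, pow_mul, pow_two, htsq, one_pow, one_mul] at hq
      exact htne hq
  have hnab : ¬ (∀ x y : G, x * y = y * x) := by
    intro h
    have hnormal : (P : Subgroup G).Normal := ⟨fun p hp g => by rwa [h g p, mul_inv_cancel_right]⟩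
    have : N = ⊤ := Subgroup.normalizer_eq_top _
    rcases hsimple.eq_bot_or_eq_top_of_normal _ hnormal with hb | ht
    · have := Subgroup.card_eq_one.mpr hb
      rw [← hndef, hna] at this
      exact ha0 (by simpa using this)
    · have h1 : Nat.card (P : Subgroup G) = Nat.card G := by rw [ht, Subgroup.card_top]
      rw [this, Subgroup.card_top, ← h1] at hN
      change n = 4 * n at hN
      omega
  have hcenter : ∀ x : G, x ≠ 1 → Subgroup.centralizer ({x} : Set G) ≠ ⊤ := by
    intro x hx h
    have hxz : x ∈ Subgroup.center G := Subgroup.mem_center_iff.mpr fun g => by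
      have := Subgroup.mem_centralizer_singleton_iff.mp (h ▸ Subgroup.mem_top g)
      first | exact this | exact this.symm
    rcases hsimple.eq_bot_or_eq_top_of_normal (Subgroup.center G) inferInstance with hb | ht
    · exact hx (by rwa [hb, Subgroup.mem_bot] at hxz)
    · exact hnab fun u v => (Subgroup.mem_center_iff.mp (ht ▸ Subgroup.mem_top v)) u
  have hmemcent : ∀ x y : G, y ∈ Subgroup.centralizer ({x} : Set G) ↔ y * x = x * y := fun x y => by
    rw [Subgroup.mem_centralizer_singleton_iff]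
    all_goals first | rfl | exact eq_comm
  -- the centraliser of `t`
  set T := Subgroup.centralizer ({t} : Set G) with hTdef
  have hCT : C ≤ T := fun c hc => (hmemcent t c).2 (hcomm c hc t htC)
  have h2G : 4 ∣ Nat.card G := (Dvd.intro n hN.symm).trans (Subgroup.card_subgroup_dvd_card N)
  have hfour : ∀ S : Sylow 2 G, Nat.card (S : Subgroup G) = 4 := by
    intro S
    obtain ⟨k, hk⟩ := S.2.exists_card_eq
    have hk2 : 2 ≤ k := by
      have : (2 : ℕ) ^ 2 ∣ Nat.card (S : Subgroup G) := S.pow_dvd_card_of_pow_dvd_card (by simpa using h2G)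
      rwa [hk, Nat.pow_dvd_pow_iff_le_right (by norm_num)] at this
    have hne : (S : Subgroup G) ≠ ⊤ := by
      intro h
      have h3 : 3 ∣ Nat.card (S : Subgroup G) := by
        rw [h, Subgroup.card_top]
        exact hn3.trans (Subgroup.card_subgroup_dvd_card _)
      rw [hk] at h3
      have := (Nat.prime_three).dvd_of_dvd_pow h3
      omega
    have hd : 2 ^ k ∣ 4 * n := hk ▸ heven _ hne (hk ▸ dvd_pow_self 2 (by omega))
    have hcop : Nat.Coprime (2 ^ k) n := Nat.Coprime.pow_left _ (Nat.coprime_two_left.mpr hnodd)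
    have : 2 ^ k ∣ 2 ^ 2 := by simpa using hcop.dvd_of_dvd_mul_right hd
    rw [Nat.pow_dvd_pow_iff_le_right (by norm_num)] at this
    rw [hk, show k = 2 by omega]; norm_num
  have hTdvd : Nat.card T ∣ 4 * n :=
    heven T (hcenter t htne) ((hC ▸ dvd_mul_right 2 n).trans (Subgroup.card_dvd_of_le hCT))
  have hT : Nat.card T = 4 * n := by
    obtain ⟨S, hS⟩ := (IsPGroup.of_card (p := 2) (n := 1) (by rw [Nat.card_zpowers, ht2, pow_one]) :
      IsPGroup 2 (Subgroup.zpowers t)).exists_le_sylow
    have hS4 := hfour S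
    have hScomm := IsPGroup.commutative_of_card_eq_prime_sq (p := 2) (G := S) (by
      show Nat.card (S : Subgroup G) = 2 ^ 2
      rw [hS4]; norm_num)
    have hST : (S : Subgroup G) ≤ T := fun s hs => (hmemcent t s).2
      (congrArg Subtype.val (hScomm ⟨s, hs⟩ ⟨t, hS (Subgroup.mem_zpowers t)⟩))
    refine Nat.dvd_antisymm hTdvd (Nat.Coprime.mul_dvd_of_dvd_of_dvd ?_ ?_ ?_)
    · exact Nat.Coprime.pow_left 2 (Nat.coprime_two_left.mpr hnodd)
    · exact hS4 ▸ Subgroup.card_dvd_of_le hST
    · exact (dvd_mul_left n 2).trans (hC ▸ Subgroup.card_dvd_of_le hCT)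
  have hidxT : ∀ K : Subgroup G, C ≤ K → Nat.card K = 4 * n → ∀ x ∈ K, ∀ c ∈ C, x * c * x⁻¹ ∈ C := by
    intro K hK hcard x hx c hc
    have h := Subgroup.card_mul_index (C.subgroupOf K)
    rw [Nat.card_congr (Subgroup.subgroupOfEquivOfLe hK).toEquiv, hC, hcard] at h
    have hi : (C.subgroupOf K).index = 2 := Nat.eq_of_mul_eq_mul_left (show 0 < 2 * n by omega) (by linarith)
    have := (Subgroup.normal_of_index_eq_two hi).conj_mem ⟨c, hK hc⟩ hc ⟨x, hx⟩
    exact this
  have hTN : T = N := by
    refine Subgroup.eq_of_le_of_card_ge (fun x hx => hnorm x (hidxT T hCT hT x hx)) ?_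
    rw [hT]; exact hN.le
  -- TI
  have hti : ∀ x : G, ∀ c ∈ C, c ≠ 1 → x * c * x⁻¹ ∈ C → x * t = t * x := by
    intro x c hc hc1 hx
    by_cases hxn : x ∈ Subgroup.normalizer (C : Set G)
    · have hxn' : ∀ d ∈ C, x * d * x⁻¹ ∈ C := fun d hd => (Subgroup.mem_normalizer_iff.mp hxn d).1 hd
      have h1 : (x * t * x⁻¹) * (x * t * x⁻¹) = 1 := by
        calc (x * t * x⁻¹) * (x * t * x⁻¹) = x * (t * t) * x⁻¹ := by group
          _ = 1 := by rw [htsq]; group
      rcases hsqC _ (hxn' t htC) h1 with h | h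
      · exact absurd (conj_eq_one_iff.mp h) htne
      · exact mul_inv_eq_iff_eq_mul.mp h
    · exact absurd (hTI x hxn c hc hx) hc1
  have htiT : ∀ x : G, ∀ c ∈ C, c ≠ 1 → x * c * x⁻¹ ∈ C → x ∈ T := fun x c hc h1 h =>
    (hmemcent t x).2 (hti x c hc h1 h)
  have hpG : ∀ H : Subgroup G, H.index ≠ 2 := by
    intro H hH
    have hn := Subgroup.normal_of_index_eq_two hH
    rcases hsimple.eq_bot_or_eq_top_of_normal H hn with h | h
    · rw [h, Subgroup.index_bot] at hH
      omega
    · rw [h, Subgroup.index_top] at hH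
      omega
  have hexp : ∀ S : Sylow 2 G, ∀ s ∈ (S : Subgroup G), s * s = 1 := by
    intro S s hs
    by_contra hne
    have hcyc : IsCyclic S := by
      obtain ⟨k, hk, hok⟩ := (Nat.dvd_prime_pow Nat.prime_two).mp
        (show orderOf s ∣ 2 ^ 2 by
          have := Subgroup.orderOf_dvd_natCard (S : Subgroup G) hs
          rw [hfour S] at this; simpa using this)
      have hk2 : k = 2 := by
        by_contra hk'
        interval_cases k
        · have h1 : s = 1 := orderOf_eq_one_iff.mp (by rw [hok, pow_zero])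
          exact hne (by rw [h1, one_mul])
        · exact hne (by rw [← pow_two, ← show orderOf s = 2 by simpa using hok]; exact pow_orderOf_eq_one s)
        · exact hk' rfl
      refine isCyclic_of_orderOf_eq_card (⟨s, hs⟩ : S) ?_
      show orderOf (⟨s, hs⟩ : S) = Nat.card (S : Subgroup G)
      rw [Subgroup.orderOf_mk, hok, hk2, hfour S]; norm_num
    have hmin : (Nat.card G).minFac = 2 :=
      (Nat.minFac_eq_two_iff _).mpr ((show (2:ℕ) ∣ 4 by norm_num).trans h2G)
    have hc := IsCyclic.isComplement' hmin hcyc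
    have hidx := hc.symm.index_eq_card
    rcases hsimple.eq_bot_or_eq_top_of_normal _ (MonoidHom.normal_ker
      (MonoidHom.transferSylow S (hcyc.normalizer_le_centralizer hmin))) with h | h
    · rw [h, Subgroup.index_bot] at hidx
      change Nat.card G = Nat.card (S : Subgroup G) at hidx
      rw [hfour S] at hidx
      have := Nat.le_of_dvd (by omega) (hidx ▸ hn3.trans (Subgroup.card_subgroup_dvd_card _))
      have h3 : 3 ∣ 4 := hidx ▸ hn3.trans (Subgroup.card_subgroup_dvd_card _)
      omega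
    · rw [h, Subgroup.index_top] at hidx
      change 1 = Nat.card (S : Subgroup G) at hidx
      rw [hfour S] at hidx
      omega
  have hallconj : ∀ y : G, y ≠ 1 → y * y = 1 → IsConj t y := by
    intro y hy1 hy2
    have hyo : orderOf y = 2 := orderOf_eq_prime (by rw [pow_two, hy2]) hy1
    obtain ⟨S, hS⟩ := (IsPGroup.of_card (p := 2) (n := 1) (by rw [Nat.card_zpowers, ht2, pow_one]) :
      IsPGroup 2 (Subgroup.zpowers t)).exists_le_sylow
    have hMS : Subgroup.zpowers t ≤ (S : Subgroup G) := hS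
    have hMidx : (Subgroup.zpowers t).relIndex (S : Subgroup G) = 2 := by
      have h := Subgroup.card_mul_index ((Subgroup.zpowers t).subgroupOf S)
      rw [Nat.card_congr (Subgroup.subgroupOfEquivOfLe hMS).toEquiv, Nat.card_zpowers, ht2,
        hfour S] at h
      show ((Subgroup.zpowers t).subgroupOf (S : Subgroup G)).index = 2
      omega
    obtain ⟨g, hg⟩ := Cfsg.Agent.H77.exists_conj_mem_of_transfer hpG S _ hMS hMidx y 1
      (by rw [pow_one]; exact hyo) (fun k g hk1 hk2 _ => by
        have : k = 2 := by have := Nat.le_of_dvd (by norm_num) hk2; omega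
        subst this
        rw [pow_two, hy2, mul_one, inv_mul_cancel]
        exact one_mem _)
    rw [mem_zpowers_iff_mem_range_orderOf, ht2] at hg
    simp only [Finset.mem_image, Finset.mem_range] at hg
    obtain ⟨i, hi, hie⟩ := hg
    interval_cases i
    · rw [pow_zero, eq_comm, conj_eq_one_iff] at hie
      exact absurd hie hy1
    · rw [pow_one] at hie
      exact IsConj.symm (isConj_iff.mpr ⟨g, hie.symm⟩)
  -- elements of `T` outside `C`
  have hsfix : ∀ s : G, s * s = 1 → s ∈ T → s ∉ C → ∀ v ∈ (P : Subgroup G),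
      s * v = v * s → v = 1 := by
    intro s hs2 hsT hsC v hv hsv
    by_contra hv1
    obtain ⟨g, hg⟩ := isConj_iff.mp (hallconj s (fun h => hsC (h ▸ one_mem _)) hs2)
    -- `v` lies in the conjugate of `T`, which is the conjugate of `N`
    set v' := g⁻¹ * v * g with hv'
    have hv'T : v' ∈ T := by
      rw [hmemcent, hv']
      have h1 : t = g⁻¹ * s * g := by rw [← hg]; group
      rw [h1]
      calc g⁻¹ * v * g * (g⁻¹ * s * g) = g⁻¹ * (v * s) * g := by group
        _ = g⁻¹ * (s * v) * g := by rw [hsv]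
        _ = g⁻¹ * s * g * (g⁻¹ * v * g) := by group
    have hv'n : v' ^ n = 1 := by
      rw [hv', show g⁻¹ * v * g = g⁻¹ * v * g⁻¹⁻¹ by group, conj_pow, hpow v hv]; group
    have hv'C : v' ∈ C := by
      by_contra hC'
      have h := Subgroup.card_mul_index (C.subgroupOf T)
      rw [Nat.card_congr (Subgroup.subgroupOfEquivOfLe hCT).toEquiv, hC, hT] at h
      have hi : (C.subgroupOf T).index = 2 := Nat.eq_of_mul_eq_mul_left (show 0 < 2 * n by omega) (by linarith)
      have hsq := Subgroup.sq_mem_of_index_two hi ⟨v', hv'T⟩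
      obtain ⟨k, hk⟩ := hnodd
      apply hC'
      have : v' = (v' ^ 2) ^ (k + 1) := by
        rw [← pow_mul, show 2 * (k + 1) = n + 1 by omega, pow_succ, hv'n, one_mul]
      rw [this]
      exact pow_mem (show v' ^ 2 ∈ C from hsq) _
    have hv'1 : v' ≠ 1 := by
      intro h
      rw [hv'] at h
      exact hv1 (by simpa using conj_eq_one_iff.mp (show g⁻¹ * v * g⁻¹⁻¹ = 1 by simpa using h))
    have := hti g v' hv'C hv'1 (by rw [hv']; group; simpa using hPC hv)
    rw [← hg, this, mul_inv_cancel_right] at hsC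
    exact hsC htC
  have hinv : ∀ s : G, s * t = t * s → s ∉ C → s * s = 1 ∧ ∀ c ∈ C, s * c * s⁻¹ = c⁻¹ := by
    have hkey : ∀ s : G, s * s = 1 → s ∈ T → s ∉ C → ∀ c ∈ C, s * c * s⁻¹ = c⁻¹ := by
      intro s hs2 hsT hsC
      have hst : s * t = t * s := (hmemcent t s).1 hsT
      have hsN : s ∈ N := hTN ▸ hsT
      have hsi : s⁻¹ = s := inv_eq_of_mul_eq_one_right hs2
      have hP' : ∀ v ∈ (P : Subgroup G), s * v * s⁻¹ = v⁻¹ := by
        intro v hv
        have hw : s * v * s⁻¹ ∈ (P : Subgroup G) := (Subgroup.mem_normalizer_iff.mp hsN v).1 hv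
        refine eq_inv_of_mul_eq_one_left (hsfix s hs2 hsT hsC _ (mul_mem hw hv) ?_)
        rw [hsi]
        calc s * (s * v * s * v) = (s * s) * v * s * v := by group
          _ = v * s * v := by rw [hs2, one_mul]
          _ = (v * (s * v * s)) * s := by
              simp only [mul_assoc, hs2, mul_one]
          _ = ((s * v * s) * v) * s := by
              rw [hcomm v (hPC hv) _ (hPC (by simpa [hsi] using hw))]
      intro c hc
      rcases hdec c hc with h | h
      · exact hP' c h
      · have h1 := hP' _ h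
        have h2 : s * t * s⁻¹ = t := by rw [hst, mul_inv_cancel_right]
        calc s * c * s⁻¹ = (s * (c * t) * s⁻¹) * (s * t * s⁻¹)⁻¹ := by group
          _ = (c * t)⁻¹ * t⁻¹ := by rw [h1, h2]
          _ = c⁻¹ := by
              rw [mul_inv_rev, mul_assoc, ← mul_inv_rev, ← hcomm c hc t htC, mul_inv_rev,
                ← mul_assoc, ← mul_inv_rev, htsq, inv_one, one_mul]
    obtain ⟨S, hS⟩ := (IsPGroup.of_card (p := 2) (n := 1) (by rw [Nat.card_zpowers, ht2, pow_one]) :
      IsPGroup 2 (Subgroup.zpowers t)).exists_le_sylow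
    have htS : t ∈ (S : Subgroup G) := hS (Subgroup.mem_zpowers t)
    obtain ⟨s₀, hs₀S, hs₀C⟩ : ∃ s ∈ (S : Subgroup G), s ∉ C := by
      by_contra h
      push Not at h
      have h4 := hC ▸ Subgroup.card_dvd_of_le (h : (S : Subgroup G) ≤ C)
      rw [hfour S] at h4
      obtain ⟨k, hk⟩ := hnodd
      omega
    have hs₀T : s₀ ∈ T := by
      rw [hmemcent]
      exact congrArg Subtype.val (IsPGroup.commutative_of_card_eq_prime_sq (p := 2) (G := S) (by
        show Nat.card (S : Subgroup G) = 2 ^ 2
        rw [hfour S]; norm_num) ⟨s₀, hs₀S⟩ ⟨t, htS⟩)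
    have hs₀2 := hexp S s₀ hs₀S
    have hk0 := hkey s₀ hs₀2 hs₀T hs₀C
    intro s hst hsC
    have hsT : s ∈ T := (hmemcent t s).2 hst
    have hc : s₀ * s ∈ C := by
      have h := Subgroup.card_mul_index (C.subgroupOf T)
      rw [Nat.card_congr (Subgroup.subgroupOfEquivOfLe hCT).toEquiv, hC, hT] at h
      have hi : (C.subgroupOf T).index = 2 := Nat.eq_of_mul_eq_mul_left (show 0 < 2 * n by omega) (by linarith)
      exact (Subgroup.mul_mem_iff_of_index_two hi (a := ⟨s₀, hs₀T⟩) (b := ⟨s, hsT⟩)).2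
        (iff_of_false hs₀C hsC)
    have hs2 : s * s = 1 := by
      have h := hk0 _ hc
      rw [inv_eq_of_mul_eq_one_right hs₀2, ← mul_assoc, hs₀2, one_mul, mul_inv_rev,
        inv_eq_of_mul_eq_one_right hs₀2] at h
      have := mul_right_cancel h
      exact mul_eq_one_iff_eq_inv.2 this
    exact ⟨hs2, hkey s hs2 hsT hsC⟩
  -- centralisers in `P`
  have hcentP : ∀ v ∈ (P : Subgroup G), v ≠ 1 → Subgroup.centralizer ({v} : Set G) ≤ C := by
    intro v hv hv1 x hx
    have hCv : C ≤ Subgroup.centralizer ({v} : Set G) := fun c hc =>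
      (hmemcent v c).2 (hcomm c hc v (hPC hv))
    have hd := heven _ (hcenter v hv1) ((hC ▸ dvd_mul_right 2 n).trans (Subgroup.card_dvd_of_le hCv))
    have hxT : x ∈ T := htiT x v (hPC hv) hv1 (by
      have := (hmemcent v x).1 hx
      rw [this, mul_inv_cancel_right]
      exact hPC hv)
    by_contra hxC
    have h1 := (hinv x ((hmemcent t x).1 hxT) hxC).2 v (hPC hv)
    rw [(hmemcent v x).1 hx, mul_inv_cancel_right] at h1
    exact hv1 (hoddP v hv (mul_eq_one_iff_eq_inv.2 h1))
  have hreal : ∀ z : G, t * z * t = z⁻¹ → z * z ≠ 1 → ∃ h : G, h⁻¹ * z * h ∈ C := by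
    intro z hz hzz
    have hz1 : z ≠ 1 := fun h => hzz (by simp [h])
    set K := Subgroup.normalizer ((Subgroup.zpowers z : Subgroup G) : Set G) with hK
    have htK : t ∈ K := by
      rw [hK]
      refine Subgroup.mem_normalizer_fintype (S := ((Subgroup.zpowers z : Subgroup G) : Set G)) ?_
      intro w hw
      obtain ⟨i, rfl⟩ := Subgroup.mem_zpowers_iff.mp hw
      rw [← conj_zpow, inv_eq_of_mul_eq_one_right htsq, hz, inv_zpow, SetLike.mem_coe]
      exact inv_mem (Subgroup.zpow_mem_zpowers z i)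
    have hKne : K ≠ ⊤ := by
      intro h
      have hn : (Subgroup.zpowers z).Normal := Subgroup.normalizer_eq_top_iff.mp h
      rcases hsimple.eq_bot_or_eq_top_of_normal _ hn with hb | htop
      · exact hz1 (Subgroup.zpowers_eq_bot.mp hb)
      · refine hnab fun x y => ?_
        obtain ⟨i, rfl⟩ := Subgroup.mem_zpowers_iff.mp (htop ▸ Subgroup.mem_top x)
        obtain ⟨j, rfl⟩ := Subgroup.mem_zpowers_iff.mp (htop ▸ Subgroup.mem_top y)
        exact (Commute.zpow_zpow_self z i j).eq
    have hKd := heven K hKne (ht2 ▸ Subgroup.orderOf_dvd_natCard K htK)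
    have hzd : orderOf z ∣ 4 * n :=
      (Subgroup.orderOf_dvd_natCard K (Subgroup.le_normalizer (Subgroup.mem_zpowers z))).trans hKd
    have hz4 : z ^ 4 ≠ 1 := by
      intro h
      have hp : IsPGroup 2 (Subgroup.zpowers z) := by
        obtain ⟨k, -, hk⟩ := (Nat.dvd_prime_pow Nat.prime_two).mp
          (show orderOf z ∣ 2 ^ 2 from orderOf_dvd_of_pow_eq_one (by simpa using h))
        exact IsPGroup.of_card (n := k) (by rw [Nat.card_zpowers, hk])
      obtain ⟨S, hS⟩ := hp.exists_le_sylow
      exact hzz (hexp S z (hS (Subgroup.mem_zpowers z)))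
    have hw : IsPGroup 3 (Subgroup.zpowers (z ^ 4)) := by
      have : orderOf (z ^ 4) ∣ 3 ^ a := by
        refine orderOf_dvd_of_pow_eq_one ?_
        rw [← pow_mul, ← hna]
        exact orderOf_dvd_iff_pow_eq_one.mp hzd
      obtain ⟨k, -, hk⟩ := (Nat.dvd_prime_pow Nat.prime_three).mp this
      exact IsPGroup.of_card (n := k) (by rw [Nat.card_zpowers, hk])
    obtain ⟨Q, hQ⟩ := hw.exists_le_sylow
    obtain ⟨g, hg⟩ := MulAction.exists_smul_eq G P Q
    have hmem : z ^ 4 ∈ (Q : Subgroup G) := hQ (Subgroup.mem_zpowers _)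
    rw [← hg, Sylow.coe_subgroup_smul, Subgroup.mem_pointwise_smul_iff_inv_smul_mem,
      MulAut.smul_def, MulAut.conj_inv_apply] at hmem
    refine ⟨g, hcentP _ hmem (fun h => hz4 ?_) ?_⟩
    · calc z ^ 4 = g * (g⁻¹ * z ^ 4 * g) * g⁻¹ := by group
        _ = 1 := by rw [h]; group
    · rw [hmemcent]
      have hcz : z * z ^ 4 = z ^ 4 * z := ((Commute.refl z).pow_right 4).eq
      calc g⁻¹ * z * g * (g⁻¹ * z ^ 4 * g) = g⁻¹ * (z * z ^ 4) * g := by group
        _ = g⁻¹ * (z ^ 4 * z) * g := by rw [hcz]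
        _ = g⁻¹ * z ^ 4 * g * (g⁻¹ * z * g) := by group
  let D : H76.GenDihedralConfig G n :=
    { C := C, t := t, cardC := hC, tC := htC, tne := htne, tsq := htsq, comm := hcomm,
      sqC := hsqC, cardN := hT,
      ti := fun x c hc hc2 h => hti x c hc (fun h1 => hc2 (by simp [h1])) h,
      inv := hinv, allConj := hallconj, real := hreal, oddn := hnodd }
  have hcases : n = 3 ∨ n = 9 ∨ 27 ≤ n := by
    rcases Nat.lt_or_ge a 3 with h | h
    · interval_cases a
      · exact absurd rfl ha0
      · exact Or.inl (by simpa using hna)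
      · exact Or.inr (Or.inl (by simpa using hna))
    · exact Or.inr (Or.inr (hna ▸ (by simpa using Nat.pow_le_pow_right (show 1 ≤ 3 by norm_num) h)))
  have hcopj : Nat.Coprime D.cls.card (8 * n * n) := by
    have hj := D.card_cls
    obtain ⟨m, hm⟩ := hn3
    have h3n : Nat.Coprime D.cls.card 3 := by
      rw [Nat.coprime_comm, Nat.prime_three.coprime_iff_not_dvd]
      rintro ⟨k, hk⟩
      rw [hk, show 4 * n * n = 3 * (12 * m * m) by rw [hm]; ring] at hj
      omega
    have h2n : Nat.Coprime D.cls.card 2 := by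
      rw [Nat.coprime_comm, Nat.prime_two.coprime_iff_not_dvd]
      rintro ⟨k, hk⟩
      rw [hk, show 4 * n * n = 2 * (2 * n * n) by ring] at hj
      omega
    rw [show 8 * n * n = 2 ^ 3 * (3 ^ a * 3 ^ a) by rw [← hna]; ring]
    exact (h2n.pow_right 3).mul_right ((h3n.pow_right a).mul_right (h3n.pow_right a))
  -- a linear character
  let : CommGroup C := { (inferInstance : Group C) with
    mul_comm := fun x y => Subtype.ext (hcomm x x.2 y y.2) }
  obtain ⟨v, hv1⟩ : ∃ v : P, v ≠ 1 := by
    have : Nontrivial P := Finite.one_lt_card_iff_nontrivial.mp (by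
      show 1 < n
      rw [hna]; exact Nat.one_lt_pow ha0 (by norm_num))
    exact exists_ne 1
  let p : C := ⟨v, hPC v.2⟩
  have hp1 : p ≠ 1 := fun h => hv1 (Subtype.ext (congrArg Subtype.val h : (v : G) = 1))
  obtain ⟨φ, hφ⟩ := CommGroup.exists_apply_ne_one_of_hasEnoughRootsOfUnity C ℂ hp1
  refine D.false_of_config hcases hcopj (φ * φ) (fun c hc => ?_) ⟨p, fun h => hφ ?_⟩
  · rw [MonoidHom.mul_apply, ← map_mul]
    have : c * c = 1 := hc
    rw [this, map_one]
  · have hpn : p ^ n = 1 := Subtype.ext (hpow v v.2)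
    have h4 : φ p ^ 4 = 1 := by
      rw [MonoidHom.mul_apply] at h
      rw [← h, ← pow_two, ← pow_mul]
    obtain ⟨k, hk⟩ := hnodd
    have hgcd : Nat.Coprime 4 n := (Nat.Coprime.pow_left 2 (Nat.coprime_two_left.mpr ⟨k, hk⟩) :
      Nat.Coprime (2 ^ 2) n)
    have hn' : φ p ^ n = 1 := by rw [← map_pow, hpn, map_one]
    exact orderOf_eq_one_iff.mp (Nat.eq_one_of_dvd_coprimes hgcd (orderOf_dvd_of_pow_eq_one h4)
      (orderOf_dvd_of_pow_eq_one hn'))

end Cfsg.Agent.S4018
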