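import Cfsg.Statements.S4113
import Mathlib

set_option autoImplicit false
open Cfsg

namespace Cfsg.Agent.S4113

/-- Let G be a finite group, M ≤ N non-trivial proper normal subgroups, and H a subgroup with HM = G and H ∩ M = 1. Then every element of G outside N acts fixed-point-freely on M (C_G(x) ≤ N for every x ∈ M, x ≠ 1) if and only if H ∩ gHg⁻¹ ≤ H ∩ N for every g outside H, with H proper and non-trivial and H ∩ N proper in H. -/
theorem result {G : Type*} [Group G] [Finite G] (N M : Subgroup G) [N.Normal] [M.Normal] (hMN : M ≤ N) (hM1 : M ≠ ⊥) (hN2 : N ≠ ⊤)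
    (H : Subgroup G) (hHM : H ⊔ M = ⊤) (hHM' : H ⊓ M = ⊥) :
    (∀ x ∈ M, x ≠ 1 → Subgroup.centralizer ({x} : Set G) ≤ N) ↔
      (H ≠ ⊥ ∧ H ≠ ⊤ ∧ H ⊓ N < H ∧ ∀ g : G, g ∉ H → H ⊓ H.map (MulAut.conj g).toMonoidHom ≤ N) := by
  classical
  have hdec : ∀ g : G, ∃ m ∈ M, ∃ h ∈ H, g = m * h := by
    intro g
    have hg : g ∈ M ⊔ H := by rw [sup_comm, hHM]; exact Subgroup.mem_top g
    obtain ⟨m, hm, h, hh, e⟩ := Subgroup.mem_sup_of_normal_left.1 hg
    exact ⟨m, hm, h, hh, e.symm⟩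
  have hHN : ¬ H ≤ N := fun h => hN2 (top_le_iff.1 (hHM ▸ sup_le h hMN))
  constructor
  · intro hfpf
    refine ⟨fun h => hN2 (top_le_iff.1 ?_), fun h => hM1 ?_, ?_, ?_⟩
    · rw [← hHM, h, bot_sup_eq]; exact hMN
    · rw [← hHM', h, top_inf_eq]
    · exact lt_of_le_of_ne inf_le_left fun h => hHN (h ▸ inf_le_right)
    · intro g hg x hx
      obtain ⟨hxH, y', hy', hxy⟩ := hx
      obtain ⟨m, hm, h, hh, rfl⟩ := hdec g
      set y := h * y' * h⁻¹ with hy
      have hyH : y ∈ H := mul_mem (mul_mem hh hy') (inv_mem hh)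
      have hxm : x = m * y * m⁻¹ := by
        have hxy' : (m * h) * y' * (m * h)⁻¹ = x := hxy
        rw [← hxy', hy]; group
      have hM' : x * y⁻¹ ∈ M := by
        have : x * y⁻¹ = m * (y * m⁻¹ * y⁻¹) := by rw [hxm]; group
        rw [this]
        exact M.mul_mem hm ((inferInstance : M.Normal).conj_mem _ (M.inv_mem hm) y)
      have hxy1 : x * y⁻¹ = 1 := Subgroup.mem_bot.1 (hHM' ▸ ⟨H.mul_mem hxH (H.inv_mem hyH), hM'⟩)
      have hm1 : m ≠ 1 := fun e => hg (by rw [e, one_mul]; exact hh)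
      refine hfpf m hm hm1 (Subgroup.mem_centralizer_singleton_iff.2 ?_)
      have e : x = y := mul_inv_eq_one.1 hxy1
      have : m * y = y * m := by
        calc m * y = (m * y * m⁻¹) * m := by group
          _ = y * m := by rw [← hxm, e]
      rw [e, this]
  · rintro ⟨-, -, -, hint⟩ x hxM hx1 g hgx
    by_contra hgN
    obtain ⟨m, hm, h, hh, rfl⟩ := hdec g
    have hhN : h ∉ N := fun e => hgN (mul_mem (hMN hm) e)
    -- conjugation by `M` covers the coset
    have hfree : ∀ u ∈ M, u * h = h * u → u = 1 := by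
      intro u hu hc
      by_contra hu1
      have huH : u ∉ H := fun e => hu1 (Subgroup.mem_bot.1 (hHM' ▸ ⟨e, hu⟩))
      exact hhN (hint u huH ⟨hh, h, hh, (mul_inv_eq_iff_eq_mul.2 hc : u * h * u⁻¹ = h)⟩)
    let f : M → M := fun u => ⟨u * h * (u : G)⁻¹ * h⁻¹, by
      have : (u : G) * h * (u : G)⁻¹ * h⁻¹ = u * (h * (u : G)⁻¹ * h⁻¹) := by group
      rw [this]
      exact mul_mem u.2 ((inferInstance : M.Normal).conj_mem _ (inv_mem u.2) h)⟩
    have hf : Function.Injective f := by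
      intro u v e
      have e : (u : G) * h * (u : G)⁻¹ = v * h * (v : G)⁻¹ :=
        mul_right_cancel (congrArg Subtype.val e)
      refine Subtype.ext (inv_mul_eq_one.1 (hfree _ (mul_mem (inv_mem v.2) u.2) ?_)).symm
      calc (v : G)⁻¹ * u * h = (v : G)⁻¹ * ((u : G) * h * (u : G)⁻¹) * u := by group
        _ = (v : G)⁻¹ * (v * h * (v : G)⁻¹) * u := by rw [e]
        _ = h * ((v : G)⁻¹ * u) := by group
    obtain ⟨u, hu⟩ := Finite.injective_iff_surjective.1 hf ⟨m, hm⟩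
    have hu : (u : G) * h * (u : G)⁻¹ * h⁻¹ = m := congrArg Subtype.val hu
    have hc := Subgroup.mem_centralizer_singleton_iff.1 hgx
    refine hx1 ?_
    have h1 : (u : G)⁻¹ * x * u = 1 := hfree _ (mul_mem (mul_mem (inv_mem u.2) hxM) u.2) (by
      calc (u : G)⁻¹ * x * u * h = (u : G)⁻¹ * (x * (u * h * (u : G)⁻¹ * h⁻¹ * h)) * u := by group
        _ = (u : G)⁻¹ * ((u * h * (u : G)⁻¹ * h⁻¹ * h) * x) * u := by rw [hu, hc]
        _ = h * ((u : G)⁻¹ * x * u) := by group)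
    calc x = u * ((u : G)⁻¹ * x * u) * (u : G)⁻¹ := by group
      _ = 1 := by rw [h1]; group

end Cfsg.Agent.S4113
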