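import Cfsg.Statements.S4137
import Cfsg.Agent.H63.RankThreeGen.Main
import Cfsg.Agent.H31.PSLRingEquiv
import Cfsg.Agent.S5748

set_option autoImplicit false
open Cfsg

namespace Cfsg.Agent.S4137

open Cfsg.Agent.H63.RankThree

/-- Let G be a finite group with trivial centre and at most three distinct sizes of conjugacy classes other than 1. Then G is solvable or G is isomorphic to PSL₂(2^a) for some a ≥ 1. -/
theorem result {G : Type*} [Group G] [Finite G]
    (hZ : Subgroup.center G = ⊥) (h : Nat.card {n : ℕ | 1 < n ∧ ∃ x : G, (Subgroup.centralizer ({x} : Set G)).index = n} ≤ 3) :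
    Group.IsSolvable G ∨ ∃ a : ℕ, 0 < a ∧ Nonempty (G ≃* Matrix.ProjectiveSpecialLinearGroup (Fin 2) (GaloisField 2 a)) := by
  refine or_iff_not_imp_left.2 fun hns => ?_
  have hCA := isCA_of_three hZ hns h
  haveI := hCA.isSimpleGroup hns
  have hnc : ¬ IsMulCommutative G := fun hc => hns (Group.isSolvable_of_comm fun p q => hc.is_comm.comm p q)
  obtain ⟨F, i1, i2, f, hf, hcard, ⟨e⟩⟩ := (S5748.result hnc).1 fun a b c _ hb _ hab hbc =>
    hCA b hb a (mem_C.2 hab) c (mem_C.2 hbc.symm)
  haveI : Fact (Nat.Prime 2) := ⟨Nat.prime_two⟩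
  haveI : Fintype (GaloisField 2 f) := Fintype.ofFinite _
  have hcard' : Fintype.card (GaloisField 2 f) = Fintype.card F := by
    rw [hcard, Fintype.card_eq_nat_card, GaloisField.card 2 f (by omega)]
  obtain ⟨e'⟩ := H31.nonempty_psl_ringEquiv (FiniteField.ringEquivOfCardEq hcard').symm (Fin 2)
  exact ⟨f, by omega, ⟨e.trans e'⟩⟩

end Cfsg.Agent.S4137
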