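import Cfsg.Statements.S4187
import Cfsg.Agent.H13.RealSizes.Core

set_option autoImplicit false
open Cfsg

namespace Cfsg.Agent.S4187

/-- Let G be a finite group. Call an element real when it is conjugate to its inverse, and consider the graph whose vertices are the primes dividing the size of some conjugacy class of real elements, two distinct primes being adjacent when their product divides such a class size. If this graph is disconnected — its vertex set splits into two non-empty parts such that no real class size is divisible by a prime from each part — then G is solvable. -/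
theorem result {G : Type*} [Group G] [Finite G] (π₁ π₂ : Set ℕ) (h₁ : π₁.Nonempty) (h₂ : π₂.Nonempty) (hcover : ∀ q : ℕ, q.Prime → (∃ n ∈ {n : ℕ | ∃ x : G, IsConj x x⁻¹ ∧ (Subgroup.centralizer ({x} : Set G)).index = n}, q ∣ n) → q ∈ π₁ ∨ q ∈ π₂) (hsub : ∀ q ∈ π₁ ∪ π₂, q.Prime ∧ ∃ n ∈ {n : ℕ | ∃ x : G, IsConj x x⁻¹ ∧ (Subgroup.centralizer ({x} : Set G)).index = n}, q ∣ n) (hdisj : Disjoint π₁ π₂) (hnoedge : ∀ a ∈ π₁, ∀ b ∈ π₂, ∀ n ∈ {n : ℕ | ∃ x : G, IsConj x x⁻¹ ∧ (Subgroup.centralizer ({x} : Set G)).index = n}, ¬ (a ∣ n ∧ b ∣ n)) : Group.IsSolvable G := by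
  have hvert : ∀ q ∈ π₁ ∪ π₂, q.Prime ∧ ∃ x : G,
      IsConj x x⁻¹ ∧ q ∣ (H13.RealSizes.cent x).index := fun q hq => by
    obtain ⟨hp, n, ⟨x, hx, rfl⟩, hd⟩ := hsub q hq
    exact ⟨hp, x, hx, hd⟩
  by_cases h2 : 2 ∈ π₁
  · refine H13.RealSizes.solvable_of_split π₂ π₁ (Set.disjoint_left.1 hdisj h2) h₂ ?_
      (fun q hq => hvert q (Or.inr hq)) ?_
    · rintro q hq ⟨x, hx, hd⟩
      exact (hcover q hq ⟨_, ⟨x, hx, rfl⟩, hd⟩).symm
    · intro a ha b hb x hx hab
      exact hnoedge b hb a ha _ ⟨x, hx, rfl⟩ ⟨hab.2, hab.1⟩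
  · refine H13.RealSizes.solvable_of_split π₁ π₂ h2 h₁ ?_
      (fun q hq => hvert q (Or.inl hq)) ?_
    · rintro q hq ⟨x, hx, hd⟩
      exact hcover q hq ⟨_, ⟨x, hx, rfl⟩, hd⟩
    · intro a ha b hb x hx hab
      exact hnoedge a ha b hb _ ⟨x, hx, rfl⟩ hab

end Cfsg.Agent.S4187
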