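import Cfsg.Statements.S4190
import Cfsg.Agent.H35.ClassPrime.Linear
import Cfsg.Agent.H35.ClassPrime.Glue
import Cfsg.Agent.H35.ClassPrime.Reduce
import Cfsg.Agent.H35.ClassPrime.Prim
import Cfsg.Agent.H35.ClassPrime.Comp
import Cfsg.Agent.H35.ClassPrime.Num
import Cfsg.Agent.H35.ClassPrime.Symp

set_option autoImplicit false
open Cfsg

namespace Cfsg.Agent.S4190

/-- Let G be a finite solvable group and p a prime dividing the index of the Fitting subgroup of G. Then the number of conjugacy classes of G is at least p/(3·log₂ p). -/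
theorem result {G : Type*} [Group G] [Finite G] (hG : Group.IsSolvable G) (p : ℕ) [Fact p.Prime] (hp : p ∣ (Cfsg.fittingSubgroup G).index) : (p : ℝ) / (3 * Real.logb 2 p) ≤ Nat.card (ConjClasses G) := by
  exact H35.ClassPrime.reduce (H35.ClassPrime.classBound
    (H35.ClassPrime.compData (H35.ClassPrime.linAbelian
      (H35.ClassPrime.primAbelian H35.ClassPrime.sympBound)) H39.BaseThree.colourAll)
    H35.ClassPrime.numBound) hG p hp

end Cfsg.Agent.S4190
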