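import Cfsg.Statements.S4355
import Cfsg.Agent.H34.TwoAbelian
import Cfsg.Agent.H93.Group

set_option autoImplicit false
open Cfsg

namespace Cfsg.Agent.S4355

/-- If every element of 2-power order of a finite group has a conjugacy class of odd size, then the Sylow 2-subgroups of the group are abelian. -/
theorem result {G : Type*} [Group G] [Finite G]
    (h : ∀ x : G, (∃ k : ℕ, orderOf x = 2 ^ k) → ¬ 2 ∣ (Subgroup.centralizer ({x} : Set G)).index) (P : Sylow 2 G) :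
    IsMulCommutative P := by
  haveI : Fact (Nat.Prime 2) := ⟨Nat.prime_two⟩
  refine ⟨⟨fun a b => Subtype.ext (Cfsg.Agent.H34.TwoAbelian.abelian_of_conj_center
    (F := Cfsg.groupFusionSystem (P : Subgroup G)) P.isPGroup'
    (Cfsg.Agent.H93.isSaturated_groupFusionSystem P) ?_ a a.2 b b.2)⟩⟩
  intro x hx
  obtain ⟨k, hk⟩ := P.isPGroup' ⟨x, hx⟩
  have hxk : x ^ 2 ^ k = 1 := by simpa using congrArg Subtype.val hk
  obtain ⟨j, -, hj⟩ := (Nat.dvd_prime_pow Nat.prime_two).mp (orderOf_dvd_of_pow_eq_one hxk)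
  set C := Subgroup.centralizer ({x} : Set G)
  have hCodd : ¬ 2 ∣ C.index := h x ⟨j, hj⟩
  obtain ⟨T⟩ : Nonempty (Sylow 2 C) := inferInstance
  have hT : IsPGroup 2 ((T : Subgroup C).map C.subtype) := T.isPGroup'.map _
  have hidx : ¬ 2 ∣ ((T : Subgroup C).map C.subtype).index := by
    rw [Subgroup.index_map_subtype]
    exact Nat.Prime.not_dvd_mul Nat.prime_two T.not_dvd_index hCodd
  obtain ⟨g, hg⟩ := MulAction.exists_smul_eq G (hT.toSylow hidx) P
  have hxT : ∀ t ∈ ((T : Subgroup C).map C.subtype), Commute t x := by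
    rintro _ ⟨t, -, rfl⟩
    exact (Subgroup.mem_centralizer_iff.mp t.2 x rfl).symm
  have hxc : ∀ s ∈ (P : Subgroup G), Commute s (g * x * g⁻¹) := by
    intro s hs
    rw [← hg] at hs
    obtain ⟨t, ht, rfl⟩ := Subgroup.mem_map.mp hs
    exact Commute.map (hxT t ((hT.toSylow_coe hidx) ▸ ht)) (MulAut.conj g).toMonoidHom
  have hzP : g * x * g⁻¹ ∈ (P : Subgroup G) := by
    have hx' : x ∈ C := Subgroup.mem_centralizer_iff.mpr (by rintro y rfl; rfl)
    have hcomm : ∀ t : C, t * ⟨x, hx'⟩ = ⟨x, hx'⟩ * t := fun t =>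
      Subtype.ext (Subgroup.mem_centralizer_iff.mp t.2 x rfl).symm
    have hxT' : (⟨x, hx'⟩ : C) ∈ (T : Subgroup C) := by
      haveI : (Subgroup.zpowers (⟨x, hx'⟩ : C)).Normal := ⟨fun n hn c => by
        obtain ⟨i, rfl⟩ := Subgroup.mem_zpowers_iff.mp hn
        rw [((show Commute c ⟨x, hx'⟩ from hcomm c).zpow_right i).eq, mul_inv_cancel_right]
        exact Subgroup.mem_zpowers_iff.mpr ⟨i, rfl⟩⟩
      have hp : IsPGroup 2 (Subgroup.zpowers (⟨x, hx'⟩ : C)) := by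
        refine IsPGroup.of_card (n := j) ?_
        rw [Nat.card_zpowers, ← hj, Subgroup.orderOf_mk]
      obtain ⟨T', hT'⟩ := hp.exists_le_sylow
      obtain ⟨c, hc⟩ := MulAction.exists_smul_eq C T' T
      have := hT' (Subgroup.mem_zpowers (⟨x, hx'⟩ : C))
      rw [← hc]
      refine ⟨⟨x, hx'⟩, this, ?_⟩
      simp [MulAut.conj_apply, hcomm c]
    rw [← hg]
    refine ⟨x, ?_, rfl⟩
    exact (hT.toSylow_coe hidx).symm ▸ ⟨⟨x, hx'⟩, hxT', rfl⟩
  refine ⟨g * x * g⁻¹, Subgroup.mem_inf.mpr ⟨hzP, Subgroup.mem_centralizer_iff.mpr fun s hs => (hxc s hs).eq⟩,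
    Cfsg.conjHom (Subgroup.zpowers x) g, ?_, rfl⟩
  refine (Cfsg.Agent.H93.mem_groupFusion P).2 ⟨Subgroup.zpowers_le.mpr hx, fun y => ?_, g, fun y => rfl⟩
  obtain ⟨i, hi⟩ := Subgroup.mem_zpowers_iff.mp y.2
  show g * (y : G) * g⁻¹ ∈ _
  rw [← hi, ← conj_zpow]
  exact zpow_mem hzP i

end Cfsg.Agent.S4355
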