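import Cfsg.Statements.S4194
import Cfsg.Agent.S4355

set_option autoImplicit false
open Cfsg

namespace Cfsg.Agent.S4194

/-- A finite group G has commutative Sylow 2-subgroups if and only if every 2-element of G (element of order a power of 2) is 2-central, that is, its centralizer contains a Sylow 2-subgroup of G. -/
theorem result {G : Type*} [Group G] [Finite G] (P : Sylow 2 G) :
    IsMulCommutative (P : Subgroup G) ↔ ∀ x : G, (∃ k : ℕ, orderOf x = 2 ^ k) → (∃ Q : Sylow 2 G, (Q : Subgroup G) ≤ Subgroup.centralizer ({x} : Set G)) := by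
  haveI : Fact (Nat.Prime 2) := ⟨Nat.prime_two⟩
  constructor
  · intro hP x hx
    have hxp : IsPGroup 2 (Subgroup.zpowers x) := by
      obtain ⟨j, hj⟩ := hx
      refine IsPGroup.of_card (n := j) ?_
      rw [Nat.card_zpowers, hj]
    obtain ⟨Q, hQ⟩ := hxp.exists_le_sylow
    refine ⟨Q, fun q hq => Subgroup.mem_centralizer_iff.mpr ?_⟩
    rintro y rfl
    haveI := hP
    have hab := (Q.equiv P)
    have hxQ : y ∈ (Q : Subgroup G) := hQ (Subgroup.mem_zpowers y)
    have h2 : (⟨y, hxQ⟩ : Q) * ⟨q, hq⟩ = ⟨q, hq⟩ * ⟨y, hxQ⟩ := by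
      apply hab.injective
      rw [map_mul, map_mul]
      exact hP.is_comm.comm _ _
    exact congrArg Subtype.val h2
  · intro h
    refine Cfsg.Agent.S4355.result (fun x hx => ?_) P
    obtain ⟨Q, hQ⟩ := h x hx
    exact fun h2 => Q.not_dvd_index (h2.trans (Subgroup.index_dvd_of_le hQ))

end Cfsg.Agent.S4194
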