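import Cfsg.Statements.S4298
import Cfsg.Agent.H90.FrobeniusSL2

set_option autoImplicit false
open Cfsg

namespace Cfsg.Agent.S4298

/-- Images of the matrices over `ZMod 3`, indexed by their entries read in base 3. -/
def tab : Fin 81 → ZMod 5 × ZMod 5 × ZMod 5 × ZMod 5 :=
  ![(0, 0, 0, 0),
    (0, 0, 0, 0),
    (0, 0, 0, 0),
    (0, 0, 0, 0),
    (0, 0, 0, 0),
    (0, 0, 0, 0),
    (0, 0, 0, 0),
    (0, 0, 0, 0),
    (0, 0, 0, 0),
    (0, 0, 0, 0),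
    (0, 0, 0, 0),
    (0, 0, 0, 0),
    (0, 0, 0, 0),
    (0, 0, 0, 0),
    (0, 0, 0, 0),
    (0, 4, 1, 0),
    (2, 4, 3, 4),
    (3, 2, 1, 1),
    (0, 0, 0, 0),
    (0, 0, 0, 0),
    (0, 0, 0, 0),
    (0, 1, 4, 0),
    (2, 3, 4, 4),
    (3, 1, 2, 1),
    (0, 0, 0, 0),
    (0, 0, 0, 0),
    (0, 0, 0, 0),
    (0, 0, 0, 0),
    (1, 0, 0, 1),
    (0, 0, 0, 0),
    (0, 0, 0, 0),
    (1, 2, 1, 3),
    (0, 0, 0, 0),
    (0, 0, 0, 0),
    (3, 3, 4, 1),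
    (0, 0, 0, 0),
    (0, 0, 0, 0),
    (1, 1, 2, 3),
    (0, 0, 0, 0),
    (0, 0, 0, 0),
    (0, 0, 0, 0),
    (0, 2, 2, 0),
    (4, 2, 1, 2),
    (0, 0, 0, 0),
    (0, 0, 0, 0),
    (0, 0, 0, 0),
    (3, 4, 3, 1),
    (0, 0, 0, 0),
    (4, 1, 2, 2),
    (0, 0, 0, 0),
    (0, 0, 0, 0),
    (0, 0, 0, 0),
    (0, 0, 0, 0),
    (3, 0, 0, 2),
    (0, 0, 0, 0),
    (0, 0, 0, 0),
    (4, 0, 0, 4),
    (0, 0, 0, 0),
    (0, 0, 0, 0),
    (2, 2, 1, 4),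
    (0, 0, 0, 0),
    (0, 0, 0, 0),
    (4, 3, 4, 2),
    (0, 0, 0, 0),
    (0, 0, 0, 0),
    (2, 1, 2, 4),
    (0, 0, 0, 0),
    (2, 0, 0, 3),
    (0, 0, 0, 0),
    (1, 4, 3, 3),
    (0, 0, 0, 0),
    (0, 0, 0, 0),
    (0, 0, 0, 0),
    (0, 0, 0, 0),
    (4, 4, 3, 2),
    (1, 3, 4, 3),
    (0, 0, 0, 0),
    (0, 0, 0, 0),
    (0, 0, 0, 0),
    (0, 3, 3, 0),
    (0, 0, 0, 0)]

/-- The embedding of `SL(2,3)` into `SL(2,5)` on matrices. -/
def img (A : Matrix (Fin 2) (Fin 2) (ZMod 3)) : Matrix (Fin 2) (Fin 2) (ZMod 5) :=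
  let t := tab (Fin.ofNat 81 (27 * (A 0 0).val + 9 * (A 0 1).val + 3 * (A 1 0).val + (A 1 1).val))
  !![t.1, t.2.1; t.2.2.1, t.2.2.2]

/-- Determinant of the image. -/
theorem img_det : ∀ A : Matrix (Fin 2) (Fin 2) (ZMod 3), A.det = 1 → (img A).det = 1 := by
  intro A
  rw [Matrix.det_fin_two, Matrix.det_fin_two, Matrix.eta_fin_two A]
  generalize A 0 0 = a, A 0 1 = b, A 1 0 = c, A 1 1 = d
  revert a b c d
  decide +kernel

/-- Multiplicativity, checked on the group. -/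
theorem img_mul_group : ∀ a b c d e f g h : ZMod 3, a * d - b * c = 1 → e * h - f * g = 1 →
    img (!![a, b; c, d] * !![e, f; g, h]) = img !![a, b; c, d] * img !![e, f; g, h] := by
  decide +kernel

/-- Multiplicativity. -/
theorem img_mul (A B : Matrix (Fin 2) (Fin 2) (ZMod 3)) (hA : A.det = 1) (hB : B.det = 1) :
    img (A * B) = img A * img B := by
  rw [Matrix.det_fin_two] at hA hB
  rw [Matrix.eta_fin_two A, Matrix.eta_fin_two B]
  exact img_mul_group _ _ _ _ _ _ _ _ hA hB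

/-- Injectivity, checked entrywise. -/
theorem img_inj_group : ∀ a b c d e f g h : ZMod 3, a * d - b * c = 1 → e * h - f * g = 1 →
    img !![a, b; c, d] = img !![e, f; g, h] → a = e ∧ b = f ∧ c = g ∧ d = h := by
  decide +kernel

/-- Injectivity. -/
theorem img_inj (A B : Matrix (Fin 2) (Fin 2) (ZMod 3)) (hA : A.det = 1) (hB : B.det = 1)
    (h : img A = img B) : A = B := by
  rw [Matrix.det_fin_two] at hA hB
  rw [Matrix.eta_fin_two A, Matrix.eta_fin_two B] at h ⊢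
  obtain ⟨h1, h2, h3, h4⟩ := img_inj_group _ _ _ _ _ _ _ _ hA hB h
  rw [h1, h2, h3, h4]


/-- The group SL(2,3) of order 24 (the binary tetrahedral group) occurs as a Frobenius complement of some finite Frobenius group. -/
theorem result :
    ∃ (L : Type) (_ : Group L) (_ : Finite L) (H : Subgroup L), Cfsg.IsFrobeniusComplement H ∧ Nonempty (H ≃* Matrix.SpecialLinearGroup (Fin 2) (ZMod 3)) := by
  haveI : Fact (Nat.Prime 5) := ⟨by norm_num⟩
  haveI : Nontrivial (Matrix.SpecialLinearGroup (Fin 2) (ZMod 3)) :=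
    ⟨⟨1, ⟨!![1, 1; 0, 1], by decide +kernel⟩, fun h =>
      (by decide +kernel : (0 : ZMod 3) ≠ 1) (congrFun (congrFun (congrArg Subtype.val h) 0) 1)⟩⟩
  let f : Matrix.SpecialLinearGroup (Fin 2) (ZMod 3) →* Matrix.SpecialLinearGroup (Fin 2) (ZMod 5) :=
    MonoidHom.mk' (fun A => ⟨img A.1, img_det A.1 A.2⟩) fun A B =>
      Subtype.ext (img_mul A.1 B.1 A.2 B.2)
  have hf : Function.Injective f := fun A B h =>
    Subtype.ext (img_inj A.1 B.1 A.2 B.2 (congrArg Subtype.val h))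
  obtain ⟨L, i1, i2, C, hC, ⟨e⟩⟩ := Cfsg.Agent.H90.exists_fc_of_isMatFPF
    (Cfsg.Agent.H90.isMatFPF_of_SL2 f hf (by
      intro p hp hd h0
      rw [Nat.card_eq_fintype_card, show Fintype.card (Matrix.SpecialLinearGroup (Fin 2) (ZMod 3)) = 24 by decide +kernel] at hd
      rw [ZMod.natCast_eq_zero_iff] at h0
      have h1 := Nat.le_of_dvd (by norm_num) hd
      rw [Nat.prime_dvd_prime_iff_eq (by norm_num) hp] at h0
      subst h0
      omega))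
  exact ⟨L, i1, i2, C, hC, ⟨e.symm⟩⟩


end Cfsg.Agent.S4298
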