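import Cfsg.Statements.S4347


set_option autoImplicit false
open Cfsg

namespace Cfsg.Agent.S4347

/-- Let G be a finite group and p a prime. Say a Sylow p-subgroup Q is redundant when every element of p-power order lies in some Sylow p-subgroup other than Q. Then G has no redundant Sylow p-subgroup if and only if some element of p-power order lies in exactly one Sylow p-subgroup. -/
theorem result {G : Type*} [Group G] [Finite G]
    (p : ℕ) [Fact p.Prime] :
    (¬ ∃ Q : Sylow p G, ∀ x : G, (∃ k : ℕ, orderOf x = p ^ k) → ∃ P : Sylow p G, P ≠ Q ∧ x ∈ P) ↔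
      ∃ x : G, (∃ k : ℕ, orderOf x = p ^ k) ∧ ∃! P : Sylow p G, x ∈ P := by
  constructor
  · intro h
    by_contra hne
    simp only [not_exists, not_and] at hne
    obtain ⟨Q⟩ := Sylow.nonempty (p := p) (G := G)
    apply h
    refine ⟨Q, fun x hx => ?_⟩
    by_contra hQ
    push_neg at hQ
    obtain ⟨k, hk⟩ := hx
    obtain ⟨P, hP⟩ := (IsPGroup.of_card (n := k) ((Nat.card_zpowers x).trans hk)).exists_le_sylow
    have hxP : x ∈ P := hP (Subgroup.mem_zpowers x)
    have hPQ : P = Q := by_contra fun hc => hQ P hc hxP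
    subst hPQ
    exact hne x ⟨k, hk⟩ ⟨P, hxP, fun R hR => by_contra fun hc => hQ R hc hR⟩
  · rintro ⟨x, ⟨k, hk⟩, P, hP, huniq⟩ ⟨Q, hQ⟩
    obtain ⟨g, hg⟩ := MulAction.exists_smul_eq G P Q
    obtain ⟨R, hR, hmem⟩ := hQ (MulAut.conj g x) ⟨k, by rw [MulEquiv.orderOf_eq, hk]⟩
    apply hR
    have : g⁻¹ • R = P := huniq _ (by
      change x ∈ ((g⁻¹ • R : Sylow p G) : Subgroup G)
      rw [Sylow.coe_subgroup_smul, Subgroup.mem_pointwise_smul_iff_inv_smul_mem]
      simpa [MulAut.smul_def] using (show MulAut.conj g x ∈ (R : Subgroup G) from hmem))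
    rw [← hg, ← this, smul_inv_smul]


end Cfsg.Agent.S4347
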