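import Cfsg.Statements.S4370
import Cfsg.Agent.H21.UniqueSubgroup
import Cfsg.Agent.H29.SmallCentralizer
import Cfsg.Agent.H73.StronglyEmbedded

set_option autoImplicit false
open Cfsg

namespace Cfsg.Agent.S4370

open QuaternionGroup in
theorem quaternion_centralizer_cyclic {n : ℕ} [NeZero n] (q : QuaternionGroup n)
    (hq : q ∉ Subgroup.center (QuaternionGroup n)) :
    ∃ g, Subgroup.centralizer ({q} : Set (QuaternionGroup n)) ≤ Subgroup.zpowers g := by
  have hcen : ∀ i : ZMod (2 * n), i + i = 0 → (a i : QuaternionGroup n) ∈ Subgroup.center _ := by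
    intro i hi
    rw [Subgroup.mem_center_iff]
    have hneg : i = -i := eq_neg_of_add_eq_zero_left hi
    rintro (j | j)
    · rw [a_mul_a, a_mul_a, add_comm]
    · rw [xa_mul_a, a_mul_xa, sub_eq_add_neg, ← hneg]
  rcases q with i | j
  · refine ⟨a 1, fun c hc => ?_⟩
    rcases c with l | l
    · exact ⟨(l.val : ℤ), by
        show (a 1 : QuaternionGroup n) ^ (l.val : ℤ) = a l
        rw [zpow_natCast, a_one_pow, ZMod.natCast_zmod_val]⟩
    · exfalso
      have h := Subgroup.mem_centralizer_singleton_iff.1 hc
      rw [xa_mul_a, a_mul_xa] at h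
      exact hq (hcen i (by linear_combination xa.inj h))
  · refine ⟨xa j, fun c hc => ?_⟩
    have h := Subgroup.mem_centralizer_singleton_iff.1 hc
    have h2 : (xa j : QuaternionGroup n) ^ 2 = a (n : ZMod (2 * n)) := xa_sq j
    have hn2 : ∀ i : ZMod (2 * n), i + i = 0 → i = 0 ∨ i = (n : ZMod (2 * n)) := by
      intro i hi
      have hdvd : 2 * n ∣ i.val + i.val := by
        rw [← ZMod.natCast_eq_zero_iff, Nat.cast_add, ZMod.natCast_zmod_val, hi]
      obtain ⟨c, hc⟩ := hdvd
      have hlt := ZMod.val_lt i
      have hc2 : c = 0 ∨ c = 1 := by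
        rcases Nat.lt_or_ge c 2 with h | h
        · omega
        · have := Nat.mul_le_mul_left (2 * n) h
          omega
      rcases hc2 with rfl | rfl
      · exact Or.inl ((ZMod.val_eq_zero i).1 (by omega))
      · right
        rw [← ZMod.natCast_zmod_val i, show i.val = n by omega]
    have hnn : (n : ZMod (2 * n)) + n = 0 := by
      rw [← Nat.cast_add, ← two_mul, ZMod.natCast_self]
    rcases c with l | l
    · rw [a_mul_xa, xa_mul_a] at h
      rcases hn2 l (by linear_combination -(xa.inj h)) with rfl | rfl
      · exact one_mem _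
      · exact h2 ▸ pow_mem (Subgroup.mem_zpowers _) 2
    · rw [xa_mul_xa, xa_mul_xa] at h
      rcases hn2 (l - j) (by linear_combination -(a.inj h)) with h' | h'
      · rw [sub_eq_zero.1 h']; exact Subgroup.mem_zpowers _
      · have : (xa l : QuaternionGroup n) = xa j * xa j ^ 2 := by
          rw [h2, xa_mul_a, ← h', add_sub_cancel]
        rw [this]
        exact mul_mem (Subgroup.mem_zpowers _) (pow_mem (Subgroup.mem_zpowers _) 2)


/-- Let G be a finite non-abelian nilpotent group. Then the centralizer of every non-central element of G is cyclic if and only if G is isomorphic to the direct product of a generalized quaternion group and a cyclic group of odd order. -/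
theorem result {G : Type*} [Group G] [Finite G] (hG : Group.IsNilpotent G)
    (hna : ¬ IsMulCommutative G) :
    (∀ x : G, x ∉ Subgroup.center G → IsCyclic (Subgroup.centralizer ({x} : Set G))) ↔
      ∃ (k m : ℕ), 1 ≤ k ∧ Odd m ∧ Nonempty (G ≃* QuaternionGroup (2 ^ k) × Multiplicative (ZMod m)) := by
  constructor
  · intro hcyc
    -- a prime with a non-central Sylow subgroup
    obtain ⟨p, hp, P, hPc⟩ : ∃ p : ℕ, ∃ _ : Fact p.Prime, ∃ P : Sylow p G,
        ¬ (P : Subgroup G) ≤ Subgroup.center G := by
      by_contra hcon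
      push Not at hcon
      apply hna
      have h1 : (Subgroup.center G).index = 1 := by
        by_contra h
        obtain ⟨p, hp, hpd⟩ := Nat.exists_prime_and_dvd h
        have : Fact p.Prime := ⟨hp⟩
        obtain ⟨P⟩ : Nonempty (Sylow p G) := inferInstance
        exact P.not_dvd_index (hpd.trans (Subgroup.index_dvd_of_le (hcon p ⟨hp⟩ P)))
      rw [Subgroup.index_eq_one] at h1
      exact ⟨⟨fun a b => Subgroup.mem_center_iff.1 (h1 ▸ Subgroup.mem_top b) a⟩⟩
    obtain ⟨x, hxP, hxZ⟩ := SetLike.not_le_iff_exists.1 hPc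
    have hnorm : ∀ (q : ℕ) [Fact q.Prime] (Q : Sylow q G), (Q : Subgroup G).Normal := fun q _ Q =>
      Sylow.normal_of_normalizerCondition Group.normalizerCondition_of_isNilpotent Q
    have hPn := hnorm p P
    obtain ⟨H, hc⟩ := Subgroup.exists_right_complement'_of_coprime P.card_coprime_index
    have hHcard : Nat.card H = (P : Subgroup G).index := hc.symm.index_eq_card.symm
    -- the complement centralizes the Sylow subgroup
    have hHC : H ≤ Subgroup.centralizer ((P : Subgroup G) : Set G) := by
      set C := Subgroup.centralizer ((P : Subgroup G) : Set G) with hC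
      have hCn : C.Normal := inferInstance
      obtain ⟨j, hj⟩ : ∃ j, C.index = p ^ j := by
        refine ⟨_, Nat.eq_prime_pow_of_unique_prime_dvd Subgroup.index_ne_zero_of_finite fun {q} hq hqd => ?_⟩
        by_contra hne
        have : Fact q.Prime := ⟨hq⟩
        obtain ⟨Q⟩ : Nonempty (Sylow q G) := inferInstance
        have hQn := hnorm q Q
        have hdis : Disjoint (P : Subgroup G) (Q : Subgroup G) :=
          IsPGroup.disjoint_of_ne p q (Ne.symm hne) _ _ P.isPGroup' Q.isPGroup'
        have hQC : (Q : Subgroup G) ≤ C := fun y hy => Subgroup.mem_centralizer_iff.2 fun w hw =>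
          Subgroup.commute_of_normal_of_disjoint _ _ hPn hQn hdis w y hw hy
        exact Q.not_dvd_index (hqd.trans (Subgroup.index_dvd_of_le hQC))
      intro h hh
      rw [← QuotientGroup.eq_one_iff (N := C), ← orderOf_eq_one_iff]
      have h1 : orderOf (h : G ⧸ C) ∣ p ^ j := by
        rw [← hj, Subgroup.index_eq_card]; exact orderOf_dvd_natCard _
      have h2 : orderOf (h : G ⧸ C) ∣ Nat.card H :=
        (orderOf_map_dvd (QuotientGroup.mk' C) h).trans ((Subgroup.orderOf_mk h hh) ▸ orderOf_dvd_natCard _)
      refine Nat.eq_one_of_dvd_coprimes (Nat.Coprime.pow_left j ?_) h1 h2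
      rw [hHcard]
      exact hp.out.coprime_iff_not_dvd.2 P.not_dvd_index
    have hxH : H ≤ Subgroup.centralizer ({x} : Set G) := fun h hh =>
      Subgroup.mem_centralizer_singleton_iff.2 (Subgroup.mem_centralizer_iff.1 (hHC hh) x hxP).symm
    have hcx := hcyc x hxZ
    have hHcyc : IsCyclic H := Subgroup.isCyclic_of_le hxH
    -- the Sylow subgroup has a unique subgroup of order `p`
    have hPne : (P : Subgroup G) ≠ ⊥ := fun h => hPc (h ▸ bot_le)
    obtain ⟨z, hzP, hzo, hzc⟩ := Agent.H73.exists_central_orderOf_eq_prime P.isPGroup' hPne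
    have huniq : ∀ y ∈ (P : Subgroup G), orderOf y = p → y ∈ Subgroup.zpowers z := by
      intro y hy hyo
      have hzC : ∀ w ∈ (P : Subgroup G), z ∈ Subgroup.centralizer ({w} : Set G) := fun w hw =>
        Subgroup.mem_centralizer_singleton_iff.2 (hzc w hw).symm
      by_cases hyZ : y ∈ Subgroup.center G
      · exact Agent.H29.mem_zpowers_of_mem_cyclic _ hcx (hzC x hxP)
          (Subgroup.center_le_centralizer _ hyZ) (hyo.trans hzo.symm)
      · exact Agent.H29.mem_zpowers_of_mem_cyclic _ (hcyc y hyZ) (hzC y hy)
          (Subgroup.mem_centralizer_singleton_iff.2 rfl) (hyo.trans hzo.symm)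
    have hkey : ∀ K : Subgroup (P : Subgroup G), Nat.card K = p →
        K = (Subgroup.zpowers z).subgroupOf (P : Subgroup G) := by
      intro K hK
      refine Subgroup.eq_of_le_of_card_ge (fun w hw => ?_) ?_
      · rw [Subgroup.mem_subgroupOf]
        rcases eq_or_ne w 1 with rfl | hw1
        · exact one_mem _
        refine huniq w w.2 ?_
        rw [Subgroup.orderOf_coe]
        refine orderOf_eq_prime ?_ hw1
        have := congrArg Subtype.val (pow_card_eq_one' (x := (⟨w, hw⟩ : K)))
        rw [hK] at this
        exact this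
      · rw [Nat.card_congr (Subgroup.subgroupOfEquivOfLe (Subgroup.zpowers_le.2 hzP)).toEquiv,
          Nat.card_zpowers, hzo, hK]
    have hPna : ¬ IsMulCommutative (P : Subgroup G) := by
      intro h
      apply hxZ
      rw [Subgroup.mem_center_iff]
      intro g
      obtain ⟨⟨u, v⟩, rfl⟩ := (hc.existsUnique g).exists
      have h1 : (u : G) * x = x * u := congrArg Subtype.val (h.is_comm.comm u ⟨x, hxP⟩)
      have h2 : (v : G) * x = x * v := Subgroup.mem_centralizer_singleton_iff.1 (hxH v.2)
      show (u : G) * v * x = x * (u * v)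
      rw [mul_assoc, h2, ← mul_assoc, h1, mul_assoc]
    obtain ⟨rfl, k, ⟨e⟩⟩ := (Agent.H21.cyclic_or_quaternion p P.isPGroup' fun H K hH hK =>
      (hkey H hH).trans (hkey K hK).symm).resolve_left fun h => hPna IsCyclic.isMulCommutative
    refine ⟨k, Nat.card H, ?_, ?_, ?_⟩
    · by_contra hk
      obtain rfl : k = 0 := by omega
      apply hPna
      have hq : ∀ a b : QuaternionGroup (2 ^ 0), a * b = b * a := by decide
      exact ⟨⟨fun a b => e.injective (by rw [map_mul, map_mul]; exact hq _ _)⟩⟩
    · rw [hHcard, Nat.odd_iff]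
      exact Nat.two_dvd_ne_zero.1 P.not_dvd_index
    · let φ : ↥(P : Subgroup G) × ↥H →* G :=
        MonoidHom.noncommCoprod (Subgroup.subtype _) (Subgroup.subtype _) fun u v =>
          Subgroup.mem_centralizer_iff.1 (hHC v.2) u u.2
      have hφ : Function.Bijective φ := hc
      exact ⟨(MulEquiv.ofBijective φ hφ).symm.trans
        (e.prodCongr (zmodCyclicMulEquiv hHcyc).symm)⟩
  · rintro ⟨k, m, hk, hm, ⟨e⟩⟩ x hx
    have hm0 : NeZero m := ⟨fun h => by subst h; exact absurd hm (by decide)⟩
    have : NeZero (2 ^ k) := ⟨by positivity⟩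
    set y := e x with hy
    have hy1 : y.1 ∉ Subgroup.center (QuaternionGroup (2 ^ k)) := by
      intro h
      apply hx
      rw [Subgroup.mem_center_iff]
      intro g
      apply e.injective
      rw [map_mul, map_mul]
      exact Prod.ext (Subgroup.mem_center_iff.1 h _) (mul_comm _ _)
    obtain ⟨g, hg⟩ := quaternion_centralizer_cyclic y.1 hy1
    set D := (Subgroup.zpowers g).prod (⊤ : Subgroup (Multiplicative (ZMod m))) with hD
    have hDc : IsCyclic D := by
      rw [((Subgroup.zpowers g).prodEquiv ⊤).isCyclic, Group.isCyclic_prod_iff]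
      refine ⟨inferInstance, ?_, ?_⟩
      · rw [Subgroup.topEquiv.isCyclic]; infer_instance
      · rw [Subgroup.card_top, Nat.card_zpowers, Nat.card_congr Multiplicative.toAdd, Nat.card_zmod]
        refine Nat.Coprime.of_dvd_left (orderOf_dvd_natCard g) ?_
        rw [Nat.card_eq_fintype_card, QuaternionGroup.card, show 4 * 2 ^ k = 2 ^ (k + 2) by ring]
        exact Nat.Coprime.pow_left _ (Nat.coprime_two_left.2 hm)
    have hle : (Subgroup.centralizer ({x} : Set G)).map e.toMonoidHom ≤ D := by
      rintro _ ⟨c, hc, rfl⟩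
      refine Subgroup.mem_prod.2 ⟨hg (Subgroup.mem_centralizer_singleton_iff.2 ?_), Subgroup.mem_top _⟩
      have := congrArg (fun w => (e w).1) (Subgroup.mem_centralizer_singleton_iff.1 hc)
      simpa using this
    have := Subgroup.isCyclic_of_le hle
    exact (((Subgroup.centralizer ({x} : Set G)).equivMapOfInjective e.toMonoidHom e.injective).isCyclic).2 this

end Cfsg.Agent.S4370
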