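import Cfsg.Statements.S4394
import Cfsg.Agent.H91.Small.SchmidtPLength
import Cfsg.Agent.H53.Cores

set_option autoImplicit false
open Cfsg

namespace Cfsg.Agent.S4394

/-- Let X be a finite minimal non-nilpotent group (not nilpotent, every proper subgroup nilpotent) with a nontrivial normal Sylow p-subgroup P. If G is a finite p-solvable group whose Sylow p-subgroups are isomorphic to P, then G has p-length at most 1. -/
theorem result {G X : Type*} [Group G] [Finite G] [Group X] [Finite X] (p : ℕ) [Fact p.Prime]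
    (hX : Cfsg.IsMinimalNonNilpotent X) (P : Sylow p X) (hPn : (P : Subgroup X).Normal) (hP1 : (P : Subgroup X) ≠ ⊥)
    (hG : Cfsg.IsPSolvable p G) (Q : Sylow p G) (hQ : Nonempty (↥(Q : Subgroup G) ≃* ↥(P : Subgroup X))) : Cfsg.PLengthLE p 1 G := by
  classical
  obtain ⟨e⟩ := hQ
  obtain ⟨α, q, hα⟩ := H91.Schmidt.exists_autData p hX P hPn hP1
  haveI hRn : (Cfsg.pPrimeCore p G).Normal := H19.pPrimeCore_normal p G
  set R := Cfsg.pPrimeCore p G
  have hsurj := QuotientGroup.mk'_surjective R
  let Q' := Q.mapSurjective (f := QuotientGroup.mk' R) hsurj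
  have hQ'eq : (Q' : Subgroup (G ⧸ R)) = (Q : Subgroup G).map (QuotientGroup.mk' R) := rfl
  let g : ↥(Q : Subgroup G) →* ↥(Q' : Subgroup (G ⧸ R)) := (QuotientGroup.mk' R).subgroupMap (Q : Subgroup G)
  have hgbij : Function.Bijective g := by
    refine ⟨(injective_iff_map_eq_one g).2 fun x hx => ?_, MonoidHom.subgroupMap_surjective _ _⟩
    have hxR : (x : G) ∈ R := (QuotientGroup.eq_one_iff _).1 (congrArg Subtype.val hx)
    obtain ⟨k, hk⟩ := IsPGroup.iff_orderOf.1 Q.2 x
    have h1 : orderOf (x : G) ∣ Nat.card R := by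
      have := orderOf_dvd_natCard (⟨(x : G), hxR⟩ : R)
      rwa [Subgroup.orderOf_mk] at this
    rw [Subgroup.orderOf_coe, hk] at h1
    refine orderOf_eq_one_iff.1 (hk.trans ?_)
    exact Nat.eq_one_of_dvd_coprimes ((H19.pPrimeCore_coprime (G := G) p).pow_right k) h1 dvd_rfl
  have hle := H91.Schmidt.sylow_le_pCore (H84.isPSolvable_of_surjective _ hsurj hG)
    (H19.pPrimeCore_quotient_pPrimeCore p) Q' (hα.congr (e.symm.trans (MulEquiv.ofBijective g hgbij)))
  rw [H53.pLengthLE_one_iff, Cfsg.pPrimePCore, Subgroup.index_comap_of_surjective _ hsurj]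
  refine Nat.Coprime.coprime_dvd_left (Subgroup.index_dvd_of_le hle) ?_
  exact ((Fact.out : p.Prime).coprime_iff_not_dvd.2 Q'.not_dvd_index).symm

end Cfsg.Agent.S4394
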