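import Cfsg.Statements.S4398
import Cfsg.Agent.H29.SmallCentralizer
import Cfsg.Agent.S4399

set_option autoImplicit false
open Cfsg

namespace Cfsg.Agent.S4398

open Agent.H29

theorem noBigSection {S : Type*} [Group S] [Finite S] (hr : Cfsg.SectionalPRankLE 2 2 S) :
    NoBigSection S := by
  intro W z hz hc hz2 hcomm hsq
  have hN : (Subgroup.zpowers (⟨z, hz⟩ : W)).Normal :=
    Agent.H24.normal_of_le_center (Subgroup.zpowers_le.2
      (Subgroup.mem_center_iff.2 fun w => Subtype.ext (hc w w.2)))
  set N := Subgroup.zpowers (⟨z, hz⟩ : W) with hNdef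
  have hmem : ∀ w : W, (w : S) ∈ Subgroup.zpowers z → w ∈ N := by
    rintro w ⟨i, hi⟩
    exact ⟨i, Subtype.ext (by simpa using hi)⟩
  have h := hr W N ⊤ ?_ ?_
  · have h2 := N.card_mul_index
    rw [hNdef, Nat.card_zpowers, Subgroup.orderOf_mk, hz2] at h2
    rw [Subgroup.card_top, ← Subgroup.index_eq_card] at h
    rw [← hNdef] at h2
    omega
  · refine ⟨⟨fun a b => Subtype.ext ?_⟩⟩
    obtain ⟨u, hu⟩ := QuotientGroup.mk'_surjective N (a : W ⧸ N)
    obtain ⟨v, hv⟩ := QuotientGroup.mk'_surjective N (b : W ⧸ N)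
    show (a : W ⧸ N) * b = b * a
    rw [← hu, ← hv, ← map_mul, ← map_mul]
    exact (QuotientGroup.eq.2 (hmem _ (by simpa using hcomm u u.2 v v.2))).symm
  · intro a _
    obtain ⟨u, rfl⟩ := QuotientGroup.mk'_surjective N a
    rw [sq, ← map_mul]
    exact (QuotientGroup.eq_one_iff _).2 (hmem _ (by simpa using hsq u u.2))

theorem equiv_transfer {A B : Type*} [Group A] [Group B] (e : A ≃* B)
    (h : ¬ IsMulCommutative A ∧ (commutator A).index = 4) :
    ¬ IsMulCommutative B ∧ (commutator B).index = 4 := by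
  refine ⟨fun hB => h.1 ⟨⟨fun a b => e.injective (by rw [map_mul, map_mul]; exact hB.is_comm.comm _ _)⟩⟩, ?_⟩
  have hm : (commutator A).map e.toMonoidHom = commutator B := by
    rw [commutator_def, Subgroup.map_commutator, Subgroup.map_top_of_surjective _ e.surjective, commutator_def]
  rw [← hm]
  exact (Subgroup.index_map_equiv _ e).trans h.2

/-- Every subgroup above a subgroup with commutator quotient of order four has the same. -/
theorem chain {S : Type*} [Group S] [Finite S] (hS : IsPGroup 2 S) (hno : NoBigSection S)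
    (H : Subgroup S) (hH : ¬ IsMulCommutative H ∧ (commutator H).index = 4) :
    ∀ (n : ℕ) (U : Subgroup S), Nat.card U = n → H ≤ U →
      ¬ IsMulCommutative U ∧ (commutator U).index = 4 := by
  have : Fact (Nat.Prime 2) := ⟨Nat.prime_two⟩
  intro n
  induction n using Nat.strong_induction_on with
  | _ n ih =>
    intro U hn hHU
    rcases eq_or_ne H U with rfl | hne
    · exact hH
    have hne' : H.subgroupOf U ≠ ⊤ := by
      rw [Ne, Subgroup.subgroupOf_eq_top]; exact fun h => hne (le_antisymm hHU h)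
    obtain ⟨T, hT, hHT⟩ := (eq_top_or_exists_le_coatom (H.subgroupOf U)).resolve_left hne'
    have hUp := hS.to_subgroup U
    have hTi : T.index = 2 := (Agent.H24.coatom_spec hUp hT).2.1
    have e : T ≃* T.map U.subtype := T.equivMapOfInjective U.subtype U.subtype_injective
    have hlt : Nat.card (T.map U.subtype) < n := by
      rw [← hn, ← Nat.card_congr e.toEquiv]
      have := T.card_mul_index
      rw [hTi] at this
      have : 0 < Nat.card T := Nat.card_pos
      omega
    have hHT' : H ≤ T.map U.subtype := fun h hh => ⟨⟨h, hHU hh⟩, hHT hh, rfl⟩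
    obtain ⟨h1, h2⟩ := equiv_transfer e.symm (ih _ hlt _ rfl hHT')
    exact step_index_two hUp (hno.subgroup U) T hTi h1 h2


/-- Let S be a finite 2-group of sectional 2-rank at most 2 that contains a subgroup isomorphic to the dihedral group of order 8 or to the quaternion group of order 8. Then S is dihedral of order at least 8, semidihedral of order at least 16 (order 2^(k+4) with an element a of order 2^(k+3) and an involution b with b a b⁻¹ = a^(2^(k+2)−1)), or generalized quaternion of order at least 8. -/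
theorem result {S : Type*} [Group S] [Finite S] (h2 : IsPGroup 2 S) (hr : Cfsg.SectionalPRankLE 2 2 S)
    (hsub : ∃ H : Subgroup S, Nonempty (↥H ≃* DihedralGroup 4) ∨ Nonempty (↥H ≃* QuaternionGroup 2)) :
    ((∃ k : ℕ, Nonempty (S ≃* DihedralGroup (2 ^ (k + 2)))) ∨
      (∃ k : ℕ, Nat.card S = 2 ^ (k + 4) ∧ ∃ a b : S, orderOf a = 2 ^ (k + 3) ∧ orderOf b = 2 ∧ b * a * b⁻¹ = a ^ (2 ^ (k + 2) - 1)) ∨
      (∃ k : ℕ, Nonempty (S ≃* QuaternionGroup (2 ^ (k + 1))))) := by
  have : Fact (Nat.Prime 2) := ⟨Nat.prime_two⟩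
  obtain ⟨H, hH⟩ := hsub
  have hnaH : ¬ IsMulCommutative H := by
    rcases hH with ⟨⟨e⟩⟩ | ⟨⟨e⟩⟩ <;> intro hc
    · have h : ∀ a b : DihedralGroup 4, a * b = b * a := fun a b =>
        e.symm.injective (by rw [map_mul, map_mul, hc.is_comm.comm])
      exact absurd (h (.r 1) (.sr 0)) (by decide)
    · have h : ∀ a b : QuaternionGroup 2, a * b = b * a := fun a b =>
        e.symm.injective (by rw [map_mul, map_mul, hc.is_comm.comm])
      exact absurd (h (.a 1) (.xa 0)) (by decide)
  have hcard : Nat.card H = 2 ^ 3 := by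
    rcases hH with ⟨⟨e⟩⟩ | ⟨⟨e⟩⟩ <;> rw [Nat.card_congr e.toEquiv, Nat.card_eq_fintype_card] <;> rfl
  have hidxH : (commutator H).index = 4 := by
    have hge : 2 ^ 2 ≤ (commutator H).index := Agent.H24.sq_le_index_commutator (h2.to_subgroup H) hnaH
    obtain ⟨j, hj⟩ := (h2.to_subgroup H).index (commutator H)
    have hmul := (commutator H).card_mul_index
    rw [hcard, hj] at hmul
    rw [hj] at hge ⊢
    have hne : Nat.card (commutator H) ≠ 1 := fun h => hnaH (by
      rw [Subgroup.card_eq_one] at h
      exact ⟨⟨fun a b => commutatorElement_eq_one_iff_mul_comm.1 (Subgroup.mem_bot.1 (h ▸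
        Subgroup.commutator_mem_commutator (Subgroup.mem_top a) (Subgroup.mem_top b)))⟩⟩)
    have : j ≤ 3 := by
      by_contra h
      have := Nat.pow_le_pow_right two_pos (show 4 ≤ j by omega)
      have : 0 < Nat.card (commutator H) := Nat.card_pos
      nlinarith
    interval_cases j <;> omega
  obtain ⟨hna, hidx⟩ := equiv_transfer Subgroup.topEquiv
    (chain h2 (noBigSection hr) H ⟨hnaH, hidxH⟩ _ ⊤ rfl le_top)
  obtain ⟨k, hk⟩ := IsPGroup.iff_card.1 h2
  have h8 := (Agent.H29.card_center_data h2 hna hidx).1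
  have hk3 : 3 ≤ k := by
    by_contra h
    have := Nat.pow_le_pow_right two_pos (show k ≤ 2 by omega)
    omega
  have hK := Agent.H24.isKleinFour_of_index_four hk3 hk hidx
  have hexp : ∀ x : Abelianization S, x ^ 2 = 1 := fun x => by
    have := hK.exponent_two
    exact this ▸ Monoid.pow_exponent_eq_one (G := S ⧸ commutator S) x
  rcases Agent.S4399.result h2 hidx hexp with h | h
  · omega
  · exact h

end Cfsg.Agent.S4398
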