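import Cfsg.Statements.S4492
import Cfsg.Agent.H32.Constrained
import Cfsg.Agent.H35.Constrained
import Cfsg.Agent.H19.Cores
-- import your own Cfsg.Agent.* helpers here

set_option autoImplicit false
open Cfsg

namespace Cfsg.Agent.S4492

/-- Let G be a finite p-solvable group, N = O_{p'}(G) its largest normal subgroup of order prime to p, and θ an irreducible character of N invariant under conjugation by G; fix a maximal ideal M of the algebraic integers containing p. Then the irreducible characters of G lying over θ (those whose restriction to N contains θ) form a single p-block of G, and the defect groups of that block are exactly the Sylow p-subgroups of G. -/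
theorem result {G : Type*} [Group G] [Fintype G] (p : ℕ) [Fact p.Prime] (M : Ideal Cfsg.AlgInt) (hM : Cfsg.IsPModular p M) (hsolv : Cfsg.IsPSolvable p G) (N : Subgroup G) [hN : N.Normal] [Fintype N] (hNdef : N = Cfsg.pPrimeCore p G) (θ : Cfsg.IrrCharacter N) (hinv : ∀ (g : G) (n : N), (θ : N → ℂ) ⟨g * n * g⁻¹, hN.conj_mem n n.2 g⟩ = (θ : N → ℂ) n) : ∃ B : Set (Cfsg.IrrCharacter G), Cfsg.IsPBlock M B ∧ (∀ χ : Cfsg.IrrCharacter G, χ ∈ B ↔ Cfsg.classInner (fun n : N => (χ : G → ℂ) n) (θ : N → ℂ) ≠ 0) ∧ (∀ P : Sylow p G, Cfsg.IsDefectGroup p M B (P : Subgroup G)) ∧ ∀ D : Subgroup G, Cfsg.IsDefectGroup p M B D → ∃ P : Sylow p G, D = (P : Subgroup G) := by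
  have : M.IsMaximal := hM.2.1
  have hn : ¬ p ∣ Nat.card N := by
    subst hNdef
    exact (Nat.Prime.coprime_iff_not_dvd Fact.out).1 (Cfsg.Agent.H19.pPrimeCore_coprime p).symm
  have hinv' : ∀ g, Cfsg.Agent.H41.twistIrr N θ g = θ := fun g =>
    Subtype.ext (funext fun n => by rw [Cfsg.Agent.H41.twistIrr_apply]; exact hinv g n)
  subst hNdef
  let K := Cfsg.pPrimePCore p G
  have : K.Normal := (Cfsg.Agent.H19.pCore_normal p _).comap _
  have hNK : Cfsg.pPrimeCore p G ≤ K := QuotientGroup.le_comap_mk' _ _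
  have hidx : ∃ k, (Cfsg.pPrimeCore p G).relIndex K = p ^ k := by
    obtain ⟨k, hk⟩ := IsPGroup.iff_card.1 (Cfsg.Agent.H19.pCore_isPGroup (G := G ⧸ Cfsg.pPrimeCore p G) p)
    refine ⟨k, Nat.eq_of_mul_eq_mul_left (Nat.card_pos (α := Cfsg.pPrimeCore p G)) ?_⟩
    rw [← Subgroup.relIndex_bot_left, Subgroup.relIndex_mul_relIndex _ _ _ bot_le hNK,
      Subgroup.relIndex_bot_left, Subgroup.relIndex_bot_left, ← hk, mul_comm]
    exact Cfsg.Agent.H19.card_comap_mk _ _
  refine Cfsg.Agent.H32.exists_block_over _ hM hn hinv' K hNK hidx ?_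
  intro Q hQK hQ hQc
  have hc : Nat.card (Q.subgroupOf K) = p ^ (Nat.card K).factorization p := by
    rw [Nat.card_congr (Subgroup.subgroupOfEquivOfLe hQK).toEquiv, hQc]
  let P : Sylow p K := Sylow.ofCard _ hc
  have h := Cfsg.Agent.H35.isPConstrained_of_isPSolvable_centralizer P
    (Cfsg.Agent.H35.isPSolvable_subgroup hsolv _) P
  rwa [show ((P : Subgroup K).map K.subtype) = Q from by
    rw [Sylow.coe_ofCard, Subgroup.subgroupOf_map_subtype, inf_eq_left.2 hQK]] at h

end Cfsg.Agent.S4492
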