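import Cfsg.Statements.S4501
import Cfsg.Agent.H69.PRQ.Klein
import Cfsg.Agent.H31.PSLRingEquiv
-- import your own Cfsg.Agent.* helpers here

set_option autoImplicit false
open Cfsg

namespace Cfsg.Agent.S4501

/-- Let G be a non-abelian finite simple group and p, q distinct primes. If the order of G is 4·p^a·q^b with a ≤ 2, then G is isomorphic to the alternating group of degree 5. If the order of G is 3·p^a·q^b with a ≤ 2, then G is isomorphic to the alternating group of degree 5 or to PSL(2,7). -/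
theorem result {G : Type*} [Group G] [Finite G] [IsSimpleGroup G] (hna : ∃ x y : G, x * y ≠ y * x) (p q a b : ℕ) (hp : p.Prime) (hq : q.Prime) (hpq : p ≠ q) (ha : a ≤ 2) : (Nat.card G = 4 * p ^ a * q ^ b → Nonempty (G ≃* alternatingGroup (Fin 5))) ∧ (Nat.card G = 3 * p ^ a * q ^ b → Nonempty (G ≃* alternatingGroup (Fin 5)) ∨ Nonempty (G ≃* Matrix.ProjectiveSpecialLinearGroup (Fin 2) (ZMod 7))) := by
  classical
  obtain ⟨x, y, hxy⟩ := hna
  have hG : ¬ IsCyclic G := fun h => hxy ((IsCyclic.commGroup (α := G)).mul_comm x y)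
  have htwo : ∀ {u v c d : ℕ}, u.Prime → v.Prime → Nat.card G = u ^ c * v ^ d → False := by
    intro u v c d hu hv h
    have hsol := H25.isSolvable_of_card_eq_mul_pow hu hv h
    exact hxy ((IsSimpleGroup.comm_iff_isSolvable.2 hsol) x y)
  refine ⟨fun hcard => ?_, fun hcard => ?_⟩
  · by_cases hp2 : p = 2
    · exact (htwo Nat.prime_two hq (c := a + 2) (d := b) (by rw [hcard, hp2]; ring)).elim
    by_cases hq2 : q = 2
    · exact (htwo hp Nat.prime_two (c := a) (d := b + 2) (by rw [hcard, hq2]; ring)).elim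
    have : Fact (Nat.Prime 2) := ⟨Nat.prime_two⟩
    have hna' : ¬ IsMulCommutative G := fun h => hxy (h.is_comm.comm x y)
    obtain ⟨m, hm⟩ : Odd (p ^ a * q ^ b) :=
      ((hp.odd_of_ne_two hp2).pow).mul ((hq.odd_of_ne_two hq2).pow)
    obtain ⟨-, h3⟩ := S0992.result hna' (by rw [hcard]; exact even_iff_two_dvd.2 ⟨2 * (p ^ a * q ^ b), by ring⟩)
      (by rw [hcard, mul_assoc, hm]; omega) (default : Sylow 2 G)
    have h3G : 3 ∣ Nat.card G := by
      exact (h3 ▸ Subgroup.relIndex_dvd_card _ _).trans (Subgroup.card_subgroup_dvd_card _)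
    have h60 : Nat.card G = 60 := by
      rw [hcard, mul_assoc] at h3G
      rcases Nat.prime_three.dvd_mul.1 h3G with h | h
      · norm_num at h
      rcases Nat.prime_three.dvd_mul.1 h with h | h
      · obtain rfl : p = 3 := ((Nat.prime_dvd_prime_iff_eq Nat.prime_three hp).1
          (Nat.prime_three.dvd_of_dvd_pow h)).symm
        exact H69.PRQ.card_eq_sixty hG hq (Ne.symm hpq) hq2 (by rw [hcard, mul_assoc])
      · obtain rfl : q = 3 := ((Nat.prime_dvd_prime_iff_eq Nat.prime_three hq).1
          (Nat.prime_three.dvd_of_dvd_pow h)).symm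
        exact H69.PRQ.card_eq_sixty hG hp hpq hp2 (i := b) (j := a) (by rw [hcard]; ring)
    exact S0494.result h60
  · by_cases hp3 : p = 3
    · exact (htwo Nat.prime_three hq (c := a + 1) (d := b) (by rw [hcard, hp3]; ring)).elim
    by_cases hq3 : q = 3
    · exact (htwo hp Nat.prime_three (c := a) (d := b + 1) (by rw [hcard, hq3]; ring)).elim
    have : Fact (Nat.Prime 3) := ⟨Nat.prime_three⟩
    obtain ⟨z, hz⟩ := exists_prime_orderOf_dvd_card' (G := G) 3
      (by rw [hcard, mul_assoc]; exact dvd_mul_right _ _)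
    have hP : IsPGroup 3 (Subgroup.zpowers z) := IsPGroup.of_card (n := 1) (by
      rw [Nat.card_zpowers, hz, pow_one])
    obtain ⟨S, hS⟩ := hP.exists_le_sylow
    have hf : (Nat.card G).factorization 3 = 1 := by
      rw [hcard, mul_assoc, Nat.factorization_mul three_ne_zero
        (mul_ne_zero (pow_ne_zero _ hp.ne_zero) (pow_ne_zero _ hq.ne_zero)), Finsupp.add_apply,
        Nat.prime_three.factorization_self, Nat.factorization_eq_zero_of_not_dvd]
      intro hd
      rcases Nat.prime_three.dvd_mul.1 hd with h | h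
      · exact hp3 ((Nat.prime_dvd_prime_iff_eq Nat.prime_three hp).1
          (Nat.prime_three.dvd_of_dvd_pow h)).symm
      · exact hq3 ((Nat.prime_dvd_prime_iff_eq Nat.prime_three hq).1
          (Nat.prime_three.dvd_of_dvd_pow h)).symm
    have hSz : Subgroup.zpowers z = (S : Subgroup G) := Subgroup.eq_of_le_of_card_ge hS (by
      rw [S.card_eq_multiplicity, hf, pow_one, Nat.card_zpowers, hz])
    have hC : Subgroup.centralizer ({z} : Set G) = Subgroup.zpowers z := by
      rw [← Subgroup.centralizer_closure, ← Subgroup.zpowers_eq_closure, hSz]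
      exact S0904.result p q 3 a b hp hq hpq hp3 hq3 (by rw [hcard]; ring) S
    rcases H69.PRQ.of_three hG hz hC with ⟨F, _, _, hF, ⟨f⟩⟩ | ⟨F, _, _, hF, ⟨f⟩⟩
    · obtain ⟨g⟩ := H1.PSL_two_five_equiv_alternating hF
      exact Or.inl ⟨f.trans g⟩
    · right
      have : Fact (Nat.Prime 7) := ⟨by norm_num⟩
      have hcardF : Nat.card G = Nat.card (Matrix.ProjectiveSpecialLinearGroup (Fin 2) F) :=
        Nat.card_congr f.toEquiv
      obtain ⟨g⟩ := H31.nonempty_psl_ringEquiv (ZMod.ringEquivOfPrime F (by norm_num) hF) (Fin 2)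
      exact ⟨f.trans g.symm⟩

end Cfsg.Agent.S4501
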