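import Cfsg.Statements.S4553
import Cfsg.Agent.H45.GaloisPrincipal
import Cfsg.Agent.H45.Gallagher
-- import your own Cfsg.Agent.* helpers here

set_option autoImplicit false
open Cfsg

namespace Cfsg.Agent.S4553

set_option maxHeartbeats 1000000 in
/-- Let G be a finite group, p a prime, P a Sylow p-subgroup, N the p-residual of G (the subgroup generated by the elements of order prime to p, the smallest normal subgroup with G/N a p-group), and M a maximal ideal of the algebraic integers containing p; suppose G/N is cyclic and nontrivial. Let k be a natural number with g ^ k = g ^ (1 + p) for every p-element g and g ^ k = g for every element g of order prime to p (so that χ (g ^ k) is the image of χ g under the field automorphism that raises p-power roots of unity to the power 1 + p and fixes the roots of unity of order prime to p). Then the number of members χ of the principal block of G of degree prime to p with χ (g ^ k) = χ g for all g equals p times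 the number of members θ of the principal block of N of degree prime to p that are invariant under conjugation by P and satisfy θ (n ^ k) = θ n for all n. -/
theorem result {G : Type*} [Group G] [Finite G] (p : ℕ) [Fact p.Prime] (M : Ideal Cfsg.AlgInt) (hM : Cfsg.IsPModular p M) (P : Sylow p G) (N : Subgroup G) [hN : N.Normal] (hNres : N = Cfsg.pResidual p G) (hcyc : IsCyclic (G ⧸ N)) (hnt : N ≠ ⊤) (k : ℕ) (hk₁ : ∀ g : G, (∃ j : ℕ, orderOf g = p ^ j) → g ^ k = g ^ (1 + p)) (hk₂ : ∀ g : G, Nat.Coprime (orderOf g) p → g ^ k = g) : Nat.card {χ : Cfsg.IrrCharacter G // χ ∈ Cfsg.principalBlock M G ∧ ¬ p ∣ Cfsg.charDegree (χ : G → ℂ) ∧ ∀ g : G, (χ : G → ℂ) (g ^ k) = (χ : G → ℂ) g} = p * Nat.card {θ : Cfsg.IrrCharacter ↥N // θ ∈ Cfsg.principalBlock M ↥N ∧ ¬ p ∣ Cfsg.charDegree (θ : ↥N → ℂ) ∧ (∀ x ∈ (P : Subgroup G), ∀ n : ↥N, (θ : ↥N → ℂ) ⟨x * n * x⁻¹, hN.conj_mem n n.2 x⟩ = (θ : ↥N → ℂ) n) ∧ ∀ n : ↥N, (θ : ↥N → ℂ) (n ^ k) = (θ : ↥N → ℂ) n} := by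
  classical
  have := Fintype.ofFinite G
  have := Fintype.ofFinite ↥N
  have := Fintype.ofFinite (G ⧸ N)
  have := hM.2.1
  have hp : p.Prime := Fact.out
  have hk : H45.GalExp G p k :=
    ⟨hk₁, fun g hg => hk₂ g ((Nat.Prime.coprime_iff_not_dvd hp).2 hg).symm⟩
  obtain ⟨a, ha⟩ : ∃ a, N.index = p ^ a := by
    subst hNres; exact H22.exists_index_pResidual_eq
  have hNP : N ⊔ (P : Subgroup G) = ⊤ := by
    subst hNres; exact H22.pResidual_sup_sylow P
  have hNN : Cfsg.pResidual p ↥N = ⊤ := by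
    subst hNres; exact H22.pResidual_pResidual_eq_top
  have hQcard : Nat.card (G ⧸ N) = p ^ a := by rw [← N.index_eq_card, ha]
  have hcp : ∀ {m : ℕ}, ¬ p ∣ m → Nat.Coprime N.index m := fun {m} hm => by
    rw [ha]
    exact Nat.Coprime.pow_left a ((Nat.Prime.coprime_iff_not_dvd hp).2 hm)
  let Λ := {f : (G ⧸ N) →* ℂˣ // f ^ p = 1}
  let Θ := {θ : Cfsg.IrrCharacter ↥N // θ ∈ Cfsg.principalBlock M ↥N ∧
    ¬ p ∣ Cfsg.charDegree (θ : ↥N → ℂ) ∧
    (∀ x ∈ (P : Subgroup G), ∀ n : ↥N,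
      (θ : ↥N → ℂ) ⟨x * n * x⁻¹, hN.conj_mem n n.2 x⟩ = (θ : ↥N → ℂ) n) ∧
    ∀ n : ↥N, (θ : ↥N → ℂ) (n ^ k) = (θ : ↥N → ℂ) n}
  have hΛ : Nat.card Λ = p := by
    let _ : CommGroup (G ⧸ N) := IsCyclic.commGroup
    obtain ⟨e⟩ := CommGroup.monoidHom_mulEquiv_of_hasEnoughRootsOfUnity (G ⧸ N) ℂ
    have e2 : Λ ≃ ((powMonoidHom p : (G ⧸ N) →* (G ⧸ N)).ker) :=
      e.toEquiv.subtypeEquiv fun f => by
        show f ^ p = 1 ↔ (e f) ^ p = 1
        rw [← map_pow, map_eq_one_iff e e.injective]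
    rw [Nat.card_congr e2, IsCyclic.card_powMonoidHom_ker, hQcard]
    have ha0 : a ≠ 0 := fun h => hnt (Subgroup.index_eq_one.1 (by rw [ha, h, pow_zero]))
    exact Nat.gcd_eq_right (dvd_pow_self p ha0)
  have hinv : ∀ θ : Θ, ∀ x : G, H43.irrConj N x θ.1 = θ.1 := by
    rintro ⟨θ, -, -, hθ, -⟩
    have hid : H43.irrConj N (1 : G) θ = θ :=
      Subtype.ext (funext fun n => by rw [H43.irrConj_apply]; simp)
    let S : Subgroup G :=
      { carrier := {g | H43.irrConj N g θ = θ}
        one_mem' := hid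
        mul_mem' := fun {a b} ha hb => by
          show H43.irrConj N (a * b) θ = θ
          rw [← H43.irrConj_irrConj, show H43.irrConj N a θ = θ from ha]
          exact hb
        inv_mem' := fun {a} ha => by
          show H43.irrConj N a⁻¹ θ = θ
          conv_lhs => rw [← show H43.irrConj N a θ = θ from ha]
          rw [H43.irrConj_irrConj, mul_inv_cancel, hid] }
    have hle : N ⊔ (P : Subgroup G) ≤ S := by
      refine sup_le (fun n hn => Subtype.ext (funext fun m => ?_))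
        (fun q hq => Subtype.ext (funext fun m => ?_))
      · rw [H43.irrConj_apply, show MulAut.conjNormal n m =
          (⟨n, hn⟩ : ↥N) * m * (⟨n, hn⟩ : ↥N)⁻¹ from
          Subtype.ext (by simp [MulAut.conjNormal_apply]), H26.irr_conj]
      · rw [H43.irrConj_apply]
        exact (congrArg θ.1 (Subtype.ext (MulAut.conjNormal_apply q m))).trans (hθ q hq m)
    exact fun x => hle (hNP ▸ Subgroup.mem_top x)
  have hext : ∀ θ : Θ, ∃ E : Cfsg.IrrCharacter G, (∀ n : ↥N, E.1 n = θ.1.1 n) ∧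
      ∀ g : G, E.1 (g ^ k) = E.1 g := by
    intro θ
    have hdet : ¬ p ∣ Cfsg.detOrder θ.1.1 := H43.not_dvd_detOrder hNN θ.1
    obtain ⟨E, hE, hEo⟩ := H43.exists_coprime_ext θ.1 (hinv θ)
      (Nat.Coprime.mul_right (hcp hdet) (hcp θ.2.2.1))
    exact ⟨E, hE, H45.ext_fixed hk θ.2.2.2.2 hE (hcp θ.2.2.1) (by rw [hEo]; exact hcp hdet)⟩
  choose E hE hEf using hext
  have hfx : ∀ (f : Λ) (g : G), f.1 ((g ^ k : G) : G ⧸ N) = f.1 (g : G ⧸ N) := by
    intro f g
    obtain ⟨x, y, rfl, hc, hx, hy⟩ := H40.exists_isPPart p g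
    rw [hc.mul_pow, hk.sing x hx, hk.reg y hy, QuotientGroup.mk_mul, QuotientGroup.mk_mul,
      QuotientGroup.mk_pow, map_mul, map_mul, map_pow, pow_add, pow_one, ← MonoidHom.pow_apply,
      f.2, MonoidHom.one_apply, mul_one]
  let F : Θ × Λ → Cfsg.IrrCharacter G := fun y =>
    H43.irrTwist (E y.1) (y.2.1.comp (QuotientGroup.mk' N))
  have hF : ∀ (y : Θ × Λ) (n : ↥N), (F y).1 n = y.1.1.1 n := fun y n => by
    rw [H43.irrTwist_apply, MonoidHom.comp_apply, QuotientGroup.mk'_apply,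
      (QuotientGroup.eq_one_iff (n : G)).2 n.2, map_one, Units.val_one, mul_one, hE]
  have hirr : ∀ θ : Θ, Cfsg.IsIrrCharacter ↥N fun n : ↥N => (E θ).1 n := fun θ => by
    rw [show (fun n : ↥N => (E θ).1 n) = θ.1.1 from funext (hE θ)]
    exact θ.1.2
  show _ = p * Nat.card Θ
  refine Eq.trans ?_ (show Nat.card (Θ × Λ) = p * Nat.card Θ by rw [Nat.card_prod, hΛ, mul_comm])
  symm
  refine Nat.card_eq_of_bijective (fun y => ⟨F y, ?_, ?_, ?_⟩) ⟨?_, ?_⟩
  · have h := H42.extension_mem_principalBlock hM ⊤ le_top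
      (fun g hg => H41.mem_of_regular_of_index N ⟨a, ha⟩ (by rwa [Subgroup.orderOf_coe])) y.1.2.1
      (H43.irrCongr Subgroup.topEquiv (F y)) (fun n => by rw [H43.irrCongr_apply, ← hF y n]; rfl)
    exact (H42.sameBlock_irrCongr_iff (M := M) (Subgroup.topEquiv (G := G))
      (H26.oneIrr G) (F y)).1 h
  · rw [H42.charDegree_of_eq_nat (n := Cfsg.charDegree (y.1.1 : ↥N → ℂ))
      (by rw [← H42.irr_one_eq y.1.1, ← hF y 1, Subgroup.coe_one])]
    exact y.1.2.2.1
  · intro g
    show (E y.1).1 (g ^ k) * ((y.2.1 ((g ^ k : G) : G ⧸ N) : ℂˣ) : ℂ) = _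
    rw [hEf, hfx]
    rfl
  · intro y z h
    have hv : F y = F z := congrArg Subtype.val h
    have h1 : y.1 = z.1 := Subtype.ext (Subtype.ext (funext fun n => by rw [← hF y, ← hF z, hv]))
    refine Prod.ext h1 (Subtype.ext ?_)
    have h2 := H45.extMul_injective N (E y.1) (hirr y.1) ⟨_, H26.isIrrCharacter_hom y.2.1⟩
      ⟨_, H26.isIrrCharacter_hom z.2.1⟩ (funext fun g => by
        have h3 : (F y).1 g = (F z).1 g := by rw [hv]
        rw [H43.irrTwist_apply, H43.irrTwist_apply, ← h1] at h3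
        exact h3)
    exact MonoidHom.ext fun q => Units.ext (congrFun (congrArg Subtype.val h2) q)
  · rintro ⟨χ, hχ, hd, hχf⟩
    obtain ⟨θ, hθ⟩ := H43.exists_irr_restrict N χ (hcp hd).symm
    have hm : H43.restrMult N χ θ = 1 := by
      refine H43.mult_eq_of_classInner ?_
      rw [Nat.cast_one, show (fun n : ↥N => χ.1 n) = θ.1 from funext hθ, H26.classInner_irr,
        if_pos rfl]
    have hθd : Cfsg.charDegree (θ : ↥N → ℂ) = Cfsg.charDegree (χ : G → ℂ) :=
      H42.charDegree_of_eq_nat (by rw [← H42.irr_one_eq χ, ← hθ 1, Subgroup.coe_one])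
    let θ' : Θ := ⟨θ, H42.constituent_mem_principal hM hχ (hm.trans_ne one_ne_zero),
      hθd ▸ hd, fun x hx n => by
        rw [← hθ, ← hθ]
        exact H26.irr_conj χ (n : G) x,
      fun n => by rw [← hθ, ← hθ, Subgroup.coe_pow, hχf]⟩
    obtain ⟨η, hη⟩ := H45.exists_extMul N (E θ') (hirr θ') χ (by
      rw [show (fun n : ↥N => χ.1 n) = θ.1 from funext hθ,
        show (fun n : ↥N => (E θ').1 n) = θ.1 from funext (hE θ'), H26.classInner_irr, if_pos rfl]
      exact one_ne_zero)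
    have hη1 : η.1 1 = 1 := by
      have h := congrFun hη 1
      simp only [H45.extMul, QuotientGroup.mk_one] at h
      have h4 : (E θ').1 1 = χ.1 1 := by
        have := hE θ' 1
        rw [Subgroup.coe_one] at this
        rw [this, ← hθ 1, Subgroup.coe_one]
      rw [h4] at h
      exact mul_left_cancel₀ (H26.irr_one_ne_zero χ) (h.trans (mul_one _).symm)
    obtain ⟨f, hf⟩ := H26.exists_hom_of_isCharacter_one (H26.irr_isCharacter η) hη1
    have hQ : ∀ q : G ⧸ N, q ^ k = q ^ (1 + p) := by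
      intro q
      obtain ⟨g, rfl⟩ := QuotientGroup.mk_surjective q
      obtain ⟨x, y, rfl, hc, hx, hy⟩ := H40.exists_isPPart p g
      have hyN : y ∈ N := H41.mem_of_regular_of_index N ⟨a, ha⟩ hy
      rw [QuotientGroup.mk_mul, (QuotientGroup.eq_one_iff y).2 hyN, mul_one, ← QuotientGroup.mk_pow,
        hk.sing x hx, QuotientGroup.mk_pow]
    have hkQ : H45.GalExp (G ⧸ N) p k := ⟨fun q _ => hQ q, fun q hq => by
      obtain ⟨j, -, hj⟩ := (Nat.dvd_prime_pow hp).1 (hQcard ▸ orderOf_dvd_natCard q)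
      rcases Nat.eq_zero_or_pos j with rfl | hj0
      · rw [orderOf_eq_one_iff.1 (hj.trans (pow_zero p)), one_pow]
      · exact absurd (hj ▸ dvd_pow_self p hj0.ne') hq⟩
    have hσ : H45.extMul N (E θ') η.1 = H45.extMul N (E θ') (H45.galIrr hkQ.coprime η).1 := by
      funext g
      rw [hη, ← hχf g, ← congrFun hη (g ^ k)]
      show (E θ').1 (g ^ k) * η.1 ((g ^ k : G) : G ⧸ N) = _
      rw [hEf, QuotientGroup.mk_pow]
      rfl
    have hfp : f ^ p = 1 := by
      have h2 := H45.extMul_injective N (E θ') (hirr θ') _ _ hσ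
      refine MonoidHom.ext fun q => ?_
      have hq : (f q : ℂ) = (f (q ^ k) : ℂ) := by
        rw [hf, hf]
        exact congrFun (congrArg Subtype.val h2) q
      rw [hQ, map_pow, pow_add, pow_one, Units.val_mul] at hq
      rw [MonoidHom.pow_apply, MonoidHom.one_apply]
      exact Units.ext (mul_left_cancel₀ (Units.ne_zero (f q)) (hq.symm.trans (mul_one _).symm))
    refine ⟨(θ', ⟨f, hfp⟩), Subtype.ext (Subtype.ext (funext fun g => ?_))⟩
    rw [← hη]
    show (E θ').1 g * (f (g : G ⧸ N) : ℂ) = (E θ').1 g * η.1 (g : G ⧸ N)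
    rw [hf]

end Cfsg.Agent.S4553
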