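import Cfsg.Statements.S4563
import Cfsg.Agent.H42.RamifiedComplement
import Cfsg.Agent.H19.Systems
-- import your own Cfsg.Agent.* helpers here

set_option autoImplicit false
open Cfsg

namespace Cfsg.Agent.S4563

/-- Let χ be an irreducible character of the finite group H that is fully ramified over the normal subgroup Z: the restriction of χ to Z is e times an irreducible character of Z with e ^ 2 equal to the index of Z. If K is a proper normal subgroup of H containing Z and χ is induced from a character of K, then H/K is solvable; in particular, if K is solvable then so is H. -/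
theorem result {H : Type*} [Group H] [Fintype H] (Z : Subgroup H) [Z.Normal] (χ : Cfsg.IrrCharacter H) (hfr : ∃ (θ : Cfsg.IrrCharacter ↥Z) (e : ℕ), e ^ 2 = Z.index ∧ ∀ z : ↥Z, (χ : H → ℂ) z = (e : ℂ) * (θ : ↥Z → ℂ) z) (K : Subgroup H) [K.Normal] [Fintype K] (hZK : Z ≤ K) (hK : K ≠ ⊤) (φ : ↥K → ℂ) (hφ : Cfsg.IsCharacter ↥K φ) (hind : Cfsg.indFun K φ = (χ : H → ℂ)) : Group.IsSolvable (H ⧸ K) ∧ (Group.IsSolvable ↥K → Group.IsSolvable H) := by
  classical
  obtain ⟨θ, e, he, hres⟩ := hfr
  have : Fintype Z := Fintype.ofFinite _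
  have hram := Cfsg.Agent.H42.ramified_of_sq_eq he hres
  have hsol : Group.IsSolvable (H ⧸ K) := by
    refine Cfsg.Agent.H19.solvable_of_pComplements fun p hp => ?_
    have : Fact p.Prime := ⟨hp⟩
    obtain ⟨P⟩ : Nonempty (Sylow p H) := inferInstance
    set R : Subgroup H := (Z ⊔ (P : Subgroup H)) ⊓ K with hR
    have : Fintype R := Fintype.ofFinite _
    have hZR : Z ≤ R := le_inf le_sup_left hZK
    obtain ⟨U, hKU, hU⟩ := hram.exists_pComplement he hZK P hR hZR
      fun ξ hξ => hram.dvd_of_induced he hZK P hφ hind hR hZR ξ hξ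
    exact ⟨_, Cfsg.Agent.H42.exists_index_quotient hKU hU⟩
  refine ⟨hsol, fun hKs => ?_⟩
  have := hsol
  have := hKs
  exact Group.isSolvable_of_ker_le_range K.subtype (QuotientGroup.mk' K)
    (by rw [QuotientGroup.ker_mk', Subgroup.range_subtype])

end Cfsg.Agent.S4563
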