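import Cfsg.Statements.S4564
import Cfsg.Agent.H42.RamifiedComplement
-- import your own Cfsg.Agent.* helpers here

set_option autoImplicit false
open Cfsg

namespace Cfsg.Agent.S4564

/-- Let χ be an irreducible character of the finite group H that is fully ramified over the normal subgroup Z: the restriction of χ to Z is e times an irreducible character of Z with e ^ 2 equal to the index of Z. Let K be a normal subgroup of H containing Z and P a cyclic Sylow p-subgroup of H/K. Then P has a complement in H/K: a subgroup meeting P trivially whose product with P is the whole group. -/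
theorem result {H : Type*} [Group H] [Finite H] (Z : Subgroup H) [Z.Normal] (χ : Cfsg.IrrCharacter H) (hfr : ∃ (θ : Cfsg.IrrCharacter ↥Z) (e : ℕ), e ^ 2 = Z.index ∧ ∀ z : ↥Z, (χ : H → ℂ) z = (e : ℂ) * (θ : ↥Z → ℂ) z) (K : Subgroup H) [K.Normal] (hZK : Z ≤ K) (p : ℕ) [Fact p.Prime] (P : Sylow p (H ⧸ K)) (hcyc : IsCyclic P) : ∃ M : Subgroup (H ⧸ K), M.IsComplement' (P : Subgroup (H ⧸ K)) := by
  classical
  obtain ⟨θ, e, he, hres⟩ := hfr
  have := Fintype.ofFinite H
  have : Fintype Z := Fintype.ofFinite _
  have hram := Cfsg.Agent.H42.ramified_of_sq_eq he hres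
  obtain ⟨P0⟩ : Nonempty (Sylow p H) := inferInstance
  set S : Subgroup H := Z ⊔ (P0 : Subgroup H) with hS
  set R : Subgroup H := S ⊓ K with hR
  have : Fintype R := Fintype.ofFinite _
  have hZR : Z ≤ R := le_inf le_sup_left hZK
  have hcard : Nat.card (S.map (QuotientGroup.mk' K)) =
      p ^ (Nat.card (H ⧸ K)).factorization p := by
    rw [← Subgroup.relIndex_bot_left, ← Subgroup.map_bot (QuotientGroup.mk' K),
      Subgroup.relIndex_map_map, QuotientGroup.ker_mk', bot_sup_eq, Subgroup.relIndex_sup_right,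
      Cfsg.Agent.H42.relIndex_sup_eq hZK P0, Subgroup.index_eq_card]
  let P1 : Sylow p (H ⧸ K) := Sylow.ofCard _ hcard
  have hcyc1 : IsCyclic (S.map (QuotientGroup.mk' K)) := by
    have := hcyc
    exact isCyclic_of_surjective (Sylow.equiv P P1) (MulEquiv.surjective _)
  obtain ⟨U, hKU, hU⟩ := hram.exists_pComplement he hZK P0 hR hZR
    fun ξ hξ => hram.dvd_of_cyclic he hZK P0 hcyc1 hR hZR ξ hξ
  have hidx := Cfsg.Agent.H42.exists_index_quotient hKU hU
  refine ⟨U.map (QuotientGroup.mk' K), Subgroup.isComplement'_of_coprime ?_ ?_⟩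
  · rw [P.card_eq_multiplicity, ← hidx, Subgroup.card_mul_index]
  · have h1 := Subgroup.card_mul_index (U.map (QuotientGroup.mk' K))
    rw [hidx] at h1
    have h2 : Nat.card (U.map (QuotientGroup.mk' K)) = Nat.card (H ⧸ K) /
        p ^ (Nat.card (H ⧸ K)).factorization p := by
      refine (Nat.div_eq_of_eq_mul_left (pow_pos (Fact.out : p.Prime).pos _) ?_).symm
      exact h1.symm
    rw [P.card_eq_multiplicity, h2]
    exact (Nat.coprime_ordCompl (Fact.out : p.Prime) Nat.card_pos.ne').symm.pow_right _

end Cfsg.Agent.S4564
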