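import Cfsg.Statements.S4565
import Cfsg.Agent.H39.Intertwiner
import Cfsg.Agent.H45.CliffordLinear
import Cfsg.Agent.H43.LinearTwist
import Cfsg.Agent.H43.Constituents
import Cfsg.Agent.H26.CharLinear
-- import your own Cfsg.Agent.* helpers here

set_option autoImplicit false
open Cfsg

namespace Cfsg.Agent.S4565

/-- Let χ be an irreducible character of the finite group H that is fully ramified over the normal subgroup Z: the restriction of χ to Z is e times an irreducible character of Z with e ^ 2 equal to the index of Z. If Z ≠ H, then H/Z has no cyclic subgroup that is its own centralizer. -/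
theorem result {H : Type*} [Group H] [Finite H] (Z : Subgroup H) [Z.Normal] (χ : Cfsg.IrrCharacter H) (hfr : ∃ (θ : Cfsg.IrrCharacter ↥Z) (e : ℕ), e ^ 2 = Z.index ∧ ∀ z : ↥Z, (χ : H → ℂ) z = (e : ℂ) * (θ : ↥Z → ℂ) z) (hZ : Z ≠ ⊤) (C : Subgroup (H ⧸ Z)) (hC : IsCyclic C) : Subgroup.centralizer (C : Set (H ⧸ Z)) ≠ C := by
  classical
  have := Fintype.ofFinite H
  have := Fintype.ofFinite Z
  obtain ⟨θ, e, he, hres⟩ := hfr
  intro hcen
  have he0 : (e : ℂ) ≠ 0 := Nat.cast_ne_zero.2 fun h => Subgroup.index_ne_zero_of_finite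
    (H := Z) (by rw [← he, h]; rfl)
  have hZcard : (Nat.card Z : ℂ) ≠ 0 := Nat.cast_ne_zero.2 Nat.card_pos.ne'
  have hH : (Nat.card H : ℂ) ≠ 0 := Nat.cast_ne_zero.2 Nat.card_pos.ne'
  -- `χ` vanishes off `Z`
  have hθθ := Cfsg.Agent.H43.sum_mul_conj θ θ
  rw [if_pos rfl] at hθθ
  have hvan : ∀ g : H, g ∉ Z → χ.1 g = 0 := by
    have hn := Cfsg.Agent.H43.sum_mul_conj χ χ
    rw [if_pos rfl] at hn
    have hZsum : ∑ g ∈ Finset.univ.filter (fun g : H => g ∈ Z),
        χ.1 g * (starRingEnd ℂ) (χ.1 g) = (Nat.card H : ℂ) := by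
      rw [Finset.sum_subtype (p := fun g : H => g ∈ Z) _ (by simp)
        (fun g => χ.1 g * (starRingEnd ℂ) (χ.1 g))]
      show ∑ z : Z, χ.1 z * (starRingEnd ℂ) (χ.1 z) = _
      simp only [hres, map_mul, Complex.conj_natCast]
      rw [show ∑ z : Z, (e : ℂ) * θ.1 z * ((e : ℂ) * (starRingEnd ℂ) (θ.1 z)) =
        (e : ℂ) ^ 2 * ∑ z : Z, θ.1 z * (starRingEnd ℂ) (θ.1 z) by
          rw [Finset.mul_sum]; exact Finset.sum_congr rfl fun z _ => by ring, hθθ,
        ← Nat.cast_pow, he, ← Nat.cast_mul, mul_comm, Z.card_mul_index]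
    rw [← Finset.sum_filter_add_sum_filter_not Finset.univ (fun g : H => g ∈ Z), hZsum,
      add_eq_left] at hn
    simp only [Complex.mul_conj, ← Complex.ofReal_sum, Complex.ofReal_eq_zero] at hn
    intro g hg
    exact Complex.normSq_eq_zero.1 ((Finset.sum_eq_zero_iff_of_nonneg
      (fun x _ => Complex.normSq_nonneg _)).1 hn g (Finset.mem_filter.2 ⟨Finset.mem_univ _, hg⟩))
  -- `χ` is the only character over `θ`
  have honly : ∀ ξ : Cfsg.IrrCharacter H, ξ ≠ χ →
      Cfsg.Agent.H43.mult (fun z : Z => ξ.1 z) θ = 0 := by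
    intro ξ hξ
    have h := Cfsg.Agent.H43.sum_mul_conj χ ξ
    rw [if_neg (Ne.symm hξ), ← Finset.sum_filter_add_sum_filter_not Finset.univ
      (fun g : H => g ∈ Z), Finset.sum_eq_zero (s := Finset.univ.filter fun g : H => ¬ g ∈ Z)
        (fun g hg => by rw [hvan g (Finset.mem_filter.1 hg).2, zero_mul]), add_zero,
      Finset.sum_subtype (p := fun g : H => g ∈ Z) _ (by simp)
        (fun g => χ.1 g * (starRingEnd ℂ) (ξ.1 g))] at h
    have h' : ∑ z : Z, χ.1 z * (starRingEnd ℂ) (ξ.1 z) = 0 := h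
    simp only [hres, mul_assoc, ← Finset.mul_sum, mul_eq_zero, he0, false_or] at h'
    refine Cfsg.Agent.H43.mult_eq_of_classInner ?_
    rw [Cfsg.classInner, Nat.cast_zero, mul_eq_zero]
    right
    have h'' := congrArg (starRingEnd ℂ) h'
    simp only [map_sum, map_mul, Complex.conj_conj, map_zero] at h''
    rw [← h'']
    exact Finset.sum_congr rfl fun z _ => mul_comm _ _
  -- the preimage of `C`
  obtain ⟨c₀, hc₀⟩ := hC.exists_generator
  let K : Subgroup H := C.comap (QuotientGroup.mk' Z)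
  let q : K →* C := ((QuotientGroup.mk' Z).comp K.subtype).codRestrict C (fun k => k.2)
  have := Fintype.ofFinite K
  have := Fintype.ofFinite C
  have hZK : Z ≤ K := by
    intro z hz
    show (QuotientGroup.mk' Z) z ∈ C
    rw [QuotientGroup.mk'_apply, (QuotientGroup.eq_one_iff z).2 hz]
    exact C.one_mem
  have hqv : ∀ k : K, ((q k : C) : H ⧸ Z) = ((k : H) : H ⧸ Z) := fun k => by
    rfl
  have hqsurj : Function.Surjective q := fun c => by
    obtain ⟨x, hx⟩ := QuotientGroup.mk'_surjective Z (c : H ⧸ Z)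
    exact ⟨⟨x, show (QuotientGroup.mk' Z) x ∈ C from hx ▸ c.2⟩, Subtype.ext ((hqv _).trans hx)⟩
  have hqker : ∀ k : K, q k = 1 ↔ (k : H) ∈ Z := fun k => by
    rw [← QuotientGroup.eq_one_iff (N := Z) (k : H), ← hqv]
    exact Subtype.ext_iff
  -- an extension of `θ` to the preimage
  have hcyc : IsCyclic (K ⧸ Z.subgroupOf K) := by
    have hle : Z.subgroupOf K = q.ker := by
      ext k
      rw [Subgroup.mem_subgroupOf, MonoidHom.mem_ker, hqker]
    exact isCyclic_of_injective
      ((QuotientGroup.quotientKerEquivOfSurjective q hqsurj).toMonoidHom.comp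
        (QuotientGroup.quotientMulEquivOfEq hle).toMonoidHom)
      ((QuotientGroup.quotientKerEquivOfSurjective q hqsurj).injective.comp
        (QuotientGroup.quotientMulEquivOfEq hle).injective)
  set θ' := Cfsg.Agent.H43.irrCongr (Subgroup.subgroupOfEquivOfLe hZK) θ with hθ'
  obtain ⟨r, σ, hσ, hσc⟩ := θ'.2
  have := hσ
  obtain ⟨ψ₀, hψ₀, hψres⟩ := Cfsg.Agent.H39.exists_ext_of_cyclic_quotient σ hcyc (fun k n => by
    rw [hσc]
    have h1 : χ.1 (((k : H) * ((n : K) : H) * (k : H)⁻¹)) = χ.1 ((n : K) : H) :=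
      Cfsg.Agent.H26.irr_conj χ _ _
    have hn : ((n : K) : H) ∈ Z := n.2
    have hc : (k : H) * ((n : K) : H) * (k : H)⁻¹ ∈ Z := ‹Z.Normal›.conj_mem _ hn _
    have a1 := hres ⟨_, hc⟩
    have a2 := hres ⟨_, hn⟩
    rw [show ((⟨_, hc⟩ : Z) : H) = (k : H) * ((n : K) : H) * (k : H)⁻¹ from rfl, h1] at a1
    exact mul_left_cancel₀ he0 (a1.symm.trans a2))
  set ψ : Cfsg.IrrCharacter K := ⟨ψ₀, hψ₀⟩ with hψ
  have hψZ : ∀ z : Z, ψ.1 ⟨z, hZK z.2⟩ = θ.1 z := fun z => by
    have h := hψres ⟨⟨z, hZK z.2⟩, z.2⟩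
    rw [hσc] at h
    exact h
  -- sums over the chosen coset are orthogonality sums over the linear characters
  have hcomm : ∀ a b : C, a * b = b * a := fun a b => by
    obtain ⟨i, rfl⟩ := hc₀ a
    obtain ⟨j, rfl⟩ := hc₀ b
    exact ((Commute.refl c₀).zpow_zpow i j).eq
  have hlin : ∀ l : Cfsg.IrrCharacter C, ∃ f : C →* ℂˣ, ∀ c, (f c : ℂ) = l.1 c := fun l =>
    Cfsg.Agent.H26.exists_hom_of_isCharacter_one (Cfsg.Agent.H26.irr_isCharacter l)
      (Cfsg.Agent.H26.irr_one_eq_one_of_comm hcomm l)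
  choose f hf using hlin
  have hind : ∀ φ : K → ℂ, (Nat.card C : ℂ) *
      (∑ k : K, if q k = c₀ then ψ.1 k * (starRingEnd ℂ) (φ k) else 0) =
      ∑ l : Cfsg.IrrCharacter C, (starRingEnd ℂ) (l.1 c₀) *
        ∑ k : K, (Cfsg.Agent.H43.irrTwist ψ ((f l).comp q)).1 k * (starRingEnd ℂ) (φ k) := by
    intro φ
    simp only [Finset.mul_sum]
    rw [Finset.sum_comm]
    refine Finset.sum_congr rfl fun k _ => ?_
    simp only [Cfsg.Agent.H43.irrTwist_apply, MonoidHom.comp_apply, hf]
    rw [show ∑ l : Cfsg.IrrCharacter C, (starRingEnd ℂ) (l.1 c₀) *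
        (ψ.1 k * l.1 (q k) * (starRingEnd ℂ) (φ k)) =
        (∑ l : Cfsg.IrrCharacter C, l.1 (q k) * (starRingEnd ℂ) (l.1 c₀)) *
          (ψ.1 k * (starRingEnd ℂ) (φ k)) by
          rw [Finset.sum_mul]; exact Finset.sum_congr rfl fun l _ => by ring,
      Cfsg.Agent.H26.column_orthogonality]
    rw [show Subgroup.centralizer ({c₀} : Set C) = ⊤ from eq_top_iff.2 fun x _ =>
      Subgroup.mem_centralizer_singleton_iff.2 (hcomm x c₀), Subgroup.card_top]
    by_cases h : q k = c₀
    · rw [if_pos h, h, show Cfsg.Agent.H26.classIndicator c₀ c₀ = 1 from if_pos (IsConj.refl _),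
        mul_one]
    · have : ¬ IsConj (q k) c₀ := fun hc => h (by
        obtain ⟨u, hu⟩ := isConj_iff.1 hc
        rw [← hu, hcomm u, mul_inv_cancel_right])
      rw [if_neg h, show Cfsg.Agent.H26.classIndicator c₀ (q k) = 0 from if_neg this, mul_zero,
        zero_mul]
  have hc₀1 : c₀ ≠ 1 := by
    intro h
    apply hZ
    rw [eq_top_iff]
    intro x _
    have hbot : C = ⊥ := by
      rw [eq_bot_iff]
      intro c hc
      obtain ⟨i, hi⟩ := hc₀ ⟨c, hc⟩
      rw [h] at hi
      simpa using (congrArg Subtype.val hi).symm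
    have hx : (x : H ⧸ Z) ∈ C := by
      rw [← hcen, Subgroup.mem_centralizer_iff]
      intro y hy
      rw [hbot] at hy
      simp [Subgroup.mem_bot.1 hy]
    rw [hbot, Subgroup.mem_bot] at hx
    exact (QuotientGroup.eq_one_iff x).1 hx
  have hS : ∀ ξ : Cfsg.IrrCharacter H,
      (∑ k : K, if q k = c₀ then ψ.1 k * (starRingEnd ℂ) (ξ.1 k) else 0) = 0 := by
    intro ξ
    by_cases hξ : ξ = χ
    · subst hξ
      refine Finset.sum_eq_zero fun k _ => ?_
      split
      · next h =>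
        rw [hvan k fun hk => hc₀1 (h ▸ (hqker k).2 hk), map_zero, mul_zero]
      · rfl
    · have h := hind fun k => ξ.1 k
      rw [Finset.sum_eq_zero (s := (Finset.univ : Finset (Cfsg.IrrCharacter C))) fun l _ => ?_,
        mul_eq_zero, Nat.cast_eq_zero] at h
      · exact h.resolve_left Nat.card_pos.ne'
      · have hm : Cfsg.Agent.H43.mult (fun k : K => ξ.1 k)
            (Cfsg.Agent.H43.irrTwist ψ ((f l).comp q)) = 0 := by
          have h0 := honly ξ hξ
          rw [show (fun z : Z => ξ.1 z) =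
              fun z : Z => (fun k : K => ξ.1 k) (Subgroup.inclusion hZK z) from rfl,
            Cfsg.Agent.H43.mult_comp (φ := fun k : K => ξ.1 k) (Subgroup.inclusion hZK)
            (Cfsg.Agent.H26.isCharacter_comp (Cfsg.Agent.H26.irr_isCharacter ξ) K.subtype) θ,
            Finset.sum_eq_zero_iff] at h0
          rcases mul_eq_zero.1 (h0 (Cfsg.Agent.H43.irrTwist ψ ((f l).comp q))
            (Finset.mem_univ _)) with h1 | h1
          · exact h1
          · exfalso
            have : Cfsg.Agent.H43.mult (fun z : Z => (Cfsg.Agent.H43.irrTwist ψ ((f l).comp q)).1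
                (Subgroup.inclusion hZK z)) θ = 1 := by
              refine Cfsg.Agent.H43.mult_eq_of_classInner ?_
              rw [Nat.cast_one]
              refine Eq.trans ?_ ((Cfsg.Agent.H26.classInner_irr θ θ).trans (if_pos rfl))
              congr 1
              funext z
              rw [Cfsg.Agent.H43.irrTwist_apply, MonoidHom.comp_apply,
                (hqker (Subgroup.inclusion hZK z)).2 z.2, map_one, Units.val_one, mul_one]
              exact hψZ z
            omega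
        have h2 := Cfsg.Agent.H43.classInner_eq_mult (φ := fun k : K => ξ.1 k)
          (Cfsg.Agent.H26.isCharacter_comp (Cfsg.Agent.H26.irr_isCharacter ξ) K.subtype)
          (Cfsg.Agent.H43.irrTwist ψ ((f l).comp q))
        rw [hm, Nat.cast_zero, Cfsg.classInner, mul_eq_zero, inv_eq_zero, Nat.cast_eq_zero] at h2
        have h3 := congrArg (starRingEnd ℂ) (h2.resolve_left Nat.card_pos.ne')
        simp only [map_sum, map_mul, Complex.conj_conj, map_zero] at h3
        have h4 : ∑ k : K, (Cfsg.Agent.H43.irrTwist ψ ((f l).comp q)).1 k *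
            (starRingEnd ℂ) (ξ.1 k) = 0 := by
          rw [← h3]
          exact Finset.sum_congr rfl fun k _ => mul_comm _ _
        rw [h4, mul_zero]
  -- the induced class function
  set E : H → ℂ := fun y => if h : y ∈ K then (if q ⟨y, h⟩ = c₀ then ψ.1 ⟨y, h⟩ else 0) else 0
    with hE
  set F : H → ℂ := fun y => ∑ x : H, E (x⁻¹ * y * x) with hF
  have hFcl : Cfsg.IsClassFunction H F := by
    intro g x
    refine Fintype.sum_equiv (Equiv.mulLeft x⁻¹) _ _ fun t => ?_
    simp [mul_assoc]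
  have hF0 : F = 0 := by
    refine Cfsg.Agent.H26.eq_zero_of_forall_classInner F hFcl fun ξ => ?_
    rw [Cfsg.classInner, mul_eq_zero]
    right
    simp only [hF, Finset.sum_mul]
    rw [Finset.sum_comm]
    refine Finset.sum_eq_zero fun x _ => ?_
    rw [← hS ξ, ← Finset.sum_filter_add_sum_filter_not Finset.univ (fun y : H => x⁻¹ * y * x ∈ K),
      Finset.sum_eq_zero (s := Finset.univ.filter fun y : H => ¬ x⁻¹ * y * x ∈ K)
        (fun y hy => by
          simp only [hE]
          rw [dif_neg (Finset.mem_filter.1 hy).2, zero_mul]), add_zero]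
    refine Finset.sum_bij' (fun y hy => (⟨x⁻¹ * y * x, (Finset.mem_filter.1 hy).2⟩ : K))
      (fun k _ => x * (k : H) * x⁻¹) (fun y _ => Finset.mem_univ _)
      (fun k _ => Finset.mem_filter.2 ⟨Finset.mem_univ _, by simp [mul_assoc]⟩)
      (fun y _ => by simp [mul_assoc]) (fun k _ => Subtype.ext (by simp [mul_assoc]))
      (fun y hy => ?_)
    simp only [hE]
    rw [dif_pos (Finset.mem_filter.1 hy).2]
    have hξc : ξ.1 (x⁻¹ * y * x) = ξ.1 y := by
      have := Cfsg.Agent.H26.irr_conj ξ y x⁻¹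
      rwa [inv_inv] at this
    simp only [hξc, ite_mul, zero_mul]
  have hψ0 : ∀ k : K, q k = c₀ → ψ.1 k = 0 := by
    intro k hk
    have h1 : F k = ∑ x ∈ Finset.univ.filter (fun x : H => x ∈ K), ψ.1 k := by
      rw [Finset.sum_filter]
      refine Finset.sum_congr rfl fun x _ => ?_
      have hkey : ∀ h : x⁻¹ * (k : H) * x ∈ K, q ⟨_, h⟩ = c₀ ↔ x ∈ K := by
        intro h
        have hv : ((q ⟨_, h⟩ : C) : H ⧸ Z) = (x : H ⧸ Z)⁻¹ * (c₀ : H ⧸ Z) * (x : H ⧸ Z) := by
          rw [hqv, ← hk, hqv]; rfl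
        rw [← Subtype.coe_inj, hv]
        show _ ↔ (x : H ⧸ Z) ∈ C
        rw [mul_assoc, inv_mul_eq_iff_eq_mul]
        refine ⟨fun hx => ?_, fun hx => ?_⟩
        · rw [← hcen, Subgroup.mem_centralizer_iff]
          intro c hc
          obtain ⟨i, hi⟩ := hc₀ ⟨c, hc⟩
          have hi' : (c₀ : H ⧸ Z) ^ i = c := by rw [← Subgroup.coe_zpow]; exact congrArg Subtype.val hi
          rw [← hi']
          exact ((Commute.zpow_left (show Commute (c₀ : H ⧸ Z) x from hx) i)).eq
        · exact congrArg Subtype.val (hcomm c₀ ⟨_, hx⟩)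
      simp only [hE]
      by_cases hx : x ∈ K
      · have hm : x⁻¹ * (k : H) * x ∈ K := K.mul_mem (K.mul_mem (K.inv_mem hx) k.2) hx
        rw [dif_pos hm, if_pos ((hkey hm).2 hx), if_pos hx,
          show (⟨_, hm⟩ : K) = (⟨x, hx⟩ : K)⁻¹ * k * (⟨x, hx⟩ : K)⁻¹⁻¹ from Subtype.ext (by simp),
          Cfsg.Agent.H26.irr_conj]
      · rw [if_neg hx]
        split_ifs with h h' <;> try rfl
        exact absurd ((hkey h).1 h') hx
    rw [hF0, Pi.zero_apply, Finset.sum_const, nsmul_eq_mul] at h1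
    refine (mul_eq_zero.1 h1.symm).resolve_left (Nat.cast_ne_zero.2 fun h0 => ?_)
    have hmem : (k : H) ∈ Finset.univ.filter (fun x : H => x ∈ K) :=
      Finset.mem_filter.2 ⟨Finset.mem_univ _, k.2⟩
    rw [Finset.card_eq_zero.1 h0] at hmem
    exact Finset.notMem_empty _ hmem
  obtain ⟨k₀, hk₀⟩ := hqsurj c₀
  have := Fintype.ofFinite (Z.subgroupOf K)
  have hirr : Cfsg.IsIrrCharacter (Z.subgroupOf K) fun n : Z.subgroupOf K => ψ.1 n := by
    rw [show (fun n : Z.subgroupOf K => ψ.1 n) = θ'.1 from funext fun n => by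
      rw [hψ]; exact (hψres n).trans (congrFun hσc n)]
    exact θ'.2
  have h := Cfsg.Agent.H45.coset_norm_eq_card (Z.subgroupOf K) ψ hirr k₀
  rw [Finset.sum_eq_zero fun n _ => by
    rw [hψ0 _ (by rw [map_mul, (hqker (n : K)).2 n.2, one_mul, hk₀]), norm_zero,
      zero_pow two_ne_zero]] at h
  exact Nat.card_pos.ne' (Nat.cast_eq_zero.1 h.symm)

end Cfsg.Agent.S4565
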