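import Cfsg.Statements.S4591
import Cfsg.Agent.H43.PPrimeDegree
import Cfsg.Agent.H43.GlaubermanSolvable
import Cfsg.Agent.H24.PGroupBasic
import Cfsg.Agent.S0887

set_option autoImplicit false
open Cfsg
open scoped commutatorElement

set_option maxHeartbeats 800000

namespace Cfsg.Agent.S4591

variable {G : Type*} [Group G] [Fintype G] {p : ℕ} [Fact p.Prime]

theorem mult_ne_zero_of_comp {N D : Type*} [Group N] [Fintype N] [Group D] [Fintype D]
    (j : D →* N) {φ : N → ℂ} (hφ : Cfsg.IsCharacter N φ) {η : Cfsg.IrrCharacter N}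
    {δ : Cfsg.IrrCharacter D} (h : H43.mult φ η ≠ 0)
    (h' : H43.mult (fun d => η.1 (j d)) δ ≠ 0) : H43.mult (fun d => φ (j d)) δ ≠ 0 := by
  classical
  rw [H43.mult_comp j hφ δ]
  exact (Finset.sum_pos' (fun _ _ => Nat.zero_le _)
    ⟨η, Finset.mem_univ _, Nat.mul_pos (Nat.pos_of_ne_zero h) (Nat.pos_of_ne_zero h')⟩).ne'

theorem mult_self {N : Type*} [Group N] [Fintype N] {φ : N → ℂ} (θ : Cfsg.IrrCharacter N)
    (h : ∀ n, φ n = θ.1 n) : H43.mult φ θ ≠ 0 := by
  classical
  rw [funext h, H43.mult_eq_of_classInner (m := 1)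
    (by rw [H26.classInner_irr, if_pos rfl, Nat.cast_one])]
  exact one_ne_zero

theorem glaubermanData_top {S N : Type*} [Group S] [Group N] (φ : S →* MulAut N)
    (hS : IsPGroup p S) (hN : ¬ p ∣ Nat.card N) :
    H43.GlaubermanData p φ (H43.fixedSub φ ⊤).subtype :=
  ⟨Fact.out, hS, hN, Subgroup.subtype_injective _, fun g =>
    ⟨fun h => ⟨⟨g, fun t _ => h t⟩, rfl⟩, fun ⟨c, hc⟩ t => hc ▸ c.2 t trivial⟩⟩

theorem exists_index_subgroupOf (U : Subgroup G) [U.Normal] (P : Sylow p G) :
    ∃ k : ℕ, (U.subgroupOf (U ⊔ (P : Subgroup G))).index = p ^ k := by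
  have h1 : (U.subgroupOf (U ⊔ (P : Subgroup G))).index = U.relIndex (P : Subgroup G) := by
    show U.relIndex _ = _
    exact Subgroup.relIndex_sup_right (H := (P : Subgroup G)) (K := U) ▸ by rw [sup_comm]
  rw [h1]
  obtain ⟨n, hn⟩ := P.2.exists_card_eq
  obtain ⟨k, -, hk⟩ := (Nat.dvd_prime_pow Fact.out).mp
    (hn ▸ Subgroup.relIndex_dvd_card U (P : Subgroup G))
  exact ⟨k, hk⟩

theorem not_dvd_index_sup (U : Subgroup G) (P : Sylow p G) :
    ¬ p ∣ (U ⊔ (P : Subgroup G)).index := fun h =>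
  P.not_dvd_index (h.trans (Subgroup.index_dvd_of_le le_sup_right))

/-- A normal subgroup killed by all characters of degree prime to `p`, equal to its own
`p`-residual, has trivial fixed points under a Sylow `p`-subgroup. -/
theorem inf_centralizer_eq_bot (U : Subgroup G) [U.Normal]
    (hker : ∀ χ : Cfsg.IrrCharacter G, ¬ p ∣ Cfsg.charDegree χ.1 → U ≤ H43.charKer χ)
    (hres : Cfsg.pResidual p U = ⊤) (P : Sylow p G) :
    U ⊓ Subgroup.centralizer ((P : Subgroup G) : Set G) = ⊥ := by
  classical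
  set H : Subgroup G := U ⊔ (P : Subgroup G) with hH
  haveI : Fintype H := Fintype.ofFinite _
  set N : Subgroup H := U.subgroupOf H with hNdef
  haveI : N.Normal := inferInstance
  haveI : Fintype N := Fintype.ofFinite _
  set S : Subgroup H := (P : Subgroup G).subgroupOf H with hSdef
  have hS : IsPGroup p S := P.2.of_equiv (Subgroup.subgroupOfEquivOfLe le_sup_right).symm
  set φ : S →* MulAut N := (MulAut.conjNormal).comp S.subtype with hφdef
  have hNres : Cfsg.pResidual p N = ⊤ := by
    let e := Subgroup.subgroupOfEquivOfLe (le_sup_left : U ≤ H)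
    rw [← H22.map_pResidual_of_surjective e.symm.toMonoidHom e.symm.surjective, hres,
      Subgroup.map_top_of_surjective _ e.symm.surjective]
  obtain ⟨k, hk⟩ := exists_index_subgroupOf U P
  have key : ∀ θ : Cfsg.IrrCharacter N, H43.InvFun φ θ.1 → ¬ p ∣ Cfsg.charDegree θ.1 →
      θ = H26.oneIrr N := by
    intro θ hθ hd
    have hinv : ∀ x : H, H43.irrConj N x θ = θ := by
      let Z : Subgroup H :=
        { carrier := {x | H43.irrConj N x θ = θ}
          one_mem' := Subtype.ext (funext fun n => by simp [H43.irrConj_apply])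
          mul_mem' := fun {a b} ha hb => by
            show H43.irrConj N (a * b) θ = θ
            rw [← H43.irrConj_irrConj, show H43.irrConj N a θ = θ from ha]
            exact hb
          inv_mem' := fun {a} ha => by
            show H43.irrConj N a⁻¹ θ = θ
            conv_lhs => rw [← show H43.irrConj N a θ = θ from ha]
            rw [H43.irrConj_irrConj, mul_inv_cancel]
            exact Subtype.ext (funext fun n => by simp [H43.irrConj_apply]) }
      have htop : N ⊔ S ≤ Z := by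
        refine sup_le (fun x hx => ?_) (fun x hx => ?_)
        · refine Subtype.ext (funext fun n => ?_)
          rw [H43.irrConj_apply, show MulAut.conjNormal x n = (⟨x, hx⟩ : N) * n * ⟨x, hx⟩⁻¹ from
            Subtype.ext (by simp), H26.irr_conj]
        · exact Subtype.ext (funext fun n => hθ ⟨x, hx⟩ n)
      rw [← Subgroup.subgroupOf_sup le_sup_left le_sup_right, Subgroup.subgroupOf_self] at htop
      exact fun x => htop (Subgroup.mem_top x)
    have hcop : Nat.Coprime N.index (Cfsg.detOrder θ.1 * Cfsg.charDegree θ.1) := by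
      rw [hk]
      exact Nat.Coprime.pow_left k ((Fact.out : p.Prime).coprime_iff_not_dvd.mpr
        ((Fact.out : p.Prime).not_dvd_mul (H43.not_dvd_detOrder hNres θ) hd))
    obtain ⟨η, hη, -⟩ := H43.exists_coprime_ext θ hinv hcop
    have hηd : Cfsg.charDegree η.1 = Cfsg.charDegree θ.1 := by
      simp only [Cfsg.charDegree]
      rw [← hη 1, Subgroup.coe_one]
    obtain ⟨χ, hχ, hm⟩ := H43.exists_above_not_dvd H η (not_dvd_index_sup U P) (hηd ▸ hd)
    have hm2 := mult_ne_zero_of_comp N.subtype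
      (H26.isCharacter_comp (H26.irr_isCharacter χ) H.subtype) hm
      (mult_self (φ := fun d : N => η.1 (N.subtype d)) θ hη)
    refine H43.eq_oneIrr_of_mult_ne_zero (φ := fun n : N => χ.1 ((n : H) : G)) ?_ hm2
    have hconst : ∀ n : N, χ.1 ((n : H) : G) = χ.1 1 := fun n => hker χ hχ n.2
    exact fun n => (hconst n).trans (hconst 1).symm
  have hp : ¬ p ∣ Nat.card N := by
    have h := H43.sum_invFun_sq_cong (p := p) φ hS
    have h1 : (Finset.univ.filter fun θ : Cfsg.IrrCharacter N =>
        H43.InvFun φ θ.1 ∧ ¬ p ∣ Cfsg.charDegree θ.1) = {H26.oneIrr N} := by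
      ext θ
      simp only [Finset.mem_filter, Finset.mem_univ, true_and, Finset.mem_singleton]
      refine ⟨fun h => key θ h.1 h.2, ?_⟩
      rintro rfl
      refine ⟨fun _ _ => rfl, ?_⟩
      rw [Cfsg.charDegree, H26.oneIrr_val]
      simp [(Fact.out : p.Prime).ne_one]
    rw [h1, Finset.sum_singleton] at h
    intro hdvd
    have h2 : Cfsg.charDegree (H26.oneIrr N).1 = 1 := by
      rw [Cfsg.charDegree, H26.oneIrr_val]; simp
    rw [h2, one_pow, Nat.cast_one] at h
    obtain ⟨c, hc, e⟩ := h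
    have h0 : H43.IntCong p (Nat.card N : ℂ) 0 := by
      obtain ⟨m, hm⟩ := hdvd
      rw [hm, Nat.cast_mul]
      exact H43.IntCong.mul_self_zero (isIntegral_algebraMap (R := ℤ) (x := (m : ℤ)))
    have h10 : H43.IntCong p ((1 : ℕ) : ℂ) 0 := by
      rw [Nat.cast_one]; exact (H43.IntCong.symm ⟨c, hc, e⟩).trans h0
    exact (Fact.out : p.Prime).not_dvd_one (H43.IntCong.nat_dvd (NeZero.ne p) h10)
  haveI : Fintype (H43.fixedSub φ ⊤) := Fintype.ofFinite _
  have hC := (glaubermanData_top φ hS hp).card_eq_one fun θ hθ => key θ hθ fun h =>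
    hp (h.trans (H43.irr_charDegree_dvd θ))
  rw [eq_bot_iff]
  rintro g ⟨hgU, hgC⟩
  rw [Subgroup.mem_bot]
  haveI : Subsingleton (H43.fixedSub φ ⊤) := (Nat.card_eq_one_iff_unique.mp hC).1
  have hmem : (⟨⟨g, le_sup_left (b := (P : Subgroup G)) hgU⟩, hgU⟩ : N) ∈
      H43.fixedSub φ ⊤ := by
    intro t _
    refine Subtype.ext (Subtype.ext ?_)
    show ((t : H) : G) * g * ((t : H) : G)⁻¹ = g
    have h := Subgroup.mem_centralizer_iff.mp hgC ((t : H) : G) t.2
    rw [h, mul_inv_cancel_right]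
  have := congrArg (fun c : H43.fixedSub φ ⊤ => (((c : N) : H) : G))
    (Subsingleton.elim (⟨_, hmem⟩ : H43.fixedSub φ ⊤) 1)
  simpa using this

theorem le_charKer (P : Sylow p G) (N : Subgroup G) [N.Normal]
    (hN : N ⊓ Subgroup.centralizer ((P : Subgroup G) : Set G) = ⊥)
    (χ : Cfsg.IrrCharacter G) (hχ : ¬ p ∣ Cfsg.charDegree χ.1) :
    (N ⊔ ⁅(P : Subgroup G), (P : Subgroup G)⁆).normalCore ≤ H43.charKer χ := by
  classical
  have hp : ¬ p ∣ Nat.card N := by
    refine H22.not_dvd_card_of_sylow_inf_eq_bot P N ?_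
    by_contra hne
    set Q := N.subgroupOf (P : Subgroup G) with hQ
    haveI : Q.Normal := inferInstance
    have hQne : Q ≠ ⊥ := fun h => hne (by
      rw [inf_comm]; exact disjoint_iff.mp (Subgroup.subgroupOf_eq_bot.mp h))
    obtain ⟨z, hz⟩ := Subgroup.ne_bot_iff_exists_ne_one.mp (H24.inf_center_ne_bot P.2 hQne)
    apply hz
    have hmem : ((z : (P : Subgroup G)) : G) ∈
        N ⊓ Subgroup.centralizer ((P : Subgroup G) : Set G) :=
      ⟨z.2.1, Subgroup.mem_centralizer_iff.mpr fun x hx =>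
        congrArg Subtype.val (Subgroup.mem_center_iff.mp z.2.2 ⟨x, hx⟩)⟩
    rw [hN, Subgroup.mem_bot] at hmem
    exact Subtype.ext (Subtype.ext hmem)
  haveI : Fintype N := Fintype.ofFinite _
  set φ : (P : Subgroup G) →* MulAut N := (MulAut.conjNormal).comp (P : Subgroup G).subtype
  haveI : Fintype (H43.fixedSub φ ⊤) := Fintype.ofFinite _
  haveI : Subsingleton (H43.fixedSub φ ⊤) := ⟨fun a b => by
    have hone : ∀ c : H43.fixedSub φ ⊤, c = 1 := by
      rintro ⟨c, hc⟩
      have : (c : G) ∈ N ⊓ Subgroup.centralizer ((P : Subgroup G) : Set G) :=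
        ⟨c.2, Subgroup.mem_centralizer_iff.mpr fun x hx => by
          have h := congrArg Subtype.val (hc ⟨x, hx⟩ trivial)
          rw [show ((φ ⟨x, hx⟩ c : N) : G) = x * c * x⁻¹ from rfl] at h
          exact mul_inv_eq_iff_eq_mul.mp h⟩
      rw [hN, Subgroup.mem_bot] at this
      exact Subtype.ext (Subtype.ext this)
    rw [hone a, hone b]⟩
  obtain ⟨θ, hθ, hm⟩ := H43.exists_invFun_constituent φ P.2
    (H43.isCharacter_restr N χ) (fun s n => by
      show χ.1 ((s : G) * n * (s : G)⁻¹) = χ.1 n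
      rw [H26.irr_conj])
    (H43.irr_charDegree_spec χ) hχ
  rw [(glaubermanData_top φ P.2 hp).eq_oneIrr θ hθ] at hm
  have hNker : N ≤ H43.charKer χ := H43.le_charKer_of_one χ N hm
  set H : Subgroup G := N ⊔ (P : Subgroup G)
  haveI : Fintype H := Fintype.ofFinite _
  obtain ⟨ψ, hψ, hψd⟩ := H43.exists_mult_not_dvd (φ := fun h : H => χ.1 h)
    (H26.isCharacter_comp (H26.irr_isCharacter χ) H.subtype) (H43.irr_charDegree_spec χ) hχ
  set M : Subgroup H := N.subgroupOf H
  haveI : Fintype M := Fintype.ofFinite _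
  have hMψ : M ≤ H43.charKer ψ := by
    obtain ⟨δ, hδ⟩ := H43.exists_restrMult_ne_zero M ψ
    have h2 := mult_ne_zero_of_comp M.subtype
      (H26.isCharacter_comp (H26.irr_isCharacter χ) H.subtype) hψ hδ
    have hconst : ∀ n : M, χ.1 (((n : M) : H) : G) = χ.1 1 := fun n => hNker n.2
    have h1 : δ = H26.oneIrr M := H43.eq_oneIrr_of_mult_ne_zero
      (φ := fun n : M => χ.1 ((n : H) : G))
      (fun n => (hconst n).trans (hconst 1).symm) h2
    exact H43.le_charKer_of_one ψ M (h1 ▸ hδ)
  have hψ1 : Cfsg.charDegree ψ.1 = 1 := by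
    have hcon : Cfsg.classInner (fun n : M => ψ.1 n) (H26.oneIrr M).1 ≠ 0 := by
      rw [H43.classInner_eq_mult (H43.isCharacter_restr M ψ), Nat.cast_ne_zero]
      obtain ⟨δ, hδ⟩ := H43.exists_restrMult_ne_zero M ψ
      have hconst : ∀ n : M, ψ.1 (n : H) = ψ.1 1 := fun n => hMψ n.2
      have h1 : δ = H26.oneIrr M := H43.eq_oneIrr_of_mult_ne_zero
        (φ := fun n : M => ψ.1 (n : H))
        (fun n => (hconst n).trans (hconst 1).symm) hδ
      exact h1 ▸ hδ
    obtain ⟨-, h⟩ := S0887.result M ψ.1 ψ.2 (H26.oneIrr M).1 (H26.oneIrr M).2 hcon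
      (Cfsg.charDegree ψ.1) 1 (H43.irr_charDegree_spec ψ) (by rw [H26.oneIrr_val, Nat.cast_one])
    rw [Nat.div_one] at h
    obtain ⟨k, hk⟩ := exists_index_subgroupOf N P
    rw [show M.index = p ^ k from hk] at h
    exact Nat.eq_one_of_dvd_coprimes
      (Nat.Coprime.pow_right k ((Fact.out : p.Prime).coprime_iff_not_dvd.mpr hψd).symm) dvd_rfl h
  obtain ⟨f, hf⟩ := H26.exists_hom_of_isCharacter_one (H26.irr_isCharacter ψ)
    (by rw [H43.irr_charDegree_spec, hψ1, Nat.cast_one])
  have hle : N ⊔ ⁅(P : Subgroup G), (P : Subgroup G)⁆ ≤ f.ker.map H.subtype := by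
    refine sup_le (fun x hx => ?_) ?_
    · refine ⟨⟨x, le_sup_left (b := (P : Subgroup G)) hx⟩, ?_, rfl⟩
      have hx' : (⟨x, le_sup_left (b := (P : Subgroup G)) hx⟩ : H) ∈ H43.charKer ψ := hMψ hx
      rw [H43.mem_charKer] at hx'
      apply Units.ext
      rw [hf, hx', H43.irr_charDegree_spec, hψ1, Nat.cast_one, Units.val_one]
    · rw [Subgroup.commutator_le]
      intro a ha b hb
      refine ⟨⁅(⟨a, le_sup_right (a := N) ha⟩ : H), ⟨b, le_sup_right (a := N) hb⟩⁆, ?_, rfl⟩
      show f _ = 1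
      rw [map_commutatorElement, commutatorElement_eq_one_iff_mul_comm, mul_comm]
  set R := (N ⊔ ⁅(P : Subgroup G), (P : Subgroup G)⁆).normalCore
  haveI : Fintype R := Fintype.ofFinite _
  have hRH : R ≤ H := ((Subgroup.normalCore_le _).trans hle).trans (Subgroup.map_subtype_le _)
  refine H43.le_charKer_of_one χ R ?_
  refine mult_ne_zero_of_comp (φ := fun h : H => χ.1 h) (Subgroup.inclusion hRH)
    (H26.isCharacter_comp (H26.irr_isCharacter χ) H.subtype) hψ (mult_self _ fun r => ?_)
  obtain ⟨y, hy, hyr⟩ := hle (Subgroup.normalCore_le _ r.2)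
  rw [← hf, show Subgroup.inclusion hRH r = y from Subtype.ext hyr.symm, show f y = 1 from hy,
    Units.val_one, H26.oneIrr_val]

theorem core (P : Sylow p G) (N : Subgroup G) [N.Normal]
    (hmax : ∀ L : Subgroup G, L.Normal →
      L ⊓ Subgroup.centralizer ((P : Subgroup G) : Set G) = ⊥ → L ≤ N)
    (g : G) (hg : ∀ χ : Cfsg.IrrCharacter G, ¬ p ∣ Cfsg.charDegree χ.1 → g ∈ H43.charKer χ) :
    g ∈ (N ⊔ ⁅(P : Subgroup G), (P : Subgroup G)⁆).normalCore := by
  classical
  set K : Subgroup G :=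
    ⨅ χ : {χ : Cfsg.IrrCharacter G // ¬ p ∣ Cfsg.charDegree χ.1}, H43.charKer χ.1
  haveI : K.Normal := Subgroup.normal_iInf_normal fun _ => inferInstance
  have hgK : g ∈ K := Subgroup.mem_iInf.mpr fun χ => hg χ.1 χ.2
  have hKker : ∀ χ : Cfsg.IrrCharacter G, ¬ p ∣ Cfsg.charDegree χ.1 → K ≤ H43.charKer χ :=
    fun χ hχ => iInf_le (fun χ : {χ : Cfsg.IrrCharacter G // ¬ p ∣ Cfsg.charDegree χ.1} =>
      H43.charKer χ.1) ⟨χ, hχ⟩
  -- the part in the Sylow subgroup
  have hD : K ⊓ (P : Subgroup G) ≤ ⁅(P : Subgroup G), (P : Subgroup G)⁆ := by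
    rintro x ⟨hxK, hxP⟩
    rw [← Subgroup.map_subtype_commutator]
    refine ⟨⟨x, hxP⟩, ?_, rfl⟩
    rw [commutator_def]
    by_contra hne
    haveI : IsMulCommutative (Abelianization (P : Subgroup G)) := ⟨⟨mul_comm⟩⟩
    obtain ⟨μ, hμ⟩ := H27.exists_linear_ne_one
      (g := Abelianization.of (⟨x, hxP⟩ : (P : Subgroup G))) fun h => hne (by
        rw [← commutator_def, ← Abelianization.ker_of]
        exact h)
    haveI : Fintype (P : Subgroup G) := Fintype.ofFinite _
    have hlin : Cfsg.charDegree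
        (H43.irrTwist (H26.oneIrr (P : Subgroup G)) (μ.comp Abelianization.of)).1 = 1 := by
      rw [H43.charDegree_irrTwist, Cfsg.charDegree, H26.oneIrr_val]; simp
    obtain ⟨χ, hχ, hm⟩ := H43.exists_above_not_dvd (P : Subgroup G)
      (H43.irrTwist (H26.oneIrr _) (μ.comp Abelianization.of)) P.not_dvd_index
      (by rw [hlin]; exact (Fact.out : p.Prime).not_dvd_one)
    exact hμ (H43.hom_eq_one_of_mem_charKer χ _ (μ.comp Abelianization.of) hm ⟨x, hxP⟩
      (hKker χ hχ hxK))
  set U : Subgroup G := (Cfsg.pResidual p K).map K.subtype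
  haveI : U.Normal := inferInstance
  have hUK : U ≤ K := Subgroup.map_subtype_le _
  have hUres : Cfsg.pResidual p U = ⊤ := by
    let e := (Cfsg.pResidual p K).equivMapOfInjective K.subtype K.subtype_injective
    rw [← H22.map_pResidual_of_surjective e.toMonoidHom e.surjective,
      H22.pResidual_pResidual_eq_top, Subgroup.map_top_of_surjective _ e.surjective]
  have hUN : U ≤ N := hmax U inferInstance
    (inf_centralizer_eq_bot U (fun χ hχ => hUK.trans (hKker χ hχ)) hUres P)
  have hKle : K ≤ U ⊔ (K ⊓ (P : Subgroup G)) := by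
    have h := congrArg (Subgroup.map K.subtype) (H22.pResidual_sup_eq_top_of_not_dvd_index
      ((P : Subgroup G).subgroupOf K) (H22.sylow_not_dvd_relIndex_normal P K))
    rw [Subgroup.map_sup, Subgroup.subgroupOf_map_subtype, ← MonoidHom.range_eq_map,
      Subgroup.range_subtype] at h
    rw [inf_comm]
    exact h.ge
  exact Subgroup.normal_le_normalCore.mpr
    (hKle.trans (sup_le (hUN.trans le_sup_left) (hD.trans le_sup_right))) hgK

/-- Let G be a finite group, p a prime and P a Sylow p-subgroup, and let N be the largest normal subgroup of G in which P has trivial centralizer (N is normal with C_N(P) = 1 and contains every normal subgroup with that property). Then the intersection of the kernels of the irreducible characters of G of degree prime to p is the normal core in G of the subgroup N·P' (P' the derived subgroup of P). In particular, when G has no nontrivial normal subgroup of order prime to p, that intersection is the normal core of P'. -/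
theorem result {G : Type*} [Group G] [Finite G] (p : ℕ) [Fact p.Prime] (P : Sylow p G) (N : Subgroup G) [N.Normal]
    (hN : N ⊓ Subgroup.centralizer ((P : Subgroup G) : Set G) = ⊥)
    (hmax : ∀ L : Subgroup G, L.Normal → L ⊓ Subgroup.centralizer ((P : Subgroup G) : Set G) = ⊥ → L ≤ N) :
    {g : G | ∀ χ : Cfsg.IrrCharacter G, ¬ p ∣ Cfsg.charDegree (χ : G → ℂ) → (χ : G → ℂ) g = (χ : G → ℂ) 1} =
      ((N ⊔ ⁅(P : Subgroup G), (P : Subgroup G)⁆).normalCore : Set G) := by
  haveI := Fintype.ofFinite G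
  ext g
  exact ⟨fun hg => core P N hmax g hg, fun hg χ hχ => le_charKer P N hN χ hχ hg⟩

end Cfsg.Agent.S4591
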