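import Cfsg.Statements.S4606
import Cfsg.Agent.H23.OneSubsection
-- import your own Cfsg.Agent.* helpers here

set_option autoImplicit false
open Cfsg

namespace Cfsg.Agent.S4606

/-- Let G be a finite group, p a prime, M a maximal ideal of the algebraic integers containing p, and B a p-block of G with defect group D. Suppose the number of irreducible characters in B exceeds the p-regular rank of B (the number of irreducible Brauer characters in B) by exactly one. If B is the principal block, or if G is p-solvable, then D is elementary abelian. -/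
theorem result {G : Type*} [Group G] [Finite G] (p : ℕ) [Fact p.Prime] (M : Ideal Cfsg.AlgInt) (hM : Cfsg.IsPModular p M) (B : Set (Cfsg.IrrCharacter G)) (hB : Cfsg.IsPBlock M B) (D : Subgroup G) (hD : Cfsg.IsDefectGroup p M B D)
    (hk : Nat.card B = Cfsg.blockRank p B + 1) (hB0 : B = Cfsg.principalBlock M G ∨ Cfsg.IsPSolvable p G) :
    Cfsg.IsElementaryAbelian p D := by
  classical
  haveI := hM.2.1
  haveI := Fintype.ofFinite G
  have hp : p.Prime := Fact.out
  have hDp : IsPGroup p D := H40.isPGroup_of_isDefectGroup hD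
  have hord : ∀ x ∈ D, ∃ j, orderOf x = p ^ j := fun x hx => by
    obtain ⟨j, hj⟩ := IsPGroup.iff_orderOf.1 hDp ⟨x, hx⟩
    exact ⟨j, by rwa [← Subgroup.orderOf_coe] at hj⟩
  have hconj : ∀ x ∈ D, ∀ y ∈ D, x ≠ 1 → y ≠ 1 → IsConj x y := by
    intro x hx y hy hx1 hy1
    obtain ⟨bx, hbx⟩ := H23.OneSubsection.exists_isInducedBlock_of_mem hM hB hD hx
    obtain ⟨bY, hby⟩ := H23.OneSubsection.exists_isInducedBlock_of_mem hM hB hD hy
    exact (H23.OneSubsection.subsection_unique hM hB hD hk (hord x hx) (hord y hy) hx1 hy1 hbx hby).1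
  have hexp : ∀ a ∈ D, a ^ p = 1 := by
    intro a ha
    by_cases ha1 : a = 1
    · rw [ha1, one_pow]
    obtain ⟨j, hj⟩ := hord a ha
    have hj0 : j ≠ 0 := fun h => ha1 (orderOf_eq_one_iff.1 (by rw [hj, h, pow_zero]))
    have hpD : p ∣ Nat.card D := (dvd_pow_self p hj0).trans (by
      rw [← hj, ← Subgroup.orderOf_mk a ha]
      exact orderOf_dvd_natCard _)
    obtain ⟨c, hc⟩ := exists_prime_orderOf_dvd_card' p hpD
    have hc1 : (c : G) ≠ 1 := fun h => hp.ne_one (by
      rw [← hc, ← Subgroup.orderOf_coe, h, orderOf_one])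
    obtain ⟨g, hg⟩ := isConj_iff.1 (hconj c c.2 a ha hc1 ha1)
    rw [← hg, conj_pow, ← SubgroupClass.coe_pow, ← hc, pow_orderOf_eq_one]
    simp
  have hcomm : ∀ x ∈ D, ∀ y ∈ D, x * y = y * x := by
    rcases hB0 with hB0 | hsolv
    · subst hB0
      by_cases hp2 : p = 2
      · subst hp2
        intro x hx y hy
        have h : ∀ a ∈ D, a⁻¹ = a := fun a ha =>
          inv_eq_of_mul_eq_one_right (by rw [← pow_two]; exact hexp a ha)
        calc x * y = (x * y)⁻¹ := (h _ (mul_mem hx hy)).symm
          _ = y * x := by rw [mul_inv_rev, h x hx, h y hy]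
      have hind : ∀ u : G, (∃ j, orderOf u = p ^ j) →
          Cfsg.IsInducedBlock M (Subgroup.centralizer ({u} : Set G))
            (Cfsg.principalBlock M (Subgroup.centralizer ({u} : Set G)))
            (Cfsg.principalBlock M G) := fun u hu => by
        haveI := Fintype.ofFinite (Subgroup.centralizer ({u} : Set G))
        exact (H41.isInducedBlock_principal_iff _ hM
          (H40.exists_isInducedBlock_centralizer hM hu H41.isPBlock_principalBlock)).2 rfl
      have hC : ∀ u : G, u ≠ 1 → (∃ j, orderOf u = p ^ j) →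
          Cfsg.HasNormalPComplement p (Subgroup.centralizer ({u} : Set G)) := fun u hu1 hu => by
        haveI := Fintype.ofFinite (Subgroup.centralizer ({u} : Set G))
        exact (H32.blockRank_principal_eq_one_iff hM).1
          (H23.OneSubsection.subsection_unique hM hB hD hk hu hu hu1 hu1 (hind u hu) (hind u hu)).2
      have hconj' : ∀ x y : G, x ≠ 1 → y ≠ 1 → (∃ j, orderOf x = p ^ j) →
          (∃ j, orderOf y = p ^ j) → IsConj x y := fun x y hx1 hy1 hx hy =>
        (H23.OneSubsection.subsection_unique hM hB hD hk hx hy hx1 hy1 (hind x hx) (hind y hy)).1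
      obtain ⟨P, hP⟩ := hDp.exists_le_sylow
      exact fun x hx y hy =>
        H23.OneSubsection.sylow_abelian hC hp2 hconj' P x (hP hx) y (hP hy)
    · exact H23.OneSubsection.isMulCommutative_of_conj_pSolvable hsolv hDp hconj
  exact ⟨⟨⟨fun a b => Subtype.ext (hcomm a a.2 b b.2)⟩⟩, hexp⟩

end Cfsg.Agent.S4606
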