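import Cfsg.Statements.S4707
import Cfsg.Agent.H63.HalfNorm.RankThree
import Cfsg.Agent.S0720
import Cfsg.Agent.S5727
import Cfsg.Agent.S3385
import Cfsg.Agent.S3669
import Cfsg.Agent.S0494

set_option autoImplicit false
open Cfsg

namespace Cfsg.Agent.S4707

open Cfsg.Agent.H63.HalfNorm

/-- Two consecutive numbers with product a power of two are `1` and `2`. -/
theorem eq_one_of_two_pow {a m : ℕ} (h : 2 * a * (a + 1) = 2 ^ m) : a = 1 := by
  obtain ⟨i, -, hi⟩ := (Nat.dvd_prime_pow Nat.prime_two).1 (⟨2 * (a + 1), by rw [← h]; ring⟩ : a ∣ 2 ^ m)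
  obtain ⟨j, -, hj⟩ := (Nat.dvd_prime_pow Nat.prime_two).1 (⟨2 * a, by rw [← h]; ring⟩ : a + 1 ∣ 2 ^ m)
  rcases Nat.eq_zero_or_pos i with rfl | hi0
  · simpa using hi
  rcases Nat.eq_zero_or_pos j with rfl | hj0
  · have := Nat.two_pow_pos i; simp at hj; omega
  obtain ⟨i', rfl⟩ : ∃ i', i = i' + 1 := ⟨i - 1, by omega⟩
  obtain ⟨j', rfl⟩ : ∃ j', j = j' + 1 := ⟨j - 1, by omega⟩
  rw [pow_succ] at hi hj
  omega

/-- Let p > 3 be a prime and G a primitive permutation group of degree 2p that is not doubly transitive. If a Sylow p-subgroup of G has normalizer of order 2p, then p = 5 and G is isomorphic to the alternating group of degree 5. -/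
theorem result {α : Type*} [Fintype α] [DecidableEq α] {p : ℕ} [Fact p.Prime] (hp : 3 < p) (hα : Fintype.card α = 2 * p) (G : Subgroup (Equiv.Perm α)) (hprim : MulAction.IsPreprimitive G α) (hnot2 : ¬ MulAction.IsMultiplyPretransitive G α 2) (P : Sylow p G) (hN : Nat.card (Subgroup.normalizer ((P : Subgroup G) : Set G)) = 2 * p) : p = 5 ∧ Nonempty (G ≃* alternatingGroup (Fin 5)) := by
  classical
  have hpp : p.Prime := Fact.out
  have hcard' : Nat.card α = 2 * p := by rw [Nat.card_eq_fintype_card, hα]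
  haveI : Nonempty α := Fintype.card_pos_iff.1 (by omega)
  haveI := hprim.toIsPretransitive
  letI : Fintype G := Fintype.ofFinite _
  obtain ⟨S, hPcard, hPx⟩ := exists_setup (by omega : p ≠ 2) G hprim
    (by rw [hcard']; exact dvd_mul_left p 2) P hN
  -- elements of order `p` have no fixed point
  have hfree : ∀ g : G, orderOf g = p → Nat.card (MulAction.fixedBy α g) = 0 := by
    obtain ⟨σ, hσ, hfix⟩ := Cfsg.Agent.S5727.result (G := G) (Ω := α) hprim.toIsPretransitive p 2 hpp
      (by norm_num) hpp.two_le hα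
    obtain ⟨j₀, hj₀, hσj⟩ := S.isConj_e hσ
    intro g hg
    obtain ⟨j, hj, hgj⟩ := S.isConj_e hg
    rw [Nat.card_eq_zero]
    refine Or.inl ⟨fun a => ?_⟩
    obtain ⟨c, hc⟩ := isConj_iff.1 hgj
    obtain ⟨c₀, hc₀⟩ := isConj_iff.1 hσj
    have hpow : S.e j ^ (j⁻¹ * j₀).val = S.e j₀ := by
      rw [Setup.e, ← pow_mul, ← S.e_natCast]
      push_cast
      rw [ZMod.natCast_zmod_val, ZMod.natCast_zmod_val, ← mul_assoc, mul_inv_cancel₀ hj, one_mul]
    have h1 : S.e j • (c • (a : α)) = c • (a : α) := by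
      rw [← hc, mul_smul, mul_smul, inv_smul_smul]
      exact congrArg (c • ·) a.2
    have h2 : S.e j₀ • (c • (a : α)) = c • (a : α) := by
      rw [← hpow]
      exact MulAction.mem_stabilizer_iff.1 (pow_mem (MulAction.mem_stabilizer_iff.2 h1) _)
    refine hfix (c₀⁻¹ • c • (a : α)) ?_
    rw [← hc₀, mul_smul, mul_smul] at h2
    exact eq_inv_smul_iff.2 h2
  obtain ⟨a₀⟩ := ‹Nonempty α›
  obtain ⟨h3, s, hs0, hps, hsize⟩ :=
    (Cfsg.Agent.S0720.result hpp hα G hprim a₀).resolve_left hnot2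
  have h3' : Nat.card (Quotient (MulAction.orbitRel G (α × α))) = 3 :=
    (Cfsg.Agent.S0669.result (G := G) a₀).trans h3
  have hsym := self_paired (G := G) a₀ (by rw [hcard']; exact even_two_mul p) h3
  obtain ⟨T₀, B, hTS, hBdeg, hπ⟩ := exists_datum S hp hcard'
    (fun j hj => by rw [Cfsg.Agent.H26.permChar, hfree _ (S.orderOf_e hj)]; simp) hsym h3'
  -- rationality
  have hpow : ∀ (g : G) (j : ℕ), j.Coprime (Nat.card G) →
      MulAction.fixedBy α (g ^ j) = MulAction.fixedBy α g := by
    intro g j hj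
    refine Set.Subset.antisymm ?_ (MulAction.fixedBy_subset_fixedBy_zpow α g j |>.trans
      (by rw [zpow_natCast]))
    obtain ⟨i, hi⟩ := exists_pow_eq_self_of_coprime (x := g) (n := j)
      (hj.coprime_dvd_right (orderOf_dvd_natCard g))
    conv_rhs => rw [← hi, ← zpow_natCast]
    exact MulAction.fixedBy_subset_fixedBy_zpow α (g ^ j) i
  have hA1 : T₀.A ≠ Cfsg.Agent.H26.oneIrr G := T₀.A_ne_one
  have hrat : ∀ (g : G) (j : ℕ), j.Coprime (Nat.card G) → T₀.A.1 (g ^ j) = T₀.A.1 g := by
    intro g j hj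
    set A' := Cfsg.Agent.H45.galIrr hj T₀.A with hA'
    have hπ' : Cfsg.Agent.H26.permChar (G := G) α
        = (Cfsg.Agent.H26.oneIrr G).1 + T₀.A.1 + B.1 := funext hπ
    have h1 : Cfsg.classInner (Cfsg.Agent.H26.permChar (G := G) α) A'.1
        = Cfsg.classInner (Cfsg.Agent.H26.permChar (G := G) α) T₀.A.1 := by
      rw [Cfsg.classInner, Cfsg.classInner]
      congr 1
      refine Fintype.sum_bijective _ (Cfsg.Agent.H45.powCoprime_bijective hj) _ _ fun x => ?_
      show _ * _ = Cfsg.Agent.H26.permChar α (x ^ j) * _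
      rw [Cfsg.Agent.H26.permChar, Cfsg.Agent.H26.permChar, hpow x j hj]
      rfl
    have hdA : A'.1 1 = (p : ℂ) - 1 := by
      show T₀.A.1 (1 ^ j) = _
      rw [one_pow, T₀.deg]
    have hne1 : A' ≠ Cfsg.Agent.H26.oneIrr G := by
      intro e
      rw [e, Cfsg.Agent.H26.oneIrr_val, eq_sub_iff_add_eq] at hdA
      have h2 : ((2 : ℕ) : ℂ) = (p : ℂ) := by norm_num [← hdA]
      have := Nat.cast_injective h2
      omega
    have hneB : A' ≠ B := by
      intro e
      rw [e, hBdeg] at hdA
      exact one_ne_zero (by linear_combination hdA : (1 : ℂ) = 0)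
    have hAB : T₀.A ≠ B := by
      intro e
      have h := T₀.deg
      rw [e, hBdeg] at h
      exact one_ne_zero (by linear_combination h : (1 : ℂ) = 0)
    rw [hπ', Cfsg.Agent.H26.classInner_add_left, Cfsg.Agent.H26.classInner_add_left,
      Cfsg.Agent.H26.classInner_add_left, Cfsg.Agent.H26.classInner_add_left,
      Cfsg.Agent.H26.classInner_irr, Cfsg.Agent.H26.classInner_irr, Cfsg.Agent.H26.classInner_irr,
      Cfsg.Agent.H26.classInner_irr, Cfsg.Agent.H26.classInner_irr, Cfsg.Agent.H26.classInner_irr,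
      if_neg hne1.symm, if_neg hneB.symm, if_neg hA1.symm, if_pos rfl, if_neg hAB.symm] at h1
    by_cases e : T₀.A = A'
    · exact (congrFun (congrArg Subtype.val e) g).symm
    · rw [if_neg e] at h1
      norm_num at h1
  have hfaith : ∀ g : G, T₀.A.1 g = T₀.A.1 1 → g = 1 := by
    obtain ⟨n, ρ, -, hρ⟩ := T₀.A.2
    have hmem : ∀ g : G, T₀.A.1 g = T₀.A.1 1 ↔ g ∈ (MonoidHom.ker ρ) := by
      intro g
      rw [← hρ, ρ.char_one, MonoidHom.mem_ker]
      exact Cfsg.Agent.H25.char_eq_degree_iff ρ g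
    intro g hg
    by_contra h1
    have hK1 : MonoidHom.ker ρ ≠ ⊥ := fun e => h1 (by
      have := (hmem g).1 hg
      rwa [e, Subgroup.mem_bot] at this)
    have hfix : MulAction.fixedPoints (MonoidHom.ker ρ) α ≠ Set.univ := by
      intro e
      refine hK1 ((Subgroup.eq_bot_iff_forall _).2 fun k hk => ?_)
      refine eq_of_smul_eq_smul (α := α) fun b => ?_
      have hb : b ∈ MulAction.fixedPoints (MonoidHom.ker ρ) α := e ▸ Set.mem_univ b
      rw [one_smul]
      exact hb ⟨k, hk⟩
    haveI := MulAction.IsQuasiPreprimitive.isPretransitive_of_normal hfix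
    have h2 : p ∣ Nat.card (MonoidHom.ker ρ) := by
      refine (dvd_mul_left p 2).trans ?_
      rw [← hcard']
      exact MulAction.index_stabilizer_of_transitive (MonoidHom.ker ρ) a₀ ▸ Subgroup.index_dvd_card _
    obtain ⟨k, hk⟩ := exists_prime_orderOf_dvd_card' p h2
    have hk' : orderOf (k : G) = p := by rw [Subgroup.orderOf_coe, hk]
    obtain ⟨j, hj, hkj⟩ := T₀.toSetup.isConj_e hk'
    have h4 := (hmem k.1).2 k.2
    rw [Cfsg.Agent.H26.irr_eq_of_isConj T₀.A hkj, T₀.val j hj, T₀.deg] at h4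
    exact hpp.ne_zero (Nat.cast_injective (R := ℂ) (by push_cast; linear_combination -h4))
  let T : RatDatum G p := { toDatum := T₀, rat := hrat, faithful := hfaith }
  have hs : s = 1 := by
    rcases Nat.lt_or_ge p 7 with h | h
    · by_contra hne
      have : 2 ≤ s := by omega
      nlinarith
    · obtain ⟨m, hm⟩ := T.two_pow h
      refine eq_one_of_two_pow (m := m) ?_
      rw [← hm, hps]
      exact (Nat.sub_eq_of_eq_add (by ring)).symm
  subst hs
  obtain rfl : p = 5 := hps
  refine ⟨rfl, ?_⟩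
  -- a suborbit of length 3
  obtain ⟨b, hb⟩ : ∃ b : α, Nat.card (MulAction.orbit (MulAction.stabilizer G a₀) b) = 3 := by
    by_contra hno
    push Not at hno
    obtain ⟨b, hb⟩ : ∃ b, b ≠ a₀ := Fintype.exists_ne_of_one_lt_card (by omega) a₀
    have h6 : ∀ b, b ≠ a₀ → Nat.card (MulAction.orbit (MulAction.stabilizer G a₀) b) = 6 :=
      fun b hb => ((hsize b hb).resolve_left (hno b))
    obtain ⟨c, hc, hc'⟩ : ∃ c, c ≠ a₀ ∧ c ∉ MulAction.orbit (MulAction.stabilizer G a₀) b := by
      by_contra hall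
      push Not at hall
      have hle : Nat.card {c : α // c ≠ a₀} ≤ Nat.card (MulAction.orbit (MulAction.stabilizer G a₀) b) :=
        Nat.card_le_card_of_injective (fun c => ⟨c.1, hall c.1 c.2⟩)
          (fun x y e => Subtype.ext (congrArg Subtype.val e :))
      rw [h6 b hb, Nat.card_eq_fintype_card (α := {c : α // c ≠ a₀}), Fintype.card_subtype_compl,
        Fintype.card_subtype_eq, hα] at hle
      omega
    have := card_rank_three a₀ b c h3 hb hc hc'
    rw [hcard', h6 b hb, h6 c hc] at this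
    omega
  obtain ⟨k, hk, hH⟩ := Cfsg.Agent.S3385.result (G := G) (Ω := α) hprim a₀ b hb
  have hG : Nat.card G = 10 * Nat.card (MulAction.stabilizer G a₀) := by
    rw [← Subgroup.card_mul_index (MulAction.stabilizer G a₀),
      MulAction.index_stabilizer_of_transitive G a₀, hcard', mul_comm]
  have hn5 : Nat.card (Sylow 5 G) = Nat.card (MulAction.stabilizer G a₀) := by
    have h := (Subgroup.normalizer ((P : Subgroup G) : Set G)).card_mul_index
    have e : Nat.card (Sylow 5 G) = (Subgroup.normalizer ((P : Subgroup G) : Set G)).index :=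
      P.card_eq_index_normalizer
    rw [hN, ← e, hG] at h
    omega
  have hmod : Nat.card (Sylow 5 G) % 5 = 1 := card_sylow_modEq_one 5 G
  rw [hn5, hH] at hmod
  have hk1 : k = 1 := by interval_cases k <;> simp at hmod ⊢
  rw [hk1] at hH
  have h60 : Nat.card G = 60 := by rw [hG, hH]; rfl
  haveI : IsSimpleGroup G := by
    refine Cfsg.Agent.S3669.simple_sixty h60 fun Q hQ => ?_
    haveI := Sylow.unique_of_normal Q hQ
    have h1 : Nat.card (Sylow 5 G) = 1 := Nat.card_unique
    rw [hn5, hH] at h1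
    norm_num at h1
  exact Cfsg.Agent.S0494.result h60

end Cfsg.Agent.S4707
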