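import Cfsg.Statements.S4758
import Cfsg.Agent.H44.ConstantFour.OrderFour

set_option autoImplicit false
open Cfsg

namespace Cfsg.Agent.S4758

/-- Let u ≠ 1 be an element of the finite group G such that every non-principal irreducible character χ satisfies χ(1) − χ(u) = 4 or χ(u) = 0. Then O(G), the largest normal subgroup of odd order, is abelian, and either G ⧸ O(G) ≅ PSL₂(5) and u is an involution, or G ⧸ O(G) ≅ SL₂(5) and u has order 4. -/
theorem result {G : Type*} [Group G] [Finite G] (u : G) (hu : u ≠ 1) (hyp : ∀ χ : Cfsg.IrrCharacter G, (χ : G → ℂ) ≠ (fun _ => (1 : ℂ)) → ((χ : G → ℂ) 1 - (χ : G → ℂ) u = 4 ∨ (χ : G → ℂ) u = 0)) : IsMulCommutative ↥(Cfsg.oddCore G) ∧ ((Nonempty (G ⧸ Cfsg.oddCore G ≃* Matrix.ProjectiveSpecialLinearGroup (Fin 2) (ZMod 5)) ∧ orderOf u = 2) ∨ (Nonempty (G ⧸ Cfsg.oddCore G ≃* Matrix.SpecialLinearGroup (Fin 2) (ZMod 5)) ∧ orderOf u = 4)) := by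
  classical
  have hyp' : ∀ χ : Cfsg.IrrCharacter G, χ ≠ H26.oneIrr G → (χ.1 1 - χ.1 u = 4 ∨ χ.1 u = 0) :=
    fun χ hne => hyp χ fun e => hne (Subtype.ext (e.trans (funext fun g => (H26.oneIrr_val g).symm)))
  have hperf := H44.ConstantFour.perfect hyp'
  obtain ⟨C⟩ := H44.ConstantFour.exists_chars hu hyp'
  by_cases h2 : u * u = 1
  · have hM := C.structure_two hperf h2
    have hs := C.isSimple_quotient hperf
    let eG : G ⧸ C.M ≃* G := (QuotientGroup.quotientMulEquivOfEq hM).trans QuotientGroup.quotientBot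
    have : IsSimpleGroup G := eG.symm.isSimpleGroup
    have hO : Cfsg.oddCore G = ⊥ := by
      rcases (H44.pPrimeCore_normal' (G := G) 2).eq_bot_or_eq_top with h | h
      · exact h
      · exfalso
        have hc := H44.pPrimeCore_card_coprime' (G := G) 2
        rw [h, Subgroup.card_top, ← Nat.card_congr eG.toEquiv,
          (C.order_and_fusion hperf).1] at hc
        exact absurd hc (by decide)
    obtain ⟨e⟩ := C.equiv_alt hperf
    haveI : Fact (Nat.Prime 5) := ⟨Nat.prime_five⟩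
    obtain ⟨e'⟩ := H1.PSL_two_five_equiv_alternating (F := ZMod 5) (ZMod.card 5)
    refine ⟨⟨⟨fun a b => Subtype.ext ?_⟩⟩, Or.inl ⟨⟨?_⟩, orderOf_eq_prime (by rw [pow_two, h2]) hu⟩⟩
    · have ha := a.2
      have hb := b.2
      simp only [hO, Subgroup.mem_bot] at ha hb
      simp [ha, hb]
    · exact ((QuotientGroup.quotientMulEquivOfEq hO).trans QuotientGroup.quotientBot).trans
        (eG.symm.trans (e.trans e'.symm))
  · obtain ⟨hc, he⟩ := C.structure_four hperf h2
    exact ⟨hc, Or.inr ⟨he, C.order_four h2⟩⟩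

end Cfsg.Agent.S4758
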