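import Cfsg.Statements.S4779
import Cfsg.Agent.H41.RelDiameter

set_option autoImplicit false
open Cfsg

namespace Cfsg.Agent.S4779

/-- Let N be a solvable normal subgroup of the finite group G contained in the derived subgroup of G, and consider the common-divisor graph on the relative degree set cd(G|N) (degrees of irreducible complex characters of G whose kernel does not contain N, two distinct degrees adjacent when not coprime). If this graph has two vertices that are not joined by any path, then there is a vertex a₀ such that any two distinct vertices in the component of a₀ are adjacent, and any two distinct vertices outside that component are adjacent or have a common neighbour (one component is complete, the other has diameter at most 2). -/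
theorem result {G : Type*} [Group G] [Finite G] (N : Subgroup G) [N.Normal] [Group.IsSolvable N] (hNG : N ≤ commutator G) (hdisc : ¬ (Cfsg.commonDivisorGraph.induce (Cfsg.relCharDegrees N)).Preconnected) : ∃ a₀ : ↥(Cfsg.relCharDegrees N), (∀ b c : ↥(Cfsg.relCharDegrees N), (Cfsg.commonDivisorGraph.induce (Cfsg.relCharDegrees N)).Reachable a₀ b → (Cfsg.commonDivisorGraph.induce (Cfsg.relCharDegrees N)).Reachable a₀ c → b ≠ c → (Cfsg.commonDivisorGraph.induce (Cfsg.relCharDegrees N)).Adj b c) ∧ (∀ b c : ↥(Cfsg.relCharDegrees N), ¬ (Cfsg.commonDivisorGraph.induce (Cfsg.relCharDegrees N)).Reachable a₀ b → ¬ (Cfsg.commonDivisorGraph.induce (Cfsg.relCharDegrees N)).Reachable a₀ c → b ≠ c → (Cfsg.commonDivisorGraph.induce (Cfsg.relCharDegrees N)).Adj b c ∨ ∃ d : ↥(Cfsg.relCharDegrees N), (Cfsg.commonDivisorGraph.induce (Cfsg.relCharDegrees N)).Adj b d ∧ (Cfsg.commonDivisorGraph.induce (Cfsg.relCharDegrees N)).Adj d c) := by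
  classical
  haveI := Fintype.ofFinite N
  set Γ := Cfsg.commonDivisorGraph.induce (Cfsg.relCharDegrees N)
  have hex : ∃ x y : ↥(Cfsg.relCharDegrees N), ¬ Γ.Reachable x y := by
    simpa [SimpleGraph.Preconnected] using hdisc
  obtain ⟨x, y, hxy⟩ := hex
  have hnc : ¬ H44.RelGraph.Conn N x.1 y.1 := fun ⟨_, _, h⟩ => hxy h
  have hne : N ≠ ⊥ := by
    rintro rfl
    obtain ⟨χ, ⟨z, hz, hne⟩, -⟩ := x.2
    exact hne (by rw [Subgroup.mem_bot.1 hz])
  haveI : Nontrivial N := (Subgroup.nontrivial_iff_ne_bot N).2 hne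
  have hlt : ⁅N, N⁆ < N := by
    refine lt_of_le_of_ne (Subgroup.commutator_le_self N) fun h => ?_
    have h2 : commutator N = ⊤ := by
      rw [H44.RelGraph.commutator_eq_subgroupOf, h, Subgroup.subgroupOf_self]
    exact (Group.IsSolvable.commutator_lt_top_of_nontrivial N).ne h2
  obtain ⟨r, hr, hrm⟩ := Nat.exists_prime_and_dvd
    (fun h => hlt.not_ge (Subgroup.relIndex_eq_one.mp h) : ⁅N, N⁆.relIndex N ≠ 1)
  obtain ⟨h3, h2⟩ := H44.RelGraph.components hlt hNG
  obtain ⟨a₀, ha₀⟩ : ∃ a₀ : ↥(Cfsg.relCharDegrees N), r ∣ a₀.1 := by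
    rcases h2 _ x.2 _ y.2 hnc with h | h
    · exact ⟨y, h.2 r hr hrm⟩
    · exact ⟨x, h.2 r hr hrm⟩
  refine ⟨a₀, fun b c hb hc hbc => ?_, fun b c hb hc hbc => ?_⟩
  · have key : ∀ z : ↥(Cfsg.relCharDegrees N), Γ.Reachable a₀ z → r ∣ z.1 := by
      intro z hz
      by_contra hrz
      obtain ⟨w, hw⟩ : ∃ w : ↥(Cfsg.relCharDegrees N), ¬ Γ.Reachable a₀ w := by
        by_contra hall
        push Not at hall
        exact hxy ((hall x).symm.trans (hall y))
      have hconn : ∀ u v : ↥(Cfsg.relCharDegrees N),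
          H44.RelGraph.Conn N u.1 v.1 → Γ.Reachable u v := fun u v ⟨_, _, h⟩ => h
      by_cases hrw : r ∣ w.1
      · exact hw ((H41.RelDiam.near_of_dvd hr.ne_one ha₀ hrw).conn a₀.2 w.2 hNG |> hconn a₀ w)
      · rcases h2 _ z.2 _ w.2 (fun h => hw (hz.trans (hconn z w h))) with h | h
        · exact hrw (h.2 r hr hrm)
        · exact hrz (h.2 r hr hrm)
    refine ⟨fun h => hbc (Subtype.ext h), ?_⟩
    show 1 < Nat.gcd b.1 c.1
    exact lt_of_lt_of_le hr.one_lt (Nat.le_of_dvd (Nat.gcd_pos_of_pos_left _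
      (Nat.zero_lt_of_lt (H44.RelGraph.one_lt_of_mem N hNG b.2))) (Nat.dvd_gcd (key b hb) (key c hc)))
  · have hreach : H44.RelGraph.Conn N b.1 c.1 := by
      rcases h3 _ a₀.2 _ b.2 _ c.2 with ⟨_, _, h⟩ | ⟨_, _, h⟩ | h
      · exact absurd h hb
      · exact absurd h hc
      · exact h
    obtain ⟨d, hd, hbd, hdc⟩ := (H41.RelDiam.main _ N le_rfl hNG b.1 c.1 hreach).2
      ⟨x.1, x.2, y.1, y.2, hnc⟩
    have hgcd : ∀ {u v : ℕ}, u ∈ Cfsg.relCharDegrees N → ¬ Nat.Coprime u v → 1 < Nat.gcd u v := by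
      intro u v hu h
      have := Nat.gcd_pos_of_pos_left v (Nat.zero_lt_of_lt (H44.RelGraph.one_lt_of_mem N hNG hu))
      have h' : Nat.gcd u v ≠ 1 := h
      omega
    have hne' : b.1 ≠ c.1 := fun h => hbc (Subtype.ext h)
    have adj : ∀ u v : ↥(Cfsg.relCharDegrees N), u.1 ≠ v.1 → ¬ Nat.Coprime u.1 v.1 → Γ.Adj u v :=
      fun u v h1 h2 => ⟨h1, hgcd u.2 h2⟩
    rcases hbd with h | h
    · rcases hdc with h' | h'
      · exact absurd (h.trans h') hne'
      · exact Or.inl (adj b c hne' (by rw [h]; exact h'))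
    · rcases hdc with h' | h'
      · exact Or.inl (adj b c hne' (by rw [← h']; exact h))
      · by_cases hbd' : b.1 = d
        · exact Or.inl (adj b c hne' (by rw [hbd']; exact h'))
        by_cases hdc' : d = c.1
        · exact Or.inl (adj b c hne' (by rw [← hdc']; exact h))
        exact Or.inr ⟨⟨d, hd⟩, adj b ⟨d, hd⟩ hbd' h, adj ⟨d, hd⟩ c hdc' h'⟩

end Cfsg.Agent.S4779
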