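import Cfsg.Statements.S4811
import Cfsg.Agent.H44.RelDegreeComponents
-- import your own Cfsg.Agent.* helpers here

set_option autoImplicit false
open Cfsg

namespace Cfsg.Agent.S4811

/-- For every finite solvable group G the character degree graph of G (vertices: the primes dividing some irreducible complex character degree; edges: distinct primes whose product divides some degree) has at most two connected components. -/
theorem result {G : Type*} [Group G] [Finite G] [Group.IsSolvable G] : Nat.card ((Cfsg.degreeGraph G).induce (Cfsg.degreePrimes G)).ConnectedComponent ≤ 2 := by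
  classical
  haveI := Fintype.ofFinite G
  set Γ := (Cfsg.degreeGraph G).induce (Cfsg.degreePrimes G)
  haveI hfin : Finite (Cfsg.degreePrimes G) := by
    refine Set.Finite.to_subtype ((Set.finite_Iic (Nat.card G)).subset ?_)
    rintro p ⟨-, d, ⟨χ, rfl⟩, hpd⟩
    exact Nat.le_of_dvd Nat.card_pos (hpd.trans (H44.charDegree_dvd_card χ))
  refine H44.RelGraph.card_components_le_two Γ fun p q s => ?_
  have hnl : ∀ {r d : ℕ}, r.Prime → d ∈ Cfsg.charDegrees G → r ∣ d →
      d ∈ Cfsg.relCharDegrees (commutator G) := by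
    rintro r d hr ⟨χ, rfl⟩ hrd
    refine ⟨χ, ?_, rfl⟩
    by_contra h
    push Not at h
    have h1 : (χ : G → ℂ) 1 = 1 :=
      (H44.irr_one_eq_one_iff χ).mpr fun x hx => H44.mem_kerOf.mpr (h x hx)
    have h2 : Cfsg.charDegree (χ : G → ℂ) = 1 := by simp [Cfsg.charDegree, h1]
    rw [h2] at hrd
    exact hr.ne_one (Nat.dvd_one.mp hrd)
  -- primes of connected degrees are connected
  have key : ∀ {a b : ↥(Cfsg.relCharDegrees (commutator G))},
      Relation.ReflTransGen
        (Cfsg.commonDivisorGraph.induce (Cfsg.relCharDegrees (commutator G))).Adj a b →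
      ∀ x y : ↥(Cfsg.degreePrimes G), x.1 ∣ a.1 → y.1 ∣ b.1 → Γ.Reachable x y := by
    have one : ∀ (x y : ↥(Cfsg.degreePrimes G)) (d : ℕ), d ∈ Cfsg.charDegrees G →
        x.1 ∣ d → y.1 ∣ d → Γ.Reachable x y := by
      intro x y d hd hx hy
      by_cases hxy : x = y
      · rw [hxy]
      refine SimpleGraph.Adj.reachable (G := Γ) ?_
      have hne : x.1 ≠ y.1 := fun h => hxy (Subtype.ext h)
      exact ⟨hne, x.2.1, y.2.1, d, hd,
        ((Nat.coprime_primes x.2.1 y.2.1).mpr hne).mul_dvd_of_dvd_of_dvd hx hy⟩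
    intro a b hab
    induction hab with
    | refl =>
      intro x y hx hy
      obtain ⟨χ, -, hχ⟩ := a.2
      exact one x y a.1 ⟨χ, hχ⟩ hx hy
    | @tail b c _ hbc ih =>
      intro x y hx hy
      obtain ⟨r, hr, hr'⟩ := Nat.exists_prime_and_dvd (ne_of_gt hbc.2)
      obtain ⟨χ, -, hχ⟩ := c.2
      have hr2 : r ∣ (c.1 : ℕ) := hr'.trans (Nat.gcd_dvd_right _ _)
      let z : ↥(Cfsg.degreePrimes G) := ⟨r, hr, c.1, ⟨χ, hχ⟩, hr2⟩
      exact (ih x z hx (hr'.trans (Nat.gcd_dvd_left _ _))).trans (one z y c.1 ⟨χ, hχ⟩ hr2 hy)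
  obtain ⟨hp, dp, hdp, hpd⟩ := p.2
  obtain ⟨hq, dq, hdq, hqd⟩ := q.2
  obtain ⟨hs, ds, hds, hsd⟩ := s.2
  have hp' := hnl hp hdp hpd
  have hN : ⁅commutator G, commutator G⁆ < commutator G := by
    have hne : commutator G ≠ ⊥ := by
      intro h
      obtain ⟨χ, ⟨x, hx, hxne⟩, -⟩ := hp'
      rw [h, Subgroup.mem_bot] at hx
      exact hxne (by rw [hx])
    refine lt_of_le_of_ne (Subgroup.commutator_le_left _ _) fun h => hne ?_
    obtain ⟨n, hn⟩ := (Group.isSolvable_def G).mp inferInstance
    have hall : ∀ k : ℕ, commutator G ≤ derivedSeries G k := by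
      intro k
      induction k with
      | zero => exact le_top
      | succ k ih => rw [derivedSeries_succ, ← h]; exact Subgroup.commutator_mono ih ih
    exact le_bot_iff.mp (hn ▸ hall n)
  haveI := Fintype.ofFinite (commutator G)
  obtain ⟨h3, -⟩ := H44.RelGraph.components hN le_rfl
  rcases h3 dp hp' dq (hnl hq hdq hqd) ds (hnl hs hds hsd) with h | h | h
  · obtain ⟨_, _, h⟩ := h
    exact Or.inl (key ((SimpleGraph.reachable_iff_reflTransGen _ _).mp h) p q hpd hqd)
  · obtain ⟨_, _, h⟩ := h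
    exact Or.inr (Or.inl (key ((SimpleGraph.reachable_iff_reflTransGen _ _).mp h) p s hpd hsd))
  · obtain ⟨_, _, h⟩ := h
    exact Or.inr (Or.inr (key ((SimpleGraph.reachable_iff_reflTransGen _ _).mp h) q s hqd hsd))

end Cfsg.Agent.S4811
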