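import Cfsg.Statements.S4813
import Cfsg.Agent.H44.PrimeDegreesSolvable
import Cfsg.Agent.H44.RelDegreeComponents
-- import your own Cfsg.Agent.* helpers here

set_option autoImplicit false
open Cfsg

namespace Cfsg.Agent.S4813

/-- If every irreducible complex character of the finite group G of degree greater than one has prime degree, then G has at most three distinct irreducible character degrees. -/
theorem result {G : Type*} [Group G] [Finite G] (hprime : ∀ d ∈ Cfsg.charDegrees G, d = 1 ∨ d.Prime) : Nat.card ↥(Cfsg.charDegrees G) ≤ 3 := by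
  classical
  haveI := Fintype.ofFinite G
  have hsol : Group.IsSolvable G :=
    H44.PrimeDeg.isSolvable_of_prime_degrees fun χ => hprime _ ⟨χ, rfl⟩
  haveI hfin : Finite (Cfsg.charDegrees G) := by
    refine Set.Finite.to_subtype ((Set.finite_Iic (Nat.card G)).subset ?_)
    rintro _ ⟨χ, rfl⟩
    exact Nat.le_of_dvd Nat.card_pos (H44.charDegree_dvd_card χ)
  have hfs : (Cfsg.charDegrees G).Finite := Set.toFinite _
  set D := hfs.toFinset.erase 1 with hD
  -- at most two nonlinear degrees
  suffices hD2 : D.card ≤ 2 by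
    have h1 : hfs.toFinset.card ≤ D.card + 1 := by
      rw [hD]
      have := Finset.card_le_card_sdiff_add_card (s := hfs.toFinset) (t := {1})
      rw [Finset.sdiff_singleton_eq_erase, Finset.card_singleton] at this
      exact this
    rw [Nat.card_coe_set_eq, Set.ncard_eq_toFinset_card _ hfs]
    omega
  by_contra hcon
  obtain ⟨a, b, c, ha, hb, hc, hab, hac, hbc⟩ :=
    Finset.two_lt_card_iff.mp (Nat.lt_of_not_le hcon)
  have hmem : ∀ {d}, d ∈ D → d ∈ Cfsg.relCharDegrees (commutator G) ∧ d.Prime := by
    intro d hd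
    rw [hD, Finset.mem_erase, Set.Finite.mem_toFinset] at hd
    refine ⟨?_, (hprime d hd.2).resolve_left hd.1⟩
    obtain ⟨χ, rfl⟩ := hd.2
    refine ⟨χ, ?_, rfl⟩
    by_contra h
    push Not at h
    have h1 : (χ : G → ℂ) 1 = 1 :=
      (H44.irr_one_eq_one_iff χ).mpr fun x hx => H44.mem_kerOf.mpr (h x hx)
    exact hd.1 (by simp [Cfsg.charDegree, h1])
  have hN : ⁅commutator G, commutator G⁆ < commutator G := by
    have hne : commutator G ≠ ⊥ := by
      intro h
      obtain ⟨χ, ⟨x, hx, hxne⟩, -⟩ := (hmem ha).1
      rw [h, Subgroup.mem_bot] at hx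
      exact hxne (by rw [hx])
    refine lt_of_le_of_ne (Subgroup.commutator_le_left _ _) fun h => hne ?_
    obtain ⟨n, hn⟩ := (Group.isSolvable_def G).mp hsol
    have hall : ∀ k : ℕ, commutator G ≤ derivedSeries G k := by
      intro k
      induction k with
      | zero => exact le_top
      | succ k ih => rw [derivedSeries_succ, ← h]; exact Subgroup.commutator_mono ih ih
    exact le_bot_iff.mp (hn ▸ hall n)
  haveI := Fintype.ofFinite (commutator G)
  obtain ⟨h3, -⟩ := H44.RelGraph.components hN le_rfl
  -- distinct primes are never adjacent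
  have hiso : ∀ {u v : ℕ}, H44.RelGraph.Conn (commutator G) u v → u = v := by
    rintro u v ⟨hu, hv, hr⟩
    have key : ∀ {x y : ↥(Cfsg.relCharDegrees (commutator G))},
        Relation.ReflTransGen
          (Cfsg.commonDivisorGraph.induce (Cfsg.relCharDegrees (commutator G))).Adj x y →
          x.1 = y.1 := by
      intro x y hxy
      induction hxy with
      | refl => rfl
      | @tail y z _ hyz ih =>
        exfalso
        have hpr : ∀ w : ↥(Cfsg.relCharDegrees (commutator G)), w.1.Prime := by
          rintro ⟨w, χ, ⟨t, ht, hne⟩, rfl⟩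
          refine (hprime _ ⟨χ, rfl⟩).resolve_left fun h1 => hne ?_
          refine H44.mem_kerOf.mp ((H44.irr_one_eq_one_iff χ).mp ?_ ht)
          rw [← H44.cast_charDegree χ, h1, Nat.cast_one]
        exact absurd ((Nat.coprime_primes (hpr y) (hpr z)).mpr hyz.1) (ne_of_gt hyz.2)
    exact key ((SimpleGraph.reachable_iff_reflTransGen _ _).mp hr)
  rcases h3 a (hmem ha).1 b (hmem hb).1 c (hmem hc).1 with h | h | h
  · exact hab (hiso h)
  · exact hac (hiso h)
  · exact hbc (hiso h)

end Cfsg.Agent.S4813
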