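import Cfsg.Statements.S4878
import Cfsg.Agent.H45.Transitive.Bounds
import Cfsg.Agent.H45.Transitive.Setup
import Cfsg.Agent.H45.Transitive.TwoClasses
import Cfsg.Agent.H45.Transitive.RegCount
import Cfsg.Agent.H45.Transitive.ExtraClass

set_option autoImplicit false
open Cfsg Cfsg.Agent

namespace Cfsg.Agent.S4878

/-- Let p be a prime and G a finite p-solvable group of order divisible by p in which all non-identity p-elements are conjugate. Then G has at least p conjugacy classes of p-regular elements; or G has exactly p − 1 of them and is isomorphic to the one-dimensional affine group over the field with p elements; or p = 11, G has exactly 9 of them, G has order 121·120 and G is a Frobenius group whose complement is isomorphic to SL(2,5). -/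
theorem result {G : Type*} [Group G] [Finite G] (p : ℕ) [Fact p.Prime] (hsolv : Cfsg.IsPSolvable p G) (hdiv : p ∣ Nat.card G) (hconj : ∀ x y : G, x ≠ 1 → y ≠ 1 → (∃ k : ℕ, orderOf x = p ^ k) → (∃ k : ℕ, orderOf y = p ^ k) → IsConj x y) : p ≤ Nat.card {c : ConjClasses G // ∃ g : G, ConjClasses.mk g = c ∧ ¬ p ∣ orderOf g} ∨ (Nat.card {c : ConjClasses G // ∃ g : G, ConjClasses.mk g = c ∧ ¬ p ∣ orderOf g} = p - 1 ∧ Nonempty (G ≃* ↥(Cfsg.affineGroup (ZMod p)))) ∨ (p = 11 ∧ Nat.card {c : ConjClasses G // ∃ g : G, ConjClasses.mk g = c ∧ ¬ p ∣ orderOf g} = 9 ∧ (Nat.card G = 121 * 120 ∧ ∃ H : Subgroup G, Cfsg.IsFrobeniusComplement H ∧ Nonempty (↥H ≃* Matrix.SpecialLinearGroup (Fin 2) (ZMod 5)))) := by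
  classical
  have hp : p.Prime := Fact.out
  obtain ⟨N, hNn, V, H, hN, hVn, hcompl, hVne, hexp, hab, hH, hfaith, htrans⟩ :=
    H45.Trans.two_classes_structure hsolv hdiv hconj
  haveI := hVn
  obtain ⟨W, _, _, _, ρ, e, hρH, he0, -, hρ⟩ := H45.Trans.exists_hyp V hexp hab H hH hfaith htrans
  obtain ⟨v, hv, hv1⟩ : ∃ v ∈ V, v ≠ 1 := by
    by_contra h
    push Not at h
    exact hVne ((Subgroup.eq_bot_iff_forall _).2 h)
  set w := e.symm ⟨v, hv⟩ with hw
  have hw0 : w ≠ 0 := fun h => hv1 (by
    have : (e w : G ⧸ N) = v := by rw [hw, e.apply_symm_apply]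
    rw [← this, h, he0])
  haveI : Nontrivial W := ⟨⟨w, 0, hw0⟩⟩
  set n := Module.finrank (ZMod p) W with hn
  have hVcard : Nat.card V = p ^ n := by rw [← Nat.card_congr e, H45.Trans.card_V (p := p) (V := W)]
  obtain ⟨hlow, hlowN⟩ := H45.Trans.card_regClasses_bounds N V H hcompl hH hN
  set k := Nat.card (H45.Trans.RegClasses G p) with hk
  change p ≤ k ∨ (k = p - 1 ∧ _) ∨ (p = 11 ∧ k = 9 ∧ _)
  -- the action is semiregular once the order is the number of nonzero vectors
  have hsr : Nat.card H = p ^ n - 1 →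
      ∀ u ∈ V, ∀ h ∈ H, h * u = u * h → u = 1 ∨ h = 1 := by
    intro hcard u hu h hh hc
    by_cases hu1 : u = 1
    · exact Or.inl hu1
    refine Or.inr ?_
    set w' := e.symm ⟨u, hu⟩ with hw'
    have he : (e w' : G ⧸ N) = u := by rw [hw', e.apply_symm_apply]
    have hw'0 : w' ≠ 0 := fun h => hu1 (by rw [← he, h, he0])
    have h1 := hρH.card_eq hw'0
    rw [Nat.card_congr e, hVcard, hcard] at h1
    have hpos : 0 < p ^ n - 1 := Nat.sub_pos_of_lt (Nat.one_lt_pow Module.finrank_pos.ne' hp.one_lt)
    have hst : Nat.card (H45.Trans.stab ρ w') = 1 :=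
      Nat.eq_of_mul_eq_mul_right hpos (by rw [one_mul]; exact h1.symm)
    have hmem : (⟨h, hh⟩ : H) ∈ H45.Trans.stab ρ w' := by
      rw [H45.Trans.mem_stab]
      apply e.injective
      apply Subtype.ext
      rw [hρ, he]
      exact mul_inv_eq_iff_eq_mul.2 hc
    rw [Subgroup.card_eq_one.1 hst, Subgroup.mem_bot] at hmem
    exact congrArg Subtype.val hmem
  have hGN : N = ⊥ → Nonempty (G ≃* G ⧸ N) := fun h =>
    ⟨(QuotientGroup.quotientBot.symm).trans (QuotientGroup.quotientMulEquivOfEq h.symm)⟩
  rcases Nat.lt_or_ge n 2 with hn1 | hn2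
  · have hn1' : n = 1 := by
      have : 0 < n := Module.finrank_pos
      omega
    obtain ⟨hcomm, hst⟩ := H45.Trans.of_finrank_one hρH hn1' hw0
    have hcard : Nat.card H = p - 1 := by
      rw [hρH.card_eq hw0, hst, one_mul, Nat.card_congr e, hVcard, hn1', pow_one]
    have hkH : Nat.card (ConjClasses H) = p - 1 := by
      rw [H45.Trans.card_classes_of_comm hcomm, hcard]
    by_cases hNb : N = ⊥
    · have hs := hsr (by rw [hcard, hn1', pow_one])
      refine Or.inr (Or.inl ⟨?_, ?_⟩)
      · rw [hk, H45.Trans.card_regClasses_eq N V H hcompl hH hNb hexp hab hs, hkH]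
      · obtain ⟨ψ⟩ := hGN hNb
        obtain ⟨θ⟩ := H45.Trans.equiv_affine V H hcompl (by rw [hVcard, hn1', pow_one]) hcard hs
        exact ⟨ψ.trans θ⟩
    · have h1 := (hlowN hNb).1
      rw [hkH] at h1
      have := hp.two_le
      exact Or.inl (by omega)
  rcases H45.Trans.class_lower hρH hn2 with h | ⟨h11, hn', h9, ⟨ψ⟩⟩
  · exact Or.inl (h.trans hlow)
  subst h11
  have hn2' : n = 2 := hn'
  have hcard : Nat.card H = 120 := by rw [Nat.card_congr ψ.toEquiv, H36.SL25.card_L]
  have hs := hsr (by rw [hcard, hn2']; norm_num)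
  by_cases hNb : N = ⊥
  · refine Or.inr (Or.inr ⟨rfl, ?_, ?_, ?_⟩)
    · rw [hk, H45.Trans.card_regClasses_eq N V H hcompl hH hNb hexp hab hs, h9]
    · obtain ⟨θ⟩ := hGN hNb
      rw [Nat.card_congr θ.toEquiv, ← hcompl.card_mul, hVcard, hn2', hcard]
      norm_num
    · set π := QuotientGroup.mk' N with hπdef
      have hπ : Function.Injective π := by
        rw [← MonoidHom.ker_eq_bot_iff, QuotientGroup.ker_mk', hNb]
      have hπs : Function.Surjective π := QuotientGroup.mk'_surjective N
      refine ⟨H.comap π, ⟨?_, ?_, ?_⟩, ⟨?_⟩⟩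
      · intro hb
        have : H = ⊥ := by
          rw [← Subgroup.map_comap_eq_self_of_surjective hπs H, hb, Subgroup.map_bot]
        rw [this, Subgroup.card_bot] at hcard
        norm_num at hcard
      · intro ht
        have : H = ⊤ := by
          rw [← Subgroup.map_comap_eq_self_of_surjective hπs H, ht, Subgroup.map_top_of_surjective π hπs]
        have hbot : V = ⊥ := by
          have h1 := hcompl.disjoint
          rw [this] at h1
          exact disjoint_top.1 h1
        exact hVne hbot
      · intro g hg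
        rw [Subgroup.eq_bot_iff_forall]
        rintro x ⟨hx, hx'⟩
        have hx'' := Subgroup.mem_pointwise_smul_iff_inv_smul_mem.1 hx'
        rw [Subgroup.mem_comap, ← map_inv, MulAut.smul_def, MulAut.conj_apply, inv_inv, map_mul, map_mul,
          map_inv] at hx''
        obtain ⟨⟨u, c⟩, huc⟩ := hcompl.2 (π g)
        have huc' : u.1 * c.1 = π g := huc
        set y := (π g)⁻¹ * π x * π g with hy
        have hyc : u.1 * c.1 * y * (u.1 * c.1)⁻¹ = π x := by rw [huc', hy]; group
        obtain ⟨-, h2⟩ := H45.Trans.conj_in_complement hcompl.disjoint u.2 c.2 hx'' hx hyc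
        rcases hs u.1 u.2 (π x) hx h2.symm with h3 | h3
        · exfalso
          apply hg
          rw [Subgroup.mem_comap, ← huc', h3, one_mul]
          exact c.2
        · exact hπ (by rw [h3, map_one])
      · exact (MulEquiv.ofBijective (π.subgroupComap H)
          ⟨fun a b hab => Subtype.ext (hπ (congrArg Subtype.val hab)),
            π.subgroupComap_surjective_of_surjective H hπs⟩).trans ψ
  · obtain ⟨h1, h2⟩ := hlowN hNb
    rw [h9] at h1 h2
    by_cases h10 : k = 10
    · obtain ⟨hone, hcov⟩ := h2 h10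
      exact absurd (H45.Trans.no_fusion N hNb hN V H hcompl (by rw [hVcard, hn2']; norm_num) hs ψ hone hcov) id
    · exact Or.inl (by omega)

end Cfsg.Agent.S4878
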