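import Cfsg.Statements.S4889
import Cfsg.Agent.H22.EqDegSubsection
import Cfsg.Agent.H40.AbelianSubsections
import Cfsg.Agent.H40.RankOne
import Cfsg.Agent.S4687
import Cfsg.Agent.S4689
import Cfsg.Agent.S4690

set_option autoImplicit false
open Cfsg

namespace Cfsg.Agent.S4889

open Cfsg.Agent.H42 (blockFinset mem_blockFinset)

open scoped Classical

theorem card_irr_comm {D : Type*} [Group D] [Finite D] (h : ∀ x y : D, x * y = y * x) :
    Nat.card (Cfsg.IrrCharacter D) = Nat.card D := by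
  rw [Cfsg.Agent.H26.card_irr_eq_card_conjClasses]
  refine (Nat.card_eq_of_bijective ConjClasses.mk ⟨fun x y hxy => ?_,
    ConjClasses.mk_surjective⟩).symm
  obtain ⟨c, hc⟩ := isConj_iff.1 (ConjClasses.mk_eq_mk_iff_isConj.1 hxy)
  rw [← hc, h c x, mul_inv_cancel_right]

theorem nilpotent_of_equal_degree {G : Type*} [Group G] [Fintype G] (p : ℕ) [Fact p.Prime]
    (M : Ideal Cfsg.AlgInt) (hM : Cfsg.IsPModular p M) (B : Set (Cfsg.IrrCharacter G))
    (hB : Cfsg.IsPBlock M B) (P : Subgroup G) (hP : Cfsg.IsDefectGroup p M B P)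
    (hab : ∀ x ∈ P, ∀ y ∈ P, x * y = y * x)
    (h0 : ∀ χ ∈ B, Cfsg.blockHeight p B (χ : G → ℂ) = 0) {d₀ : ℕ}
    (hd : ∀ χ ∈ B, Cfsg.charDegree (χ : G → ℂ) = d₀) : Cfsg.IsNilpotentBlock p M B := by
  have := hM.2.1
  have := Cfsg.Agent.H41.IsPModular.charP hM
  haveI : Fintype P := Fintype.ofFinite P
  obtain ⟨e, hm⟩ := Cfsg.Agent.H40.NilpotentBlocks.exists_isMaxEl_of_defect hM hB hP
  obtain ⟨c, hc, rfl⟩ := Cfsg.Agent.H22.exists_el_eq (K := Subgroup.centralizer (P : Set G))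
    (ε := e) (by simpa using hm.pair.block)
  choose b hb using fun u : P => Cfsg.Agent.H40.exists_subAt hM hB hm hab u.2
  let b' : ∀ u : G, Set (Cfsg.IrrCharacter (Subgroup.centralizer ({u} : Set G))) :=
    fun u => if h : u ∈ P then b ⟨u, h⟩ else ∅
  have hb' : ∀ u ∈ P, Cfsg.Agent.H40.SubAt p M P
      (Cfsg.Agent.H22.el M (Subgroup.centralizer (P : Set G)) c) u (b' u) := by
    intro u hu
    simp only [b', dif_pos hu]
    exact hb ⟨u, hu⟩
  have hcard := Cfsg.Agent.H40.card_defectGroup hM hB hP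
  have hK := Cfsg.Agent.H22.EqDeg.kernel_mem hM hB h0 hd
  have hrank : ∀ u : P, Cfsg.blockRank p (b' u) = 1 := by
    intro u
    obtain ⟨hind, hle, hdef⟩ := Cfsg.Agent.H40.isInducedBlock_of_subAt hM hB hm hab (hb' u u.2)
    obtain ⟨k, hk⟩ := IsPGroup.iff_orderOf.1 hm.pair.pGroup u
    refine Cfsg.Agent.H22.EqDeg.blockRank_subsection hM hB hK ⟨k, by rw [Subgroup.orderOf_coe, hk]⟩
      (Cfsg.Agent.H40.centralizer_zpowers_eq (u : G)).symm hind ?_
    have h := Cfsg.Agent.H40.card_defectGroup hM hind.1 hdef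
    rw [Nat.card_congr (Subgroup.subgroupOfEquivOfLe hle).toEquiv, hcard] at h
    exact (Nat.pow_right_injective (Fact.out : p.Prime).two_le h).symm
  have hsum := Cfsg.Agent.H40.card_mul_eq_sum_subAt hM hB hm hab b' hb'
  rw [Cfsg.Agent.H22.EqDeg.card_eq hM hB h0 hd, ← hcard] at hsum
  simp only [hrank, mul_one] at hsum
  refine (Cfsg.Agent.S4687.result p M hM B P c (Cfsg.Agent.H22.isMaximal_iff.2
    ⟨(Cfsg.Agent.H22.isBrauerPairOf_iff hB ⟨hm.pair.pGroup, hc⟩).2 hm.below, hm⟩) hab).2 ?_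
  set T := Cfsg.Agent.H22.pairStab P (Cfsg.Agent.H22.el M (Subgroup.centralizer (P : Set G)) c)
    with hT
  set C := Subgroup.centralizer (P : Set G) with hC
  have hCT : C ≤ T := Cfsg.Agent.H40.centralizer_le_pairStab' hm
  have hmul : ∀ u : P, C.relIndex (T ⊓ Subgroup.centralizer ({(u : G)} : Set G)) *
      (T ⊓ Subgroup.centralizer ({(u : G)} : Set G)).relIndex T = C.relIndex T := fun u =>
    Subgroup.relIndex_mul_relIndex _ _ _ (le_inf hCT
      (Subgroup.centralizer_le (Set.singleton_subset_iff.2 u.2))) inf_le_left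
  have hpos : 0 < C.relIndex T := Nat.pos_of_ne_zero Subgroup.index_ne_zero_of_finite
  have hall : ∀ u : P, C.relIndex (T ⊓ Subgroup.centralizer ({(u : G)} : Set G)) =
      C.relIndex T := by
    refine fun u => (Finset.sum_eq_sum_iff_of_le fun v _ =>
      Nat.le_of_dvd hpos ⟨_, (hmul v).symm⟩).1 ?_ u (Finset.mem_univ u)
    rw [← hsum, Finset.sum_const, Finset.card_univ, smul_eq_mul, ← Nat.card_eq_fintype_card,
      mul_comm]
  have hTC : ∀ u : P, T ≤ Subgroup.centralizer ({(u : G)} : Set G) := by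
    intro u
    have h := hmul u
    rw [hall u] at h
    exact le_trans (Subgroup.relIndex_eq_one.1 (mul_eq_left₀ hpos.ne' |>.1 h)) inf_le_right
  intro x hxN hxs
  refine Subgroup.mem_centralizer_iff.2 fun u hu => ?_
  have hxT : x ∈ T := ⟨hxN, (Cfsg.Agent.H22.stabilizesBlock_iff hc
    (Cfsg.Agent.H22.normalizer_le_normalizer_centralizer P hxN)).1 hxs⟩
  exact (Subgroup.mem_centralizer_singleton_iff.1 (hTC ⟨u, hu⟩ hxT)).symm

theorem equal_degree_of_nilpotent {G : Type*} [Group G] [Fintype G] (p : ℕ) [Fact p.Prime]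
    (M : Ideal Cfsg.AlgInt) (hM : Cfsg.IsPModular p M) (B : Set (Cfsg.IrrCharacter G))
    (P : Subgroup G) (hP : Cfsg.IsDefectGroup p M B P)
    (hab : ∀ x ∈ P, ∀ y ∈ P, x * y = y * x) (hnil : Cfsg.IsNilpotentBlock p M B) :
    ∃ d : ℕ, ∀ χ ∈ B, Cfsg.charDegree (χ : G → ℂ) = d := by
  have := hM.2.1
  have hl := (Cfsg.Agent.S4689.result p M hM B hnil).1
  obtain ⟨Φ, -⟩ := Cfsg.Agent.S4690.result p M hM B hnil P hP
  obtain ⟨φ, d, n, -, hreg, hsum⟩ := Cfsg.Agent.H40.exists_rank_one_data hM hnil.1 hl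
  rw [← Cfsg.Agent.H40.card_defectGroup hM hnil.1 hP, ← card_irr_comm (D := P)
    (fun x y => Subtype.ext (hab x x.2 y y.2)), ← Nat.card_congr Φ,
    ← Cfsg.Agent.H42.card_blockFinset (B := B)] at hsum
  have h1 : ¬ p ∣ orderOf (1 : G) := by simpa using (Fact.out : p.Prime).not_dvd_one
  have hd0 : ∀ χ ∈ blockFinset B, 1 ≤ d χ ^ 2 := by
    intro χ hχ
    refine Nat.one_le_pow _ _ (Nat.pos_of_ne_zero fun h => ?_)
    have := hreg χ (mem_blockFinset.1 hχ) 1 h1
    rw [h, Nat.cast_zero, zero_mul] at this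
    exact Cfsg.Agent.H26.irr_one_ne_zero χ this
  have hd1 : ∀ χ ∈ blockFinset B, d χ = 1 := by
    intro χ hχ
    have h := (Finset.sum_eq_sum_iff_of_le hd0).1 (by rw [hsum, Finset.card_eq_sum_ones]) χ hχ
    exact (pow_eq_one_iff.1 h.symm).resolve_right two_ne_zero
  obtain ⟨χ₀, hχ₀⟩ := Cfsg.Agent.H41.IsPBlock.nonempty hnil.1
  refine ⟨Cfsg.charDegree (χ₀ : G → ℂ), fun χ hχ => ?_⟩
  have h : (χ : G → ℂ) 1 = (χ₀ : G → ℂ) 1 := by
    rw [hreg χ hχ 1 h1, hreg χ₀ hχ₀ 1 h1, hd1 χ (mem_blockFinset.2 hχ),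
      hd1 χ₀ (mem_blockFinset.2 hχ₀)]
  rw [Cfsg.Agent.H42.irr_one_eq, Cfsg.Agent.H42.irr_one_eq] at h
  exact_mod_cast h

/-- Let G be a finite group, p a prime, M a maximal ideal of the algebraic integers containing p, and B a p-block of G that has an abelian defect group and in which every irreducible character has height zero. Then all irreducible characters of B have the same degree if and only if B is a nilpotent block. -/
theorem result {G : Type*} [Group G] [Finite G] (p : ℕ) [Fact p.Prime] (M : Ideal Cfsg.AlgInt) (hM : Cfsg.IsPModular p M) (B : Set (Cfsg.IrrCharacter G)) (hB : Cfsg.IsPBlock M B) (D : Subgroup G) (hD : Cfsg.IsDefectGroup p M B D) (hDab : IsMulCommutative ↥D) (h0 : ∀ χ : Cfsg.IrrCharacter G, χ ∈ B → Cfsg.blockHeight p B (χ : G → ℂ) = 0) : (∃ d : ℕ, ∀ χ : Cfsg.IrrCharacter G, χ ∈ B → Cfsg.charDegree (χ : G → ℂ) = d) ↔ Cfsg.IsNilpotentBlock p M B := by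
  have := Fintype.ofFinite G
  have hab : ∀ x ∈ D, ∀ y ∈ D, x * y = y * x := fun x hx y hy =>
    congrArg Subtype.val (hDab.is_comm.comm (⟨x, hx⟩ : D) ⟨y, hy⟩)
  constructor
  · rintro ⟨d, hd⟩
    exact nilpotent_of_equal_degree p M hM B hB D hD hab h0 hd
  · exact fun hnil => equal_degree_of_nilpotent p M hM B D hD hab hnil

end Cfsg.Agent.S4889
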