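import Cfsg.Statements.S4892
import Cfsg.Agent.H45.PrincipalRational
-- import your own Cfsg.Agent.* helpers here

set_option autoImplicit false
open Cfsg

namespace Cfsg.Agent.S4892

/-- The determinant character commutes with field automorphisms. -/
theorem detChar_ringAut {G : Type*} [Group G] [Finite G] {χ : G → ℂ} (hχ : Cfsg.IsCharacter G χ)
    (σ : ℂ ≃+* ℂ) : Cfsg.detChar (fun g => σ (χ g)) = fun g => σ (Cfsg.detChar χ g) := by
  obtain ⟨n, ρ, rfl⟩ := hχ
  let A : G →* Matrix (Fin n) (Fin n) ℂ :=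
    { toFun := fun g => (LinearMap.toMatrix' (ρ g)).map σ
      map_one' := by
        rw [map_one, Module.End.one_eq_id, LinearMap.toMatrix'_id]
        exact Matrix.map_one _ (map_zero σ) (map_one σ)
      map_mul' := fun g h => by
        rw [map_mul, LinearMap.toMatrix'_mul]
        exact Matrix.map_mul (f := σ) }
  let ρ' : Representation ℂ G (Fin n → ℂ) := Matrix.toLinAlgEquiv'.toMonoidHom.comp A
  have hc : ρ'.character = fun g => σ (ρ.character g) := funext fun g => by
    show LinearMap.trace ℂ _ (Matrix.toLin' (A g)) = σ (LinearMap.trace ℂ _ (ρ g))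
    rw [LinearMap.trace_eq_matrix_trace ℂ (Pi.basisFun ℂ (Fin n)),
      LinearMap.trace_eq_matrix_trace ℂ (Pi.basisFun ℂ (Fin n)), LinearMap.toMatrix_eq_toMatrix',
      LinearMap.toMatrix'_toLin']
    exact (AddMonoidHom.map_trace σ.toAddMonoidHom _).symm
  rw [← hc, H43.detChar_eq, H43.detChar_eq]
  funext g
  show (H43.detHom ρ' g : ℂ) = σ (H43.detHom ρ g : ℂ)
  rw [H43.detHom_coe, H43.detHom_coe]
  show LinearMap.det (Matrix.toLin' (A g)) = σ (LinearMap.det (ρ g))
  rw [LinearMap.det_toLin', ← LinearMap.det_toMatrix' (ρ g)]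
  exact (RingHom.map_det σ.toRingHom _).symm

set_option maxHeartbeats 1000000 in
/-- Let p be an odd prime, M a maximal ideal of the algebraic integers containing p, N a normal subgroup of the finite group G, and θ an irreducible character of N that is G-invariant, of degree prime to p, p-rational (values in the field generated over ℚ by a root of unity of order prime to p) and lies in the principal p-block of N. Let Q be a Sylow p-subgroup of N and suppose the index of N·C_G(Q) in G is a power of p. Then θ extends to a p-rational irreducible character of G lying in the principal p-block of G. -/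
theorem result {G : Type*} [Group G] [Finite G] (p : ℕ) [Fact p.Prime] (hp : p ≠ 2) (M : Ideal Cfsg.AlgInt) (hM : Cfsg.IsPModular p M) (N : Subgroup G) [N.Normal] (θ : Cfsg.IrrCharacter ↥N) (hinv : ∀ g : G, ∀ n n' : ↥N, (n' : G) = g * (n : G) * g⁻¹ → (θ : ↥N → ℂ) n' = (θ : ↥N → ℂ) n) (hdeg : ¬ p ∣ Cfsg.charDegree (θ : ↥N → ℂ)) (hrat : ∃ m : ℕ, ¬ p ∣ m ∧ ∀ n : ↥N, (θ : ↥N → ℂ) n ∈ IntermediateField.adjoin ℚ ({Complex.exp (2 * Real.pi * Complex.I / m)} : Set ℂ)) (hB : θ ∈ Cfsg.principalBlock M ↥N) (Q : Sylow p ↥N) (hidx : ∃ a : ℕ, (N ⊔ Subgroup.centralizer (((Q : Subgroup ↥N).map N.subtype : Subgroup G) : Set G)).index = p ^ a) : ∃ χ : Cfsg.IrrCharacter G, χ ∈ (Cfsg.principalBlock M G) ∧ (∃ n : ℕ, ¬ p ∣ n ∧ ∀ g : G, (χ : G → ℂ) g ∈ IntermediateField.adjoin ℚ ({Complex.exp (2 * Real.pi * Complex.I / n)} : Set ℂ)) ∧ ∀ n : ↥N, (χ : G → ℂ) n = (θ : ↥N → ℂ) n := by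
  classical
  have := Fintype.ofFinite G
  have := Fintype.ofFinite ↥N
  have := hM.2.1
  have hpp : p.Prime := Fact.out
  set a := (Nat.card G).factorization p
  set m' := Nat.card G / p ^ a
  have hG : p ^ a * m' = Nat.card G := Nat.ordProj_mul_ordCompl_eq_self _ _
  have hG0 : Nat.card G ≠ 0 := Nat.card_pos.ne'
  have hm'p : ¬ p ∣ m' := Nat.not_dvd_ordCompl hpp hG0
  have hm'0 : m' ≠ 0 := fun h => hm'p (h ▸ dvd_zero p)
  have hpa : Nat.Coprime (p ^ a) m' :=
    Nat.Coprime.pow_left a ((Nat.Prime.coprime_iff_not_dvd hpp).2 hm'p)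
  have hNG : Nat.card ↥N ∣ Nat.card G := N.card_subgroup_dvd_card
  obtain ⟨m, hmp, hmval⟩ := hrat
  have hm0 : m ≠ 0 := fun h => hmp (h ▸ dvd_zero p)
  -- the character is fixed by the automorphisms fixing roots of unity of order prime to `p`
  have hθk : ∀ k : ℕ, k.Coprime (Nat.card G) → k ≡ 1 [MOD m'] →
      ∀ n : ↥N, θ.1 (n ^ k) = θ.1 n := by
    intro k hk hk1
    have hcop : Nat.Coprime (p ^ a) (m' * m) :=
      Nat.Coprime.pow_left a ((Nat.Prime.coprime_iff_not_dvd hpp).2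
        fun h => (hpp.dvd_mul.1 h).elim hm'p hmp)
    obtain ⟨k', hk'1, hk'2⟩ := Nat.chineseRemainder hcop k 1
    have hkk : k' ≡ k [MOD Nat.card G] := by
      rw [← hG]
      exact (Nat.modEq_and_modEq_iff_modEq_mul hpa).1
        ⟨hk'1, (hk'2.of_dvd (dvd_mul_right _ _)).trans hk1.symm⟩
    have hk'c : k'.Coprime (Nat.card G * m) := by
      refine Nat.Coprime.mul_right ?_ ?_
      · show Nat.gcd k' _ = 1
        rw [hkk.gcd_eq]
        exact hk
      · show Nat.gcd k' m = 1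
        rw [(hk'2.of_dvd (dvd_mul_left _ _)).gcd_eq, Nat.gcd_one_left]
    obtain ⟨σ, hσ⟩ := H45.exists_ringAut_pow (Nat.mul_ne_zero hG0 hm0) hk'c
    intro n
    have h1 : σ (θ.1 n) = θ.1 (n ^ k') :=
      H45.ringAut_char (H26.irr_isCharacter θ) σ (fun z hz => hσ z (by
        obtain ⟨c, hc⟩ := hNG
        rw [hc, mul_assoc, pow_mul, hz, one_pow])) n
    have h2 : σ (θ.1 n) = θ.1 n := by
      refine H45.ringAut_fix_adjoin _ σ (fun s hs => ?_) _ (hmval n)
      rw [Set.mem_singleton_iff.1 hs]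
      have hζ := Complex.isPrimitiveRoot_exp m hm0
      have h1 := hσ _ (show _ ^ (Nat.card G * m) = 1 by
        rw [mul_comm, pow_mul, hζ.pow_eq_one, one_pow])
      rw [h1]
      have hfin : IsOfFinOrder (Complex.exp (2 * Real.pi * Complex.I / m)) :=
        isOfFinOrder_iff_pow_eq_one.2 ⟨m, Nat.pos_of_ne_zero hm0, hζ.pow_eq_one⟩
      conv_rhs => rw [← pow_one (Complex.exp _)]
      rw [hfin.pow_eq_pow_iff_modEq, ← hζ.eq_orderOf]
      exact hk'2.of_dvd (dvd_mul_left _ _)
    have h3 : n ^ k = n ^ k' := pow_eq_pow_iff_modEq.2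
      ((hkk.of_dvd ((orderOf_dvd_natCard n).trans hNG)).symm)
    rw [h3, ← h1, h2]
  have hinvC : ∀ g : G, H43.irrConj N g θ = θ := fun g => Subtype.ext (funext fun n => by
    rw [H43.irrConj_apply]
    exact hinv g n _ (MulAut.conjNormal_apply g n))
  have hkreg : ∀ k : ℕ, k ≡ 1 [MOD m'] → ∀ x : G, ¬ p ∣ orderOf x → x ^ k = x := by
    intro k hk x hx
    have hdvd : orderOf x ∣ m' :=
      (Nat.Coprime.pow_right a ((Nat.Prime.coprime_iff_not_dvd hpp).2 hx).symm).dvd_of_dvd_mul_left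
        (hG ▸ orderOf_dvd_natCard x)
    conv_rhs => rw [← pow_one x]
    exact pow_eq_pow_iff_modEq.2 (hk.of_dvd hdvd)
  have hodet : ¬ p ∣ Cfsg.detOrder θ.1 := by
    intro hdvd
    obtain ⟨k, hk2, hk1⟩ := Nat.chineseRemainder hpa 2 1
    rcases Nat.eq_zero_or_pos a with ha | ha
    · refine hm'p ((hdvd.trans (H43.detOrder_dvd_card (H26.irr_isCharacter θ))).trans (hNG.trans ?_))
      rw [← hG, ha, pow_zero, one_mul]
    have hk2p : k ≡ 2 [MOD p] := hk2.of_dvd (dvd_pow_self p ha.ne')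
    have hp2 : 3 ≤ p := by have := hpp.two_le; omega
    have hkc : k.Coprime (Nat.card G) := by
      rw [← hG]
      refine Nat.Coprime.mul_right (Nat.Coprime.pow_right a ?_) ?_
      · rw [Nat.coprime_comm, hpp.coprime_iff_not_dvd]
        intro h
        exact absurd (Nat.le_of_dvd two_pos ((hk2p.dvd_iff dvd_rfl).1 h)) (by omega)
      · show Nat.gcd k m' = 1
        rw [hk1.gcd_eq, Nat.gcd_one_left]
    obtain ⟨σ, hσ⟩ := H45.exists_ringAut_pow hG0 hkc
    obtain ⟨f, hf, hfo⟩ := H43.exists_detHom (H26.irr_isCharacter θ)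
    have hσN : ∀ z : ℂ, z ^ Nat.card ↥N = 1 → σ z = z ^ k := fun z hz => hσ z (by
      obtain ⟨c, hc⟩ := hNG
      rw [hc, pow_mul, hz, one_pow])
    have hfk : ∀ n : ↥N, f n ^ k = f n := by
      intro n
      apply Units.ext
      have h1 := congrFun (detChar_ringAut (H26.irr_isCharacter θ) σ) n
      rw [show (fun g : ↥N => σ (θ.1 g)) = θ.1 from funext fun g => by
        rw [H45.ringAut_char (H26.irr_isCharacter θ) σ hσN, hθk k hkc hk1], hf] at h1
      rw [Units.val_pow_eq_pow_val, ← hσN _ (H43.hom_pow_card_eq_one f n)]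
      exact h1.symm
    have hk0 : 1 ≤ k := by
      rcases Nat.eq_zero_or_pos k with rfl | h
      · exact absurd (Nat.le_of_dvd two_pos ((hk2p.dvd_iff dvd_rfl).1 (dvd_zero p))) (by omega)
      · exact h
    have h4 : orderOf f ∣ k - 1 := orderOf_dvd_of_pow_eq_one (MonoidHom.ext fun n => by
      rw [MonoidHom.pow_apply, MonoidHom.one_apply]
      refine mul_right_cancel (b := f n) ?_
      rw [← pow_succ, Nat.sub_add_cancel hk0, hfk, one_mul])
    have h5 : k ≡ 1 [MOD p] := ((Nat.modEq_iff_dvd' hk0).2 ((hfo ▸ hdvd).trans h4)).symm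
    have h6 : 2 % p = 1 % p := (hk2p.symm.trans h5)
    rw [Nat.mod_eq_of_lt (by omega), Nat.mod_eq_of_lt (by omega)] at h6
    omega
  -- the normal subgroup `N C(Q)`
  set QG : Subgroup G := (Q : Subgroup ↥N).map N.subtype
  set L : Subgroup G := N ⊔ Subgroup.centralizer (QG : Set G)
  have hLn : L.Normal := by
    refine ⟨fun l hl x => ?_⟩
    have hx : x ∈ Subgroup.normalizer (QG : Set G) ⊔ N := by
      rw [Sylow.normalizer_sup_eq_top Q]; trivial
    obtain ⟨y, hy, n, hn, rfl⟩ := Subgroup.mem_sup_of_normal_right.1 hx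
    have hnl : n * l * n⁻¹ ∈ L :=
      L.mul_mem (L.mul_mem (Subgroup.mem_sup_left hn) hl) (Subgroup.mem_sup_left (N.inv_mem hn))
    have hyL : L.map (MulAut.conj y).toMonoidHom ≤ L := by
      rw [Subgroup.map_sup]
      refine sup_le_sup ?_ ?_
      · rintro _ ⟨w, hw, rfl⟩
        exact (inferInstance : N.Normal).conj_mem w hw y
      · rintro _ ⟨w, hw, rfl⟩
        intro q hq
        have hq' : y⁻¹ * q * y ∈ QG := (Subgroup.mem_normalizer_iff''.1 hy q).1 hq
        have h := Subgroup.mem_centralizer_iff.1 hw _ hq'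
        show q * (y * w * y⁻¹) = y * w * y⁻¹ * q
        calc q * (y * w * y⁻¹) = y * ((y⁻¹ * q * y) * w) * y⁻¹ := by group
          _ = y * (w * (y⁻¹ * q * y)) * y⁻¹ := by rw [h]
          _ = y * w * y⁻¹ * q := by group
    have := hyL ⟨_, hnl, rfl⟩
    simpa [MulAut.conj_apply, mul_assoc] using this
  have := Fintype.ofFinite ↥L
  have hNL : N ≤ L := le_sup_left
  let N' : Subgroup ↥L := N.subgroupOf L
  have := Fintype.ofFinite ↥N'
  let e : ↥N' ≃* ↥N := Subgroup.subgroupOfEquivOfLe hNL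
  let θ' : Cfsg.IrrCharacter ↥N' := H43.irrCongr e θ
  have hθ'B : θ' ∈ Cfsg.principalBlock M ↥N' :=
    (H42.sameBlock_irrCongr_iff (M := M) e (H26.oneIrr ↥N) θ).2 hB
  have hθ'inv : ∀ l : ↥L, H43.irrConj N' l θ' = θ' := fun l => Subtype.ext (funext fun n => by
    rw [H43.irrConj_apply, H43.irrCongr_apply, H43.irrCongr_apply]
    conv_rhs => rw [← hinvC (l : G)]
    rw [H43.irrConj_apply]
    exact congrArg θ.1 (Subtype.ext rfl))
  have hθ'd : ¬ p ∣ Cfsg.charDegree θ'.1 := by rw [H43.charDegree_irrCongr]; exact hdeg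
  have hθ'o : ¬ p ∣ Cfsg.detOrder θ'.1 := by
    rw [show Cfsg.detOrder θ'.1 = Cfsg.detOrder θ.1 from
      H43.detOrder_comp_equiv e (H26.irr_isCharacter θ)]
    exact hodet
  let Q' : Sylow p ↥N' := Q.mapSurjective (f := e.symm.toMonoidHom) e.symm.surjective
  have hcov : N' ⊔ Subgroup.centralizer
      (((Q' : Subgroup ↥N').map N'.subtype : Subgroup ↥L) : Set ↥L) = ⊤ := by
    rw [eq_top_iff]
    intro l _
    obtain ⟨n, hn, c, hc, hnc⟩ := Subgroup.mem_sup_of_normal_left.1 l.2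
    have hcL : c ∈ L := Subgroup.mem_sup_right hc
    have hl : l = (⟨n, hNL hn⟩ : ↥L) * ⟨c, hcL⟩ := Subtype.ext hnc.symm
    rw [hl]
    refine Subgroup.mul_mem _ (Subgroup.mem_sup_left (Subgroup.mem_subgroupOf.2 hn))
      (Subgroup.mem_sup_right ?_)
    rintro q ⟨q', hq', rfl⟩
    obtain ⟨q0, hq0, rfl⟩ := hq'
    exact Subtype.ext (Subgroup.mem_centralizer_iff.1 hc _ ⟨q0, hq0, rfl⟩)
  obtain ⟨χL, hres, hLB, hlp, hLo⟩ :=
    H45.exists_locallyPrincipal N' hM Q' hcov hθ'B hθ'inv hθ'd hθ'o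
  have hdL : Cfsg.charDegree χL.1 = Cfsg.charDegree θ.1 := by
    have h := hres 1
    rw [Subgroup.coe_one, H43.irrCongr_apply, map_one] at h
    simp only [Cfsg.charDegree, h]
  have hLinv : ∀ g : G, H43.irrConj L g χL = χL := by
    intro g
    refine H45.LocallyPrincipal.eq N' hM Q' hcov hθ'B hθ'd hres (fun n => ?_) hlp ?_ hLo ?_
    · rw [H43.irrConj_apply]
      have hmem : MulAut.conjNormal g (n : ↥L) ∈ N' := Subgroup.mem_subgroupOf.2 (by
        rw [MulAut.conjNormal_apply]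
        exact (inferInstance : N.Normal).conj_mem _ n.2 g)
      rw [show χL.1 (MulAut.conjNormal g (n : ↥L)) = θ'.1 ⟨_, hmem⟩ from hres ⟨_, hmem⟩,
        H43.irrCongr_apply, H43.irrCongr_apply]
      conv_rhs => rw [← hinvC g]
      rw [H43.irrConj_apply]
      exact congrArg θ.1 (Subtype.ext rfl)
    · intro x hx
      let φ : ↥L ≃* ↥L := MulAut.conjNormal g
      have hxo : ¬ p ∣ orderOf (φ x) := by rw [MulEquiv.orderOf_eq]; exact hx
      obtain ⟨ξ, hξ, hξv⟩ := hlp (φ x) hxo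
      have hN' : N'.map φ.toMonoidHom = N' := by
        refine Subgroup.eq_of_le_of_card_ge ?_
          (le_of_eq (Subgroup.card_map_of_injective φ.injective).symm)
        rintro _ ⟨w, hw, rfl⟩
        refine Subgroup.mem_subgroupOf.2 ?_
        show ((MulAut.conjNormal g w : ↥L) : G) ∈ N
        rw [MulAut.conjNormal_apply]
        exact (inferInstance : N.Normal).conj_mem _ hw g
      have hmap : (N' ⊔ Subgroup.zpowers x).map φ.toMonoidHom = N' ⊔ Subgroup.zpowers (φ x) := by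
        rw [Subgroup.map_sup, MonoidHom.map_zpowers, hN']
        rfl
      let eJ := (φ.subgroupMap (N' ⊔ Subgroup.zpowers x)).trans (MulEquiv.subgroupCongr hmap)
      refine ⟨H43.irrCongr eJ ξ,
        (H42.sameBlock_irrCongr_iff (M := M) eJ (H26.oneIrr _) ξ).2 hξ, fun y => ?_⟩
      rw [H43.irrCongr_apply, hξv]
      rfl
    · rw [show Cfsg.detOrder (H43.irrConj L g χL).1 = Cfsg.detOrder χL.1 from
        H43.detOrder_comp_equiv (MulAut.conjNormal g : MulAut ↥L) (H26.irr_isCharacter χL)]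
      exact hLo
  have hLk : ∀ k : ℕ, k.Coprime (Nat.card G) → k ≡ 1 [MOD m'] →
      ∀ l : ↥L, χL.1 (l ^ k) = χL.1 l := by
    intro k hk hk1 l
    have hkL : k.Coprime (Nat.card ↥L) := hk.coprime_dvd_right L.card_subgroup_dvd_card
    have h := H45.LocallyPrincipal.eq N' hM Q' hcov hθ'B hθ'd (χ' := H45.galIrr hkL χL) hres
      (fun n => by
        show χL.1 ((n : ↥L) ^ k) = _
        rw [← Subgroup.coe_pow, hres, H43.irrCongr_apply, H43.irrCongr_apply, map_pow,
          hθk k hk hk1]) hlp ?_ hLo (by rw [H45.detOrder_galIrr]; exact hLo)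
    · exact congrArg (fun η : Cfsg.IrrCharacter ↥L => η.1 l) h
    · intro x hx
      obtain ⟨ξ, hξ, hξv⟩ := hlp x hx
      have hkJ : k.Coprime (Nat.card ↥(N' ⊔ Subgroup.zpowers x)) :=
        hkL.coprime_dvd_right (Subgroup.card_subgroup_dvd_card _)
      refine ⟨H45.galIrr hkJ ξ, H42.mem_of_eq_on_regular hM (H26.isPBlock_principalBlock _) hξ
        fun y hy => ?_, fun y => ?_⟩
      · show ξ.1 (y ^ k) = ξ.1 y
        refine congrArg ξ.1 (Subtype.ext (Subtype.ext ?_))
        push_cast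
        exact hkreg k hk1 _ (by rwa [Subgroup.orderOf_coe, Subgroup.orderOf_coe])
      · show ξ.1 (y ^ k) = χL.1 ((y : ↥L) ^ k)
        rw [hξv, Subgroup.coe_pow]
  -- extend to `G`
  obtain ⟨b, hb⟩ : ∃ b, L.index = p ^ b := hidx
  have hcp : ∀ {t : ℕ}, ¬ p ∣ t → Nat.Coprime L.index t := fun {t} ht => by
    rw [hb]
    exact Nat.Coprime.pow_left b ((Nat.Prime.coprime_iff_not_dvd hpp).2 ht)
  obtain ⟨χ, hχ, hχo⟩ := H43.exists_coprime_ext χL hLinv
    (Nat.Coprime.mul_right (hcp hLo) (hcp (hdL ▸ hdeg)))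
  have hχB : χ ∈ Cfsg.principalBlock M G := by
    have h := H42.extension_mem_principalBlock hM ⊤ le_top
      (fun g hg => H41.mem_of_regular_of_index L ⟨b, hb⟩ (by rwa [Subgroup.orderOf_coe])) hLB
      (H43.irrCongr Subgroup.topEquiv χ) (fun n => by rw [H43.irrCongr_apply, ← hχ]; rfl)
    exact (H42.sameBlock_irrCongr_iff (M := M) (Subgroup.topEquiv (G := G)) (H26.oneIrr G) χ).1 h
  refine ⟨χ, hχB, ⟨m', hm'p, fun g => ?_⟩, fun n => ?_⟩
  · have hζ := Complex.isPrimitiveRoot_exp m' hm'0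
    have hζint : IsIntegral ℚ (Complex.exp (2 * Real.pi * Complex.I / m')) :=
      (hζ.isIntegral (Nat.pos_of_ne_zero hm'0)).tower_top
    refine H45.mem_of_forall_ringAut_fix _ (fun x hx => ?_)
      ((H45.isIntegral_char' (H26.irr_isCharacter χ) g).tower_top) fun σ hσ => ?_
    · have hle : IntermediateField.adjoin ℚ ({Complex.exp (2 * Real.pi * Complex.I / m')} : Set ℂ) ≤
          algebraicClosure ℚ ℂ :=
        IntermediateField.adjoin_le_iff.2 fun s hs => by
          rw [Set.mem_singleton_iff.1 hs]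
          exact mem_algebraicClosure_iff.2 hζint.isAlgebraic
      exact (mem_algebraicClosure_iff.1 (hle hx)).isIntegral
    · obtain ⟨k, hk, hσk⟩ := H45.exists_pow_of_ringAut σ hG0
      have hk1 : k ≡ 1 [MOD m'] := by
        have hz : (Complex.exp (2 * Real.pi * Complex.I / m')) ^ Nat.card G = 1 := by
          rw [← hG, mul_comm (p ^ a) m', pow_mul, hζ.pow_eq_one, one_pow]
        have h := hσ _ (IntermediateField.subset_adjoin ℚ _ rfl)
        rw [hσk _ hz] at h
        have hfin : IsOfFinOrder (Complex.exp (2 * Real.pi * Complex.I / m')) :=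
          isOfFinOrder_iff_pow_eq_one.2 ⟨m', Nat.pos_of_ne_zero hm'0, hζ.pow_eq_one⟩
        conv_rhs at h => rw [← pow_one (Complex.exp _)]
        rw [hfin.pow_eq_pow_iff_modEq, ← hζ.eq_orderOf] at h
        exact h
      rw [H45.ringAut_char (H26.irr_isCharacter χ) σ hσk g]
      have h := H43.coprime_ext_unique χL χ (H45.galIrr hk χ) (hcp (hdL ▸ hdeg)) hχ (fun l => by
        show χ.1 ((l : G) ^ k) = _
        rw [← Subgroup.coe_pow, hχ, hLk k hk hk1]) (by rw [hχo]; exact hcp hLo)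
        (by rw [H45.detOrder_galIrr, hχo]; exact hcp hLo)
      exact congrArg (fun η : Cfsg.IrrCharacter G => η.1 g) h
  · have h := hχ ⟨(n : G), hNL n.2⟩
    rw [h]
    have h2 := hres ⟨⟨(n : G), hNL n.2⟩, n.2⟩
    exact h2

end Cfsg.Agent.S4892
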