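import Cfsg.Statements.S4912
import Cfsg.Agent.H45.CliffordLinear
import Cfsg.Agent.H45.FSForm

set_option autoImplicit false
open Cfsg

namespace Cfsg.Agent.S4912

/-- Let G be a finite group with a non-abelian minimal normal subgroup N, and let φ be an irreducible complex character of N with stabilizer I in G such that φ extends to an irreducible character of I with Frobenius–Schur indicator +1. Put d = φ(1)·[G : I]. Then the number of linear characters of G with Frobenius–Schur indicator +1 is at most [G : I] times the number of irreducible characters of G of degree d with Frobenius–Schur indicator +1. -/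
theorem result {G : Type*} [Group G] [Finite G] (N : Subgroup G) (hN : N.Normal) (hN1 : N ≠ ⊥) (hmin : ∀ M : Subgroup G, M.Normal → M ≤ N → M = ⊥ ∨ M = N) (hna : ¬ IsMulCommutative ↥N) (φ : Cfsg.IrrCharacter ↥N) (I : Subgroup G) (hI : ∀ g : G, g ∈ I ↔ ∀ n n' : ↥N, (n' : G) = g * (n : G) * g⁻¹ → (φ : ↥N → ℂ) n' = (φ : ↥N → ℂ) n) (hNI : N ≤ I) (hext : ∃ ψ : Cfsg.IrrCharacter ↥I, (Nat.card ↥I : ℂ)⁻¹ * ∑ᶠ g : ↥I, (ψ : ↥I → ℂ) (g * g) = 1 ∧ ∀ n : ↥N, (ψ : ↥I → ℂ) (Subgroup.inclusion hNI n) = (φ : ↥N → ℂ) n) : Nat.card {χ : Cfsg.IrrCharacter G // Cfsg.charDegree (χ : G → ℂ) = 1 ∧ (Nat.card G : ℂ)⁻¹ * ∑ᶠ g : G, (χ : G → ℂ) (g * g) = 1} ≤ I.index * Nat.card {χ : Cfsg.IrrCharacter G // Cfsg.charDegree (χ : G → ℂ) = Cfsg.charDegree (φ : ↥N → ℂ) * I.index ∧ (Nat.card G : ℂ)⁻¹ * ∑ᶠ g : G, (χ : G → ℂ) (g * g) = 1} := by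
  classical
  have := Fintype.ofFinite G
  have : Fintype ↥I := Fintype.ofFinite _
  obtain ⟨ψ, hν, hψ⟩ := hext
  have hI' : ∀ g : G, g ∈ I ↔ H56.twist N φ.1 g = φ.1 := fun g =>
    (hI g).trans ⟨fun h => funext fun n => h n _ rfl, fun h n n' e => by
      rw [show n' = ⟨g * n * g⁻¹, hN.conj_mem n n.2 g⟩ from Subtype.ext e]
      exact congrFun h n⟩
  refine H45.card_linear_le_mul_card N (H45.hom_trivial_of_nonabelian_minimal N hmin hna)
    φ I hI' hNI ψ hψ (fun χ => (Nat.card G : ℂ)⁻¹ * ∑ᶠ g : G, χ.1 (g * g) = 1)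
    (fun χ => (Nat.card G : ℂ)⁻¹ * ∑ᶠ g : G, χ.1 (g * g) = 1) (fun f hi hf => ?_)
  rw [finsum_eq_sum_of_fintype] at hf hν ⊢
  have hsq : ∀ g : G, (f (g * g) : ℂ) = 1 := by
    intro g
    have hreal : ((f g : ℂ)).im = 0 := by
      by_contra hg
      have h0 := ((H26.fsIndicator_trichotomy ⟨_, H26.isIrrCharacter_hom f⟩).2).2 ⟨g, hg⟩
      rw [H26.fsIndicator, hf] at h0
      exact one_ne_zero h0
    have h1 := Complex.conj_eq_iff_im.2 hreal
    rw [H27.conj_linear] at h1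
    rw [map_mul, Units.val_mul]
    conv_lhs => arg 1; rw [← h1]
    rw [← Units.val_mul, ← map_mul, inv_mul_cancel, map_one, Units.val_one]
  refine H45.fsIndicator_indFun_eq_one I ?_ ?_ hi
  · exact H26.isCharacter_of_irr (H56.isIrrCharacter_hom_mul ψ.2 (f.comp I.subtype))
  · rw [H26.fsIndicator, ← hν]
    congr 1
    refine Finset.sum_congr rfl fun i _ => ?_
    rw [Subgroup.coe_mul, hsq, one_mul]

end Cfsg.Agent.S4912
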