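import Cfsg.Statements.S4914
import Cfsg.Agent.H45.RelGlauberman
import Cfsg.Agent.H43.SubgroupAction
-- import your own Cfsg.Agent.* helpers here

set_option autoImplicit false
open Cfsg

namespace Cfsg.Agent.S4914

/-- Let P and K be subgroups of a finite group G with P a p-group normalizing K, and suppose K has a normal Sylow p-subgroup Q. Let C be the subgroup of those k ∈ K whose commutator with every element of P lies in Q (so that C/Q is the fixed-point subgroup of P on K/Q). Then there is a bijection f from the P-invariant irreducible complex characters of K onto the P-invariant irreducible complex characters of C such that, for every P-invariant irreducible character χ of K, the multiplicity of f(χ) in the restriction of χ to C is a natural number congruent to 1 or to −1 modulo p, every other P-invariant irreducible character of C occurs in that restriction with multiplicity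 divisible by p, and the degrees of χ and f(χ) are congruent modulo p up to sign. -/
theorem result {G : Type*} [Group G] [Finite G] (p : ℕ) [Fact p.Prime] (P K Q C : Subgroup G) (hP : IsPGroup p ↥P) (hPK : P ≤ Subgroup.normalizer (K : Set G)) (hQK : Q ≤ K) (hQn : ∀ k ∈ K, ∀ q ∈ Q, k * q * k⁻¹ ∈ Q) (hQp : ∃ a : ℕ, Nat.card ↥Q = p ^ a) (hQsyl : ¬ p ∣ Q.relIndex K) (hCK : C ≤ K) (hC : ∀ k : G, k ∈ C ↔ (k ∈ K ∧ ∀ x ∈ P, x * k * x⁻¹ * k⁻¹ ∈ Q)) : ∃ f : {χ : Cfsg.IrrCharacter ↥K // (∀ x ∈ P, ∀ k k' : ↥K, (k' : G) = x * (k : G) * x⁻¹ → (χ : ↥K → ℂ) k' = (χ : ↥K → ℂ) k)} → {ξ : Cfsg.IrrCharacter ↥C // (∀ x ∈ P, ∀ k k' : ↥C, (k' : G) = x * (k : G) * x⁻¹ → (ξ : ↥C → ℂ) k' = (ξ : ↥C → ℂ) k)}, Function.Bijective f ∧ ∀ χ, (∀ ξ : {ξ : Cfsg.IrrCharacter ↥C // (∀ x ∈ P, ∀ k k' : ↥C, (k' : G) = x * (k : G) * x⁻¹ → (ξ : ↥C → ℂ) k' = (ξ : ↥C → ℂ) k)}, ∃ m : ℕ, (Nat.card ↥C : ℂ)⁻¹ * ∑ᶠ c : ↥C, (χ.1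 : ↥K → ℂ) (Subgroup.inclusion hCK c) * (starRingEnd ℂ) ((ξ.1 : ↥C → ℂ) c) = (m : ℂ) ∧ (ξ = f χ → ((m : ZMod p) = 1 ∨ (m : ZMod p) = -1)) ∧ (ξ ≠ f χ → p ∣ m)) ∧ ((Cfsg.charDegree ((f χ).1 : ↥C → ℂ) : ZMod p) = (Cfsg.charDegree (χ.1 : ↥K → ℂ) : ZMod p) ∨ (Cfsg.charDegree ((f χ).1 : ↥C → ℂ) : ZMod p) = -(Cfsg.charDegree (χ.1 : ↥K → ℂ) : ZMod p)) := by
  classical
  have := Fintype.ofFinite G
  have : Fintype ↥K := Fintype.ofFinite _
  have : Fintype ↥C := Fintype.ofFinite _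
  have : Fintype ↥(Q.subgroupOf K) := Fintype.ofFinite _
  have : Fintype ↥((Q.subgroupOf K).comap (Subgroup.inclusion hCK)) := Fintype.ofFinite _
  have hp : p.Prime := Fact.out
  have hnK : ∀ s ∈ P, ∀ g ∈ K, s * g * s⁻¹ ∈ K := fun s hs g hg =>
    (Subgroup.mem_normalizer_iff.1 (hPK hs) g).1 hg
  have : (Q.subgroupOf K).Normal :=
    ⟨fun n hn g => Subgroup.mem_subgroupOf.2 (hQn g g.2 n (Subgroup.mem_subgroupOf.1 hn))⟩
  obtain ⟨a, ha⟩ := hQp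
  have hQK' : IsPGroup p ↥(Q.subgroupOf K) :=
    IsPGroup.iff_card.2 ⟨a, (Nat.card_congr (Subgroup.subgroupOfEquivOfLe hQK).toEquiv).trans ha⟩
  have hQP : ∀ s ∈ P, ∀ q ∈ Q, s * q * s⁻¹ ∈ Q := by
    intro s hs q hq
    have hmem : s * q * s⁻¹ ∈ K := hnK s hs q (hQK hq)
    suffices h : (⟨s * q * s⁻¹, hmem⟩ : ↥K) ∈ Q.subgroupOf K from h
    obtain ⟨k, hk⟩ := hQK' ⟨⟨q, hQK hq⟩, hq⟩
    rw [← QuotientGroup.eq_one_iff]
    set x : ↥K ⧸ Q.subgroupOf K := ((⟨s * q * s⁻¹, hmem⟩ : ↥K) : ↥K ⧸ Q.subgroupOf K)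
    have h1 : x ^ p ^ k = 1 := by
      rw [← QuotientGroup.mk_pow]
      refine (QuotientGroup.eq_one_iff _).2 ?_
      have hq1 : q ^ p ^ k = 1 := congrArg (fun z : ↥(Q.subgroupOf K) => ((z : ↥K) : G)) hk
      show (s * q * s⁻¹) ^ p ^ k ∈ Q
      rw [conj_pow, hq1, mul_one, mul_inv_cancel]
      exact Q.one_mem
    have h2 : x ^ Nat.card (↥K ⧸ Q.subgroupOf K) = 1 := pow_card_eq_one'
    have h3 : Nat.Coprime (p ^ k) (Nat.card (↥K ⧸ Q.subgroupOf K)) := by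
      rw [← Subgroup.index_eq_card]
      exact ((Nat.Prime.coprime_iff_not_dvd hp).2 hQsyl).pow_left k
    have h4 := pow_gcd_eq_one.2 ⟨h1, h2⟩
    rwa [h3, pow_one] at h4
  have hnC : ∀ s ∈ P, ∀ c ∈ C, s * c * s⁻¹ ∈ C := by
    intro s hs c hc
    obtain ⟨hcK, hcf⟩ := (hC c).1 hc
    refine (hC _).2 ⟨hnK s hs c hcK, fun x hx => ?_⟩
    have h := Q.mul_mem (hcf (x * s) (P.mul_mem hx hs)) (Q.inv_mem (hcf s hs))
    rwa [show x * s * c * (x * s)⁻¹ * c⁻¹ * (s * c * s⁻¹ * c⁻¹)⁻¹ =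
      x * (s * c * s⁻¹) * x⁻¹ * (s * c * s⁻¹)⁻¹ by group] at h
  set φ := H43.conjHom K P hnK
  set φC := H43.conjHom C P hnC
  set ι : ↥C →* ↥K := Subgroup.inclusion hCK
  have hd : H45.RelData p φ φC ι (Q.subgroupOf K) := by
    refine ⟨⟨hp, hP, hQK', hQsyl, fun s q hq => ?_⟩, Subgroup.inclusion_injective hCK,
      fun s c => rfl, fun k => ⟨fun h => ?_, ?_⟩⟩
    · exact Subgroup.mem_subgroupOf.2 (hQP s s.2 q (Subgroup.mem_subgroupOf.1 hq))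
    · refine ⟨⟨k, (hC k).2 ⟨k.2, fun x hx => ?_⟩⟩, Subtype.ext rfl⟩
      exact Subgroup.mem_subgroupOf.1 (h ⟨x, hx⟩)
    · rintro ⟨c, rfl⟩ s
      exact Subgroup.mem_subgroupOf.2 (((hC (c : G)).1 c.2).2 s s.2)
  obtain ⟨f, hf, hprop⟩ := hd.exists_bijection
  let eK := Equiv.subtypeEquivRight fun χ : Cfsg.IrrCharacter ↥K =>
    H43.invFun_conjHom_iff K P hnK χ.1
  let eC := Equiv.subtypeEquivRight fun ξ : Cfsg.IrrCharacter ↥C =>
    H43.invFun_conjHom_iff C P hnC ξ.1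
  refine ⟨fun χ => eC (f (eK.symm χ)), eC.bijective.comp (hf.comp eK.symm.bijective),
    fun χ => ⟨fun ξ => ?_, ?_⟩⟩
  · obtain ⟨h1, h2, -⟩ := hprop (eK.symm χ)
    refine ⟨H43.mult (fun c : ↥C => χ.1.1 (ι c)) ξ.1, ?_, fun e => ?_, fun e => ?_⟩
    · rw [finsum_eq_sum_of_fintype]
      exact H43.classInner_eq_mult (φ := fun c : ↥C => χ.1.1 (ι c))
        (H26.isCharacter_comp (H26.irr_isCharacter χ.1) ι) ξ.1
    · subst e
      exact h1
    · exact h2 (eC.symm ξ) fun e' => e ((eC.apply_symm_apply ξ).symm.trans (congrArg eC e'))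
  · exact (hprop (eK.symm χ)).2.2

end Cfsg.Agent.S4914
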