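import Cfsg.Statements.S4997
import Cfsg.Agent.H19.VanishingBound

set_option autoImplicit false
open Cfsg

namespace Cfsg.Agent.S4997

/-- Let p be an odd prime and G a finite solvable group with exactly one conjugacy class consisting of vanishing elements (elements at which some irreducible complex character is zero) of order divisible by p. Let P be a Sylow p-subgroup of G. Then the order of P is at most p times the order of the largest normal p-subgroup of G. -/
theorem result {G : Type*} [Group G] [Finite G] (hsolv : Group.IsSolvable G) (p : ℕ) [Fact p.Prime] (hp : p ≠ 2) (h1 : Set.ncard {C : ConjClasses G | (∀ g ∈ C.carrier, ∃ χ : Cfsg.IrrCharacter G, (χ : G → ℂ) g = 0) ∧ ∃ g ∈ C.carrier, p ∣ orderOf g} = 1) (P : Sylow p G) : Nat.card ↥(P : Subgroup G) ≤ p * Nat.card ↥(Cfsg.pCore p G) := by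
  haveI := hsolv
  obtain ⟨D, hD⟩ := Set.ncard_eq_one.1 h1
  refine Cfsg.Agent.H19.card_sylow_le_of_conjVanishing (fun x y hx hxp hy hyp => ?_) P
  have key : ∀ z : G, Cfsg.Agent.H19.Vanishes z → p ∣ orderOf z → ConjClasses.mk z = D := by
    rintro z ⟨χ, hχ⟩ hzp
    have hz : ConjClasses.mk z ∈ ({D} : Set (ConjClasses G)) := hD ▸
      ⟨fun g hg => ⟨χ, by
        rw [Cfsg.Agent.H26.irr_eq_of_isConj χ (ConjClasses.mk_eq_mk_iff_isConj.1
          (ConjClasses.mem_carrier_iff_mk_eq.1 hg)), hχ]⟩, z, ConjClasses.mem_carrier_mk, hzp⟩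
    exact Set.mem_singleton_iff.1 hz
  exact ConjClasses.mk_eq_mk_iff_isConj.1 ((key x hx hxp).trans (key y hy hyp).symm)

end Cfsg.Agent.S4997
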