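import Cfsg.Statements.S5138
import Cfsg.Agent.H93.CentralProductNormal
import Cfsg.Agent.H94.CentralizerNormal
import Cfsg.Agent.H94.PPrimeResidual
import Cfsg.Agent.H94.ResidualMinimal
import Cfsg.Agent.H94.ResidualNormal

set_option autoImplicit false
open Cfsg

namespace Cfsg.Agent.S5138

open Cfsg.FusionSystem Cfsg.Agent.H96

/-- A normal subsystem contains a normal subsystem over the same group in which a strongly closed central subgroup of
that group is central. -/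
theorem exists_normal_center {Ω : Type*} [Group Ω] {S : Subgroup Ω} [Finite S] {p : ℕ} [Fact p.Prime]
    (hS : IsPGroup p S) {F : FusionSystem S} {T Z : Subgroup Ω} {E : FusionSystem T} (hE : E.IsNormalIn F p)
    (hZ : F.StronglyClosed Z) (hZT : Z ≤ T) (hcen : ∀ x ∈ T, ∀ z ∈ Z, x * z = z * x) :
    ∃ D : FusionSystem T, D.IsNormalIn F p ∧ Z ≤ D.center := by
  have hTS : T ≤ S := hE.1.2.2.2.1.1
  have := finite_of_le hTS
  have hT := hS.to_le hTS
  have hEs := hE.1.1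
  have hZn : E.IsNormal Z := H93.isNormal_of_stronglyClosed_abelian hT hEs
    ⟨hZT, fun R hR φ hφ x => hZ.2 R hR φ (hE.1.2.2.1 R hφ) x⟩ fun a ha b hb => hcen a (hZT ha) b hb
  obtain ⟨D, hD, -⟩ := H94.exists_pPrimeResidual hT hEs
  obtain ⟨C, hC, hCe⟩ : ∃ C : FusionSystem T, C.IsWeaklyNormalIn E p ∧
      ∀ P, C.Hom P ⊆ E.centralizerHom Z P := by
    have key : ∀ {U : Subgroup Ω}, U = T → ∀ C : FusionSystem U, C.IsWeaklyNormalIn E p →
        (∀ P, C.Hom P ⊆ E.centralizerHom Z P) →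
        ∃ C : FusionSystem T, C.IsWeaklyNormalIn E p ∧ ∀ P, C.Hom P ⊆ E.centralizerHom Z P := by
      rintro U rfl C h1 h2
      exact ⟨C, h1, h2⟩
    exact key (inf_eq_left.2 fun x hx => Subgroup.mem_centralizer_iff.2 fun z hz => (hcen x hx z hz).symm)
      _ (H94.centralizerSystem_isNormalIn hT hEs hZn).1 fun P φ h => h
  have hEI : E.IsWeaklyNormalIn E p := ⟨hEs, hEs, fun P φ h => h, ⟨le_rfl, fun R _ φ hφ x => (E.le_of_mem hφ).2 x⟩,
    fun P hP φ hφ α hα => by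
      obtain ⟨χ, hχ, hχe⟩ := (H94.stronglyInvariant_of_invariant hE.1.2.2) P T hP le_rfl φ hφ (E.le_of_mem hφ).2 _
        (hE.1.2.2.1 T ((mem_autGroup E le_rfl).1 hα))
      exact ⟨χ, hχ, fun x _ h => hχe x h⟩,
    fun P hP φ hφ => ⟨1, one_mem _, φ, hφ, fun x hx => rfl⟩⟩
  have hsub : ∀ P, D.Hom P ⊆ C.Hom P := H94.pPrimeResidual_le hT hEs hEI hC hD
  refine ⟨D, H94.pPrimeResidual_isNormalIn hS hE.1 hD, le_sSup ⟨hZT, fun P φ hφ => ?_⟩⟩
  refine H94.alperin_induction_step hT hD.1 (fun P φ => S5127.Ext D Z P φ)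
    (fun P R h φ _ hC => S5127.ext_res h hC) (fun P Q φ ψ _ _ a b h => S5127.ext_comp a b h) ?_ hφ
  intro U hU hUc _ _ a ha
  have hUT := hU.1
  have hZU : Z ≤ U := fun z hz => hUc.2 U ⟨U.subtype, subtype_mem D hUT, Subgroup.range_subtype U⟩
    ⟨hZT hz, Subgroup.mem_centralizer_iff.2 fun x hx => hcen x (hUT hx) z hz⟩
  have haD := (mem_autGroup D hUT).1 ha
  obtain ⟨-, -, -, ψ, hψ, hψ₁, hψ₂⟩ := hCe U (hsub U haD)
  refine ⟨res (U.subtype.comp a.toMonoidHom) (sup_le le_rfl hZU), res_mem D haD _, fun x => rfl, fun z => ?_⟩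
  refine Eq.trans ?_ (hψ₂ z)
  exact (hψ₁ ⟨z, hZU z.2⟩).symm.trans (congrArg ψ (Subtype.ext rfl))

/-- Let F be a saturated fusion system over a finite p-group S and E₁, E₂ normal subsystems over T₁, T₂ with [T₁, T₂] = 1. Then there is a normal subsystem of F over T₁T₂ which, if moreover T₁ ∩ T₂ lies in the centre of E₁ and in the centre of E₂, is a central product of E₁ and E₂ (the factor system of a direct product of E₁ and E₂ modulo a subgroup of its centre meeting both factors trivially). -/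
theorem result {Ω : Type*} [Group Ω] {S : Subgroup Ω} [Finite S] (p : ℕ) [Fact p.Prime] (hS : IsPGroup p S) (F : Cfsg.FusionSystem S) (hF : F.IsSaturated p) {T₁ T₂ : Subgroup Ω} (E₁ : Cfsg.FusionSystem T₁) (E₂ : Cfsg.FusionSystem T₂) (hE₁ : E₁.IsNormalIn F p) (hE₂ : E₂.IsNormalIn F p) (hc : ⁅T₁, T₂⁆ = ⊥) : ∃ D : Cfsg.FusionSystem (T₁ ⊔ T₂), D.IsNormalIn F p ∧ (T₁ ⊓ T₂ ≤ E₁.center → T₁ ⊓ T₂ ≤ E₂.center → Cfsg.FusionSystem.IsCentralProductOf E₁ E₂ D) := by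
  have hcc : ∀ x ∈ T₁, ∀ y ∈ T₂, x * y = y * x := fun x hx y hy =>
    (Subgroup.mem_centralizer_iff.1 (Subgroup.commutator_eq_bot_iff_le_centralizer.1 hc hx) y hy).symm
  by_cases hz : T₁ ⊓ T₂ ≤ E₁.center ∧ T₁ ⊓ T₂ ≤ E₂.center
  · obtain ⟨D, hD, hDc⟩ := H93.CPN.centralProduct_exists_isNormalIn hS hF hE₁ hE₂ hc hz.1 hz.2
    exact ⟨D, hD, fun _ _ => hDc⟩
  · have h1 : F.StronglyClosed T₁ := hE₁.1.2.2.2.1
    have h2 : F.StronglyClosed T₂ := hE₂.1.2.2.2.1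
    have hZ : F.StronglyClosed (T₁ ⊓ T₂) := ⟨inf_le_left.trans h1.1, fun R hR φ hφ x =>
      ⟨h1.2 R (hR.trans inf_le_left) φ hφ x, h2.2 R (hR.trans inf_le_right) φ hφ x⟩⟩
    obtain ⟨D₁, hD₁, hc₁⟩ := exists_normal_center hS hE₁ hZ inf_le_left fun x hx z hz => hcc x hx z hz.2
    obtain ⟨D₂, hD₂, hc₂⟩ := exists_normal_center hS hE₂ hZ inf_le_right fun y hy z hz => (hcc z hz.1 y hy).symm
    obtain ⟨D, hD, -⟩ := H93.CPN.centralProduct_exists_isNormalIn hS hF hD₁ hD₂ hc hc₁ hc₂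
    exact ⟨D, hD, fun a b => absurd ⟨a, b⟩ hz⟩

end Cfsg.Agent.S5138
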