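import Cfsg.Statements.S5185
import Cfsg.Agent.H93.Essential
import Cfsg.Agent.H53.AutEmbedGLTwo
import Cfsg.Agent.H29.GLTwoTransvection

set_option autoImplicit false
universe u
open Cfsg

namespace Cfsg.Agent.S5185

open Agent.H93

/-- A `p`-subgroup-free group of order divisible by `p` inside `GL₂(p)` contains `SL₂(p)`. -/
theorem exists_sl_two {A : Type*} [Group A] [Finite A] {p : ℕ} [Fact p.Prime]
    (f : A →* GL (Fin 2) (ZMod p)) (hf : Function.Injective f) (hdvd : p ∣ Nat.card A)
    (hO : Cfsg.pCore p A = ⊥) :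
    ∃ K : Subgroup A, Nonempty (K ≃* Matrix.SpecialLinearGroup (Fin 2) (ZMod p)) := by
  have hp : p.Prime := Fact.out
  obtain ⟨x, hx⟩ := exists_prime_orderOf_dvd_card' (G := A) p hdvd
  obtain ⟨g, hg⟩ : ∃ g : A, g * x * g⁻¹ ∉ Subgroup.zpowers x := by
    by_contra hcon
    push Not at hcon
    have hn : (Subgroup.zpowers x).Normal := ⟨fun w hw g => by
      obtain ⟨i, rfl⟩ := hw
      show g * x ^ i * g⁻¹ ∈ _
      rw [← conj_zpow]
      exact zpow_mem (hcon g) i⟩
    have h : Subgroup.zpowers x ≤ Cfsg.pCore p A :=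
      le_sSup ⟨hn, IsPGroup.of_card (n := 1) (by rw [Nat.card_zpowers, hx, pow_one])⟩
    rw [hO, le_bot_iff, Subgroup.zpowers_eq_bot] at h
    rw [h, orderOf_one] at hx
    exact hp.ne_one hx.symm
  let s : Matrix.SpecialLinearGroup (Fin 2) (ZMod p) →* GL (Fin 2) (ZMod p) :=
    Matrix.SpecialLinearGroup.toGL
  have hs : Function.Injective s := fun a b h =>
    Subtype.ext (congrArg (fun u : GL (Fin 2) (ZMod p) => (u : Matrix (Fin 2) (Fin 2) (ZMod p))) h)
  have hle : s.range ≤ f.range := by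
    rintro _ ⟨m, rfl⟩
    refine Agent.H29.GLTwo.det_one_le (K := f.range) (x := f x) (y := f (g * x * g⁻¹)) ⟨x, rfl⟩ ⟨_, rfl⟩
      (by rw [orderOf_injective f hf, hx])
      (by rw [orderOf_injective f hf]; exact ((MulAut.conj g).orderOf_eq x).trans hx) ?_ _ m.2
    rw [← MonoidHom.map_zpowers, Subgroup.mem_map_iff_mem hf]
    exact hg
  set K := s.range.comap f with hK
  have hmap : K.map f = s.range := Subgroup.map_comap_eq_self hle
  exact ⟨K, ⟨(K.equivMapOfInjective f hf).trans
    ((MulEquiv.subgroupCongr hmap).trans (MonoidHom.ofInjective hs).symm)⟩⟩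


/-- Let F be a saturated fusion system over a finite p-group S and H an essential subgroup of order p². Then H is elementary abelian (isomorphic to C_p × C_p) and its F-automorphism group contains a subgroup isomorphic to SL(2,p). -/
theorem result {Ω : Type u} [Group Ω] {S : Subgroup Ω} [Finite S] (p : ℕ) [Fact p.Prime] (hS : IsPGroup p S)
    (F : Cfsg.FusionSystem S) (hF : F.IsSaturated p) (H : Subgroup Ω) (hH : F.IsEssential p H) (hcard : Nat.card H = p ^ 2) :
    Cfsg.IsElementaryAbelian p H ∧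
      ∃ K : Subgroup ↥(F.autGroup H), Nonempty (↥K ≃* Matrix.SpecialLinearGroup (Fin 2) (ZMod p)) := by
  have hp : p.Prime := Fact.out
  obtain ⟨-, hn, hnor, E, hE⟩ := hH
  have hHS : H ≤ S := hn.1
  have : Finite H := Finite.of_injective _ (Subgroup.inclusion_injective hHS)
  have : Finite (MulAut H) := finite_mulAut hHS
  have hcomm : IsMulCommutative H := IsPGroup.isMulCommutative_of_card_eq_prime_sq hcard
  have hInn : (Cfsg.Inn H).subgroupOf (F.autGroup H) = ⊥ := by
    rw [Subgroup.subgroupOf_eq_bot, disjoint_iff, eq_bot_iff]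
    rintro α ⟨hα, -⟩
    obtain ⟨g, rfl⟩ := hα
    refine Subgroup.mem_bot.2 (MulEquiv.ext fun w => ?_)
    show g * w * g⁻¹ = w
    rw [hcomm.is_comm.comm g w, mul_inv_cancel_right]
  have hcore : Cfsg.pCore p ↥(F.autGroup H) = ⊥ := by
    have h1 := pCore_eq_bot_of_stronglyPEmbedded hE
    have h2 : (Cfsg.pCore p ↥(F.autGroup H)).map (QuotientGroup.mk' ((Cfsg.Inn H).subgroupOf (F.autGroup H))) ≤ ⊥ := by
      rw [← h1]
      exact Agent.H19.le_pCore ((Agent.H19.pCore_normal p _).map _ (QuotientGroup.mk'_surjective _))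
        ((Agent.H19.pCore_isPGroup p).map _)
    rw [le_bot_iff, Subgroup.map_eq_bot_iff, QuotientGroup.ker_mk'] at h2
    exact le_bot_iff.1 (hInn ▸ h2)
  have hdvd : p ∣ Nat.card ↥(F.autGroup H) :=
    hE.1.trans (Subgroup.card_quotient_dvd_card _)
  -- `H` has exponent `p`
  have hexp : ∀ a : H, a ^ p = 1 := by
    by_contra hcon
    push Not at hcon
    obtain ⟨a, ha⟩ := hcon
    have hcyc : IsCyclic H := by
      refine isCyclic_of_orderOf_eq_card a ?_
      rw [hcard]
      obtain ⟨i, hi, hio⟩ := (Nat.dvd_prime_pow hp).1 (hcard ▸ orderOf_dvd_natCard a)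
      rw [hio]
      congr 1
      by_contra hi2
      apply ha
      rw [← orderOf_dvd_iff_pow_eq_one, hio]
      exact (pow_dvd_pow p (by omega : i ≤ 1)).trans (pow_one p).dvd
    obtain ⟨c, hc⟩ := hcyc.exists_generator
    have habel : ∀ u v : ↥(F.autGroup H), u * v = v * u := by
      rintro ⟨α, -⟩ ⟨β, -⟩
      refine Subtype.ext (MulEquiv.ext fun w => ?_)
      obtain ⟨i, rfl⟩ := hc w
      show α (β (c ^ i)) = β (α (c ^ i))
      obtain ⟨j, hj⟩ := hc (α c)
      obtain ⟨k, hk⟩ := hc (β c)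
      change c ^ j = α c at hj
      change c ^ k = β c at hk
      rw [map_zpow, map_zpow, map_zpow, map_zpow, ← hk, ← hj, map_zpow, map_zpow, ← hk, ← hj,
        ← zpow_mul, ← zpow_mul, ← zpow_mul, ← zpow_mul]
      congr 1
      ring
    obtain ⟨P⟩ : Nonempty (Sylow p ↥(F.autGroup H)) := inferInstance
    have hPn : (P : Subgroup ↥(F.autGroup H)).Normal :=
      ⟨fun w hw g => by rw [habel g w, mul_inv_cancel_right]; exact hw⟩
    have : (P : Subgroup ↥(F.autGroup H)) ≤ Cfsg.pCore p ↥(F.autGroup H) := le_sSup ⟨hPn, P.isPGroup'⟩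
    rw [hcore, le_bot_iff] at this
    exact P.ne_bot_of_dvd_card hdvd this
  refine ⟨⟨hcomm, fun a ha => by simpa using congrArg Subtype.val (hexp ⟨a, ha⟩)⟩, ?_⟩
  let : CommGroup H := { (inferInstance : Group H) with mul_comm := hcomm.is_comm.comm }
  obtain ⟨f, hf⟩ := Agent.H53.exists_injective_hom_GLTwo (V := H) hexp hcard.le
  exact exists_sl_two (f.comp (F.autGroup H).subtype) (hf.comp (F.autGroup H).subtype_injective) hdvd hcore

end Cfsg.Agent.S5185
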