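import Cfsg.Statements.S5187
import Cfsg.Agent.H29.AbelianEssential

set_option autoImplicit false
universe u
open Cfsg

namespace Cfsg.Agent.S5187

open Agent.H29

/-- Let F be a saturated fusion system over a finite p-group S and H an abelian essential subgroup that can be generated by two elements (its Frattini quotient has order at most p²). Then H is elementary abelian of order p², or p ≤ 3 and H is homocyclic of rank two, that is isomorphic to C_{pᵏ} × C_{pᵏ} for some k. -/
theorem result {Ω : Type u} [Group Ω] {S : Subgroup Ω} [Finite S] (p : ℕ) [Fact p.Prime] (hS : IsPGroup p S)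
    (F : Cfsg.FusionSystem S) (hF : F.IsSaturated p) (H : Subgroup Ω) (hH : F.IsEssential p H) (hab : IsMulCommutative ↥H) (hrk : (frattini ↥H).index ≤ p ^ 2) :
    (Cfsg.IsElementaryAbelian p H ∧ Nat.card H = p ^ 2) ∨
      (p ≤ 3 ∧ ∃ k : ℕ, Nonempty (↥H ≃* Multiplicative (ZMod (p ^ k) × ZMod (p ^ k)))) := by
  have hp : p.Prime := Fact.out
  have hHS : H ≤ S := hH.1.1
  have : Finite H := Finite.of_injective _ (Subgroup.inclusion_injective hHS)
  let : CommGroup H := { (inferInstance : Group H) with mul_comm := hab.is_comm.comm }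
  have hV : IsPGroup p H := hS.to_le hHS
  have hinv : ∀ (α : MulAut H) (i : ℕ), ∀ x ∈ agemo H p i, α x ∈ agemo H p i :=
    fun α i x hx => map_layer_inv α i hx
  have hex := exists_layer_eq_bot (V := ↥H) hV
  classical
  set a := Nat.find hex with ha_def
  have hbot : agemo H p a = ⊥ := Nat.find_spec hex
  have hle1 : (agemo H p 1).index ∣ p ^ 2 := by
    have hfr : frattini H ≤ agemo H p 1 :=
      Agent.H24.frattini_le_of (p := p) _ (by rw [(_root_.commutator_eq_bot_iff H).2 hab]; exact bot_le)
        fun x => ⟨x, by rw [powMonoidHom_apply, pow_one]⟩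
    obtain ⟨k, hk⟩ := hV.index (agemo H p 1)
    rw [hk]
    refine pow_dvd_pow p ((Nat.pow_le_pow_iff_right hp.one_lt).1 ?_)
    rw [← hk]
    exact (Nat.le_of_dvd (Nat.pos_of_ne_zero Subgroup.index_ne_zero_of_finite)
      (Subgroup.index_dvd_of_le hfr)).trans hrk
  -- no invariant intermediate step
  have hcrit : ∀ L : Subgroup H, agemo H p 1 ≤ L → (∀ (α : MulAut H), ∀ x ∈ L, α x ∈ L) →
      L.index ∣ p → ¬ (agemo H p 1).relIndex L ∣ p := by
    intro L hL hLinv hi hr
    let W : ℕ → Subgroup H := fun k =>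
      if k % 2 = 0 then agemo H p (a - k / 2) else L.map (powMonoidHom (p ^ (a - 1 - k / 2)))
    refine not_isEssential_of_chain_dvd hS F H (2 * a) W ?_ ?_ ?_ ?_ hH
    · simp [W, hbot]
    · simp [W, layer_zero]
    · intro α k _ x hx
      simp only [W] at hx ⊢
      split_ifs at hx ⊢
      · exact hinv α _ x hx
      · obtain ⟨w, hw, rfl⟩ := hx
        exact ⟨α w, hLinv α w hw, by simp [map_pow]⟩
    · intro k hk
      set f : H →* H := powMonoidHom (p ^ (a - 1 - k / 2)) with hf
      have hlo : agemo H p (a - k / 2) = (agemo H p 1).map f := by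
        rw [hf, map_layer]; congr 1; omega
      have hhi : agemo H p (a - (k / 2 + 1)) = (⊤ : Subgroup H).map f := by
        rw [hf, ← MonoidHom.range_eq_map, agemo, show a - (k / 2 + 1) = a - 1 - k / 2 by omega]
      rcases Nat.mod_two_eq_zero_or_one k with h2 | h2
      · have h21 : (k + 1) % 2 = 1 := by omega
        have hdiv : (k + 1) / 2 = k / 2 := by omega
        simp only [W, h2, h21, hdiv, if_true, one_ne_zero, if_false, hlo]
        exact ⟨Subgroup.map_mono hL, (relIndex_map_dvd f hL).trans hr⟩
      · have h21 : (k + 1) % 2 = 0 := by omega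
        have hdiv : (k + 1) / 2 = k / 2 + 1 := by omega
        simp only [W, h2, h21, hdiv, if_true, one_ne_zero, if_false, hhi]
        exact ⟨Subgroup.map_mono le_top,
          (relIndex_map_dvd f le_top).trans ((Subgroup.relIndex_top_right L).symm ▸ hi)⟩
  have h1 : (agemo H p 1).index = p ^ 2 := by
    obtain ⟨k, hk, hke⟩ := (Nat.dvd_prime_pow hp).1 hle1
    rcases Nat.lt_or_ge k 2 with h | h
    · refine absurd ?_ (hcrit ⊤ le_top (fun _ x _ => Subgroup.mem_top _) (by simp))
      rw [Subgroup.relIndex_top_right, hke]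
      exact (pow_dvd_pow p (by omega : k ≤ 1)).trans (pow_one p).dvd
    · rw [hke, le_antisymm hk h]
  have ha : 1 ≤ a := by
    by_contra h
    have h0 : a = 0 := by omega
    rw [h0, layer_zero] at hbot
    have hb : agemo H p 1 = ⊤ := eq_top_iff.2 (le_of_eq_of_le hbot bot_le)
    rw [hb, Subgroup.index_top] at h1
    exact (one_lt_pow₀ hp.one_lt two_ne_zero).ne h1
  have hker : (powMonoidHom (p ^ (a - 1)) : H →* H).ker = agemo H p 1 ∧
      Nat.card (agemo H p (a - 1)) = p ^ 2 := by
    set f : H →* H := powMonoidHom (p ^ (a - 1)) with hf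
    have hle : agemo H p 1 ≤ f.ker := by
      intro w hw
      have h := Subgroup.mem_map_of_mem f hw
      rw [hf, map_layer, show 1 + (a - 1) = a by omega, hbot, Subgroup.mem_bot] at h
      exact h
    have hidx : f.ker.index = Nat.card (agemo H p (a - 1)) := Subgroup.index_ker f
    have hmul := Subgroup.relIndex_mul_index hle
    rw [h1] at hmul
    obtain ⟨k, hk, hke⟩ := (Nat.dvd_prime_pow hp).1 (Dvd.intro_left _ hmul)
    rcases Nat.lt_or_ge k 2 with h | h
    · rcases k with - | k
      · exfalso
        rw [pow_zero, hidx, Subgroup.card_eq_one] at hke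
        exact Nat.find_min hex (show a - 1 < a by omega) hke
      · obtain rfl : k = 0 := by omega
        rw [zero_add, pow_one] at hke
        refine absurd ?_ (hcrit f.ker hle (fun α x hx => ?_) hke.dvd)
        · rw [hke, pow_two] at hmul
          rw [Nat.eq_of_mul_eq_mul_right hp.pos hmul]
        · rw [MonoidHom.mem_ker] at hx ⊢
          rw [hf, powMonoidHom_apply] at hx ⊢
          rw [← map_pow, hx, map_one]
    · rw [le_antisymm hk h] at hke
      refine ⟨le_antisymm (Subgroup.relIndex_eq_one.1 ?_) hle, hidx ▸ hke⟩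
      rw [hke] at hmul
      exact Nat.eq_of_mul_eq_mul_right (pow_pos hp.pos 2) (hmul.trans (one_mul _).symm)
  have hkeri : ∀ i < a, (powMonoidHom (p ^ i) : H →* H).ker ≤ agemo H p 1 := by
    intro i hi w hw
    rw [← hker.1, MonoidHom.mem_ker, powMonoidHom_apply, show a - 1 = i + (a - 1 - i) by omega, pow_add,
      pow_mul, show w ^ p ^ i = 1 from hw, one_pow]
  have hcard : Nat.card H = p ^ (2 * a) := card_layer hbot h1 hkeri
  rcases eq_or_ne a 1 with h | h
  · left
    rw [h] at hbot hcard
    refine ⟨⟨hab, fun w hw => ?_⟩, hcard⟩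
    have hmem : (⟨w, hw⟩ : H) ^ p ^ 1 ∈ agemo H p 1 := ⟨_, rfl⟩
    rw [hbot, Subgroup.mem_bot, pow_one] at hmem
    simpa using congrArg Subtype.val hmem
  · right
    refine ⟨?_, a, exists_equiv_homocyclic ha hbot hcard hker.2⟩
    by_contra hp3
    obtain ⟨-, hn, hnor, E, hE⟩ := id hH
    have : Finite (MulAut H) := Agent.H93.finite_mulAut hHS
    have hdvd : p ∣ Nat.card ↥(F.autGroup H) := hE.1.trans (Subgroup.card_quotient_dvd_card _)
    obtain ⟨⟨α, hαA⟩, hα⟩ := exists_prime_orderOf_dvd_card' p hdvd
    rw [Subgroup.orderOf_mk] at hα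
    have hαp : α ^ p = 1 := by rw [← hα]; exact pow_orderOf_eq_one α
    have hmove := move_mem_layer_one (by omega) h1 (hkeri 1 (by omega)) α hαp
    have hone : α = 1 := by
      refine not_mem_chainStab_of_essential hS hH hab a (fun i => agemo H p (a - i)) (by simpa using hbot)
        (by simp [layer_zero]) (fun β i _ x hx => hinv β _ x hx) hαA ?_
      intro i hi x hx
      refine ⟨?_, hinv α _ x hx⟩
      obtain ⟨y, rfl⟩ := hx
      rw [powMonoidHom_apply, map_pow, ← inv_pow, ← mul_pow]
      have h2 := Subgroup.mem_map_of_mem (powMonoidHom (p ^ (a - (i + 1))) : H →* H) (hmove y)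
      rw [map_layer, show 1 + (a - (i + 1)) = a - i by omega] at h2
      exact h2
    rw [hone, orderOf_one] at hα
    exact hp.ne_one hα.symm

end Cfsg.Agent.S5187
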