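import Cfsg.Statements.S5188
import Cfsg.Agent.S5187
import Cfsg.Agent.H29.OrderPFour

set_option autoImplicit false
universe u
open Cfsg

namespace Cfsg.Agent.S5188

/-- An abelian group of order `p⁴` whose `p`-th powers form a group of order `p`. -/
theorem iso_one_big {V : Type*} [CommGroup V] [Finite V] {p : ℕ} [Fact p.Prime] (hV : Nat.card V = p ^ 4)
    (hR : Nat.card (powMonoidHom p : V →* V).range = p) :
    Nonempty (V ≃* Multiplicative (ZMod (p ^ 2) × ZMod p × ZMod p)) := by
  have hp : p.Prime := Fact.out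
  have hP : IsPGroup p V := IsPGroup.of_card hV
  set φ : V →* V := powMonoidHom p with hφ
  have hkidx : φ.ker.index = p := by rw [Subgroup.index_ker, hR]
  have hkc : Nat.card φ.ker = p ^ 3 := by
    have h := φ.ker.card_mul_index
    rw [hkidx, hV, pow_succ p 3] at h
    exact Nat.eq_of_mul_eq_mul_right hp.pos h
  obtain ⟨x, hx⟩ : ∃ x, φ x ≠ 1 := by
    by_contra h
    push Not at h
    have : φ.range = ⊥ := eq_bot_iff.2 (by rintro _ ⟨x, rfl⟩; exact Subgroup.mem_bot.2 (h x))
    rw [this, Subgroup.card_bot] at hR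
    exact hp.ne_one hR.symm
  have hTR : Subgroup.zpowers (φ x) = φ.range := by
    refine Subgroup.eq_of_le_of_card_ge (Subgroup.zpowers_le.2 ⟨x, rfl⟩) ?_
    rw [hR, Nat.card_zpowers]
    rcases (Nat.dvd_prime hp).1 (hR ▸ Subgroup.orderOf_dvd_natCard φ.range ⟨x, rfl⟩) with h | h
    · exact absurd (orderOf_eq_one_iff.1 h) hx
    · exact h.ge
  have hxp : (φ x) ^ p = 1 := by
    have := congrArg Subtype.val (pow_card_eq_one' (x := (⟨φ x, ⟨x, rfl⟩⟩ : φ.range)))
    rw [hR] at this
    exact this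
  set T := Subgroup.zpowers (φ x)
  have hTK : T ≤ φ.ker := Subgroup.zpowers_le.2 hxp
  have hTc : Nat.card T = p := by rw [hTR, hR]
  have hpick : ∀ M : Subgroup V, M ≤ φ.ker → Nat.card M < p ^ 3 → ∃ y ∈ φ.ker, y ∉ M := fun M hM hlt =>
    SetLike.exists_of_lt (lt_of_le_of_ne hM fun h => by rw [h, hkc] at hlt; exact lt_irrefl _ hlt)
  have hgrow : ∀ (M : Subgroup V) (y : V), y ^ p = 1 → y ∉ M → Nat.card (M ⊔ Subgroup.zpowers y : Subgroup V) = Nat.card M * p := by
    intro M y hy hyM
    have h1 := Agent.H24.le_relIndex_of_lt hP (H := M) (K := M ⊔ Subgroup.zpowers y)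
      fun h => hyM (h (Subgroup.mem_sup_right (Subgroup.mem_zpowers y)))
    have h2 : M.relIndex (M ⊔ Subgroup.zpowers y) ≤ p := by
      rw [Subgroup.relIndex_sup_left]
      exact Agent.H24.relIndex_zpowers_le (p := p) (B := M) (y := y) (by rw [hy]; exact one_mem _)
    have h3 := Subgroup.relIndex_mul_relIndex ⊥ M (M ⊔ Subgroup.zpowers y) bot_le le_sup_left
    rw [Subgroup.relIndex_bot_left, Subgroup.relIndex_bot_left, le_antisymm h2 h1] at h3
    exact h3.symm
  obtain ⟨y, hy, hyT⟩ := hpick T hTK (by rw [hTc]; exact (pow_one p).symm.trans_lt (Nat.pow_lt_pow_right hp.one_lt (by omega)))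
  have hy' : y ^ p = 1 := hy
  have hTy : Nat.card (T ⊔ Subgroup.zpowers y : Subgroup V) = p ^ 2 := by rw [hgrow T y hy' hyT, hTc, sq]
  obtain ⟨z, hz, hzT⟩ := hpick (T ⊔ Subgroup.zpowers y) (sup_le hTK (Subgroup.zpowers_le.2 hy))
    (by rw [hTy]; exact Nat.pow_lt_pow_right hp.one_lt (by omega))
  have hz' : z ^ p = 1 := hz
  have hK : T ⊔ Subgroup.zpowers y ⊔ Subgroup.zpowers z = φ.ker := by
    refine Subgroup.eq_of_le_of_card_ge
      (sup_le (sup_le hTK (Subgroup.zpowers_le.2 hy)) (Subgroup.zpowers_le.2 hz)) ?_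
    rw [hgrow _ z hz' hzT, hTy, hkc, ← pow_succ]
  have hx2 : x ^ p ^ 2 = 1 := by
    rw [sq, pow_mul]
    exact hxp
  have : NeZero p := ⟨hp.ne_zero⟩
  have : NeZero (p ^ 2) := ⟨pow_ne_zero _ hp.ne_zero⟩
  have hval : ∀ (n : ℕ) [NeZero n] (w : V), w ^ n = 1 → ∀ i j : ZMod n, w ^ (i + j).val = w ^ i.val * w ^ j.val :=
    fun n _ w hw i j => by
      rw [ZMod.val_add, ← pow_add]
      exact (pow_eq_pow_mod _ hw).symm
  let f : Multiplicative (ZMod (p ^ 2) × ZMod p × ZMod p) →* V :=
    MonoidHom.mk' (fun q => x ^ q.toAdd.1.val * y ^ q.toAdd.2.1.val * z ^ q.toAdd.2.2.val) fun q r => by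
      simp only [toAdd_mul, Prod.fst_add, Prod.snd_add, hval _ x hx2, hval _ y hy', hval _ z hz']
      rw [mul_mul_mul_comm (x ^ _) (x ^ _) (y ^ _) (y ^ _), mul_mul_mul_comm]
  have hxm : x ∈ f.range := ⟨Multiplicative.ofAdd (1, 0, 0), by
    have : Fact (1 < p ^ 2) := ⟨Nat.one_lt_pow two_ne_zero hp.one_lt⟩
    show x ^ (1 : ZMod (p ^ 2)).val * y ^ (0 : ZMod p).val * z ^ (0 : ZMod p).val = x
    rw [ZMod.val_one, ZMod.val_zero, pow_one, pow_zero, pow_zero, mul_one, mul_one]⟩
  have hym : y ∈ f.range := ⟨Multiplicative.ofAdd (0, 1, 0), by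
    have : Fact (1 < p) := ⟨hp.one_lt⟩
    show x ^ (0 : ZMod (p ^ 2)).val * y ^ (1 : ZMod p).val * z ^ (0 : ZMod p).val = y
    rw [ZMod.val_one, ZMod.val_zero, ZMod.val_zero, pow_one, pow_zero, pow_zero, one_mul, mul_one]⟩
  have hzm : z ∈ f.range := ⟨Multiplicative.ofAdd (0, 0, 1), by
    have : Fact (1 < p) := ⟨hp.one_lt⟩
    show x ^ (0 : ZMod (p ^ 2)).val * y ^ (0 : ZMod p).val * z ^ (1 : ZMod p).val = z
    rw [ZMod.val_one, ZMod.val_zero, ZMod.val_zero, pow_one, pow_zero, pow_zero, one_mul, one_mul]⟩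
  have hle : φ.ker ≤ f.range := hK ▸ sup_le (sup_le
    (Subgroup.zpowers_le.2 (pow_mem hxm p)) (Subgroup.zpowers_le.2 hym)) (Subgroup.zpowers_le.2 hzm)
  have hsurj : f.range = ⊤ := by
    have hd := Subgroup.index_dvd_of_le hle
    rw [hkidx] at hd
    rcases (Nat.dvd_prime hp).1 hd with h | h
    · exact Subgroup.index_eq_one.1 h
    · exfalso
      have heq : φ.ker = f.range := Subgroup.eq_of_le_of_card_ge hle (by
        have h1 := f.range.card_mul_index
        have h2 := φ.ker.card_mul_index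
        rw [h, ← h2, hkidx] at h1
        exact (Nat.eq_of_mul_eq_mul_right hp.pos h1).le)
      exact hx (heq.symm ▸ hxm : x ∈ φ.ker)
  have hbij : Function.Bijective f := (Nat.bijective_iff_surjective_and_card f).2
    ⟨MonoidHom.range_eq_top.1 hsurj, by
      rw [hV, Nat.card_congr Multiplicative.toAdd, Nat.card_prod, Nat.card_prod, Nat.card_zmod, Nat.card_zmod]
      ring⟩
  exact ⟨(MulEquiv.ofBijective f hbij).symm⟩

/-- Let F be a saturated fusion system over a finite p-group S and H an essential subgroup of order p⁴. Then H is isomorphic to one of: C_p⁴ or C_{p²} × C_p × C_p (any p); C_{p²} × C_{p²} with p ∈ {2, 3}; p^{1+2}_+ × C_p with p odd (the direct product of an extraspecial group of order p³ and exponent p with a group of order p); Q₈ × C₂ (p = 2); or the non-abelian group of order p⁴ of exponent p² whose centre is cyclic of order p² (the central product of an extraspecial group of order p³ with a cyclic group of order p²; for p = 2 this is D₈ ∘ C₄). -/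
theorem result {Ω : Type u} [Group Ω] {S : Subgroup Ω} [Finite S] (p : ℕ) [Fact p.Prime] (hS : IsPGroup p S)
    (F : Cfsg.FusionSystem S) (hF : F.IsSaturated p) (H : Subgroup Ω) (hH : F.IsEssential p H) (hcard : Nat.card H = p ^ 4) :
    Cfsg.IsElementaryAbelian p H ∨
      Nonempty (↥H ≃* Multiplicative (ZMod (p ^ 2) × ZMod p × ZMod p)) ∨
      ((p = 2 ∨ p = 3) ∧ Nonempty (↥H ≃* Multiplicative (ZMod (p ^ 2) × ZMod (p ^ 2)))) ∨
      (Odd p ∧ ∃ (E : Type) (_ : Group E) (_ : Finite E), Cfsg.IsExtraspecial p E ∧ Nat.card E = p ^ 3 ∧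
        (∀ x : E, x ^ p = 1) ∧ Nonempty (↥H ≃* E × Multiplicative (ZMod p))) ∨
      (p = 2 ∧ Nonempty (↥H ≃* QuaternionGroup 2 × Multiplicative (ZMod 2))) ∨
      (¬ IsMulCommutative ↥H ∧ (∀ x ∈ H, x ^ (p ^ 2) = 1) ∧ IsCyclic ↥(Subgroup.center ↥H) ∧
        Nat.card (Subgroup.center ↥H) = p ^ 2) := by
  have hp : p.Prime := Fact.out
  have hHS : H ≤ S := hH.1.1
  have : Finite H := Finite.of_injective _ (Subgroup.inclusion_injective hHS)
  by_cases hab : IsMulCommutative H
  · let : CommGroup H := { (inferInstance : Group H) with mul_comm := hab.is_comm.comm }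
    set φ : H →* H := powMonoidHom p with hφ
    obtain ⟨r, hr, hr'⟩ := (Nat.dvd_prime_pow hp).1 (hcard ▸ Subgroup.card_subgroup_dvd_card φ.range)
    rcases (show r = 0 ∨ r = 1 ∨ 2 ≤ r by omega) with rfl | rfl | h2
    · left
      refine ⟨hab, fun w hw => ?_⟩
      rw [pow_zero, Subgroup.card_eq_one] at hr'
      have hm : φ ⟨w, hw⟩ ∈ φ.range := ⟨⟨w, hw⟩, rfl⟩
      rw [hr'] at hm
      have h := Subgroup.mem_bot.1 hm
      simpa [hφ] using congrArg Subtype.val h
    · right; left
      exact iso_one_big hcard (hr'.trans (pow_one p))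
    · have hle : φ.range ≤ frattini H := by
        rintro _ ⟨w, rfl⟩
        exact Agent.H24.pow_mem_frattini (hS.to_le hHS) w
      have hidx : (frattini H).index ≤ p ^ 2 := by
        refine (Nat.le_of_dvd (Nat.pos_of_ne_zero Subgroup.index_ne_zero_of_finite)
          (Subgroup.index_dvd_of_le hle)).trans ?_
        have h := φ.range.card_mul_index
        rw [hr', hcard] at h
        refine Nat.le_of_mul_le_mul_left ?_ (pow_pos hp.pos r)
        rw [h, ← pow_add]
        exact Nat.pow_le_pow_right hp.pos (by omega)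
      rcases Agent.S5187.result p hS F hF H hH hab hidx with ⟨-, h⟩ | ⟨hp3, k, ⟨e⟩⟩
      · rw [hcard] at h
        exact absurd (Nat.pow_right_injective hp.two_le h) (by norm_num)
      · right; right; left
        have h := (Nat.card_congr e.toEquiv).symm.trans rfl
        rw [hcard, Nat.card_congr Multiplicative.toAdd, Nat.card_prod, Nat.card_zmod, ← pow_add] at h
        have := Nat.pow_right_injective hp.two_le h
        obtain rfl : k = 2 := by omega
        refine ⟨?_, ⟨e⟩⟩
        have := hp.two_le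
        omega
  · have hno : Agent.H29.OrderPFour.NoChain H p := by
      intro A B C hA hB hC hAB hBC hinv
      let W : ℕ → Subgroup H := fun i =>
        if i = 0 then ⊥ else if i = 1 then A else if i = 2 then B else if i = 3 then C else ⊤
      refine Agent.H29.not_isEssential_of_chain hS F H 4 W (by simp [W]) (by simp [W]) ?_ ?_ hH
      · intro α i hi x hx
        rcases (show i = 0 ∨ i = 1 ∨ i = 2 ∨ i = 3 ∨ i = 4 by omega) with rfl | rfl | rfl | rfl | rfl <;>
          simp [W] at hx ⊢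
        · exact hx
        · exact (hinv α).1 x hx
        · exact (hinv α).2.1 x hx
        · exact (hinv α).2.2 x hx
      · intro i hi
        rcases (show i = 0 ∨ i = 1 ∨ i = 2 ∨ i = 3 by omega) with rfl | rfl | rfl | rfl <;> simp [W]
        · exact hA
        · refine ⟨hAB, ?_⟩
          have h := (A.subgroupOf B).card_mul_index
          rw [Nat.card_congr (Subgroup.subgroupOfEquivOfLe hAB).toEquiv, hA, hB, sq] at h
          exact Nat.eq_of_mul_eq_mul_left hp.pos h
        · refine ⟨hBC, ?_⟩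
          have h := (B.subgroupOf C).card_mul_index
          rw [Nat.card_congr (Subgroup.subgroupOfEquivOfLe hBC).toEquiv, hB, hC, pow_succ p 2] at h
          exact Nat.eq_of_mul_eq_mul_left (pow_pos hp.pos 2) h
        · have h := C.card_mul_index
          rw [hC, hcard, pow_succ p 3] at h
          exact Nat.eq_of_mul_eq_mul_left (pow_pos hp.pos 3) h
    rcases Agent.H29.OrderPFour.cases hcard hab hno with h | h | ⟨h1, h2, h3⟩
    · exact Or.inr (Or.inr (Or.inr (Or.inl h)))
    · exact Or.inr (Or.inr (Or.inr (Or.inr (Or.inl h))))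
    · exact Or.inr (Or.inr (Or.inr (Or.inr (Or.inr ⟨hab,
        fun x hx => by simpa using congrArg Subtype.val (h1 ⟨x, hx⟩), h2, h3⟩))))

end Cfsg.Agent.S5188
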