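import Cfsg.Statements.S5191
-- import your own Cfsg.Agent.* helpers here

set_option autoImplicit false
open Cfsg

namespace Cfsg.Agent.S5191

/-- Fusion in a finite group G and in its quotient by O_{p'}(G) agree. Let S be a Sylow p-subgroup of G, N = O_{p'}(G) and P ≤ S. If an element of G/N conjugates the image of P into the image of S, then some element g of G conjugates P into S and induces the same map on P modulo N. (Together with the injectivity of S → G/N this says that g ↦ gN induces an isomorphism of the fusion system of G on S with that of G/N on SN/N.) -/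
theorem result {G : Type*} [Group G] [Finite G] {p : ℕ} [Fact p.Prime]
    [hN : (Cfsg.pPrimeCore p G).Normal] (S : Sylow p G) (P : Subgroup G) (hP : P ≤ (S : Subgroup G))
    (γ : G ⧸ Cfsg.pPrimeCore p G)
    (hγ : ∀ x ∈ P, γ * QuotientGroup.mk x * γ⁻¹ ∈ ((S : Subgroup G).map (QuotientGroup.mk' (Cfsg.pPrimeCore p G)))) :
    ∃ g : G, ∀ x ∈ P, g * x * g⁻¹ ∈ S ∧
      (QuotientGroup.mk (g * x * g⁻¹) : G ⧸ Cfsg.pPrimeCore p G) = γ * QuotientGroup.mk x * γ⁻¹ := by
  obtain ⟨g, rfl⟩ := QuotientGroup.mk_surjective γ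
  set N := Cfsg.pPrimeCore p G with hNdef
  set M : Subgroup G := (S : Subgroup G) ⊔ N with hM
  have hSM : (S : Subgroup G) ≤ M := le_sup_left
  set Q : Subgroup G := P.map (MulAut.conj g).toMonoidHom with hQ
  have hQM : Q ≤ M := by
    rintro y ⟨x, hx, rfl⟩
    have h : QuotientGroup.mk (g * x * g⁻¹) ∈ (S : Subgroup G).map (QuotientGroup.mk' N) := by
      simpa using hγ x hx
    have h' : g * x * g⁻¹ ∈ ((S : Subgroup G).map (QuotientGroup.mk' N)).comap (QuotientGroup.mk' N) := h
    rw [Subgroup.comap_map_eq, QuotientGroup.ker_mk'] at h'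
    exact h'
  have hQp : IsPGroup p Q := (S.isPGroup'.to_le hP).map _
  obtain ⟨R, hR⟩ := (hQp.comap_subtype (H := Q) (K := M)).exists_le_sylow
  let S' : Sylow p M := S.subtype hSM
  obtain ⟨m, hm⟩ := MulAction.exists_smul_eq M R S'
  obtain ⟨s, hs, n, hn, hsn⟩ := Subgroup.mem_sup_of_normal_right.1 m.2
  refine ⟨n * g, fun x hx => ⟨?_, ?_⟩⟩
  · have hmem : g * x * g⁻¹ ∈ Q := ⟨x, hx, rfl⟩
    have hr : (⟨g * x * g⁻¹, hQM hmem⟩ : M) ∈ R := hR hmem
    have : m * ⟨g * x * g⁻¹, hQM hmem⟩ * m⁻¹ ∈ (S' : Subgroup M) := by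
      rw [← hm, Sylow.coe_subgroup_smul]
      exact Subgroup.smul_mem_pointwise_smul _ _ _ hr
    have h2 : (m : G) * (g * x * g⁻¹) * (m : G)⁻¹ ∈ (S : Subgroup G) := this
    rw [← hsn] at h2
    have h3 := mul_mem (mul_mem (inv_mem hs) h2) hs
    show n * g * x * (n * g)⁻¹ ∈ (S : Subgroup G)
    convert h3 using 1
    group
  · have h1 : (QuotientGroup.mk n : G ⧸ Cfsg.pPrimeCore p G) = 1 := (QuotientGroup.eq_one_iff n).2 hn
    simp only [QuotientGroup.mk_mul, QuotientGroup.mk_inv, h1]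
    group

end Cfsg.Agent.S5191
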