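import Cfsg.Statements.S5201
import Cfsg.Agent.H96.Reduction
import Cfsg.Agent.H96.ModTrivialTop
-- import your own Cfsg.Agent.* helpers here

set_option autoImplicit false
open Cfsg

namespace Cfsg.Agent.S5201

/-- A reduction to normal subsystems. Let F be a saturated fusion system over a finite p-group S and E a normal subsystem of F over T whose centralizer in S lies in T (every subgroup Y of C_S(T) with E contained in the centralizer fusion system of Y in F satisfies Y ≤ T), and suppose Aut_F(T)/Aut_E(T) is p-solvable. Then F and E have the same residual limit: if F∞ is the residual limit of F (reached by alternately passing to the p-residual and the p'-residual subsystem until nothing changes) and E∞ that of E, then F∞ and E∞ have the same maps. -/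
theorem result {Ω : Type*} [Group Ω] {S : Subgroup Ω} [Finite S] (p : ℕ) [Fact p.Prime] (hS : IsPGroup p S) (F : Cfsg.FusionSystem S) (hF : F.IsSaturated p) {T : Subgroup Ω} (E : Cfsg.FusionSystem T) (hE : E.IsNormalIn F p) (hCE : ∀ Y : Subgroup Ω, Y ≤ Cfsg.FusionSystem.centralizerIn S T → (∀ C : Cfsg.FusionSystem (Cfsg.FusionSystem.centralizerIn S Y), F.IsCentralizerSystem Y C → E.IsSubsystemOf C) → Y ≤ T) [hn : ((E.autGroup T).subgroupOf (F.autGroup T)).Normal] (hsolv : Cfsg.IsPSolvable p (↥(F.autGroup T) ⧸ (E.autGroup T).subgroupOf (F.autGroup T))) {U V : Subgroup Ω} (Finf : Cfsg.FusionSystem U) (hFinf : Finf.IsResidualLimitOf F p) (Einf : Cfsg.FusionSystem V) (hEinf : Einf.IsResidualLimitOf E p) : ∀ P : Subgroup Ω, Finf.Hom P = Einf.Hom P := by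
  intro P
  obtain ⟨W, F₀, hW, hw, hn₀, haut, hlim⟩ := Cfsg.Agent.H96.exists_reduction hS hF hE hsolv
  generalize hC : FusionSystem.centralizerIn S T = C at hW
  subst hW
  have hgood : ∀ y, Cfsg.Agent.S5127.Good F E (Subgroup.zpowers y) → y ∈ T := fun y hy =>
    hCE _ hy.1 (fun D hD Q φ hφ => (hD Q).symm ▸ hy.2 Q hφ) (Subgroup.mem_zpowers y)
  obtain ⟨hab, htop⟩ := Cfsg.Agent.H96.modTrivial_top hS hF hE hgood hC.symm hw.1 hw.2.2.1 hn₀ haut
  have hTS : T ≤ S := hE.1.2.2.2.1.1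
  have hWS : T ⊔ C ≤ S := hw.2.2.2.1.1
  have hTc : F₀.StronglyClosed T := hn₀.1.2.2.2.1
  have := Cfsg.Agent.H96.finite_of_le hWS
  have := Cfsg.Agent.H96.finite_of_le hTS
  have hTp : IsPGroup p T := hS.to_le hTS
  have hWp : IsPGroup p ↥(T ⊔ C) := hS.to_le hWS
  have hhyp := Cfsg.Agent.H96.hyperfocal_le_of_top hWp hw.1 hTc hab htop
  obtain ⟨D, hDs, hDi⟩ := Cfsg.Agent.H94.exists_pPowerIndex hWp hw.1 le_sup_left hhyp
  obtain rfl : E = D := by
    refine Cfsg.Agent.H93.fs_antisymm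
      (Cfsg.Agent.H94.le_of_pPowerIndex hTp le_sup_left hE.1.1 hn₀.1.2.2.1 hDi) ?_
    refine Cfsg.Agent.H94.le_of_autGroup_top_le hTp hDs (fun Q hQ a ha k hk =>
      Cfsg.Agent.H94.autGroup_conj_mem (Cfsg.Agent.H94.stronglyInvariant_of_invariant hE.1.2.2) hTS hQ
        ((Cfsg.Agent.H96.mem_autGroup F (hQ.trans hTS)).2
          (hw.2.2.1 Q (hDi.1 Q ((Cfsg.Agent.H96.mem_autGroup D hQ).1 ha)))) hk) fun a ha => ?_
    exact haut.le ((Cfsg.Agent.H96.mem_autGroup F₀ le_sup_left).2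
      (hDi.1 T ((Cfsg.Agent.H96.mem_autGroup D le_rfl).1 ha)))
  obtain ⟨L, Linf, hLinf⟩ := Cfsg.Agent.H96.exists_limit hWp hw.1
  rw [hlim _ _ Finf Linf hFinf hLinf P]
  exact Cfsg.Agent.H94.limit_eq_of_pPowerIndex hWp hw.1 hTc hE.1.1 hDi hLinf hEinf P

end Cfsg.Agent.S5201
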