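import Cfsg.Statements.S5202
import Cfsg.Agent.H96.Reduction
-- import your own Cfsg.Agent.* helpers here

set_option autoImplicit false
open Cfsg

namespace Cfsg.Agent.S5202

/-- Let F be a saturated fusion system over a finite p-group S and E a normal subsystem of F over T such that Aut_F(T)/Aut_E(T) is p-solvable. Then there is a normal subsystem F₀ of F over T·C_S(T) containing E, with Aut_{F₀}(T) = Aut_E(T), containing every residual limit of F, and whose residual limits have the same maps as those of F. -/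
theorem result {Ω : Type*} [Group Ω] {S : Subgroup Ω} [Finite S] (p : ℕ) [Fact p.Prime] (hS : IsPGroup p S) (F : Cfsg.FusionSystem S) (hF : F.IsSaturated p) {T : Subgroup Ω} (E : Cfsg.FusionSystem T) (hE : E.IsNormalIn F p) [hn : ((E.autGroup T).subgroupOf (F.autGroup T)).Normal] (hsolv : Cfsg.IsPSolvable p (↥(F.autGroup T) ⧸ (E.autGroup T).subgroupOf (F.autGroup T))) : ∃ F₀ : Cfsg.FusionSystem (T ⊔ Cfsg.FusionSystem.centralizerIn S T), F₀.IsNormalIn F p ∧ E.IsSubsystemOf F₀ ∧ F₀.autGroup T = E.autGroup T ∧ ∀ {U : Subgroup Ω} (Finf : Cfsg.FusionSystem U), Finf.IsResidualLimitOf F p → Finf.IsSubsystemOf F₀ ∧ ∀ {V : Subgroup Ω} (L : Cfsg.FusionSystem V), L.IsResidualLimitOf F₀ p → ∀ P : Subgroup Ω, L.Hom P = Finf.Hom P := by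
  obtain ⟨U, F₀, hUeq, hw, hn₀, haut, hlim⟩ := Cfsg.Agent.H96.exists_reduction hS hF hE hsolv
  subst hUeq
  refine ⟨F₀, Cfsg.Agent.H96.isNormalIn_of_centralizer_le hw ?_, hn₀.1.2.2.1, haut,
    fun {U} Finf hFinf => ?_⟩
  · exact fun x hx => Subgroup.mem_sup_right
      ⟨hx.1, Subgroup.centralizer_le (SetLike.coe_subset_coe.2 le_sup_left) hx.2⟩
  · have := Cfsg.Agent.H96.finite_of_le hw.2.2.2.1.1
    obtain ⟨L, Linf, hLinf⟩ := Cfsg.Agent.H96.exists_limit (hS.to_le hw.2.2.2.1.1) hw.1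
    refine ⟨fun P φ hφ => Cfsg.Agent.H96.limit_le hLinf P ?_, fun {V} L' hL' P =>
      (hlim _ _ Finf L' hFinf hL' P).symm⟩
    rwa [← hlim _ _ Finf Linf hFinf hLinf P]

end Cfsg.Agent.S5202
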