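import Cfsg.Statements.S5212
import Cfsg.Agent.H24.StronglyClosedMetacyclic
import Cfsg.Agent.S1896

set_option autoImplicit false
open Cfsg

namespace Cfsg.Agent.S5212

/-- Let S be a finite metacyclic 2-group that is not homocyclic abelian (a direct product of cyclic groups of one common order), not dihedral, not semidihedral and not generalized quaternion. Then every saturated fusion system over S is the inner fusion system of S. -/
theorem result {Ω : Type*} [Group Ω] {S : Subgroup Ω} [Finite S] (hS : IsPGroup 2 S) (F : Cfsg.FusionSystem S) (hF : F.IsSaturated 2) (hm : Cfsg.IsMetacyclic ↥S) (hh : ¬ ∃ n k : ℕ, Nonempty (↥S ≃* Multiplicative (Fin k → ZMod (2 ^ n)))) (hd : ¬ ∃ m : ℕ, Nonempty (↥S ≃* DihedralGroup m)) (hq : ¬ ∃ m : ℕ, Nonempty (↥S ≃* QuaternionGroup m)) (hsd : ¬ Cfsg.IsQuasiDihedral ↥S) : ∀ P : Subgroup Ω, F.Hom P = (Cfsg.innerFusionSystem S).Hom P := by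
  haveI : Fact (Nat.Prime 2) := ⟨Nat.prime_two⟩
  have hsc : F.StronglyClosed S := ⟨le_rfl, fun R _ φ hφ x => Agent.H93.apply_mem hφ x⟩
  have hn : F.IsNormal S := Agent.H24.isNormal_of_metacyclic hS hF hsc hm hd hq hsd
  -- the automorphism group of `S` is a 2-group
  have hA : IsPGroup 2 (MulAut S) := by
    by_contra hA
    rcases Agent.S1896.result hS hm hA with he | ⟨n, ⟨e⟩⟩
    · exact hq ⟨2, he⟩
    · refine hh ⟨n, 2, ⟨e.trans
        { toFun := fun p => Multiplicative.ofAdd ![p.1.toAdd, p.2.toAdd]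
          invFun := fun f => (Multiplicative.ofAdd (f.toAdd 0), Multiplicative.ofAdd (f.toAdd 1))
          left_inv := fun p => rfl
          right_inv := fun f => Multiplicative.toAdd.injective (funext fun i => by fin_cases i <;> rfl)
          map_mul' := fun p q => Multiplicative.toAdd.injective
            (funext fun i => by fin_cases i <;> rfl) }⟩⟩
  -- so the automorphisms in the system are inner
  have hinn : ∀ α ∈ F.autGroup S, ∃ g ∈ S, ∀ x : S, ((α x : S) : Ω) = g * (x : Ω) * g⁻¹ := by
    intro α hα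
    obtain ⟨Q, hQc, ⟨hQS, R, hR⟩, -⟩ := hF S le_rfl
    haveI : Finite Q := Agent.H93.finite_of_le hQS
    obtain rfl : Q = S := Subgroup.eq_of_le_of_card_ge hQS (Agent.H93.isConj_card_eq hQc).le
    haveI : Finite (MulAut Q) :=
      Finite.of_injective (fun e : MulAut Q => (e : Q → Q)) DFunLike.coe_injective
    have hG : IsPGroup 2 (F.autGroup Q) := hA.to_subgroup _
    have htop : (R : Subgroup (F.autGroup Q)) = ⊤ := by
      refine (R.is_maximal' (Q := ⊤) ?_ le_top).symm
      intro x
      obtain ⟨k, hk⟩ := hG x.1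
      exact ⟨k, Subtype.ext hk⟩
    have hmem : (⟨α, hα⟩ : F.autGroup Q) ∈ (R : Subgroup (F.autGroup Q)) := by rw [htop]; exact Subgroup.mem_top _
    rw [hR, Subgroup.mem_subgroupOf, Agent.H93.mem_autInducedBy] at hmem
    exact hmem
  intro P
  refine Set.Subset.antisymm (fun φ hφ => ?_) fun φ ⟨hP, g, hg, hge⟩ => ?_
  · have hPS : P ≤ S := Agent.H93.le_of_hom hφ
    obtain ⟨ψ, hψ, hψe, hψS⟩ := hn.2 P φ hφ
    let φS : S →* Ω := ψ.comp (Subgroup.inclusion le_sup_right)
    have hφS : φS ∈ F.Hom S := Agent.H93.mem_of_restrict hψ le_sup_right (fun x => rfl)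
    have hval : ∀ x : S, φS x ∈ S := Agent.H93.apply_mem hφS
    have hinj : Function.Injective φS := F.injective_of_mem hφS
    let α : MulAut S := MulEquiv.ofBijective (φS.codRestrict S hval)
      (Finite.injective_iff_bijective.1 (fun x y e => hinj (congrArg Subtype.val e)))
    have hα : α ∈ F.autGroup S := Subgroup.subset_closure (by
      show S.subtype.comp α.toMonoidHom ∈ F.Hom S
      convert hφS using 1
      exact MonoidHom.ext fun x => rfl)
    obtain ⟨g, hg, hge⟩ := hinn α hα
    refine ⟨hPS, g, hg, fun x => ?_⟩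
    rw [← hψe x]
    exact hge ⟨x, hPS x.2⟩
  · have e : φ = conjHom P g := MonoidHom.ext hge
    rw [e]
    exact F.conj_mem hP hg

end Cfsg.Agent.S5212
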