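import Cfsg.Statements.S5214
import Cfsg.Agent.H24.StronglyClosedMetacyclic
import Cfsg.Agent.S1137
import Cfsg.Agent.S1138

set_option autoImplicit false
open Cfsg

namespace Cfsg.Agent.S5214

/-- Let S be a Suzuki 2-group (a finite nonabelian 2-group with more than one involution admitting a cyclic group of automorphisms permuting its involutions regularly). Then S is normal in every saturated fusion system over S (such a group is resistant). -/
theorem result {Ω : Type*} [Group Ω] {S : Subgroup Ω} [Finite S] (hS : IsPGroup 2 S) (F : Cfsg.FusionSystem S) (hF : F.IsSaturated 2) (hsz : Cfsg.IsSuzukiTwoGroup ↥S) : F.IsNormal S := by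
  haveI : Fact (Nat.Prime 2) := ⟨Nat.prime_two⟩
  obtain ⟨hinv, hexp⟩ := Agent.S1137.result hsz
  obtain ⟨-, hcomm, -, -⟩ := Agent.S1138.result hsz
  set Z : Subgroup Ω := (Subgroup.center ↥S).map S.subtype with hZ
  have hZmem : ∀ x : Ω, ∀ hx : x ∈ S, (x ∈ Z ↔ x * x = 1) := by
    intro x hx
    constructor
    · rintro ⟨y, hy, rfl⟩
      exact congrArg Subtype.val (hexp y hy)
    · intro h
      by_cases h1 : x = 1
      · rw [h1]; exact one_mem Z
      · exact ⟨⟨x, hx⟩, ((hinv ⟨x, hx⟩).1 ⟨fun e => h1 (congrArg Subtype.val e), Subtype.ext h⟩).1, rfl⟩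
  have hsc : F.StronglyClosed S := ⟨le_rfl, fun R _ φ hφ x => Agent.H93.apply_mem hφ x⟩
  refine (Agent.H93.isNormal_iff_le_centric_radical hS hF).2 ⟨hsc, fun E hc hr => ?_⟩
  by_contra hSE
  have hES : E < S := lt_of_le_not_ge hc.1 hSE
  haveI := Agent.H93.finite_of_le hc.1
  have hlt := Agent.H93.lt_normalizerIn hS hES
  apply not_le_of_gt hlt
  intro g hg
  have hZE : Z ≤ E := by
    rintro _ ⟨y, hy, rfl⟩
    refine hc.2 E (Agent.H93.isConj_refl F hc.1) (Agent.H93.mem_centralizerIn.2 ⟨y.2, fun x hx => ?_⟩)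
    have := congrArg Subtype.val (Subgroup.mem_center_iff.1 hy ⟨x, hc.1 hx⟩)
    show (y : Ω) * x * (y : Ω)⁻¹ = x
    rw [← show x * (y : Ω) = (y : Ω) * x from this, mul_inv_cancel_right]
  let A : ℕ → Subgroup Ω := fun i => if i = 0 then ⊥ else Z
  refine Agent.H24.mem_of_chain hS hc hr 1 A rfl (fun i hi => ?_) (fun i hi α hα x hx => ?_) hg
    (fun i hi x hxE hx => ?_) (fun x hx => ?_)
  · obtain rfl : i = 0 := by omega
    exact bot_le
  · rcases Nat.eq_zero_or_pos i with rfl | hi0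
    · have hx1 : x = 1 := Subtype.ext (Subgroup.mem_bot.1 hx)
      rw [hx1, map_one]
      exact one_mem (A 0)
    · have hi1 : i = 1 := by omega
      subst hi1
      show ((α x : E) : Ω) ∈ Z
      rw [hZmem _ (hc.1 (α x).2)]
      have h := (hZmem _ (hc.1 x.2)).1 hx
      rw [← Subgroup.coe_mul, ← map_mul, show x * x = 1 from Subtype.ext h, map_one]
      rfl
  · obtain rfl : i = 0 := by omega
    show g * x * g⁻¹ * x⁻¹ ∈ (⊥ : Subgroup Ω)
    obtain ⟨y, hy, rfl⟩ := (show x ∈ Z from hx)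
    have := congrArg Subtype.val (Subgroup.mem_center_iff.1 hy ⟨g, hg.1⟩)
    rw [Subgroup.mem_bot]
    show g * (y : Ω) * g⁻¹ * (y : Ω)⁻¹ = 1
    rw [show g * (y : Ω) = (y : Ω) * g from this, mul_inv_cancel_right, mul_inv_cancel]
  · show g * x * g⁻¹ * x⁻¹ ∈ Z
    refine ⟨_, hcomm ⟨g⁻¹, inv_mem hg.1⟩ ⟨x⁻¹, inv_mem (hc.1 hx)⟩, ?_⟩
    simp

end Cfsg.Agent.S5214
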