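import Cfsg.Statements.S5222
import Cfsg.Agent.H95.DerivedFrattini
import Cfsg.Agent.H93.LocalSaturated

set_option autoImplicit false
open Cfsg
open scoped commutatorElement

namespace Cfsg.Agent.S5222

/-- Let F be a saturated fusion system over a finite p-group S whose normalizer fusion system of S is the inner fusion system of S (Aut_F(S) is a p-group). Then for every subgroup Q of S with [S, S] ≤ Q ≤ Φ(S), the normalizer fusion system of Q in F is the inner fusion system of N_S(Q) = S. -/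
theorem result {Ω : Type*} [Group Ω] {S : Subgroup Ω} [Finite S] (p : ℕ) [Fact p.Prime] (hS : IsPGroup p S) (F : Cfsg.FusionSystem S) (hF : F.IsSaturated p) (hN : ∀ N : Cfsg.FusionSystem (Cfsg.FusionSystem.normalizerIn S S), F.IsNormalizerSystem S N → ∀ P : Subgroup Ω, N.Hom P = (Cfsg.innerFusionSystem (Cfsg.FusionSystem.normalizerIn S S)).Hom P) (Q : Subgroup Ω) (h1 : (commutator ↥S).map S.subtype ≤ Q) (h2 : Q ≤ (frattini ↥S).map S.subtype) : ∀ N : Cfsg.FusionSystem (Cfsg.FusionSystem.normalizerIn S Q), F.IsNormalizerSystem Q N → ∀ P : Subgroup Ω, N.Hom P = (Cfsg.innerFusionSystem (Cfsg.FusionSystem.normalizerIn S Q)).Hom P := by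
  intro N hNQ P
  have hQS : Q ≤ S := h2.trans (Subgroup.map_subtype_le _)
  have hcomm : ∀ a ∈ S, ∀ b ∈ S, ⁅a, b⁆ ∈ Q := fun a ha b hb => h1 ⟨⁅(⟨a, ha⟩ : S), ⟨b, hb⟩⁆,
    Subgroup.commutator_mem_commutator (Subgroup.mem_top _) (Subgroup.mem_top _),
    map_commutatorElement S.subtype _ _⟩
  have hn : S ≤ Subgroup.normalizer (Q : Set Ω) := by
    intro t ht
    have key : ∀ s ∈ S, ∀ r ∈ Q, s * r * s⁻¹ ∈ Q := by
      intro s hs r hr
      have := Q.mul_mem (hcomm s hs r (hQS hr)) hr
      simpa [commutatorElement_def, mul_assoc] using this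
    refine Subgroup.mem_normalizer_iff.2 fun r => ⟨key t ht r, fun h => ?_⟩
    simpa [mul_assoc] using key t⁻¹ (inv_mem ht) _ h
  have hM : FusionSystem.normalizerIn S Q = S := le_antisymm inf_le_left (le_inf le_rfl hn)
  have hSS : FusionSystem.normalizerIn S S = S := le_antisymm inf_le_left (le_inf le_rfl Subgroup.le_normalizer)
  have hfn : F.IsFullyNormalized Q := ⟨hQS, fun Q' _ => by
    rw [hM]
    exact Subgroup.card_le_of_le (K := S) inf_le_left⟩
  have hNsat := H93.IsNormalizerSystem.isSaturated hS hF hfn hNQ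
  have := H96.finite_of_le (S := S) (P := FusionSystem.normalizerIn S Q) inf_le_left
  refine Set.Subset.antisymm (H95.le_inner_of_derived_frattini (T := FusionSystem.normalizerIn S Q) (hS.to_le inf_le_left) hNsat
    (H94.isNormal_normalizerSystem hQS hNQ) (fun a ha b hb => hcomm a ha.1 b hb.1) ?_ ?_ P)
    (fun φ hφ => H96.mem_congr N (N.conj_mem hφ.1 hφ.2.choose_spec.1) fun x => hφ.2.choose_spec.2 x)
  · intro K hK hle
    rw [hM] at hK hle ⊢
    have hK0 : K.subgroupOf S = ⊤ := by
      refine frattini_nongenerating (eq_top_iff.2 fun x _ => ?_)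
      have hx : (x : Ω) ∈ ((K.subgroupOf S) ⊔ frattini S).map S.subtype := by
        rw [Subgroup.map_sup, Subgroup.map_subgroupOf_eq_of_le hK]
        exact (sup_le_sup_right h2 K : Q ⊔ K ≤ _).trans (sup_comm _ _).le (hle x.2)
      obtain ⟨y, hy, hye⟩ := hx
      rwa [show x = y from Subtype.ext hye.symm]
    exact fun x hx => (hK0.ge (Subgroup.mem_top (⟨x, hx⟩ : S)) : _)
  · intro φ hφ
    rw [hNQ _] at hφ
    have hφ' : φ.comp (Subgroup.inclusion (hSS.le.trans hM.ge)) ∈ F.Hom (FusionSystem.normalizerIn S S) :=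
      H96.res_mem F hφ.1 _
    set ψ := φ.comp (Subgroup.inclusion (hSS.le.trans hM.ge)) with hψ
    have hmem : ψ ∈ (H93.normalizerSystem F S le_rfl).Hom (FusionSystem.normalizerIn S S) := by
      have hle : FusionSystem.normalizerIn S S ⊔ S ≤ FusionSystem.normalizerIn S S := sup_le le_rfl hSS.ge
      refine ⟨hφ', le_rfl, fun x => ⟨(F.le_of_mem hφ').2 x, Subgroup.le_normalizer ((F.le_of_mem hφ').2 x)⟩,
        H96.res ψ hle, H96.res_mem F hφ' hle, fun x => rfl, ?_⟩
      rw [H96.map_subgroupOf_eq_range _ le_sup_right]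
      exact H96.range_eq_of_forall_mem F (H96.res_mem F (H96.res_mem F hφ' hle) _)
        fun x => (F.le_of_mem hφ').2 _
    rw [hN _ (fun _ => rfl)] at hmem
    obtain ⟨-, g, hg, hge⟩ := hmem
    refine ⟨g, hM.ge hg.1, fun x => ?_⟩
    have h3 := hge ⟨x, hSS.ge x.2.1⟩
    exact h3

end Cfsg.Agent.S5222
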