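import Cfsg.Statements.S5249
import Cfsg.Agent.H95.QdNormal
import Cfsg.Agent.H93.Group

set_option autoImplicit false
open Cfsg

namespace Cfsg.Agent.S5249

/-- Let p be an odd prime, G a finite group in which Qd(p) (the natural semidirect product of an elementary abelian group of order p² by SL₂(p)) is not involved, and P a Sylow p-subgroup of G. Then the fusion system of G on P is a solvable fusion system. -/
theorem result {G : Type*} [Group G] [Finite G] {p : ℕ} [Fact p.Prime] (hp : p ≠ 2) (hqd : ¬ Cfsg.Involves ↥(Cfsg.qd p) G) (P : Sylow p G) : (Cfsg.groupFusionSystem (P : Subgroup G)).IsSolvableSystem := by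
  have hS : IsPGroup p ↥(P : Subgroup G) := P.isPGroup'
  have hF := H93.isSaturated_groupFusionSystem P
  have hfree : ¬ H95.HasQdPair (Cfsg.groupFusionSystem (P : Subgroup G)) p := fun h =>
    hqd (H95.involves_qd_iff_hasGroupQdPair.2 (h.groupFusion hS))
  intro R hR hRS _ E hE
  have hE' := H94.factor_isSaturated hS hF hR hE
  have hT : IsPGroup p (⊤ : Subgroup (↥(P : Subgroup G) ⧸ R.subgroupOf (P : Subgroup G))) :=
    (hS.of_surjective _ (QuotientGroup.mk'_surjective (R.subgroupOf (P : Subgroup G)))).to_subgroup _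
  have hn := H95.isNormal_centerThompsonA hp hT hE' fun h => hfree (h.of_factor hE)
  intro h0
  refine H95.centerThompsonA_isPFunctor.ne_bot _ _ inferInstance hT (fun h1 => hRS ?_)
    (eq_bot_iff.2 (h0 ▸ le_sSup hn))
  refine le_antisymm hR.1 fun x hx => ?_
  have h2 : QuotientGroup.mk' (R.subgroupOf (P : Subgroup G)) ⟨x, hx⟩ ∈
      (⊥ : Subgroup (↥(P : Subgroup G) ⧸ R.subgroupOf (P : Subgroup G))) := h1 ▸ Subgroup.mem_top _
  exact Subgroup.mem_subgroupOf.1 ((QuotientGroup.eq_one_iff _).1 (Subgroup.mem_bot.1 h2))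

end Cfsg.Agent.S5249
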