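import Cfsg.Statements.S5270
import Cfsg.Agent.H80.MaxClassCenter
import Cfsg.Agent.H93.Mor
import Cfsg.Agent.H96.Basic

set_option autoImplicit false
open Cfsg

namespace Cfsg.Agent.S5270

/-- Let p ≥ 5 be a prime, S a finite p-group of maximal class of order p^n with n ≥ 4, and F a saturated fusion system over S. If some map of F defined on the second centre Z₂(S) with image Z₂(S) does not carry Z(S) into itself, then the centralizer C_S(Z₂(S)) is an F-essential subgroup. -/
theorem result {Ω : Type*} [Group Ω] {S : Subgroup Ω} [Finite S] (p : ℕ) [Fact p.Prime] (hS : IsPGroup p ↥S) (n : ℕ) (hn : Nat.card S = p ^ n) (h4 : 4 ≤ n) (hmax : Subgroup.lowerCentralSeries S (n - 2) ≠ ⊥) (F : Cfsg.FusionSystem S) (hF : F.IsSaturated p) (hp : 5 ≤ p) (φ : ↥((Subgroup.upperCentralSeries ↥S 2).map S.subtype) →* Ω) (hφ : φ ∈ F.Hom ((Subgroup.upperCentralSeries ↥S 2).map S.subtype)) (hφZ : φ.range = ((Subgroup.upperCentralSeries ↥S 2).map S.subtype)) (hmove : ∃ (z : Ω) (hz :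 z ∈ ((Subgroup.upperCentralSeries ↥S 2).map S.subtype)), z ∈ ((Subgroup.center ↥S).map S.subtype) ∧ φ ⟨z, hz⟩ ∉ ((Subgroup.center ↥S).map S.subtype)) : F.IsEssential p (S ⊓ Subgroup.centralizer (((Subgroup.upperCentralSeries ↥S 2).map S.subtype) : Set Ω)) := by
  classical
  obtain ⟨z, hz, hzC, hzM⟩ := hmove
  set U : Subgroup Ω := S ⊓ Subgroup.centralizer (((Subgroup.upperCentralSeries ↥S 2).map S.subtype) : Set Ω) with hU
  have hpp := (Fact.out : p.Prime)
  have hcl : Group.nilpotencyClass S = n - 1 := by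
    refine H80.class_eq_of_lcs_ne_bot n hn (by omega) fun h => hmax ?_
    rw [← Subgroup.top_subtype_lowerCentralSeries, h, Subgroup.map_bot]
  have hZ₂S : ((Subgroup.upperCentralSeries ↥S 2).map S.subtype) ≤ S := Subgroup.map_subtype_le _
  have hzS : ∀ s ∈ S, s * z = z * s := by
    obtain ⟨z', hz', rfl⟩ := hzC
    exact fun s hs => congrArg Subtype.val (Subgroup.mem_center_iff.1 hz' ⟨s, hs⟩)
  have hzU : z ∈ U := ⟨hZ₂S hz, Subgroup.mem_centralizer_iff.2 fun y hy => hzS y (hZ₂S hy)⟩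
  have hUS : U ≤ S := inf_le_left
  have hUn : S ≤ Subgroup.normalizer (U : Set Ω) := by
    have hsub : U.subgroupOf S = Subgroup.centralizer (Subgroup.upperCentralSeries ↥S 2 : Set S) := by
      ext s
      rw [Subgroup.mem_subgroupOf, hU, Subgroup.mem_inf, Subgroup.mem_centralizer_iff, Subgroup.mem_centralizer_iff]
      constructor
      · intro h y hy; exact Subtype.ext (h.2 y ⟨y, hy, rfl⟩)
      · refine fun h => ⟨s.2, ?_⟩
        rintro _ ⟨y, hy, rfl⟩
        exact congrArg Subtype.val (h y hy)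
    haveI : (U.subgroupOf S).Normal := by rw [hsub]; infer_instance
    exact (Subgroup.normal_subgroupOf_iff_le_normalizer hUS).1 ‹_›
  have hUfn : F.IsFullyNormalized U := by
    refine ⟨hUS, fun Q hQ => ?_⟩
    haveI := H93.finite_of_le (S := S) (show FusionSystem.normalizerIn S U ≤ S from inf_le_left)
    refine Subgroup.card_le_of_le fun x hx => ?_
    exact ⟨hx.1, hUn hx.1⟩
  have hZ₂n : F.IsFullyNormalized ((Subgroup.upperCentralSeries ↥S 2).map S.subtype) := by
    refine ⟨hZ₂S, fun Q hQ => ?_⟩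
    haveI := H93.finite_of_le (S := S) (show FusionSystem.normalizerIn S ((Subgroup.upperCentralSeries ↥S 2).map S.subtype) ≤ S from inf_le_left)
    refine Subgroup.card_le_of_le fun x hx => ⟨hx.1, ?_⟩
    haveI : (((Subgroup.upperCentralSeries ↥S 2).map S.subtype).subgroupOf S).Normal := by
      rw [Subgroup.subgroupOf, Subgroup.comap_map_eq_self_of_injective S.subtype_injective]
      infer_instance
    exact (Subgroup.normal_subgroupOf_iff_le_normalizer hZ₂S).1 ‹_› hx.1
  -- extend to the centralizer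
  obtain ⟨f, hf, hfe⟩ := H93.exists_mor hφ hφZ
  obtain ⟨f', M', hf', heq, hf''⟩ := H93.Mor.extend hf (H93.IsFullyNormalized.isReceptive hS hF hZ₂n) (M := U)
    (fun m hm => by
      have hcomm : ∀ x ∈ ((Subgroup.upperCentralSeries ↥S 2).map S.subtype), m * x * m⁻¹ = x := fun x hx => by
        rw [← Subgroup.mem_centralizer_iff.1 hm.2 x hx, mul_inv_cancel_right]
      refine ⟨⟨hm.1, Subgroup.mem_normalizer_iff.2 fun x => ⟨fun hx => (hcomm x hx).symm ▸ hx, fun hx => ?_⟩⟩,
        1, S.one_mem, fun x hx => by rw [hcomm x hx]; simp⟩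
      have h1 := hcomm _ hx
      rw [mul_left_inj, mul_right_inj] at h1
      rwa [h1] at hx)
  have hmapU : ∀ u ∈ U, f' u ∈ U := by
    intro u hu
    refine ⟨hf'.le_right (hf'.map_mem (Subgroup.mem_sup_right hu)), Subgroup.mem_centralizer_iff.2 fun y hy => ?_⟩
    obtain ⟨x, hx, rfl⟩ := hf''.surj (SetLike.mem_coe.1 hy)
    rw [← hf'.map_mul (Subgroup.mem_sup_left hx) (Subgroup.mem_sup_right hu),
      ← hf'.map_mul (Subgroup.mem_sup_right hu) (Subgroup.mem_sup_left hx),
      Subgroup.mem_centralizer_iff.1 hu.2 x hx]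
  obtain ⟨R', hR', hres⟩ := hf'.restrict (R := U) le_sup_right
  obtain ⟨ψ, hψ, hψr, hψv⟩ := hres
  obtain ⟨α, hα, hαe⟩ := H96.exists_autGroup_of_mem F hψ (fun x => by rw [hψv]; exact hmapU x x.2)
  have hαz : ((α ⟨z, hzU⟩ : U) : Ω) ∉ (Subgroup.center ↥S).map S.subtype := by
    rw [hαe, hψv, heq z hz]
    show f z ∉ _
    rw [show f z = φ ⟨z, hz⟩ from hfe ⟨z, hz⟩]
    exact hzM
  by_contra hne
  have hlt : U < S := by
    refine lt_of_le_of_ne hUS fun he => hzM ?_
    have h1 : φ ⟨z, hz⟩ ∈ ((Subgroup.upperCentralSeries ↥S 2).map S.subtype) := hφZ.le ⟨_, rfl⟩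
    obtain ⟨v, hv, hve⟩ := h1
    refine ⟨v, Subgroup.mem_center_iff.2 fun s => Subtype.ext ?_, hve⟩
    have hs : (s : Ω) ∈ U := he.ge s.2
    exact (Subgroup.mem_centralizer_iff.1 hs.2 (v : Ω) ⟨v, hv, rfl⟩).symm
  obtain ⟨-, hH⟩ := (H93.extendable_dichotomy hS hF hlt hUfn _ rfl).resolve_right fun h => hne h.1
  have hidx : ∀ Q : Subgroup Ω, U < Q → Q ≤ S → Q = S := by
    intro Q hUQ hQS
    have hi : (U.subgroupOf S).index ≤ p := by
      refine le_trans (le_of_eq (congrArg Subgroup.index ?_)) (H80.index_centralizer_center_two_le n hn hcl h4)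
      ext s
      rw [Subgroup.mem_subgroupOf, hU, Subgroup.mem_inf, Subgroup.mem_centralizer_iff, Subgroup.mem_centralizer_iff]
      constructor
      · intro h y hy; exact Subtype.ext (h.2 y ⟨y, hy, rfl⟩)
      · refine fun h => ⟨s.2, ?_⟩
        rintro _ ⟨y, hy, rfl⟩
        exact congrArg Subtype.val (h y hy)
    have hmul : U.relIndex Q * Q.relIndex S = U.relIndex S := Subgroup.relIndex_mul_relIndex _ _ _ hUQ.le hQS
    have h2 : U.relIndex Q ≠ 1 := fun h => hUQ.not_ge (Subgroup.relIndex_eq_one.1 h)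
    haveI := H93.finite_of_le (S := S) hQS
    have h3 : U.relIndex Q ≠ 0 := Subgroup.FiniteIndex.index_ne_zero
    obtain ⟨k, hk⟩ := (hS.to_le hQS).index (U.subgroupOf Q)
    have h4 : p ≤ U.relIndex Q := by
      show p ≤ (U.subgroupOf Q).index
      rw [hk]
      refine Nat.le_self_pow (fun h0 => h2 ?_) p
      show (U.subgroupOf Q).index = 1
      rw [hk, h0, pow_zero]
    have h5 : Q.relIndex S = 1 := by
      have h6 : Q.relIndex S ≠ 0 := Subgroup.FiniteIndex.index_ne_zero
      have h7 : U.relIndex Q * Q.relIndex S ≤ p := hmul.trans_le hi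
      by_contra h8
      have : p * 2 ≤ U.relIndex Q * Q.relIndex S := Nat.mul_le_mul h4 (by omega)
      have := hpp.pos
      omega
    exact le_antisymm hQS (Subgroup.relIndex_eq_one.1 h5)
  rw [← hH] at hα
  haveI := H93.finite_mulAut (S := S) hUS
  have key : ∀ β ∈ Subgroup.closure {β : MulAut U | ∃ (Q : Subgroup Ω) (hPQ : U < Q) (χ : Q →* Ω),
      χ ∈ F.Hom Q ∧ ∀ x : U, χ (Subgroup.inclusion hPQ.le x) = β x},
      ∀ u : U, (u : Ω) ∈ (Subgroup.center ↥S).map S.subtype → ((β u : U) : Ω) ∈ (Subgroup.center ↥S).map S.subtype := by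
    intro β hβ
    rw [← Subgroup.mem_toSubmonoid, Subgroup.closure_toSubmonoid_of_finite] at hβ
    induction hβ using Submonoid.closure_induction with
    | mem γ hγ =>
      obtain ⟨Q, hQ, χ, hχ, hχe⟩ := hγ
      obtain rfl := hidx Q hQ (H93.le_of_hom hχ)
      intro u hu
      obtain ⟨γ', -, hγe'⟩ := H96.exists_autGroup_of_mem F hχ fun x => H93.apply_mem hχ x
      obtain ⟨v, hv, hve⟩ := hu
      rw [← hχe u, ← hγe']
      have hv' : Subgroup.inclusion hQ.le u = v := Subtype.ext hve.symm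
      rw [hv']
      refine ⟨γ' v, ?_, rfl⟩
      rw [SetLike.mem_coe, Subgroup.mem_center_iff] at hv ⊢
      intro s
      obtain ⟨t, rfl⟩ := γ'.surjective s
      rw [← map_mul, ← map_mul, hv t]
    | one => exact fun u hu => hu
    | mul a b _ _ ha hb => exact fun u hu => ha (b u) (hb u hu)
  exact hαz (key α hα ⟨z, hzU⟩ hzC)

end Cfsg.Agent.S5270
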