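import Cfsg.Statements.S5271
import Cfsg.Agent.H95.WeaklyEmbedded

set_option autoImplicit false
open Cfsg

namespace Cfsg.Agent.S5271

/-- A nilpotency criterion for fusion systems. Let F be a saturated fusion system over a finite p-group S of order at least p². Call a subgroup Q of S weakly embedded in F when there is a subgroup P of S strongly closed in F such that both the product QP and the intersection Q ∩ P are strongly closed in F. Then F is the inner fusion system of S if and only if there is a subgroup D of S with 1 < D < S such that every subgroup of S of the same order as D is weakly embedded in F and, for every fully normalized subgroup H of S of that order, the normalizer fusion system of H in F is the inner fusion system of N_S(H). -/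
theorem result {Ω : Type*} [Group Ω] {S : Subgroup Ω} [Finite S] (p : ℕ) [Fact p.Prime] (hS : IsPGroup p ↥S) (F : Cfsg.FusionSystem S) (hF : F.IsSaturated p) (hcard : p ^ 2 ≤ Nat.card S) : (∀ P : Subgroup Ω, F.Hom P = (Cfsg.innerFusionSystem S).Hom P) ↔ ∃ D : Subgroup Ω, ⊥ < D ∧ D < S ∧ (∀ Q : Subgroup Ω, Q ≤ S → Nat.card ↥Q = Nat.card ↥D → ∃ P : Subgroup Ω, F.StronglyClosed P ∧ F.StronglyClosed (Q ⊔ P) ∧ F.StronglyClosed (Q ⊓ P)) ∧ (∀ H : Subgroup Ω, F.IsFullyNormalized H → Nat.card ↥H = Nat.card ↥D → ∀ N : Cfsg.FusionSystem (Cfsg.FusionSystem.normalizerIn S H), F.IsNormalizerSystem H N → ∀ P : Subgroup Ω, N.Hom P = (Cfsg.innerFusionSystem (Cfsg.FusionSystem.normalizerIn S H)).Hom P) := by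
  have hp : p.Prime := Fact.out
  obtain ⟨n, hn⟩ := IsPGroup.iff_card.1 hS
  constructor
  · intro hin
    have hn2 : 2 ≤ n := (Nat.pow_le_pow_iff_right hp.one_lt).1 (hn ▸ hcard)
    obtain ⟨D, -, hDS, hDc⟩ := H95.exists_between hS le_rfl (bot_le : (⊥ : Subgroup Ω) ≤ S) (b := n - 1)
      (by rw [Subgroup.card_bot]; exact Nat.one_le_pow _ _ hp.pos) (hn ▸ Nat.pow_le_pow_right hp.pos (Nat.sub_le n 1))
    have hnorm : ∀ Q : Subgroup Ω, Q ≤ S → Nat.card Q = p ^ (n - 1) → FusionSystem.normalizerIn S Q = S := by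
      intro Q hQ hQc
      have := H96.finite_of_le hQ
      have hlt : Q < S := lt_of_le_of_ne hQ fun e => by
        rw [e, hn] at hQc
        have := Nat.pow_right_injective hp.two_le hQc
        omega
      have h1 := H93.lt_normalizerIn hS hlt
      have hNS : FusionSystem.normalizerIn S Q ≤ S := inf_le_left
      have := H96.finite_of_le hNS
      obtain ⟨m, hm⟩ := IsPGroup.iff_card.1 (hS.to_le hNS)
      refine Subgroup.eq_of_le_of_card_ge hNS ?_
      have h2 : Nat.card Q < Nat.card (FusionSystem.normalizerIn S Q) :=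
        lt_of_le_of_ne (Subgroup.card_le_of_le h1.le) fun e => h1.ne (Subgroup.eq_of_le_of_card_ge h1.le e.ge)
      rw [hQc, hm] at h2
      rw [hn, hm]
      exact Nat.pow_le_pow_right hp.pos (by have := (Nat.pow_lt_pow_iff_right hp.one_lt).1 h2; omega)
    have hsc : ∀ Q : Subgroup Ω, Q ≤ S → Nat.card Q = p ^ (n - 1) → F.StronglyClosed Q := by
      intro Q hQ hQc
      refine ⟨hQ, fun R hR φ hφ x => ?_⟩
      rw [hin] at hφ
      obtain ⟨-, g, hg, hge⟩ := hφ
      rw [hge]
      have hgn : g ∈ FusionSystem.normalizerIn S Q := (hnorm Q hQ hQc).symm ▸ hg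
      exact (Subgroup.mem_normalizer_iff.1 hgn.2 _).1 (hR x.2)
    refine ⟨D, ?_, ?_, fun Q hQ hQc => ?_, fun H hH hHc N hN P => ?_⟩
    · rw [bot_lt_iff_ne_bot]
      intro e
      rw [e, Subgroup.card_bot] at hDc
      exact (Nat.one_lt_pow (by omega) hp.one_lt).ne hDc
    · refine lt_of_le_of_ne hDS fun e => ?_
      rw [e, hn] at hDc
      have := Nat.pow_right_injective hp.two_le hDc
      omega
    · exact ⟨⊥, H95.stronglyClosed_bot' F, by rw [sup_bot_eq]; exact hsc Q hQ (hQc.trans hDc),
        by rw [inf_bot_eq]; exact H95.stronglyClosed_bot' F⟩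
    · have hNH := hnorm H hH.1 (hHc.trans hDc)
      refine Set.Subset.antisymm ?_ ?_
      · intro φ hφ
        have h1 : φ ∈ F.normalizerHom H P := hN P ▸ hφ
        have h2 := h1.1
        rw [hin] at h2
        obtain ⟨-, g, hg, hge⟩ := h2
        exact ⟨h1.2.1, g, hNH.symm ▸ hg, hge⟩
      · rintro φ ⟨hP, g, hg, hge⟩
        rw [show φ = conjHom P g from MonoidHom.ext hge]
        exact N.conj_mem hP hg
  · rintro ⟨D, hD1, hDS, hemb, hloc⟩
    have := H96.finite_of_le hDS.le
    obtain ⟨j, hj⟩ := IsPGroup.iff_card.1 (hS.to_le hDS.le)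
    have hj1 : 1 ≤ j := Nat.one_le_iff_ne_zero.2 fun e => hD1.ne' (Subgroup.card_eq_one.1 (by rw [hj, e, pow_zero]))
    have hlt : p ^ j < Nat.card S := by
      rw [← hj]
      exact lt_of_le_of_ne (Subgroup.card_le_of_le hDS.le) fun e => hDS.ne (Subgroup.eq_of_le_of_card_ge hDS.le e.ge)
    have hstab : H95.StabP F p (p ^ j) := by
      intro R hR α hα H hHR hHn hHc hinv
      have hHS := hHR.trans hR
      have hfn : F.IsFullyNormalized H := H93.isFullyNormalized_of_normalized hHS (inf_of_le_left hHn)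
      have hloc' := hloc H hfn (hHc.trans hj.symm) (H93.normalizerSystem F H hHS) (fun _ => rfl) R
      have hφ := (H96.mem_autGroup F hR).1 hα
      have hle : R ⊔ H ≤ R := sup_le le_rfl hHR
      have hmem : R.subtype.comp α.toMonoidHom ∈ (H93.normalizerSystem F H hHS).Hom R := by
        refine ⟨hφ, le_inf hR (hR.trans hHn), fun x => ⟨hR (α x).2, hHn (hR (α x).2)⟩,
          H96.res _ hle, H96.res_mem F hφ hle, fun x => rfl, ?_⟩
        rw [H96.map_subgroupOf_eq_range _ le_sup_right]
        exact H96.range_eq_of_forall_mem F (H96.res_mem F (H96.res_mem F hφ hle) _) fun x => hinv _ x.2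
      rw [hloc'] at hmem
      obtain ⟨-, g, hg, hge⟩ := hmem
      obtain ⟨k, hk⟩ := H93.isPGroup_autInducedBy hS R ⟨α, H96.mem_autInducedBy.2 ⟨g, hg.1, hge⟩⟩
      exact ⟨k, congrArg Subtype.val hk⟩
    exact H96.IsInner.hom_eq hS hF (H95.isInner_of_wEmb (Nat.card S) le_rfl hS hF hj1 hlt
      (fun Q hQ hQc => hemb Q hQ (hQc.trans hj.symm)) hstab)

end Cfsg.Agent.S5271
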