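import Cfsg.Statements.S5273
import Cfsg.Agent.H96.SmallAbelian

set_option autoImplicit false
open Cfsg

namespace Cfsg.Agent.S5273

/-- Small-exponent abelian subgroups control fusion. Let E and F be saturated fusion systems over the same finite p-group S with E contained in F. Suppose that E and F have the same maps between A and B for all subgroups A, B of S that are elementary abelian when p is odd, respectively abelian of exponent dividing 4 when p = 2. Then E = F (they have the same maps on every subgroup). -/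
theorem result {Ω : Type*} [Group Ω] {S : Subgroup Ω} [Finite S] (p : ℕ) [Fact p.Prime] (hS : IsPGroup p ↥S) (E F : Cfsg.FusionSystem S) (hE : E.IsSaturated p) (hF : F.IsSaturated p) (hEF : E.IsSubsystemOf F) (hodd : p ≠ 2 → ∀ A B : Subgroup Ω, A ≤ S → B ≤ S → Cfsg.IsElementaryAbelian p A → Cfsg.IsElementaryAbelian p B → E.homSet A B = F.homSet A B) (htwo : p = 2 → ∀ A B : Subgroup Ω, A ≤ S → B ≤ S → IsMulCommutative ↥A → IsMulCommutative ↥B → (∀ a ∈ A, a ^ 4 = 1) → (∀ b ∈ B, b ^ 4 = 1) → E.homSet A B = F.homSet A B) : ∀ P : Subgroup Ω, E.Hom P = F.Hom P := by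
  intro P
  refine Set.Subset.antisymm (hEF P) (H96.hom_subset_of_small_abelian hS hE hF hEF (fun A hA hab hexp φ hφ => ?_) P)
  have hAS := (F.le_of_mem hφ).1
  have hBS : φ.range ≤ S := by
    rintro _ ⟨x, rfl⟩
    exact (F.le_of_mem hφ).2 x
  have hAc : IsMulCommutative ↥A := ⟨⟨fun a b => Subtype.ext (hab a a.2 b b.2)⟩⟩
  have hBc : IsMulCommutative ↥φ.range := ⟨⟨by
    rintro ⟨_, a, rfl⟩ ⟨_, b, rfl⟩
    exact Subtype.ext (by simp only [Subgroup.coe_mul, ← map_mul]; rw [mul_comm' a b])⟩⟩
  have hexp' : ∀ b ∈ φ.range, b ^ H96.smallExp p = 1 := by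
    rintro _ ⟨x, rfl⟩
    rw [← map_pow, show x ^ H96.smallExp p = 1 from Subtype.ext (by simpa using hexp x x.2), map_one]
  have hmem : φ ∈ F.homSet A φ.range := ⟨hφ, fun x => ⟨x, rfl⟩⟩
  by_cases hp : p = 2
  · have he : H96.smallExp p = 4 := by simp [H96.smallExp, hp]
    rw [he] at hexp hexp'
    rw [← htwo hp A φ.range hAS hBS hAc hBc hexp hexp'] at hmem
    exact hmem.1
  · have he : H96.smallExp p = p := by simp [H96.smallExp, hp]
    rw [he] at hexp hexp'
    rw [← hodd hp A φ.range hAS hBS ⟨hAc, hexp⟩ ⟨hBc, hexp'⟩] at hmem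
    exact hmem.1

end Cfsg.Agent.S5273
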