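import Cfsg.Statements.S5284
import Cfsg.Agent.H24.SupersolubleChain
import Cfsg.Agent.H24.SupersolubleType
import Cfsg.Agent.H24.RepeatedInvariant
import Cfsg.Agent.H24.DistinctInvariants

set_option autoImplicit false
open Cfsg

namespace Cfsg.Agent.S5284

open Subgroup
open scoped commutatorElement
open Cfsg.Agent.H24

/-- Let S be a finite abelian p-group. Every saturated fusion system over S is supersoluble (S has a chain of F-strongly closed subgroups from 1 to S with cyclic steps) if and only if the invariants of S are pairwise distinct, that is, S is not isomorphic to a direct product (Z/p^n × Z/p^n) × H with n ≥ 1. -/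
theorem result {Ω : Type*} [Group Ω] {S : Subgroup Ω} [Finite S] (p : ℕ) [Fact p.Prime] (hS : IsPGroup p ↥S) (hab : IsMulCommutative ↥S) : (∀ F : Cfsg.FusionSystem S, F.IsSaturated p → (∃ (m : ℕ) (c : Fin (m + 1) → Subgroup Ω), c 0 = ⊥ ∧ c (Fin.last m) = S ∧ (∀ i : Fin (m + 1), F.StronglyClosed (c i)) ∧ ∀ i : Fin m, c i.castSucc ≤ c i.succ ∧ ∃ x ∈ S, c i.succ = c i.castSucc ⊔ Subgroup.zpowers x)) ↔ ¬ ∃ (n : ℕ) (H : Type) (_ : CommGroup H), 0 < n ∧ Nonempty (↥S ≃* (Multiplicative (ZMod (p ^ n)) × Multiplicative (ZMod (p ^ n))) × H) := by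
  have hP : p.Prime := Fact.out
  constructor
  · rintro h ⟨n, H, _, hn, ⟨e⟩⟩
    -- automorphisms of the homocyclic factor
    have : NeZero (p ^ n) := ⟨pow_ne_zero _ hP.ne_zero⟩
    have hu : orderOf (Multiplicative.ofAdd (1 : ZMod (p ^ n))) = p ^ n := by
      rw [orderOf_ofAdd_eq_addOrderOf, ZMod.addOrderOf_one]
    refine not_forall_chain_of_square hS (Multiplicative.ofAdd (1 : ZMod (p ^ n))) (fun h1 => ?_)
      (fun hp2 h1 => ?_) e h
    · rw [h1, orderOf_one] at hu
      exact (Nat.one_lt_pow hn.ne' hP.one_lt).ne hu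
    · rw [← orderOf_dvd_iff_pow_eq_one, hu] at h1
      have h4 := Nat.le_of_dvd two_pos ((dvd_pow_self p hn.ne').trans h1)
      have := hP.two_le
      omega
  intro hno F hF
  letI : CommGroup S := { (inferInstance : Group S) with mul_comm := fun a b => mul_comm' a b }
  have := H93.finite_mulAut (S := S) le_rfl
  have hN : F.IsNormal S := H93.isNormal_of_stronglyClosed_abelian hS hF
    ⟨le_rfl, fun R _ φ hφ x => (F.le_of_mem hφ).2 x⟩
    fun a ha b hb => congrArg Subtype.val (mul_comm' (⟨a, ha⟩ : S) ⟨b, hb⟩)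
  obtain ⟨ι, _, e, he, ⟨E⟩⟩ := exists_pi_zmod hS
  have hinj : Function.Injective e := by
    intro i j hij
    by_contra hne
    obtain ⟨H, inst, hH⟩ := exists_split_of_repeated hne hij E
    exact hno ⟨e i, H, inst, he i, hH⟩
  exact exists_supersoluble_chain hS hN (powCommutator (F.autGroup S) p)
    ((nilOn_top_of_distinct hS hinj E (F.autGroup S).subtype).isPGroup
      (F.autGroup S).subtype_injective)
    pow_mem_powCommutator commutator_le_powCommutator

end Cfsg.Agent.S5284
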