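import Cfsg.Statements.S5287
import Cfsg.Agent.H24.SupersolubleChain
import Cfsg.Agent.H24.MetacyclicAut
import Cfsg.Agent.H24.ResistantMetacyclic
import Cfsg.Agent.H24.StronglyClosedMetacyclic
import Cfsg.Agent.H24.HomocyclicFail
import Cfsg.Agent.H24.MaxClassNoChain

set_option autoImplicit false
open Cfsg

namespace Cfsg.Agent.S5287

open Subgroup
open scoped commutatorElement
open Cfsg.Agent.H24

/-- Let S be a finite metacyclic p-group (an extension of a cyclic group by a cyclic group). Every saturated fusion system over S is supersoluble (S has a chain of F-strongly closed subgroups from 1 to S with cyclic steps) if and only if S is not homocyclic of rank two (isomorphic to Z/p^n × Z/p^n with n ≥ 1) and, when p = 2, S is not dihedral of order at least 4, not quasi-dihedral (semidihedral) and not generalized quaternion of order at least 8. -/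
theorem result {Ω : Type*} [Group Ω] {S : Subgroup Ω} [Finite S] (p : ℕ) [Fact p.Prime] (hS : IsPGroup p ↥S) (hm : Cfsg.IsMetacyclic ↥S) : (∀ F : Cfsg.FusionSystem S, F.IsSaturated p → (∃ (m : ℕ) (c : Fin (m + 1) → Subgroup Ω), c 0 = ⊥ ∧ c (Fin.last m) = S ∧ (∀ i : Fin (m + 1), F.StronglyClosed (c i)) ∧ ∀ i : Fin m, c i.castSucc ≤ c i.succ ∧ ∃ x ∈ S, c i.succ = c i.castSucc ⊔ Subgroup.zpowers x)) ↔ ¬ ((∃ n : ℕ, 0 < n ∧ Nonempty (↥S ≃* Multiplicative (ZMod (p ^ n)) × Multiplicative (ZMod (p ^ n)))) ∨ (p = 2 ∧ ((∃ n : ℕ, 2 ≤ n ∧ Nonempty (↥S ≃* DihedralGroup n)) ∨ Cfsg.IsQuasiDihedral ↥S ∨ (∃ n : ℕ, 2 ≤ n ∧ Nonempty (↥S ≃* QuaternionGroup n))))) := by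
  have hP : p.Prime := Fact.out
  constructor
  · intro h hbad
    rcases hbad with ⟨n, hn, ⟨e⟩⟩ | ⟨rfl, hbad⟩
    · obtain ⟨F, hF, hno⟩ := exists_no_chain_of_homocyclic hn e
      exact hno (h F hF)
    rcases hbad with ⟨n, hn, ⟨e⟩⟩ | hqd | ⟨n, hn, ⟨e⟩⟩
    · obtain ⟨j, hj⟩ := hS.exists_card_eq
      rw [Nat.card_congr e.toEquiv, DihedralGroup.nat_card] at hj
      obtain ⟨i, hi, rfl⟩ := (Nat.dvd_prime_pow Nat.prime_two).1 ⟨2, by rw [← hj, mul_comm]⟩
      rcases i with _ | _ | i
      · simp at hn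
      · obtain ⟨k⟩ := nonempty_dihedral_two_equiv
        obtain ⟨F, hF, hno⟩ := exists_no_chain_of_homocyclic (n := 1) one_pos (e.trans k)
        exact hno (h F hF)
      · exact not_chain_of_dihedral (b := i) e h
    · exact not_chain_of_quasiDihedral hqd h
    · have : NeZero n := ⟨by omega⟩
      obtain ⟨j, hj⟩ := hS.exists_card_eq
      rw [Nat.card_congr e.toEquiv, Nat.card_eq_fintype_card, QuaternionGroup.card] at hj
      obtain ⟨i, hi, rfl⟩ := (Nat.dvd_prime_pow Nat.prime_two).1 ⟨4, by rw [← hj, mul_comm]⟩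
      rcases i with _ | i
      · simp at hn
      · exact not_chain_of_quaternion (b := i) e h
  intro hgood F hF
  rcases eq_or_ne S ⊥ with hbot | hbot
  · exact ⟨0, fun _ => ⊥, rfl, hbot.symm, fun _ => ⟨bot_le, fun R hR φ _ x => by
      rw [Subgroup.mem_bot, show x = 1 from Subtype.ext (Subgroup.mem_bot.1 (hR x.2)), map_one]⟩,
      fun i => i.elim0⟩
  have : Nontrivial S := S.nontrivial_iff_ne_bot.2 hbot
  have hidx := index_frattini_le_sq hS hm
  -- normality from the absence of essential subgroups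
  have hnormal : (∀ U, Cand F p U → U = S) → F.IsNormal S := fun key => by
    refine H93.isNormal_of_essential hS hF fun U hU => ?_
    obtain rfl : U = S := by
      rcases hU with rfl | hU
      · rfl
      · exact key U ⟨hU.1, H93.IsEssential.isRadical hS hU, hU.2.1⟩
    exact ⟨le_rfl, fun α _ x _ => (α x).2⟩
  by_cases hcyc : IsCyclic S
  · refine exists_supersoluble_chain_of_line hS (hnormal fun U hU => ?_) (frattini S) le_rfl hidx ?_
      fun α _ x hx => ?_
    · by_contra hne
      exact hU.not_isCyclic hS hne (isCyclic_of_injective (inclusion hU.le) (inclusion_injective hU.le))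
    · have hc : IsCyclic (S ⧸ frattini S) :=
        isCyclic_of_surjective (QuotientGroup.mk' _) (QuotientGroup.mk'_surjective _)
      obtain ⟨γ, hγ⟩ := hc.exists_generator
      have h1 : (frattini S).index ∣ p := by
        show Nat.card (S ⧸ frattini S) ∣ p
        rw [← orderOf_eq_card_of_forall_mem_zpowers hγ]
        obtain ⟨u, rfl⟩ := QuotientGroup.mk_surjective γ
        exact orderOf_dvd_of_pow_eq_one (frq_pow hS u)
      refine ((Nat.dvd_prime hP).1 h1).resolve_left fun h => ?_
      obtain ⟨M, hM, -⟩ := (eq_top_or_exists_le_coatom (⊥ : Subgroup S)).resolve_left bot_ne_top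
      exact hM.1 (top_le_iff.1 ((Subgroup.index_eq_one.1 h).ge.trans (frattini_le_coatom hM)))
    · exact zpowers_le.mpr hx (mem_zpowers_of_orderOf_dvd (by rw [MulEquiv.orderOf_eq]))
  by_cases hp2 : p = 2
  · subst hp2
    have hN : F.IsNormal S := by
      refine isNormal_of_metacyclic hS hF ⟨le_rfl, fun R hR φ hφ x => (F.le_of_mem hφ).2 x⟩ hm ?_ ?_ ?_
      · rintro ⟨m, ⟨e⟩⟩
        rcases m with _ | _ | m
        · have := Finite.of_equiv _ e.toEquiv
          exact not_finite (DihedralGroup 0)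
        · refine hcyc (e.isCyclic.2 ?_)
          exact isCyclic_of_prime_card (p := 2) DihedralGroup.nat_card
        · exact hgood (.inr ⟨rfl, .inl ⟨_, by omega, ⟨e⟩⟩⟩)
      · rintro ⟨m, ⟨e⟩⟩
        rcases m with _ | _ | m
        · have := Finite.of_equiv _ e.toEquiv
          have : Infinite (ZMod (2 * 0)) := inferInstanceAs (Infinite ℤ)
          have := Infinite.of_injective (fun i : ZMod (2 * 0) => QuaternionGroup.a (n := 0) i)
            fun i j h => QuaternionGroup.a.inj h
          exact not_finite (QuaternionGroup 0)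
        · exact hcyc (e.isCyclic.2 QuaternionGroup.quaternionGroup_one_isCyclic)
        · exact hgood (.inr ⟨rfl, .inr (.inr ⟨_, by omega, ⟨e⟩⟩)⟩)
      · exact fun h => hgood (.inr ⟨rfl, .inr (.inl h)⟩)
    have hA : IsPGroup 2 (MulAut S) := by
      by_contra hA
      rcases two_cases hS hm hA with h | h
      · exact hgood (.inl h)
      · exact hgood (.inr ⟨rfl, .inr (.inr ⟨2, le_rfl, h⟩)⟩)
    exact exists_supersoluble_chain hS hN ⊤ ((hA.to_subgroup _).to_subgroup ⊤)
      (fun _ => mem_top _) le_top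
  have hN : F.IsNormal S := hnormal fun U hU => hU.eq_of_metacyclic hS hF hp2 hm
  obtain ⟨L, hΦL, hL, hinv⟩ : ∃ L : Subgroup S, frattini S ≤ L ∧ L.index = p ∧
      ∀ α : MulAut S, ∀ g ∈ L, α g ∈ L := by
    by_cases hab : IsMulCommutative S
    · exact (line_or_homocyclic hS hm hab hcyc).resolve_right fun h => hgood (.inl h)
    · exact exists_line_of_nonabelian hS hp2 hm hab
  exact exists_supersoluble_chain_of_line hS hN L hΦL hidx hL fun α _ => hinv α

end Cfsg.Agent.S5287
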