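import Cfsg.Statements.S5289
import Cfsg.Agent.H24.ResistantRankTwo

set_option autoImplicit false
open Cfsg

namespace Cfsg.Agent.S5289

open Subgroup
open scoped commutatorElement
open Cfsg.Agent.H24

/-- Let p ≥ 5 be a prime and S a finite p-group of p-rank two (it has an elementary abelian subgroup of order p² and none of order p³) which is not the extraspecial group of order p³ and exponent p. Then S is resistant: for every saturated fusion system F over S, S is normal in F, that is, every map of F extends to an F-automorphism of S. -/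
theorem result {Ω : Type*} [Group Ω] {S : Subgroup Ω} [Finite S] (p : ℕ) [Fact p.Prime] (hS : IsPGroup p S)
    (F : Cfsg.FusionSystem S) (hF : F.IsSaturated p)
    (hp : 5 ≤ p)
    (hrank2 : ∃ E : Subgroup Ω, E ≤ S ∧ Cfsg.IsElementaryAbelian p E ∧ Nat.card E = p ^ 2)
    (hrank3 : ∀ E : Subgroup Ω, E ≤ S → Cfsg.IsElementaryAbelian p E → Nat.card E ≤ p ^ 2)
    (hnotE : ¬ (Nat.card S = p ^ 3 ∧ Monoid.exponent ↥S = p)) : F.IsNormal S := by
  have hP : p.Prime := Fact.out
  have hp2 : p ≠ 2 := by omega
  obtain ⟨n, hn⟩ := hS.exists_card_eq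
  have hrk : Cfsg.PRankLE p 2 S := by
    intro A hA hApow
    rw [← card_map_of_injective (K := A) S.subtype_injective]
    refine hrank3 _ (map_subtype_le A) ⟨⟨⟨?_⟩⟩, ?_⟩
    · rintro ⟨_, a, ha, rfl⟩ ⟨_, b, hb, rfl⟩
      exact Subtype.ext (congrArg (fun u : A => ((u : S) : Ω)) (mul_comm' (⟨a, ha⟩ : A) ⟨b, hb⟩))
    · rintro _ ⟨a, ha, rfl⟩
      rw [← map_pow, hApow a ha, map_one]
  have key : ∀ U : Subgroup Ω, Cand F p U → U = S := by
    intro U hU
    rcases rank_two_classification hp2 n hn hrk with hm | ⟨hn3, x, y, z, hgen, hxp, hyp, hzp, hxz, hyz, hxy⟩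
        | ⟨hn4, s, x, y, z, hs, hgen, hxp, hyp, hzp, hyz, hxy, hxzy⟩ | ⟨h3, -, -⟩
    · exact hU.eq_of_metacyclic hS hF hp2 hm
    · set w := z ^ p ^ (n - 3) with hw
      have hzc : z ∈ center S := by
        refine mem_center_iff.mpr fun g => ?_
        have hle : closure ({x, y, z} : Set S) ≤ centralizer ({z} : Set S) := by
          rw [closure_le]
          rintro a (rfl | rfl | rfl)
          · exact mem_centralizer_singleton_iff.mpr hxz
          · exact mem_centralizer_singleton_iff.mpr hyz
          · exact mem_centralizer_singleton_iff.mpr rfl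
        exact mem_centralizer_singleton_iff.mp (hle (hgen ▸ mem_top g))
      have hwc : w ∈ center S := pow_mem hzc _
      have hWn : (zpowers w).Normal := normal_of_le_center (zpowers_le.mpr hwc)
      have hcomm : commutator S ≤ zpowers w := by
        refine commutator_le_of_gens hgen _ ?_
        have hz1 : ∀ g : S, Commute (z : S ⧸ zpowers w) g := fun g =>
          (show Commute z g from (mem_center_iff.mp hzc g).symm).map (QuotientGroup.mk' (zpowers w))
        have hyx : Commute (y : S ⧸ zpowers w) x := by
          rw [commute_iff_eq, ← QuotientGroup.mk_mul, ← QuotientGroup.mk_mul, eq_comm,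
            QuotientGroup.eq]
          have h1 : (x * y)⁻¹ * (y * x) = w := by
            rw [mul_inv_rev, hw, show y⁻¹ * x⁻¹ * (y * x) = y⁻¹ * (x⁻¹ * y * x) by group, hxy,
              inv_mul_cancel_left]
          rw [h1]; exact mem_zpowers w
        rintro a (rfl | rfl | rfl) b (rfl | rfl | rfl)
        exacts [Commute.refl _, hyx.symm, (hz1 _).symm, hyx, Commute.refl _, (hz1 _).symm,
          hz1 _, hz1 _, Commute.refl _]
      rcases Nat.lt_or_ge n 4 with hlt | h4
      · exfalso
        obtain rfl : n = 3 := by omega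
        refine hnotE ⟨hn, ?_⟩
        have hclass : ∀ a b : S, ⁅a, b⁆ ∈ center S := fun a b =>
          zpowers_le.mpr hwc (hcomm (commutator_mem_commutator (mem_top _) (mem_top _)))
        rw [show (3 : ℕ) - 2 = 1 from rfl, pow_one] at hzp
        have hpow : ∀ g : S, g ^ p = 1 := fun g => omega_one_pow_of_class_two hP hp2 hclass
          ((closure_le _).mpr (by
            rintro a (rfl | rfl | rfl) <;> exact subset_closure ‹_›)
            (hgen ▸ mem_top g : g ∈ closure ({x, y, z} : Set S)))
        have : Nontrivial S := Finite.one_lt_card_iff_nontrivial.mp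
          (by rw [hn]; exact Nat.one_lt_pow (by omega) hP.one_lt)
        obtain ⟨g, hg⟩ := exists_ne (1 : S)
        rcases (Nat.dvd_prime hP).mp (Monoid.exponent_dvd_of_forall_pow_eq_one hpow) with h | h
        · exact absurd (by simpa [h] using Monoid.pow_exponent_eq_one g) hg
        · exact h
      · refine hU.eq_of_comm_le hS (hU.center_le hzc) fun g hg a ha => ?_
        have h1 := hcomm (commutator_mem_commutator (mem_top (⟨g, hg⟩ : S)) (mem_top (⟨a, ha⟩ : S)))
        have h2 : zpowers w ≤ zpowers (z ^ p) := zpowers_le.mpr (by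
          rw [hw, show n - 3 = n - 4 + 1 by omega, pow_succ', pow_mul]
          exact pow_mem (mem_zpowers _) _)
        obtain ⟨k, hk⟩ := mem_zpowers_iff.1 (h2 h1)
        exact ⟨k, by simpa [commutatorElement_def] using congrArg (Subtype.val : S → Ω) hk⟩
    · refine hU.eq_of_GFam hS hF hp (n := n) (s := s)
        ⟨hn4, hn, ?_, hgen, hxp, hyp, hzp, hyz, hxy, hxzy⟩
      rcases hs with rfl | hs
      · rw [Nat.cast_one]; exact one_ne_zero
      · exact fun h => hs (h ▸ IsSquare.zero)
    · omega
  refine H93.isNormal_of_essential hS hF fun U hU => ?_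
  obtain rfl : U = S := by
    rcases hU with rfl | hU
    · rfl
    · exact key U ⟨hU.1, H93.IsEssential.isRadical hS hU, hU.2.1⟩
  exact ⟨le_rfl, fun α _ x _ => (α x).2⟩

end Cfsg.Agent.S5289
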