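import Cfsg.Statements.S5292
import Cfsg.Agent.H93.Model
import Cfsg.Agent.H96.RealizedQuotient
import Cfsg.Agent.H96.GlaubermanThompsonFusion
import Cfsg.Agent.H59.PSolvable
import Cfsg.Agent.H84.PSolvable
import Cfsg.Agent.H35.Constrained

set_option autoImplicit false
universe u
open Cfsg

namespace Cfsg.Agent.S5292

/-- An extension of a `p`-solvable group by a normal `p`-group is `p`-solvable. -/
theorem isPSolvable_of_ker {G X : Type*} [Group G] [Group X] {p : ℕ} (f : G →* X)
    (hf : Function.Surjective f) {m : ℕ} (hm : Nat.card f.ker = p ^ m) (h : Cfsg.IsPSolvable p X) :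
    Cfsg.IsPSolvable p G := by
  obtain ⟨n, H, h0, hn, hmono, hnor, hstep⟩ := h
  refine ⟨n + 1, Fin.cons ⊥ fun i => (H i).comap f, rfl, ?_, ?_, ?_, ?_⟩
  · rw [← Fin.succ_last, Fin.cons_succ, hn, Subgroup.comap_top]
  · intro i j hij
    induction i using Fin.cases with
    | zero => rw [Fin.cons_zero]; exact bot_le
    | succ i =>
      induction j using Fin.cases with
      | zero => exact absurd hij (by simp)
      | succ j =>
        rw [Fin.cons_succ, Fin.cons_succ]
        exact Subgroup.comap_mono (hmono (by simpa using hij))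
  · intro i
    induction i using Fin.cases with
    | zero => rw [Fin.cons_zero]; infer_instance
    | succ i => rw [Fin.cons_succ]; exact (hnor i).comap f
  · intro i
    induction i using Fin.cases with
    | zero =>
      rw [Fin.castSucc_zero, Fin.cons_zero, Fin.cons_succ, h0, MonoidHom.comap_bot,
        Subgroup.relIndex_bot_left]
      exact Or.inl ⟨m, hm⟩
    | succ i =>
      rw [Fin.castSucc_succ, Fin.cons_succ, Fin.cons_succ, Subgroup.relIndex_comap,
        Subgroup.map_comap_eq_self_of_surjective hf]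
      exact hstep i

/-- Let F be a saturated fusion system over a finite p-group S. Then F is the fusion system of some finite p-solvable group on a Sylow p-subgroup if and only if F is constrained (some subgroup normal in F is centric in F) and the group of automorphisms that F induces on its largest normal subgroup O_p(F) is p-solvable. -/
theorem result {Ω : Type u} [Group Ω] {S : Subgroup Ω} [Finite S] (p : ℕ) [Fact p.Prime] (hS : IsPGroup p S)
    (F : Cfsg.FusionSystem S) (hF : F.IsSaturated p) :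
    (∃ (G : Type u) (_ : Group G) (_ : Finite G) (ι : S →* G), Cfsg.IsPSolvable p G ∧ F.IsRealizedBy ι ∧
        ∃ T : Sylow p G, (T : Subgroup G) = ι.range) ↔
      (F.IsConstrained p ∧ Cfsg.IsPSolvable p ↥(F.autGroup F.core)) := by
  constructor
  · rintro ⟨G, hG, hfin, ι, hsol, hr, hT⟩
    have hN : (Cfsg.pPrimeCore p G).Normal := H19.pPrimeCore_normal p G
    obtain ⟨hr', hT'⟩ := H96.realized_quotient_pPrimeCore p hr hT
    set X := G ⧸ Cfsg.pPrimeCore p G
    set κ := (QuotientGroup.mk' (Cfsg.pPrimeCore p G)).comp ι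
    have hsolX : Cfsg.IsPSolvable p X :=
      H84.isPSolvable_of_surjective _ (QuotientGroup.mk'_surjective _) hsol
    have hmod : F.IsModel p X κ := ⟨inferInstance, hr', hT',
      H59.centralizer_pCore_le_of_isPSolvable hsolX (H19.pPrimeCore_quotient_pPrimeCore p)⟩
    refine ⟨H93.IsModel.isConstrained hmod, ?_⟩
    set U := F.core
    have hU : U ≤ S := (H96.isNormal_core F).1
    set M : Subgroup X := Subgroup.normalizer ((U.subgroupOf S).map κ : Set X)
    choose a ha hax using fun g : M => H96.exists_aut_of_normalizing hr' hU g.2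
    have huniq : ∀ (b c : MulAut U), (∀ x : U, κ ⟨(b x : U), hU (b x).2⟩ = κ ⟨(c x : U), hU (c x).2⟩) →
        b = c := fun b c h =>
      MulEquiv.ext fun x => Subtype.ext (congrArg Subtype.val (hr'.1 (h x)) :)
    let Φ : M →* F.autGroup U := MonoidHom.mk' (fun g => ⟨a g, ha g⟩) fun g h => by
      refine Subtype.ext (huniq _ _ fun x => ?_)
      show κ ⟨(a (g * h) x : U), _⟩ = κ ⟨(a g (a h x) : U), _⟩
      rw [hax, hax, hax, Subgroup.coe_mul]
      group
    have hΦ : Function.Surjective Φ := by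
      rintro ⟨b, hb⟩
      obtain ⟨g, hg⟩ := (hr'.2 U hU (U.subtype.comp b.toMonoidHom) fun x => hU (b x).2).1
        ((H96.mem_autGroup F hU).1 hb)
      have hgM : g ∈ M := by
        rw [Subgroup.mem_normalizer_iff]
        intro y
        constructor
        · rintro ⟨s, hs, rfl⟩
          exact ⟨⟨_, hU (b ⟨s, hs⟩).2⟩, Subgroup.mem_subgroupOf.2 (b ⟨s, hs⟩).2, hg ⟨s, hs⟩⟩
        · rintro ⟨s, hs, e⟩
          refine ⟨⟨_, hU (b⁻¹ ⟨s, hs⟩).2⟩, Subgroup.mem_subgroupOf.2 (b⁻¹ ⟨s, hs⟩).2, ?_⟩
          have h := hg (b⁻¹ ⟨s, hs⟩)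
          rw [show (⟨(U.subtype.comp b.toMonoidHom) (b⁻¹ ⟨s, hs⟩), hU (b (b⁻¹ ⟨s, hs⟩)).2⟩ : S) = s from
            Subtype.ext (by simp), e] at h
          exact (mul_left_cancel (mul_right_cancel h)).symm
      refine ⟨⟨g, hgM⟩, Subtype.ext (huniq _ _ fun x => ?_)⟩
      show κ ⟨(a ⟨g, hgM⟩ x : U), _⟩ = _
      rw [hax]
      exact (hg x).symm
    exact H84.isPSolvable_of_surjective Φ hΦ (H35.isPSolvable_subgroup hsolX M)
  · rintro ⟨⟨-, Q₀, hQ₀, hc₀⟩, hsol⟩
    have hQ : F.IsNormal F.core := H96.isNormal_core F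
    have hQ₀le : Q₀ ≤ F.core := le_sSup hQ₀
    have hc : F.IsCentric F.core := by
      refine ⟨hQ.1, fun R hR z hz => ?_⟩
      rw [H96.eq_of_isConj_normal hQ hR] at hz ⊢
      exact hQ₀le (hc₀.2 Q₀ (H96.isConj_refl F hQ₀.1)
        ⟨hz.1, Subgroup.centralizer_le hQ₀le hz.2⟩)
    obtain ⟨σ, hσ⟩ := H93.Models.exists_section (hQ := hQ) hS hF
    obtain ⟨hfin, hr, hT, -⟩ := H93.Models.isModel hc hσ hS hF
    refine ⟨H93.Models.Model hQ hc, inferInstance, hfin, H93.Models.embed hc σ, ?_, hr, hT⟩
    have hker : IsPGroup p (H93.Models.modelProj (hQ := hQ) hc).ker := by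
      have hp : IsPGroup p (H93.Models.embed hc σ).range :=
        hS.of_surjective _ (H93.Models.embed hc σ).rangeRestrict_surjective
      refine hp.to_le fun x hx => ?_
      obtain ⟨z, rfl⟩ := H93.Models.exists_central_of_modelProj_eq_one hc hσ hS hF hx
      exact ⟨_, rfl⟩
    obtain ⟨m, hm⟩ := hker.exists_card_eq
    exact isPSolvable_of_ker _ (H93.Models.modelProj_surjective hc) hm hsol

end Cfsg.Agent.S5292
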