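import Cfsg.Statements.S5309
import Cfsg.Agent.H24.CentralProduct
import Cfsg.Agent.S5150
import Cfsg.Agent.S5155
import Cfsg.Agent.S5127
import Cfsg.Agent.S5148
import Cfsg.Agent.H94.ConstrainedComponent
import Cfsg.Agent.H94.Components
import Cfsg.Agent.H96.Subnormal

set_option autoImplicit false
open Cfsg

namespace Cfsg.Agent.S5309

open Cfsg.FusionSystem
open scoped commutatorElement
open Cfsg.Agent.H24

/-- Self-centralizing property of the generalized Fitting subsystem. Let F be a saturated fusion system over a finite p-group S and D a generalized Fitting subsystem of F, over U. Then the centre of D is the largest subgroup Y of C_S(U) centralized by D in F, in the sense that every map of D extends to a map of F fixing Y elementwise: the centre of D is such a subgroup, and every such Y lies in the centre of D. -/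
theorem result {Ω : Type*} [Group Ω] {S : Subgroup Ω} [Finite S] (p : ℕ) [Fact p.Prime] (hS : IsPGroup p S) (F : Cfsg.FusionSystem S) (hF : F.IsSaturated p)
    {U : Subgroup Ω} (D : Cfsg.FusionSystem U) (hD : D.IsGeneralizedFittingOf F p) :
    (D.center ≤ Cfsg.FusionSystem.centralizerIn S U ∧ ∀ P : Subgroup Ω, D.Hom P ⊆ F.centralizerHom D.center P) ∧
      ∀ Y : Subgroup Ω, Y ≤ Cfsg.FusionSystem.centralizerIn S U →
        (∀ P : Subgroup Ω, D.Hom P ⊆ F.centralizerHom Y P) → Y ≤ D.center := by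
  obtain ⟨T, E, hE, hprod⟩ := hD
  have hQ := H96.isNormal_core F
  have hTS : T ≤ S := hE.1.1.2.2.2.1.1
  have := H96.finite_of_le hTS
  have := H96.finite_of_le hQ.1
  obtain ⟨hQU, hTU⟩ := H24.centralProd_le hprod
  have hcore := fun P => S5150.result p hS F hF E hE P
  -- `D` is a subsystem of `F`
  have hDF : D.IsSubsystemOf F := by
    intro P φ hφ
    obtain ⟨P₁, P₂, φ₁, φ₂, h₁, h₂, hle, hdec⟩ := H24.centralProd_exists_decomp hprod hφ
    obtain ⟨hP₁, q, hq, hqe⟩ := h₁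
    obtain ⟨-, -, -, ψ, hψ, hψ₁, hψ₂⟩ := hcore P₂ h₂
    have hle' : P₁ ⊔ P₂ ≤ P₂ ⊔ F.core := sup_le (hP₁.trans le_sup_right) le_sup_left
    obtain ⟨χ, hχ, hχe⟩ := H96.exists_comp F (H96.res_mem F hψ hle')
      (F.conj_mem le_rfl (hQ.1 hq)) (fun x => (F.le_of_mem (H96.res_mem F hψ hle')).2 x)
    refine H96.mem_congr F (H96.res_mem F hχ hle) fun x => (hdec χ (fun a => ?_) (fun b => ?_) x).symm
    · rw [hχe, hqe]
      show q * ψ _ * q⁻¹ = _
      exact congrArg (fun z => q * z * q⁻¹) (hψ₂ ⟨a, hP₁ a.2⟩)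
    · rw [hχe]
      show q * ψ _ * q⁻¹ = _
      rw [show ψ (Subgroup.inclusion hle' (Subgroup.inclusion le_sup_right b)) = φ₂ b from hψ₁ b,
        H24.centralProd_commute hprod hq ((E.le_of_mem h₂).2 b), mul_inv_cancel_right]
  have hUS : U ≤ S := (F.le_of_mem (hDF U (H96.subtype_mem D le_rfl))).1
  have := H96.finite_of_le hUS
  refine ⟨⟨?_, ?_⟩, ?_⟩
  · exact (H96.center_le D).trans (inf_le_inf_right _ hUS)
  · intro P φ hφ
    have hc : D.center ≤ Subgroup.centralizer (U : Set Ω) := D.center_le_centralizer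
    have hUC : U ≤ centralizerIn S D.center := le_inf hUS fun u hu =>
      Subgroup.mem_centralizer_iff.2 fun z hz => (Subgroup.mem_centralizer_iff.1 (hc hz) u hu).symm
    obtain ⟨ψ, hψ, h1, h2⟩ := (H96.isCentral_center D).2 P φ hφ
    exact ⟨hDF P hφ, (D.le_of_mem hφ).1.trans hUC, fun x => hUC ((D.le_of_mem hφ).2 x), ψ, hDF _ hψ, h1, h2⟩
  intro Y hY hYD
  -- `E` is centralized by `Y`
  have hYE : ∀ P : Subgroup Ω, E.Hom P ⊆ F.centralizerHom Y P := by
    intro P φ hφ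
    obtain ⟨ψ, hψ, -, hψe⟩ := H24.centralProd_exists_pair hprod
      (H96.subtype_mem (innerFusionSystem F.core) (bot_le : ⊥ ≤ F.core)) hφ
    exact hYD P (H96.mem_congr D (H96.res_mem D hψ le_sup_right) fun x => (hψe x).symm)
  obtain ⟨C, hCT, hEC, hmax, -⟩ := S5127.result p hS F hF E hE.1
  have hYT : Y ≤ centralizerIn S T := fun y hy => ⟨(hY hy).1, Subgroup.centralizer_le hTU (hY hy).2⟩
  have hYC : Y ≤ C := hmax Y hYT hYE
  obtain ⟨M, hM, hMT⟩ := S5155.result p hS F hF E hE.1 C hCT hEC hmax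
  have hCS : C ≤ S := hCT.trans inf_le_left
  have := H96.finite_of_le hCS
  -- the centralizer subsystem is constrained
  have hMc : M.IsConstrained p := by
    by_contra hnc
    obtain ⟨W, K, hK, hKq⟩ := H94.hasComp_of_not_constrained (hS.to_le hCS) hM.1.1 hnc
    have hKC : W ≤ C := (H94.subnormal_le hK)
    have hKE : K.IsSubsystemOf E := hE.2.1 W K ⟨IsSubnormalIn.step hK hM, hKq⟩
    have hKT : W ≤ T := (E.le_of_mem (hKE W (H96.subtype_mem K le_rfl))).1
    have := H96.finite_of_le (hKT.trans hTS)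
    refine S5148.result p (hS.to_le (hKT.trans hTS)) K hKq ⟨⟨fun a b => Subtype.ext ?_⟩⟩
    exact Subgroup.mem_centralizer_iff.1 (hCT (hKC b.2)).2 a (hKT a.2)
  have hR := H96.isNormal_core M
  have hYR : Y ≤ M.core := fun y hy =>
    (H96.isCentric_core hMc).2 M.core (H93.isConj_refl M hR.1)
      ⟨hYC hy, Subgroup.centralizer_le (((H94.core_le_core hS hM.1).trans hQU) : M.core ≤ U) (hY hy).2⟩
  have hYQ : Y ≤ F.core := hYR.trans (H94.core_le_core hS hM.1)
  -- `Y` is central in `D`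
  refine le_sSup (α := Subgroup Ω) (⟨hYQ.trans hQU, fun P φ hφ => ?_⟩ : D.IsCentral Y)
  obtain ⟨P₁, P₂, φ₁, φ₂, h₁, h₂, hle, hdec⟩ := H24.centralProd_exists_decomp hprod hφ
  obtain ⟨hP₁, q, hq, hqe⟩ := h₁
  obtain ⟨χ, hχ, hχ₁, hχ₂⟩ := H24.centralProd_exists_pair hprod
    ((innerFusionSystem F.core).conj_mem (sup_le hP₁ hYQ : P₁ ⊔ Y ≤ F.core) hq) h₂
  have hle₁ : P₁ ⊔ P₂ ≤ P₁ ⊔ Y ⊔ P₂ := sup_le_sup_right le_sup_left _
  have hle₂ : P ⊔ Y ≤ P₁ ⊔ Y ⊔ P₂ := sup_le (hle.trans hle₁) (le_sup_right.trans le_sup_left)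
  refine ⟨_, H96.res_mem D hχ hle₂, fun x => ?_, fun y => ?_⟩
  · exact hdec (H96.res χ hle₁) (fun a => (hχ₁ ⟨a, Subgroup.mem_sup_left a.2⟩).trans (hqe a).symm)
      (fun b => hχ₂ b) x
  · refine (hχ₁ ⟨y, Subgroup.mem_sup_right y.2⟩).trans ?_
    show q * (y : Ω) * q⁻¹ = y
    rw [Subgroup.mem_centralizer_iff.1 (hY y.2).2 q (hQU hq), mul_inv_cancel_right]

end Cfsg.Agent.S5309
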