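import Cfsg.Statements.S5316
import Cfsg.Agent.H24.MaxClassEssential
import Cfsg.Agent.S5185
import Cfsg.Agent.S5186

set_option autoImplicit false
open Cfsg

namespace Cfsg.Agent.S5316

open Subgroup
open scoped commutatorElement
open Cfsg.Agent.H24

/-- Let p ≥ 5 be a prime, S a finite p-group of maximal class of order p^n with n ≥ 5 (nilpotency class n − 1), F a saturated fusion system over S, and E an F-essential subgroup that is not a pearl (not elementary abelian of order p² and not extraspecial of order p³ and exponent p). Then E has order at least p⁴. -/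
theorem result {Ω : Type*} [Group Ω] {S : Subgroup Ω} [Finite S] (p : ℕ) [Fact p.Prime] (hp : 5 ≤ p) (hS : IsPGroup p ↥S) (n : ℕ) (hn : Nat.card S = p ^ n) (h5 : 5 ≤ n)
    (hmax : Subgroup.lowerCentralSeries S (n - 2) ≠ ⊥) (F : Cfsg.FusionSystem S) (hF : F.IsSaturated p)
    (E : Subgroup Ω) (hE : F.IsEssential p E)
    (hnp : ¬ ((Nat.card ↥E = p ^ 2 ∧ Cfsg.IsElementaryAbelian p E) ∨ (Nat.card ↥E = p ^ 3 ∧ Cfsg.IsExtraspecial p ↥E ∧ Monoid.exponent ↥E = p))) :
    p ^ 4 ≤ Nat.card ↥E := by
  have hp' : p.Prime := Fact.out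
  by_contra hlt
  push Not at hlt
  have hES : E ≤ S := hE.2.1.1
  have := H93.finite_of_le hES
  obtain ⟨k, hk⟩ := (H93.isPGroup_of_le hS hES).exists_card_eq
  have hk3 : k ≤ 3 := by
    by_contra h
    rw [hk] at hlt
    exact (Nat.pow_le_pow_right hp'.pos (by omega : 4 ≤ k)).not_gt hlt
  rcases (show k = 3 ∨ k = 2 ∨ k ≤ 1 by omega) with rfl | rfl | hk1
  · rcases S5186.result p hS F hF E hE hk with h | ⟨-, h2, h3⟩ | ⟨h, -⟩
    · have hM : H24.MaxSetting S p n := by
        refine ⟨hS, hn, by omega, fun hb => hmax ?_⟩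
        rw [← Subgroup.top_subtype_lowerCentralSeries S (n - 2)]
        have e : (⊤ : Subgroup S).lowerCentralSeries (n - 2) = ⊥ := by
          rw [← hb]; unfold H24.lcw; congr 1
        rw [e, Subgroup.map_bot]
      exact hM.no_small_essential (by omega) h5 hF hE hk h.1 h.2
    · refine hnp (Or.inr ⟨hk, h2, ?_⟩)
      refine (Nat.dvd_prime hp').1 (Monoid.exponent_dvd_of_forall_pow_eq_one fun x =>
          Subtype.ext (by simpa using h3 x x.2)) |>.resolve_left fun h1 => ?_
      rw [Monoid.exp_eq_one_iff] at h1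
      have := Nat.card_of_subsingleton (1 : E)
      rw [hk] at this
      exact (Nat.one_lt_pow (by omega) hp'.one_lt).ne' this
    · omega
  · exact hnp (Or.inl ⟨hk, (S5185.result p hS F hF E hE hk).1⟩)
  · -- a cyclic subgroup of order at most `p` is never self-centralizing in `S`
    have hne : E ≠ S := fun h => by
      rw [← h, hk] at hn
      have := Nat.pow_right_injective hp'.two_le hn
      omega
    obtain ⟨g, hg, hgE⟩ := SetLike.exists_of_lt (H93.lt_normalizerIn hS (lt_of_le_of_ne hES hne))
    refine hgE (hE.1.2 E (H93.isConj_refl F hES) (H93.mem_centralizerIn.2 ⟨hg.1, fun x hx => ?_⟩))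
    have hPN : E ≤ FusionSystem.normalizerIn S E := H93.le_normalizerIn hES
    rcases (show k = 0 ∨ k = 1 by omega) with rfl | rfl
    · rw [pow_zero, Subgroup.card_eq_one] at hk
      rw [hk, Subgroup.mem_bot] at hx
      simp [hx]
    · have h1 := H24.comm_mem_of_relIndex_prime (G := S) (p := p) hS
        (A := ⊥) (B := E.subgroupOf S) (M := (FusionSystem.normalizerIn S E).subgroupOf S) bot_le
        (fun y hy => hPN hy) (le_trans le_top (by rw [Subgroup.normalizer_eq_top]))
        (fun y hy => Subgroup.mem_normalizer_iff.2 fun z => Subgroup.mem_normalizer_iff.1 hy.2 z)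
        (by rw [Subgroup.relIndex_bot_left, Nat.card_congr (Subgroup.subgroupOfEquivOfLe hES).toEquiv,
          hk, pow_one])
        (g := ⟨g, hg.1⟩) (b := ⟨x, hES hx⟩) hg hx
      have h2 := congrArg Subtype.val (Subgroup.mem_bot.1 h1)
      change g * x * g⁻¹ * x⁻¹ = 1 at h2
      exact mul_inv_eq_one.1 h2

end Cfsg.Agent.S5316
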