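import Cfsg.Statements.S5662
import Cfsg.Agent.H99.Aschbacher.Symplectic

set_option autoImplicit false
open Cfsg

namespace Cfsg.Agent.S5662

/-- Subgroup structure of the finite symplectic groups. Let F be a finite field and m ≥ 2 with (m, |F|) ≠ (2, 2), and let Sp_2m(F) be the group of invertible matrices preserving the standard alternating form on F^(2m). Let H be a subgroup of Sp_2m(F) whose product with the scalar matrices ±1 is not all of Sp_2m(F) (H does not cover PSp_2m(F)). Then either H is contained in a member of one of the eight geometric classes of subgroups of Sp_2m(F) (with the conditions built into InSymplecticClass), or H is in the residual class: modulo scalars it is almost simple, and the perfect preimage of its socle acts absolutely irreducibly, is realisable over no proper subfield, and fixes no non-degenerate quadratic form and no non-degenerate unitary form on F^(2m). -/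
theorem result {F : Type*} [Field F] [Fintype F] (m : ℕ) (hm : 2 ≤ m) (hex : ¬ (m = 2 ∧ Fintype.card F = 2)) (H : Subgroup (Matrix.GeneralLinearGroup (Fin m ⊕ Fin m) F)) (hH : H ≤ Cfsg.spGL m F) (hproper : H ⊔ (Cfsg.Geo.scalars (Fin m ⊕ Fin m) F ⊓ Cfsg.spGL m F) ≠ Cfsg.spGL m F) : (∃ M : Subgroup (Matrix.GeneralLinearGroup (Fin m ⊕ Fin m) F), Cfsg.Geo.InSymplecticClass m F M ∧ H ≤ M) ∨ Cfsg.Geo.InSymplecticResidualClass H := by
  have mk : ∀ S : Subgroup (Matrix.GeneralLinearGroup (Fin m ⊕ Fin m) F),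
      Cfsg.Geo.InSymplecticClass m F (S ⊓ spGL m F) → H ≤ S →
      (∃ M : Subgroup (Matrix.GeneralLinearGroup (Fin m ⊕ Fin m) F), Cfsg.Geo.InSymplecticClass m F M ∧ H ≤ M) ∨
        Cfsg.Geo.InSymplecticResidualClass H := fun S hS hle => Or.inl ⟨_, hS, le_inf hle hH⟩
  rcases H99.Asch.symplectic_aschbacher hm hH with ⟨W, hW, hts, hle⟩ | ⟨W, hW, hnd, hdim, hle⟩ |
    ⟨t, k, V, hV, -, hle⟩ | ⟨V, hq, hV, hts, -, hle⟩ | ⟨r, K, hr, -, hK, hself, halt, -, hle⟩ |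
    ⟨K, hq, hK, hadj, hnself, -, hle⟩ | ⟨n₁, n₂, e, P, f₁, f₂, hq, -, h2, -, hf₁, hf₂, hform, -, hle⟩ |
    ⟨F₀, r, P, ζ, hr, hc, hζ, hf, -, hle⟩ |
    ⟨R, p, k, hR, habs, hsim, hp, hodd, hc, -, hcard, hz, hminus, -, hle⟩ |
    ⟨Q, hq, hQ, hpol, hle⟩ | ⟨k, t, e, P, f₁, hq, ht, ht3, -, hex', hf₁, hform, -, hle⟩ | ⟨hres, -⟩
  · exact mk _ (Or.inl (Or.inl ⟨W, hW, hts, rfl⟩)) hle
  · exact mk _ (Or.inl (Or.inr (Or.inl ⟨W, hW, hnd, hdim, rfl⟩))) hle
  · exact mk _ (Or.inl (Or.inr (Or.inr (Or.inl ⟨t, k, V, hV, rfl⟩)))) hle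
  · exact mk _ (Or.inl (Or.inr (Or.inr (Or.inr (Or.inl ⟨V, hq, hV, hts, rfl⟩))))) hle
  · exact mk _ (Or.inr (Or.inl ⟨r, K, hr, hK, hself, halt, rfl⟩)) hle
  · exact mk _ (Or.inr (Or.inr (Or.inl ⟨K, hq, hK, hadj, hnself, rfl⟩))) hle
  · exact mk _ (Or.inr (Or.inr (Or.inr (Or.inl ⟨n₁, n₂, e, P, f₁, f₂, hq, h2, hf₁, hf₂, hform, rfl⟩)))) hle
  · exact mk _ (Or.inl (Or.inr (Or.inr (Or.inr (Or.inr (Or.inl ⟨F₀, r, P, ζ, hr, hc, hζ, hf, rfl⟩)))))) hle
  · exact mk _ (Or.inl (Or.inr (Or.inr (Or.inr (Or.inr (Or.inr (Or.inl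
      ⟨R, p, k, hR, habs, hsim, hp, hodd, hc, hcard, hz, hminus, rfl⟩))))))) hle
  · exact mk _ (Or.inl (Or.inr (Or.inr (Or.inr (Or.inr (Or.inr (Or.inr ⟨Q, hq, hQ, hpol, rfl⟩))))))) hle
  · exact mk _ (Or.inr (Or.inr (Or.inr (Or.inr ⟨k, t, e, P, f₁, hq, ht, ht3, hex', hf₁, hform, rfl⟩)))) hle
  · exact Or.inr hres

end Cfsg.Agent.S5662
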