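import Cfsg.Statements.S5728
-- import your own Cfsg.Agent.* helpers here

set_option autoImplicit false
set_option linter.style.haveILetI false
set_option linter.unusedSectionVars false
open Cfsg

namespace Cfsg.Agent.S5728

/-- The roots of `X ^ p = X` in an extension of `ZMod p` are the prime field. -/
theorem mem_range_of_pow_card (p : ℕ) [Fact p.Prime] {K : Type*} [Field K] [Algebra (ZMod p) K] (a : K)
    (ha : a ^ p = a) : ∃ a' : ZMod p, algebraMap (ZMod p) K a' = a := by
  classical
  have hp : 1 < p := (Fact.out : p.Prime).one_lt
  set P : Polynomial K := Polynomial.X ^ p - Polynomial.X with hP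
  have hne : P ≠ 0 := FiniteField.X_pow_card_sub_X_ne_zero K hp
  have hdeg : P.natDegree = p := FiniteField.X_pow_card_sub_X_natDegree_eq K hp
  set S : Finset K := Finset.univ.image (algebraMap (ZMod p) K) with hS
  have hSc : S.card = p := by
    rw [hS, Finset.card_image_of_injective _ (algebraMap (ZMod p) K).injective, Finset.card_univ, ZMod.card]
  by_contra hcon
  have haS : a ∉ S := by
    simp only [hS, Finset.mem_image, Finset.mem_univ, true_and]
    exact hcon
  have hsub : insert a S ⊆ P.roots.toFinset := by
    intro x hx
    rw [Multiset.mem_toFinset, Polynomial.mem_roots hne, Polynomial.IsRoot, hP]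
    simp only [Polynomial.eval_sub, Polynomial.eval_pow, Polynomial.eval_X, sub_eq_zero]
    rcases Finset.mem_insert.mp hx with rfl | hx
    · exact ha
    · obtain ⟨z, -, rfl⟩ := Finset.mem_image.mp hx
      rw [← map_pow, ZMod.pow_card]
  have := Finset.card_le_card hsub
  rw [Finset.card_insert_of_notMem haS, hSc] at this
  have := P.card_roots'
  have := Multiset.toFinset_card_le P.roots
  omega

/-- An elusive transitive action. Let p = 2^s − 1 be a prime and let F be the field with p² elements. Inside the group of affine maps x ↦ a·x + b of F (a ≠ 0), consider the subgroup of maps with both coefficients in the prime field. Then every element of prime order of the affine group is conjugate, within the affine group, to an element of that subgroup; equivalently, in the transitive action of the affine group on the cosets of that subgroup (of degree p(p + 1)) every element of prime order fixes a point. -/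
theorem result (p s : ℕ) [Fact p.Prime] (hs : p = 2 ^ s - 1)
    (g : Equiv.Perm (GaloisField p 2)) (hg : g ∈ Cfsg.affineGroup (GaloisField p 2)) (hord : (orderOf g).Prime) :
    ∃ x ∈ Cfsg.affineGroup (GaloisField p 2), ∃ a b : ZMod p, a ≠ 0 ∧
      ∀ y : GaloisField p 2, (x * g * x⁻¹) y = algebraMap (ZMod p) (GaloisField p 2) a * y + algebraMap (ZMod p) (GaloisField p 2) b := by
  classical
  have hp2 : 3 ≤ p := by
    rcases Nat.lt_or_ge s 2 with h | h
    · have := (Fact.out : p.Prime).two_le
      interval_cases s <;> simp at hs <;> omega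
    · have := Nat.pow_le_pow_right (show 1 ≤ 2 by norm_num) h
      omega
  obtain ⟨a, b, hab⟩ := hg
  set r := orderOf g with hr
  have hpow : g ^ r = 1 := pow_orderOf_eq_one g
  let mk : (GaloisField p 2)ˣ → GaloisField p 2 → Equiv.Perm (GaloisField p 2) := fun u t =>
    (Units.mulLeft u).trans (Equiv.addRight t)
  have hmk : ∀ u t y, mk u t y = (u : GaloisField p 2) * y + t := fun u t y => rfl
  have hmem : ∀ u t, mk u t ∈ Cfsg.affineGroup (GaloisField p 2) := fun u t => ⟨u, t, hmk u t⟩
  by_cases ha : a = 1
  · -- translation
    have hg0 : b ≠ 0 := by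
      rintro rfl
      apply hord.ne_one
      rw [orderOf_eq_one_iff]
      ext y; simp [hab, ha]
    refine ⟨mk (Units.mk0 b hg0)⁻¹ 0, hmem _ _, 1, 1, one_ne_zero, fun y => ?_⟩
    rw [Equiv.Perm.mul_apply, Equiv.Perm.mul_apply, hmk, hab, ha]
    have hsym : (mk (Units.mk0 b hg0)⁻¹ 0)⁻¹ y = b * y := by
      rw [Equiv.Perm.inv_def, Equiv.symm_apply_eq, hmk]
      simp [hg0]
    rw [hsym]
    simp [hg0, mul_add]
  · have ha1 : (a : GaloisField p 2) ≠ 1 := fun h => ha (Units.ext h)
    have hd : (1 : GaloisField p 2) - a ≠ 0 := sub_ne_zero.mpr (Ne.symm ha1)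
    set c := b / ((1 : GaloisField p 2) - a) with hc
    have hcfix : g c = c := by rw [hab, hc]; field_simp; ring
    have hiter : ∀ k : ℕ, ∀ y, (g ^ k) y = (a : GaloisField p 2) ^ k * (y - c) + c := by
      intro k
      induction k with
      | zero => simp
      | succ k ih =>
        intro y
        rw [pow_succ', Equiv.Perm.mul_apply, ih, hab]
        rw [hab] at hcfix
        linear_combination hcfix
    have har : (a : GaloisField p 2) ^ r = 1 := by
      have h1 := hiter r (c + 1)
      rw [hpow] at h1
      simp only [Equiv.Perm.one_apply, add_sub_cancel_left, mul_one] at h1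
      linear_combination -h1
    have hord' : orderOf a = r := by
      haveI := Fact.mk hord
      exact orderOf_eq_prime (Units.ext (by simpa using har)) ha
    have hcard : Nat.card (GaloisField p 2) = p ^ 2 := GaloisField.card p 2 (by norm_num)
    haveI : Fintype (GaloisField p 2) := Fintype.ofFinite _
    have hdvd : r ∣ (p + 1) * (p - 1) := by
      rw [← hord', ← Nat.sq_sub_sq, one_pow, ← hcard, ← Nat.card_units]
      exact orderOf_dvd_natCard a
    have hr1 : r ∣ p - 1 := by
      rcases hord.dvd_mul.mp hdvd with h | h
      · have he : p + 1 = 2 ^ s := by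
          have : 0 < 2 ^ s := pow_pos (by norm_num) s
          omega
        rw [he] at h
        have h2 := (Nat.prime_dvd_prime_iff_eq hord Nat.prime_two).mp (hord.dvd_of_dvd_pow h)
        rw [h2]
        have : Odd p := (Fact.out : p.Prime).odd_of_ne_two (by omega)
        obtain ⟨k, hk⟩ := this
        exact ⟨k, by omega⟩
      · exact h
    have hap : (a : GaloisField p 2) ^ p = a := by
      obtain ⟨k, hk⟩ := hr1
      calc (a : GaloisField p 2) ^ p = (a : GaloisField p 2) ^ (r * k + 1) := by congr 1; omega
        _ = a := by rw [pow_succ, pow_mul, har, one_pow, one_mul]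
    obtain ⟨a', ha'⟩ : ∃ a' : ZMod p, algebraMap (ZMod p) (GaloisField p 2) a' = a :=
      mem_range_of_pow_card p (a : GaloisField p 2) hap
    refine ⟨mk 1 (-c), hmem _ _, a', 0, ?_, fun y => ?_⟩
    · rintro rfl
      rw [map_zero] at ha'
      exact a.ne_zero ha'.symm
    · rw [Equiv.Perm.mul_apply, Equiv.Perm.mul_apply, hmk, hab]
      have hsym : (mk 1 (-c))⁻¹ y = y + c := by
        rw [Equiv.Perm.inv_def, Equiv.symm_apply_eq, hmk]
        simp
      rw [hsym, ha', map_zero, Units.val_one, one_mul]
      rw [hab] at hcfix
      linear_combination hcfix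

end Cfsg.Agent.S5728
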