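import Cfsg.Statements.S5804
import Cfsg.Agent.H98.MaximalSp
import Cfsg.Agent.H98.MaximalSpWreath
import Cfsg.Agent.H98.MaximalSpPair
import Cfsg.Agent.H98.MaximalSpOrth
import Cfsg.Agent.H98.MaximalSpSubfield
import Cfsg.Agent.H58.ExtField.SpField
import Cfsg.Agent.H25.GeoLists.SpUnitary.ThreeMain
import Cfsg.Agent.H25.GeoLists.SpTensor.RankThree.Maximal

set_option autoImplicit false
open Cfsg

namespace Cfsg.Agent.S5804

/-- Maximal subgroups of Sp_6(q) of geometric type (any q). Let F be a finite field with q elements, f the standard alternating form on F^6 (coordinates Fin 3 ⊕ Fin 3) and Sp_6(F) its isometry group inside GL_6(F). Each of the following, intersected with Sp_6(F), is a maximal subgroup of Sp_6(F): (1) the stabiliser of any non-zero totally isotropic subspace (dimensions 1, 2, 3); (2) the stabiliser of any non-degenerate 2-space; (3) for q ≥ 3, the stabiliser of any decomposition of F^6 into three mutually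 orthogonal non-degenerate 2-spaces; (4) for q odd, the stabiliser of any decomposition into two totally isotropic 3-spaces; (5) the normaliser of any degree-3 subfield K of the matrix algebra whose elements are self-adjoint for f with f(k v, v) = 0 (f is the trace of an alternating form over K); (6) for q odd, the normaliser of any degree-2 subfield of the matrix algebra that is closed under adjoints but not self-adjoint (f is the trace of a multiple of a unitary form over K); (7) for q odd with q ≥ 5, the stabiliser of any tensor decomposition of f as (alternating form on F^2) ⊗ (non-degenerate symmetric bilinear form on F^3) up to a scalar; (8) every subfield group for a subfield F₀ with |F| = |F₀|^r, r prime, whose F₀-structure carries a non-zero scalar multiple of f; (9) for q even, the similarity group of any non-degenerate quadratic form whose polar form is f (either Witt type); its intersection with Sp_6(F) is the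 orthogonal group of that form. -/
theorem result {F : Type*} [Field F] [Fintype F] :
    (∀ W : Submodule F (Fin 3 ⊕ Fin 3 → F), W ≠ ⊥ → Cfsg.Geo.IsTotallySingularFor (Cfsg.sympForm 3 F) W → Cfsg.Geo.IsMaximalIn (Cfsg.spGL 3 F) (Cfsg.Geo.subspaceStabilizer W ⊓ Cfsg.spGL 3 F)) ∧
    (∀ W : Submodule F (Fin 3 ⊕ Fin 3 → F), W ≠ ⊥ → Cfsg.Geo.IsNondegenerateOn (Cfsg.sympForm 3 F) W → Module.finrank F W < 3 → Cfsg.Geo.IsMaximalIn (Cfsg.spGL 3 F) (Cfsg.Geo.subspaceStabilizer W ⊓ Cfsg.spGL 3 F)) ∧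
    (3 ≤ Fintype.card F → ∀ D : Fin 3 → Submodule F (Fin 3 ⊕ Fin 3 → F), Cfsg.Geo.IsNondegenerateMDecomposition (Cfsg.sympForm 3 F) 2 D → Cfsg.Geo.IsMaximalIn (Cfsg.spGL 3 F) (Cfsg.Geo.decompositionStabilizer D ⊓ Cfsg.spGL 3 F)) ∧
    (Odd (Fintype.card F) → ∀ D : Fin 2 → Submodule F (Fin 3 ⊕ Fin 3 → F), Cfsg.Geo.IsMDecomposition 3 D → (∀ i, Cfsg.Geo.IsTotallySingularFor (Cfsg.sympForm 3 F) (D i)) → Cfsg.Geo.IsMaximalIn (Cfsg.spGL 3 F) (Cfsg.Geo.decompositionStabilizer D ⊓ Cfsg.spGL 3 F)) ∧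
    (∀ K : Subalgebra F (Matrix (Fin 3 ⊕ Fin 3) (Fin 3 ⊕ Fin 3) F), Cfsg.Geo.IsFieldSubalgebra 3 K → Cfsg.Geo.IsSelfAdjointFor (Cfsg.sympForm 3 F) K → (∀ k ∈ K, ∀ v : (Fin 3 ⊕ Fin 3 → F), (Cfsg.sympForm 3 F) (Matrix.mulVec k v) v = 0) → Cfsg.Geo.IsMaximalIn (Cfsg.spGL 3 F) (Cfsg.Geo.subalgebraNormalizer K ⊓ Cfsg.spGL 3 F)) ∧
    (Odd (Fintype.card F) → ∀ K : Subalgebra F (Matrix (Fin 3 ⊕ Fin 3) (Fin 3 ⊕ Fin 3) F), Cfsg.Geo.IsFieldSubalgebra 2 K → Cfsg.Geo.IsAdjointClosedFor (Cfsg.sympForm 3 F) K → ¬ Cfsg.Geo.IsSelfAdjointFor (Cfsg.sympForm 3 F) K → Cfsg.Geo.IsMaximalIn (Cfsg.spGL 3 F) (Cfsg.Geo.subalgebraNormalizer K ⊓ Cfsg.spGL 3 F)) ∧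
    (Odd (Fintype.card F) → 5 ≤ Fintype.card F → ∀ (e : (Fin 3 ⊕ Fin 3) ≃ Fin 2 × Fin 3) (P : Matrix.GeneralLinearGroup (Fin 3 ⊕ Fin 3) F) (f₁ : (Fin 2 → F) → (Fin 2 → F) → F) (f₂ : (Fin 3 → F) → (Fin 3 → F) → F), Cfsg.Geo.IsSymplecticForm f₁ → Cfsg.Geo.IsSymmetricForm f₂ → Cfsg.Geo.IsTensorFormStructure id (Cfsg.sympForm 3 F) f₁ f₂ e P → Cfsg.Geo.IsMaximalIn (Cfsg.spGL 3 F) (Cfsg.Geo.tensorProductSubgroup 2 3 e P ⊓ Cfsg.spGL 3 F)) ∧
    (∀ (F₀ : Subfield F) (r : ℕ) (P : Matrix.GeneralLinearGroup (Fin 3 ⊕ Fin 3) F) (ζ : F), r.Prime → Fintype.card F = Nat.card F₀ ^ r → ζ ≠ 0 → Cfsg.Geo.IsFormRationalStructure (Cfsg.sympForm 3 F) F₀ ζ P → Cfsg.Geo.IsMaximalIn (Cfsg.spGL 3 F) (Cfsg.Geo.subfieldSubgroup F₀ P ⊓ Cfsg.spGL 3 F)) ∧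
    (¬ Odd (Fintype.card F) → ∀ Q : (Fin 3 ⊕ Fin 3 → F) → F, Cfsg.Geo.IsNondegenerateQuadraticForm Q → (∀ u v : (Fin 3 ⊕ Fin 3 → F), QuadraticMap.polar Q u v = (Cfsg.sympForm 3 F) u v) → Cfsg.Geo.IsMaximalIn (Cfsg.spGL 3 F) (Cfsg.Geo.quadSimilarityGroup Q ⊓ Cfsg.spGL 3 F)) := by
  refine ⟨?_, ?_, ?_, ?_, ?_, ?_, ?_, ?_, ?_⟩
  · intro W hW0 hW
    exact Cfsg.Agent.H98.sp_stab_ts_maximal W hW0 fun u hu v hv => by
      rw [Cfsg.Agent.H2.sympBilin_apply]; exact hW u hu v hv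
  · intro W hW0 hW hdim
    refine Cfsg.Agent.H98.sp_stab_nd_maximal W hW0 (fun u hu hup => ?_) hdim
    by_contra h0
    obtain ⟨⟨x, hx, hne⟩, -⟩ := hW u hu h0
    exact hne (by rw [← Cfsg.Agent.H2.sympBilin_apply]; exact hup x hx)
  · intro hq D hD
    refine Cfsg.Agent.H98.sp_wreath_maximal hD.decomp (fun i u hu h => ?_) (fun i j hij u hu v hv => ?_) (by omega)
    · by_contra h0
      obtain ⟨-, x, hx, hne⟩ := hD.nondegenerate i u hu h0
      exact hne (by rw [← Cfsg.Agent.H2.sympBilin_apply]; exact h x hx)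
    · rw [Cfsg.Agent.H2.sympBilin_apply]; exact hD.orthogonal i j hij u hu v hv
  · intro hodd D hD hts
    refine Cfsg.Agent.H98.sp_pair_maximal (by omega) ?_ hD fun i u hu v hv => by
      rw [Cfsg.Agent.H2.sympBilin_apply]; exact hts i u hu v hv
    intro h2
    haveI : CharP F 2 := (CharP.charP_iff_prime_eq_zero Nat.prime_two).mpr (by exact_mod_cast h2)
    have := FiniteField.even_card_of_char_two (ringChar.eq F 2)
    obtain ⟨k, hk⟩ := hodd
    omega
  · exact fun K hK hsa halt => H58.ExtField.field_maximal_sp (by omega) (by norm_num) hK hsa halt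
  · exact fun hodd K hK hac hnsa => Cfsg.Agent.H25.SU3.sp_unitary_maximal 3 rfl hodd K hK hac hnsa
  · exact fun hodd hq e P f₁ f₂ hf₁ hf₂ hT => Cfsg.Agent.H25.GeoLists.sp_tensor_two_three_maximal rfl hq hodd e P f₁ f₂ hf₁ hf₂ hT
  · exact fun F₀ r P ζ hr hc hζ hP => Cfsg.Agent.H98.sp_subfield_maximal₃' le_rfl hr hc P ζ hζ hP
  · intro heven Q hQ hpol
    refine Cfsg.Agent.H98.sp_orth_maximal (by omega) ?_ Q hQ fun u v => by
      rw [Cfsg.Agent.H2.sympBilin_apply]; exact hpol u v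
    by_contra h2
    exact heven (Nat.odd_iff.mpr (FiniteField.odd_card_of_char_ne_two fun hc => h2 (by
      haveI := ringChar.charP F
      have := CharP.cast_eq_zero F (ringChar F)
      rw [hc] at this
      exact_mod_cast this)))

end Cfsg.Agent.S5804
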