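import Cfsg.Statements.S5825
import Cfsg.Agent.H76.O8.GL

set_option autoImplicit false
open Cfsg

namespace Cfsg.Agent.S5825

/-- Maximal subgroups of Ω_8^-(q) of geometric type (any q). Let F be a finite field with q elements, Q a non-degenerate quadratic form on F^8 (non-degenerate polar form) of minus type (Witt index 3: no totally singular 4-space), and Ω = Ω_8^-(q) the commutator subgroup of the isometry group of Q, inside GL_8(F). Each of the following, intersected with Ω, is a maximal subgroup of Ω: (1) the stabiliser of any non-zero subspace on which Q vanishes identically (totally singular 1-, 2- and 3-spaces); (2) for q odd, the stabiliser of any proper subspace of odd dimension (1, 3, 5 or 7) on which the polar form of Q is non-degenerate; (3) the stabiliser of any non-degenerate 2-space of minus type (containing no non-zero singular vector); (4) for q ≥ 4, the stabiliser of any non-degenerate 2-space of plus type (containing a non-zero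 singular vector); (5) the stabiliser of any non-degenerate 4-space (its orthogonal complement is then a non-degenerate 4-space of the opposite type); (6) for q even, the stabiliser of the 1-space spanned by any non-singular vector v (Q(v) ≠ 0); (7) for q odd, the normaliser of any degree-2 subfield K of the matrix algebra whose elements are self-adjoint for the polar form of Q (Q is then the trace of a quadratic form over K); (8) every subfield group for a subfield F₀ of odd prime index r in F whose F₀-structure carries a non-zero scalar multiple of Q. -/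
theorem result {F : Type*} [Field F] [Fintype F] (Q : (Fin 8 → F) → F) (hQ : Cfsg.Geo.IsNondegenerateQuadraticForm Q) (hminus : ¬ Cfsg.Geo.IsPlusTypeOn Q ⊤) :
    (∀ W : Submodule F (Fin 8 → F), W ≠ ⊥ → Cfsg.Geo.IsTotallySingularQuad Q W → Cfsg.Geo.IsMaximalIn (Cfsg.Geo.omegaGL Q) (Cfsg.Geo.subspaceStabilizer W ⊓ Cfsg.Geo.omegaGL Q)) ∧
    (Odd (Fintype.card F) → ∀ W : Submodule F (Fin 8 → F), W ≠ ⊥ → W ≠ ⊤ → Odd (Module.finrank F W) → Cfsg.Geo.IsNondegenerateOn (QuadraticMap.polar Q) W → Cfsg.Geo.IsMaximalIn (Cfsg.Geo.omegaGL Q) (Cfsg.Geo.subspaceStabilizer W ⊓ Cfsg.Geo.omegaGL Q)) ∧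
    (∀ W : Submodule F (Fin 8 → F), Module.finrank F W = 2 → Cfsg.Geo.IsNondegenerateOn (QuadraticMap.polar Q) W → ¬ Cfsg.Geo.IsPlusTypeOn Q W → Cfsg.Geo.IsMaximalIn (Cfsg.Geo.omegaGL Q) (Cfsg.Geo.subspaceStabilizer W ⊓ Cfsg.Geo.omegaGL Q)) ∧
    (4 ≤ Fintype.card F → ∀ W : Submodule F (Fin 8 → F), Module.finrank F W = 2 → Cfsg.Geo.IsNondegenerateOn (QuadraticMap.polar Q) W → Cfsg.Geo.IsPlusTypeOn Q W → Cfsg.Geo.IsMaximalIn (Cfsg.Geo.omegaGL Q) (Cfsg.Geo.subspaceStabilizer W ⊓ Cfsg.Geo.omegaGL Q)) ∧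
    (∀ W : Submodule F (Fin 8 → F), Module.finrank F W = 4 → Cfsg.Geo.IsNondegenerateOn (QuadraticMap.polar Q) W → Cfsg.Geo.IsMaximalIn (Cfsg.Geo.omegaGL Q) (Cfsg.Geo.subspaceStabilizer W ⊓ Cfsg.Geo.omegaGL Q)) ∧
    (¬ Odd (Fintype.card F) → ∀ v : (Fin 8 → F), Q v ≠ 0 → Cfsg.Geo.IsMaximalIn (Cfsg.Geo.omegaGL Q) (Cfsg.Geo.subspaceStabilizer (Submodule.span F {v}) ⊓ Cfsg.Geo.omegaGL Q)) ∧
    (Odd (Fintype.card F) → ∀ K : Subalgebra F (Matrix (Fin 8) (Fin 8) F), Cfsg.Geo.IsFieldSubalgebra 2 K → Cfsg.Geo.IsSelfAdjointFor (QuadraticMap.polar Q) K → Cfsg.Geo.IsMaximalIn (Cfsg.Geo.omegaGL Q) (Cfsg.Geo.subalgebraNormalizer K ⊓ Cfsg.Geo.omegaGL Q)) ∧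
    (∀ (F₀ : Subfield F) (r : ℕ) (P : Matrix.GeneralLinearGroup (Fin 8) F) (ζ : F), r.Prime → Odd r → Fintype.card F = Nat.card F₀ ^ r → ζ ≠ 0 → Cfsg.Geo.IsQuadFormRationalStructure (fun v : Fin 8 → F => ζ * Q v) F₀ P → Cfsg.Geo.IsMaximalIn (Cfsg.Geo.omegaGL Q) (Cfsg.Geo.subfieldSubgroup F₀ P ⊓ Cfsg.Geo.omegaGL Q)) := by
  classical
  set q := Cfsg.Agent.H98.qOfFun Q hQ
  have hf : ⇑q = Q := Cfsg.Agent.H98.coe_qOfFun hQ
  have hn := Cfsg.Agent.H98.qOfFun_nondeg hQ
  have hr : Module.finrank F (Fin 8 → F) = 8 := by simp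
  have hno : ¬ ∃ U : Submodule F (Fin 8 → F), (∀ u ∈ U, q u = 0) ∧ Module.finrank F U = 4 := by
    rintro ⟨U, hU, hU4⟩
    exact hminus ⟨U, le_top, fun u hu => (congrFun hf u).symm.trans (hU u hu), by rw [hU4, finrank_top, hr]⟩
  have h2odd : Odd (Fintype.card F) → (2 : F) ≠ 0 := fun hodd h => by
    have h1 : ringChar F = 2 := CharP.ringChar_of_prime_eq_zero Nat.prime_two h
    have := FiniteField.even_card_iff_char_two.1 h1
    rw [Nat.odd_iff] at hodd
    omega
  have hnd : ∀ W : Submodule F (Fin 8 → F), Cfsg.Geo.IsNondegenerateOn (QuadraticMap.polar Q) W →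
      W ⊓ Cfsg.Agent.H5.perp q W = ⊥ := fun W hW => Cfsg.Agent.H5.inf_perp_of_isNondegenerateOn q hf hW
  have hbig : ∀ W : Submodule F (Fin 8 → F), Cfsg.Geo.IsNondegenerateOn (QuadraticMap.polar Q) W → W ≠ ⊥ → W ≠ ⊤ →
      Module.finrank F W ≠ 4 →
      (∀ P, (P = W ∨ P = Cfsg.Agent.H5.perp q W) →
        ¬ (Nat.card F ≤ 3 ∧ Module.finrank F P = 2 ∧ ∃ x ∈ P, x ≠ 0 ∧ q x = 0)) →
      Cfsg.Geo.IsMaximalIn (Cfsg.Geo.omegaGL Q) (Cfsg.Geo.subspaceStabilizer W ⊓ Cfsg.Geo.omegaGL Q) := by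
    intro W hW h0 h1 h4 hex
    refine Cfsg.Agent.H5.isMaximalIn_stab_nondeg_five q hf hn W ?_ h0 h1 (hnd W hW) (fun h => ?_) hex
    · rw [Fintype.card_fin]; omega
    · rw [Fintype.card_fin] at h; omega
  refine ⟨fun W h0 hW => ?_, fun _ W h0 h1 ho hW => ?_, fun W h2 hW hp => ?_, fun hq W h2 hW _ => ?_,
    fun W h4 hW => ?_, fun hc v hv => ?_, fun hodd K hK hsa => ?_, fun F₀ r P ζ hr' _ hcard hζ hP => ?_⟩
  · refine Cfsg.Agent.H5.isMaximalIn_stab_singular q hf hn (by simp) W h0 hW fun U _ hU _ h4 => ?_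
    refine hno ⟨U, fun u hu => (congrFun hf u).trans (hU u hu), ?_⟩
    rw [Fintype.card_fin] at h4
    omega
  · refine hbig W hW h0 h1 (fun h => by rw [h] at ho; exact absurd ho (by decide)) ?_
    rintro P hP ⟨-, hP2, -⟩
    have hsum : Module.finrank F (Cfsg.Agent.H5.perp q W) + Module.finrank F W = Module.finrank F (Fin 8 → F) :=
      Cfsg.Agent.H5.finrank_perp_add hn W
    rw [hr] at hsum
    obtain ⟨k, hk⟩ := ho
    rcases hP with rfl | rfl <;> omega
  · refine hbig W hW (fun h => by rw [h, finrank_bot] at h2; omega)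
      (fun h => by rw [h, finrank_top, hr] at h2; omega) (by omega) ?_
    rintro P hP' ⟨-, hP2, x, hx, hx0, hqx⟩
    rcases hP' with rfl | rfl
    · exact hp (hf ▸ Cfsg.Agent.H5.isPlusTypeOn_plane q hP2 hx hx0 hqx)
    · have hsum : Module.finrank F (Cfsg.Agent.H5.perp q W) + Module.finrank F W = Module.finrank F (Fin 8 → F) :=
      Cfsg.Agent.H5.finrank_perp_add hn W
      rw [hr] at hsum
      omega
  · refine hbig W hW (fun h => by rw [h, finrank_bot] at h2; omega)
      (fun h => by rw [h, finrank_top, hr] at h2; omega) (by omega) ?_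
    rintro P - ⟨hq3, -⟩
    rw [Nat.card_eq_fintype_card] at hq3
    omega
  · exact Cfsg.Agent.H76.O8.isMaximalIn_stab_four q hf hn (by simp) hno W h4 (hnd W hW)
  · refine Cfsg.Agent.H76.O8.isMaximalIn_stab_point q hf hn ?_ (by simp) (by rw [congrFun hf v]; exact hv)
    by_contra h2
    apply hc
    rw [Nat.odd_iff]
    refine FiniteField.odd_card_of_char_ne_two fun hc' => h2 ?_
    haveI : CharP F 2 := (ringChar.eq_iff).1 hc'
    exact CharTwo.two_eq_zero
  · exact Cfsg.Agent.H76.O8.field_maximal_orth_small q hf hn (h2odd hodd) Nat.prime_two hK rfl (by simp) hsa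
  · exact Cfsg.Agent.H76.O8.subfield_maximal q hf hn (by simp) F₀ hr'
      (by rw [Nat.card_eq_fintype_card]; exact hcard) P hζ hP

end Cfsg.Agent.S5825
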