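import Cfsg.Statements.S5870
import Cfsg.Agent.H5.OmegaGL
import Cfsg.Agent.H5.StabNondegGL
import Cfsg.Agent.H5.StabVector
import Cfsg.Agent.H5.FrameGL
import Cfsg.Agent.H5.DecTwoGL
import Cfsg.Agent.H5.DecGL
import Cfsg.Agent.H98.QuadFun
import Cfsg.Agent.H98.OrthSubMain
import Cfsg.Agent.H58.ExtField.OrthField
import Cfsg.Agent.H58.GeoOrth
import Cfsg.Agent.H58.TensorTwo.Max

set_option autoImplicit false
open Cfsg

namespace Cfsg.Agent.S5870

/-- Maximal subgroups of Ω_12^+(q) of geometric type (any q). Let F be a finite field with q elements (characteristic p), Q a non-degenerate quadratic form on F^12 (non-degenerate polar form) of plus type (Witt index 6: some totally singular 6-space), and Ω = Ω_12^+(q) the commutator subgroup of the isometry group of Q, inside GL_12(F). Each of the following, intersected with Ω, is a maximal subgroup of Ω: (1) the stabiliser of any non-zero subspace on which Q vanishes identically other than those of dimension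 5 (totally singular subspaces, dimensions 1, 2, 3, 4 and 6); (2) for q odd, the stabiliser of any subspace of odd dimension on which the polar form of Q is non-degenerate; (3) the stabiliser of any non-degenerate 2-space of minus type (containing no non-zero singular vector); (4) for q ≥ 4, the stabiliser of any non-degenerate 2-space of plus type (containing a non-zero singular vector); (5) the stabiliser of any non-degenerate 4-space (either type); (6) for q even, the stabiliser of the 1-space spanned by any non-singular vector v (Q(v) ≠ 0); (7) for q = p an odd prime, the stabiliser of any decomposition of F^12 into 12 pairwise orthogonal, pairwise Q-isometric non-degenerate 1-spaces; (8) for q ≥ 7, the stabiliser of any decomposition of F^12 into 6 pairwise orthogonal, pairwise Q-isometric non-degenerate 2-spaces of plus type; (9) for q ≠ 3, the stabiliser of any decomposition of F^12 into 6 pairwise orthogonal, pairwise Q-isometric non-degenerate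 2-spaces of minus type; (10) for q odd with q ≥ 5, the stabiliser of any decomposition of F^12 into 4 pairwise orthogonal, pairwise Q-isometric non-degenerate 3-spaces; (11) for q ≥ 3, the stabiliser of any decomposition of F^12 into 3 pairwise orthogonal, pairwise Q-isometric non-degenerate 4-spaces; (12) the stabiliser of any decomposition of F^12 into 2 pairwise orthogonal, pairwise Q-isometric non-degenerate 6-spaces; (13) the stabiliser of any decomposition into two totally singular 6-spaces; (14) for q odd, the normaliser of any degree-2 subfield K of the matrix algebra whose elements are self-adjoint for the polar form of Q (Q is then the trace of a quadratic form over K); (15) for q odd, the normaliser of any degree-3 subfield K of the matrix algebra whose elements are self-adjoint for the polar form of Q (Q is then the trace of a quadratic form over K); (16) the normaliser of any degree-2 subfield K of the matrix algebra, closed under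 adjoints for the polar form but not self-adjoint, whose elements act as similarities of Q (so F^12 becomes a 6-dimensional space over K with a hermitian form, and the subgroup is of the type of the unitary group GU_6(q)); (17) for q ≥ 3, the stabiliser of any tensor decomposition F^12 = F^2 ⊗ F^6 in which the polar form of Q is (alternating form) ⊗ (alternating form) up to a scalar and Q vanishes on all pure tensors; (18) every subfield group for a subfield F₀ with |F| = |F₀|^r, r prime, whose F₀-structure carries a non-zero scalar multiple of Q. -/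
theorem result {F : Type*} [Field F] [Fintype F] (Q : (Fin 12 → F) → F) (hQ : Cfsg.Geo.IsNondegenerateQuadraticForm Q) (hplus : Cfsg.Geo.IsPlusTypeOn Q ⊤) :
    (∀ W : Submodule F (Fin 12 → F), W ≠ ⊥ → Cfsg.Geo.IsTotallySingularQuad Q W → Module.finrank F W ≠ 5 → Cfsg.Geo.IsMaximalIn (Cfsg.Geo.omegaGL Q) (Cfsg.Geo.subspaceStabilizer W ⊓ Cfsg.Geo.omegaGL Q)) ∧
    (Odd (Fintype.card F) → ∀ W : Submodule F (Fin 12 → F), W ≠ ⊥ → W ≠ ⊤ → Odd (Module.finrank F W) → 2 * Module.finrank F W ≠ 12 → Cfsg.Geo.IsNondegenerateOn (QuadraticMap.polar Q) W → Cfsg.Geo.IsMaximalIn (Cfsg.Geo.omegaGL Q) (Cfsg.Geo.subspaceStabilizer W ⊓ Cfsg.Geo.omegaGL Q)) ∧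
    (∀ W : Submodule F (Fin 12 → F), Module.finrank F W = 2 → Cfsg.Geo.IsNondegenerateOn (QuadraticMap.polar Q) W → ¬ Cfsg.Geo.IsPlusTypeOn Q W → Cfsg.Geo.IsMaximalIn (Cfsg.Geo.omegaGL Q) (Cfsg.Geo.subspaceStabilizer W ⊓ Cfsg.Geo.omegaGL Q)) ∧
    (4 ≤ Fintype.card F → ∀ W : Submodule F (Fin 12 → F), Module.finrank F W = 2 → Cfsg.Geo.IsNondegenerateOn (QuadraticMap.polar Q) W → Cfsg.Geo.IsPlusTypeOn Q W → Cfsg.Geo.IsMaximalIn (Cfsg.Geo.omegaGL Q) (Cfsg.Geo.subspaceStabilizer W ⊓ Cfsg.Geo.omegaGL Q)) ∧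
    (∀ W : Submodule F (Fin 12 → F), Module.finrank F W = 4 → Cfsg.Geo.IsNondegenerateOn (QuadraticMap.polar Q) W → Cfsg.Geo.IsMaximalIn (Cfsg.Geo.omegaGL Q) (Cfsg.Geo.subspaceStabilizer W ⊓ Cfsg.Geo.omegaGL Q)) ∧
    (¬ Odd (Fintype.card F) → ∀ v : (Fin 12 → F), Q v ≠ 0 → Cfsg.Geo.IsMaximalIn (Cfsg.Geo.omegaGL Q) (Cfsg.Geo.subspaceStabilizer (Submodule.span F {v}) ⊓ Cfsg.Geo.omegaGL Q)) ∧
    ((∃ p : ℕ, p.Prime ∧ Odd p ∧ Fintype.card F = p) → ∀ D : Fin 12 → Submodule F (Fin 12 → F), Cfsg.Geo.IsOrthogonalMDecomposition Q 1 D → Cfsg.Geo.IsMaximalIn (Cfsg.Geo.omegaGL Q) (Cfsg.Geo.decompositionStabilizer D ⊓ Cfsg.Geo.omegaGL Q)) ∧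
    (7 ≤ Fintype.card F → ∀ D : Fin 6 → Submodule F (Fin 12 → F), Cfsg.Geo.IsOrthogonalMDecomposition Q 2 D → (∀ i, Cfsg.Geo.IsPlusTypeOn Q (D i)) → Cfsg.Geo.IsMaximalIn (Cfsg.Geo.omegaGL Q) (Cfsg.Geo.decompositionStabilizer D ⊓ Cfsg.Geo.omegaGL Q)) ∧
    (Fintype.card F ≠ 3 → ∀ D : Fin 6 → Submodule F (Fin 12 → F), Cfsg.Geo.IsOrthogonalMDecomposition Q 2 D → (∀ i, ¬ Cfsg.Geo.IsPlusTypeOn Q (D i)) → Cfsg.Geo.IsMaximalIn (Cfsg.Geo.omegaGL Q) (Cfsg.Geo.decompositionStabilizer D ⊓ Cfsg.Geo.omegaGL Q)) ∧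
    (Odd (Fintype.card F) ∧ 5 ≤ Fintype.card F → ∀ D : Fin 4 → Submodule F (Fin 12 → F), Cfsg.Geo.IsOrthogonalMDecomposition Q 3 D → Cfsg.Geo.IsMaximalIn (Cfsg.Geo.omegaGL Q) (Cfsg.Geo.decompositionStabilizer D ⊓ Cfsg.Geo.omegaGL Q)) ∧
    (3 ≤ Fintype.card F → ∀ D : Fin 3 → Submodule F (Fin 12 → F), Cfsg.Geo.IsOrthogonalMDecomposition Q 4 D → Cfsg.Geo.IsMaximalIn (Cfsg.Geo.omegaGL Q) (Cfsg.Geo.decompositionStabilizer D ⊓ Cfsg.Geo.omegaGL Q)) ∧
    (∀ D : Fin 2 → Submodule F (Fin 12 → F), Cfsg.Geo.IsOrthogonalMDecomposition Q 6 D → Cfsg.Geo.IsMaximalIn (Cfsg.Geo.omegaGL Q) (Cfsg.Geo.decompositionStabilizer D ⊓ Cfsg.Geo.omegaGL Q)) ∧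
    (∀ D : Fin 2 → Submodule F (Fin 12 → F), Cfsg.Geo.IsMDecomposition 6 D → (∀ i, Cfsg.Geo.IsTotallySingularQuad Q (D i)) → Cfsg.Geo.IsMaximalIn (Cfsg.Geo.omegaGL Q) (Cfsg.Geo.decompositionStabilizer D ⊓ Cfsg.Geo.omegaGL Q)) ∧
    (Odd (Fintype.card F) → ∀ K : Subalgebra F (Matrix (Fin 12) (Fin 12) F), Cfsg.Geo.IsFieldSubalgebra 2 K → Cfsg.Geo.IsSelfAdjointFor (QuadraticMap.polar Q) K → Cfsg.Geo.IsMaximalIn (Cfsg.Geo.omegaGL Q) (Cfsg.Geo.subalgebraNormalizer K ⊓ Cfsg.Geo.omegaGL Q)) ∧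
    (Odd (Fintype.card F) → ∀ K : Subalgebra F (Matrix (Fin 12) (Fin 12) F), Cfsg.Geo.IsFieldSubalgebra 3 K → Cfsg.Geo.IsSelfAdjointFor (QuadraticMap.polar Q) K → Cfsg.Geo.IsMaximalIn (Cfsg.Geo.omegaGL Q) (Cfsg.Geo.subalgebraNormalizer K ⊓ Cfsg.Geo.omegaGL Q)) ∧
    (∀ K : Subalgebra F (Matrix (Fin 12) (Fin 12) F), Cfsg.Geo.IsFieldSubalgebra 2 K → Cfsg.Geo.IsAdjointClosedFor (QuadraticMap.polar Q) K → ¬ Cfsg.Geo.IsSelfAdjointFor (QuadraticMap.polar Q) K → (∀ k ∈ K, ∃ c : F, ∀ v : (Fin 12 → F), Q (Matrix.mulVec k v) = c * Q v) → Cfsg.Geo.IsMaximalIn (Cfsg.Geo.omegaGL Q) (Cfsg.Geo.subalgebraNormalizer K ⊓ Cfsg.Geo.omegaGL Q)) ∧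
    (3 ≤ Fintype.card F → ∀ (e : Fin 12 ≃ Fin 2 × Fin 6) (P : Matrix.GeneralLinearGroup (Fin 12) F) (f₁ : (Fin 2 → F) → (Fin 2 → F) → F) (f₂ : (Fin 6 → F) → (Fin 6 → F) → F), Cfsg.Geo.IsSymplecticForm f₁ → Cfsg.Geo.IsSymplecticForm f₂ → Cfsg.Geo.IsTensorFormStructure id (QuadraticMap.polar Q) f₁ f₂ e P → (∀ (x₁ : Fin 2 → F) (x₂ : Fin 6 → F), Q (Matrix.mulVec (P : Matrix (Fin 12) (Fin 12) F) ((fun a : Fin 2 × Fin 6 => x₁ a.1 * x₂ a.2) ∘ e)) = 0) → Cfsg.Geo.IsMaximalIn (Cfsg.Geo.omegaGL Q) (Cfsg.Geo.tensorProductSubgroup 2 6 e P ⊓ Cfsg.Geo.omegaGL Q)) ∧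
    (∀ (F₀ : Subfield F) (r : ℕ) (P : Matrix.GeneralLinearGroup (Fin 12) F) (ζ : F), r.Prime → Fintype.card F = Nat.card F₀ ^ r → ζ ≠ 0 → Cfsg.Geo.IsQuadFormRationalStructure (fun v : Fin 12 → F => ζ * Q v) F₀ P → Cfsg.Geo.IsMaximalIn (Cfsg.Geo.omegaGL Q) (Cfsg.Geo.subfieldSubgroup F₀ P ⊓ Cfsg.Geo.omegaGL Q)) := by
  classical
  have hQ' := H98.qOfFun_nondeg hQ
  have hf := H98.coe_qOfFun hQ
  haveI : Finite (Fin 12 → F) := Pi.finite
  have h12 : Fintype.card (Fin 12) = 12 := Fintype.card_fin 12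
  have hchar2 : Odd (Fintype.card F) → (2 : F) ≠ 0 := fun hodd h2 => by
    haveI := CharTwo.of_one_ne_zero_of_two_eq_zero (R := F) one_ne_zero h2
    have := FiniteField.even_card_of_char_two (F := F) (ringChar.eq F 2)
    rw [Nat.odd_iff] at hodd
    omega
  have hstab : ∀ W : Submodule F (Fin 12 → F), W ≠ ⊥ → W ≠ ⊤ → 2 * Module.finrank F W ≠ 12 →
      Cfsg.Geo.IsNondegenerateOn (QuadraticMap.polar Q) W →
      (Module.finrank F W = 2 → 4 ≤ Fintype.card F ∨ ¬ Cfsg.Geo.IsPlusTypeOn Q W) →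
      Module.finrank F W ≠ 10 →
      Cfsg.Geo.IsMaximalIn (Cfsg.Geo.omegaGL Q) (Cfsg.Geo.subspaceStabilizer W ⊓ Cfsg.Geo.omegaGL Q) := by
    intro W hW0 hW1 hdim hW h2 h10
    have hWU := H5.inf_perp_of_isNondegenerateOn (H98.qOfFun Q hQ) hf hW
    have hsum := H5.finrank_perp_add hQ' W
    rw [Module.finrank_fintype_fun_eq_card, h12] at hsum
    refine H5.isMaximalIn_stab_nondeg_five (H98.qOfFun Q hQ) hf hQ' W (by omega) hW0 hW1 hWU
      (fun h => absurd h (by omega)) ?_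
    rintro P (rfl | rfl) ⟨hq, hP2, x, hx, hx0, hqx⟩
    · rw [Nat.card_eq_fintype_card] at hq
      rcases h2 hP2 with h | h
      · omega
      · exact h (H5.isPlusTypeOn_plane (H98.qOfFun Q hQ) hP2 hx hx0 hqx)
    · omega
  have htop : ∀ W : Submodule F (Fin 12 → F), Module.finrank F W ≠ 12 → W ≠ ⊤ := fun W h e => by
    rw [e, finrank_top, Module.finrank_fin_fun] at h
    exact h rfl
  have hbot : ∀ W : Submodule F (Fin 12 → F), Module.finrank F W ≠ 0 → W ≠ ⊥ := fun W h e => by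
    rw [e, finrank_bot] at h
    exact h rfl
  refine ⟨?_, ?_, ?_, ?_, ?_, ?_, ?_, ?_, ?_, ?_, ?_, ?_, ?_, ?_, ?_, ?_, ?_, ?_⟩
  · intro W hW0 hW hdim
    refine H5.isMaximalIn_stab_singular (H98.qOfFun Q hQ) hf hQ' (by simp) W hW0 hW fun U _ _ hU hn' => ?_
    rw [h12, hU] at hn'
    omega
  · intro _ W hW0 hW1 hodd hdim hW
    rw [Nat.odd_iff] at hodd
    exact hstab W hW0 hW1 hdim hW (fun h => by omega) (by omega)
  · intro W h hW hp
    exact hstab W (hbot W (by omega)) (htop W (by omega)) (by omega) hW (fun _ => Or.inr hp) (by omega)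
  · intro hq W h hW _
    exact hstab W (hbot W (by omega)) (htop W (by omega)) (by omega) hW (fun _ => Or.inl hq) (by omega)
  · intro W h hW
    exact hstab W (hbot W (by omega)) (htop W (by omega)) (by omega) hW (fun h' => by omega) (by omega)
  · intro hchar v hv
    have h2 : (2 : F) = 0 := by
      by_contra h2
      apply hchar
      rw [Nat.odd_iff]
      refine FiniteField.odd_card_of_char_ne_two fun hc => h2 ?_
      haveI : CharP F 2 := (ringChar.eq_iff).1 hc
      exact CharTwo.two_eq_zero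
    have hr : Module.finrank F (Fin 12 → F) = 12 := by simp
    refine H5.isMaximalIn_omegaGL (H98.qOfFun Q hQ) hf _ ?_ ?_
    · obtain ⟨g, hg, hgv⟩ := H5.exists_not_preserves_point (Q := H98.qOfFun Q hQ)
        hQ' (by omega) (v := v) hv
      exact ⟨g, hg, fun h => hgv ((H5.toGLHom_mem_stab_iff _ _ _ g).1 h)⟩
    · intro M hM g hgM _ hgS
      exact H5.commutator_le_of_point hQ' h2 (by omega) (v := v) hv
        (fun k hk hkW => hM k hk ((H5.toGLHom_mem_stab_iff _ _ _ k).2 hkW)) hgM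
        (fun h => hgS ((H5.toGLHom_mem_stab_iff _ _ _ g).2 h))
  · rintro ⟨p, hp, hodd, hc⟩ D hD
    exact H5.isMaximalIn_frame hf hQ' (by simp) hD (hc ▸ hodd) (hc ▸ hp)
  · intro hq D hD _
    exact H5.isMaximalIn_dec_two_five hf hQ' (by simp) hD (Or.inr hq)
  · intro hq D hD hp
    exact H5.isMaximalIn_dec_two_five hf hQ' (by simp) hD (Or.inl ⟨hp, hq⟩)
  · intro hq D hD
    exact H5.isMaximalIn_dec_five hf hQ' (by simp) hD le_rfl (fun _ => hq.2) (fun _ h => absurd h (by omega))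
  · intro hq D hD
    exact H5.isMaximalIn_dec_five hf hQ' (by simp) hD (by omega) (fun h => absurd h (by omega))
      (fun h => absurd h (by omega))
  · intro D hD
    exact H5.isMaximalIn_dec_five hf hQ' (by simp) hD (by omega) (fun h => absurd h (by omega))
      (fun _ h => absurd h (by omega))
  · intro D hD hts
    exact H58.GeoOrth.isMaximalIn_singular_pair Q hQ (by norm_num) rfl ⟨3, rfl⟩ D hD hts
  · intro hodd K hK hsa
    exact H58.ExtField.Orth.field_maximal_orth' (H98.qOfFun Q hQ) hf hQ' (hchar2 hodd) Nat.prime_two hK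
      (by simp) (Or.inr (by simp)) hsa
  · intro hodd K hK hsa
    exact H58.ExtField.Orth.field_maximal_orth' (H98.qOfFun Q hQ) hf hQ' (hchar2 hodd) Nat.prime_three hK
      (by simp) (Or.inr (by simp)) hsa
  · intro K hK _ _ hsc
    exact H58.GeoOrth.isMaximalIn_unitary (by norm_num) Q hQ K hK hsc
  · intro hq e P f₁ f₂ _ _ hT hpure
    exact H58.TensorTwo.isMaximalIn_tensor_two e P (H98.qOfFun Q hQ) hf hQ'
      (by rwa [Nat.card_eq_fintype_card]) (by norm_num) f₁ f₂ hT hpure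
  · intro F₀ r P ζ hr hc hζ hP
    exact H98.OSub.subfield_maximal (H98.qOfFun Q hQ) hf hQ' (by simp) F₀ hr
      (by rwa [Nat.card_eq_fintype_card]) P hζ hP

end Cfsg.Agent.S5870
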