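import Cfsg.Statements.S5871
import Cfsg.Agent.H6.OEven.Twelve

set_option autoImplicit false
open Cfsg Cfsg.Geo Cfsg.Agent.H6.OEven

namespace Cfsg.Agent.S5871

/-- Every maximal subgroup of Ω_12^+(q) is of one of the listed geometric types or lies in the residual class. Let F be a finite field with q elements (characteristic p), Q a non-degenerate quadratic form on F^12 of plus type (Witt index 6: some totally singular 6-space), Ω the commutator subgroup of its isometry group, and H a maximal subgroup of Ω (inside GL_12(F)). Then H is the intersection with Ω of one of: the stabiliser of a non-zero totally singular subspace of dimension ≠ 5; for q odd, the stabiliser of a non-degenerate subspace of odd dimension; the stabiliser of a non-degenerate 2-space of minus type; for q ≥ 4, the stabiliser of a non-degenerate 2-space of plus type; the stabiliser of a non-degenerate 4-space; for q even, the stabiliser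 of the span of a non-singular vector; for q = p an odd prime, the stabiliser of a decomposition into 12 pairwise orthogonal, pairwise isometric non-degenerate 1-spaces; for q ≥ 7, the stabiliser of a decomposition into 6 pairwise orthogonal, pairwise isometric non-degenerate 2-spaces of plus type; for q ≠ 3, the stabiliser of a decomposition into 6 pairwise orthogonal, pairwise isometric non-degenerate 2-spaces of minus type; for q odd with q ≥ 5, the stabiliser of a decomposition into 4 pairwise orthogonal, pairwise isometric non-degenerate 3-spaces; for q ≥ 3, the stabiliser of a decomposition into 3 pairwise orthogonal, pairwise isometric non-degenerate 4-spaces; the stabiliser of a decomposition into 2 pairwise orthogonal, pairwise isometric non-degenerate 6-spaces; of a decomposition into two totally singular 6-spaces; the normaliser of a degree-2 subfield of the matrix algebra; the normaliser of a degree-3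 subfield of the matrix algebra; the normaliser of a degree-2 subfield K, adjoint-closed but not self-adjoint, acting by similarities of Q; for q ≥ 3, the stabiliser of a tensor decomposition of Q into alternating forms on F^2 and F^6 (Q vanishing on pure tensors); a subfield group (|F| = |F₀|^r, r prime) whose F₀-structure carries a non-zero multiple of Q — or else H lies in the residual class of the orthogonal case (modulo scalars H is almost simple, with absolutely irreducible perfect socle preimage realisable over no proper subfield and fixing no non-degenerate unitary form). -/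
theorem result {F : Type*} [Field F] [Fintype F] (Q : (Fin 12 → F) → F) (hQ : Cfsg.Geo.IsNondegenerateQuadraticForm Q) (hplus : Cfsg.Geo.IsPlusTypeOn Q ⊤) (H : Subgroup (Matrix.GeneralLinearGroup (Fin 12) F)) (hH : Cfsg.Geo.IsMaximalIn (Cfsg.Geo.omegaGL Q) H) :
    (∃ W : Submodule F (Fin 12 → F), W ≠ ⊥ ∧ Cfsg.Geo.IsTotallySingularQuad Q W ∧ Module.finrank F W ≠ 5 ∧ H = Cfsg.Geo.subspaceStabilizer W ⊓ Cfsg.Geo.omegaGL Q) ∨
    (Odd (Fintype.card F) ∧ ∃ W : Submodule F (Fin 12 → F), W ≠ ⊥ ∧ W ≠ ⊤ ∧ Odd (Module.finrank F W) ∧ 2 * Module.finrank F W ≠ 12 ∧ Cfsg.Geo.IsNondegenerateOn (QuadraticMap.polar Q) W ∧ H = Cfsg.Geo.subspaceStabilizer W ⊓ Cfsg.Geo.omegaGL Q) ∨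
    (∃ W : Submodule F (Fin 12 → F), Module.finrank F W = 2 ∧ Cfsg.Geo.IsNondegenerateOn (QuadraticMap.polar Q) W ∧ ¬ Cfsg.Geo.IsPlusTypeOn Q W ∧ H = Cfsg.Geo.subspaceStabilizer W ⊓ Cfsg.Geo.omegaGL Q) ∨
    (4 ≤ Fintype.card F ∧ ∃ W : Submodule F (Fin 12 → F), Module.finrank F W = 2 ∧ Cfsg.Geo.IsNondegenerateOn (QuadraticMap.polar Q) W ∧ Cfsg.Geo.IsPlusTypeOn Q W ∧ H = Cfsg.Geo.subspaceStabilizer W ⊓ Cfsg.Geo.omegaGL Q) ∨
    (∃ W : Submodule F (Fin 12 → F), Module.finrank F W = 4 ∧ Cfsg.Geo.IsNondegenerateOn (QuadraticMap.polar Q) W ∧ H = Cfsg.Geo.subspaceStabilizer W ⊓ Cfsg.Geo.omegaGL Q) ∨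
    (¬ Odd (Fintype.card F) ∧ ∃ v : (Fin 12 → F), Q v ≠ 0 ∧ H = Cfsg.Geo.subspaceStabilizer (Submodule.span F {v}) ⊓ Cfsg.Geo.omegaGL Q) ∨
    ((∃ p : ℕ, p.Prime ∧ Odd p ∧ Fintype.card F = p) ∧ ∃ D : Fin 12 → Submodule F (Fin 12 → F), Cfsg.Geo.IsOrthogonalMDecomposition Q 1 D ∧ H = Cfsg.Geo.decompositionStabilizer D ⊓ Cfsg.Geo.omegaGL Q) ∨
    (7 ≤ Fintype.card F ∧ ∃ D : Fin 6 → Submodule F (Fin 12 → F), Cfsg.Geo.IsOrthogonalMDecomposition Q 2 D ∧ (∀ i, Cfsg.Geo.IsPlusTypeOn Q (D i)) ∧ H = Cfsg.Geo.decompositionStabilizer D ⊓ Cfsg.Geo.omegaGL Q) ∨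
    (Fintype.card F ≠ 3 ∧ ∃ D : Fin 6 → Submodule F (Fin 12 → F), Cfsg.Geo.IsOrthogonalMDecomposition Q 2 D ∧ (∀ i, ¬ Cfsg.Geo.IsPlusTypeOn Q (D i)) ∧ H = Cfsg.Geo.decompositionStabilizer D ⊓ Cfsg.Geo.omegaGL Q) ∨
    (Odd (Fintype.card F) ∧ 5 ≤ Fintype.card F ∧ ∃ D : Fin 4 → Submodule F (Fin 12 → F), Cfsg.Geo.IsOrthogonalMDecomposition Q 3 D ∧ H = Cfsg.Geo.decompositionStabilizer D ⊓ Cfsg.Geo.omegaGL Q) ∨
    (3 ≤ Fintype.card F ∧ ∃ D : Fin 3 → Submodule F (Fin 12 → F), Cfsg.Geo.IsOrthogonalMDecomposition Q 4 D ∧ H = Cfsg.Geo.decompositionStabilizer D ⊓ Cfsg.Geo.omegaGL Q) ∨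
    (∃ D : Fin 2 → Submodule F (Fin 12 → F), Cfsg.Geo.IsOrthogonalMDecomposition Q 6 D ∧ H = Cfsg.Geo.decompositionStabilizer D ⊓ Cfsg.Geo.omegaGL Q) ∨
    (∃ D : Fin 2 → Submodule F (Fin 12 → F), Cfsg.Geo.IsMDecomposition 6 D ∧ (∀ i, Cfsg.Geo.IsTotallySingularQuad Q (D i)) ∧ H = Cfsg.Geo.decompositionStabilizer D ⊓ Cfsg.Geo.omegaGL Q) ∨
    (∃ K : Subalgebra F (Matrix (Fin 12) (Fin 12) F), Cfsg.Geo.IsFieldSubalgebra 2 K ∧ H = Cfsg.Geo.subalgebraNormalizer K ⊓ Cfsg.Geo.omegaGL Q) ∨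
    (∃ K : Subalgebra F (Matrix (Fin 12) (Fin 12) F), Cfsg.Geo.IsFieldSubalgebra 3 K ∧ H = Cfsg.Geo.subalgebraNormalizer K ⊓ Cfsg.Geo.omegaGL Q) ∨
    (∃ K : Subalgebra F (Matrix (Fin 12) (Fin 12) F), Cfsg.Geo.IsFieldSubalgebra 2 K ∧ Cfsg.Geo.IsAdjointClosedFor (QuadraticMap.polar Q) K ∧ ¬ Cfsg.Geo.IsSelfAdjointFor (QuadraticMap.polar Q) K ∧ (∀ k ∈ K, ∃ c : F, ∀ v : (Fin 12 → F), Q (Matrix.mulVec k v) = c * Q v) ∧ H = Cfsg.Geo.subalgebraNormalizer K ⊓ Cfsg.Geo.omegaGL Q) ∨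
    (3 ≤ Fintype.card F ∧ ∃ (e : Fin 12 ≃ Fin 2 × Fin 6) (P : Matrix.GeneralLinearGroup (Fin 12) F) (f₁ : (Fin 2 → F) → (Fin 2 → F) → F) (f₂ : (Fin 6 → F) → (Fin 6 → F) → F), Cfsg.Geo.IsSymplecticForm f₁ ∧ Cfsg.Geo.IsSymplecticForm f₂ ∧ Cfsg.Geo.IsTensorFormStructure id (QuadraticMap.polar Q) f₁ f₂ e P ∧ (∀ (x₁ : Fin 2 → F) (x₂ : Fin 6 → F), Q (Matrix.mulVec (P : Matrix (Fin 12) (Fin 12) F) ((fun a : Fin 2 × Fin 6 => x₁ a.1 * x₂ a.2) ∘ e)) = 0) ∧ H = Cfsg.Geo.tensorProductSubgroup 2 6 e P ⊓ Cfsg.Geo.omegaGL Q) ∨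
    (∃ (F₀ : Subfield F) (r : ℕ) (P : Matrix.GeneralLinearGroup (Fin 12) F) (ζ : F), r.Prime ∧ Fintype.card F = Nat.card F₀ ^ r ∧ ζ ≠ 0 ∧ Cfsg.Geo.IsQuadFormRationalStructure (fun v : Fin 12 → F => ζ * Q v) F₀ P ∧ H = Cfsg.Geo.subfieldSubgroup F₀ P ⊓ Cfsg.Geo.omegaGL Q) ∨
    Cfsg.Geo.InOrthogonalResidualClass H := by
  classical
  rcases twelve_split hQ hH with h | ⟨t, k, D, hD, htk, heq⟩ | ⟨hirr, h⟩
  rotate_left 2
  · rcases h with h | ⟨N, -, -, h⟩ | h | h | h | h | h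
    · exact Or.inr (Or.inr (Or.inr (Or.inr (Or.inr (Or.inr (Or.inr (Or.inr (Or.inr (Or.inr (Or.inr (Or.inr (Or.inl (halves_twelve hQ hH hirr h)))))))))))))
    · rcases field_twelve hQ hH h with h | h
      · exact Or.inr (Or.inr (Or.inr (Or.inr (Or.inr (Or.inr (Or.inr (Or.inr (Or.inr (Or.inr (Or.inr (Or.inr (Or.inr (Or.inl (h))))))))))))))
      · exact Or.inr (Or.inr (Or.inr (Or.inr (Or.inr (Or.inr (Or.inr (Or.inr (Or.inr (Or.inr (Or.inr (Or.inr (Or.inr (Or.inr (Or.inl (h)))))))))))))))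
    · obtain ⟨s, t, e, P, G₁, G₂, hs, hst, hn, hgram, hle, hcase⟩ := tensor_cases hQ (by norm_num) hH.1.le hirr h
      have hs4 : s < 4 := by
        by_contra hc
        have := Nat.mul_le_mul (not_lt.1 hc) ((not_lt.1 hc).trans hst)
        omega
      obtain ⟨rfl, rfl⟩ | ⟨rfl, rfl⟩ : (s = 2 ∧ t = 6) ∨ (s = 3 ∧ t = 4) := by interval_cases s <;> omega
      · rcases hcase with ⟨-, -, h₁, h₂⟩ | ⟨hq, hG₁, -⟩
        · exact Or.inr (Or.inr (Or.inr (Or.inr (Or.inr (Or.inr (Or.inr (Or.inr (Or.inr (Or.inr (Or.inr (Or.inr (Or.inr (Or.inr (Or.inr (Or.inr (Or.inl (alt_tensor hQ hH hirr e P G₁ G₂ hgram h₁ h₂ hle)))))))))))))))))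
        let e' : Fin 12 ≃ Fin 6 × Fin 2 := e.trans (Equiv.prodComm _ _)
        have hswap : ∀ (A : Matrix (Fin 2) (Fin 2) F) (B : Matrix (Fin 6) (Fin 6) F),
            H99.Asch.tens e' B A = H99.Asch.tens e A B := fun A B => Matrix.ext fun x y => by
          rw [H99.Asch.tens_apply, H99.Asch.tens_apply, mul_comm]
          rfl
        have hle' : H ≤ tensorProductSubgroup 6 2 e' P := fun x hx => by
          obtain ⟨a, b, hab⟩ := H99.Asch.mem_tensorProductSubgroup_iff.1 (hle hx)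
          exact H99.Asch.mem_tensorProductSubgroup_iff.2 ⟨b, a, by rw [hswap]; exact hab⟩
        rcases tensor_quadratic hQ (by norm_num) hH.1.le hq (by norm_num) e' P G₂ G₁ (by rw [hswap]; exact hgram)
          hG₁ hle' with h | ⟨K, hK, -, hKn, -⟩
        · exact Or.inr (Or.inr (Or.inr (Or.inr (Or.inr (Or.inr (Or.inr (Or.inr (Or.inr (Or.inr (Or.inr (Or.inr (Or.inl (halves_twelve hQ hH hirr h)))))))))))))
        · exact Or.inr (Or.inr (Or.inr (Or.inr (Or.inr (Or.inr (Or.inr (Or.inr (Or.inr (Or.inr (Or.inr (Or.inr (Or.inr (Or.inl (⟨K, hK, field_eq hQ (by norm_num) hH Nat.prime_two (by norm_num) hK hKn⟩))))))))))))))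
      rcases hcase with ⟨h3, -, -, -⟩ | ⟨hq, hG₁, hG₂⟩
      · exact absurd h3 (by decide)
      have h2 := H99.Asch.two_ne_zero_of_card_odd hq
      have hd2 : (G₂ : Matrix (Fin 4) (Fin 4) F).det ≠ 0 := Matrix.GeneralLinearGroup.det_ne_zero G₂
      have hd1 : (G₁ : Matrix (Fin 3) (Fin 3) F).det ≠ 0 := Matrix.GeneralLinearGroup.det_ne_zero G₁
      have hsq : IsSquare (G₂ : Matrix (Fin 4) (Fin 4) F).det := by
        have h1 := (plus_iff_det_gramAt hQ h2 (m := 6) rfl P).1 hplus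
        rw [hgram, det_tens] at h1
        refine (isSquare_mul_sq_iff (mul_ne_zero (pow_ne_zero 2 hd1) hd2)).1 ?_
        convert h1 using 1
        ring
      obtain ⟨e', P', J, G, hgram', h₁, h₂, hle'⟩ :=
        regroup_three_four hQ h2 hH.1.le e P G₁ G₂ hgram hG₁ hG₂ hsq hle
      exact Or.inr (Or.inr (Or.inr (Or.inr (Or.inr (Or.inr (Or.inr (Or.inr (Or.inr (Or.inr (Or.inr (Or.inr (Or.inr (Or.inr (Or.inr (Or.inr (Or.inl (alt_tensor hQ hH hirr e' P' J G hgram' h₁ h₂ hle')))))))))))))))))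
    · obtain ⟨F₀, r, P, ζ, hr, hc, hζ, hP, hle⟩ := subfield_cases hQ (by norm_num) hH.1.le hirr h
      exact Or.inr (Or.inr (Or.inr (Or.inr (Or.inr (Or.inr (Or.inr (Or.inr (Or.inr (Or.inr (Or.inr (Or.inr (Or.inr (Or.inr (Or.inr (Or.inr (Or.inr (Or.inl (⟨F₀, r, P, ζ, hr, hc, hζ, hP,
        eq_inf_of_maximal hH hle (not_le_subfield hQ (by simp) hr.two_le hc P)⟩))))))))))))))))))
    · exact absurd (typeTwo_cases hQ (Or.inr (Or.inr rfl)) h).1 (by norm_num)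
    · exact absurd (tensorPower_cases hQ (Or.inr (Or.inr rfl)) hH.1.le hirr h).1 (by norm_num)
    · exact Or.inr (Or.inr (Or.inr (Or.inr (Or.inr (Or.inr (Or.inr (Or.inr (Or.inr (Or.inr (Or.inr (Or.inr (Or.inr (Or.inr (Or.inr (Or.inr (Or.inr (Or.inr (residual_class hQ (by norm_num) h))))))))))))))))))
  · rcases h with ⟨W, hW, hs, heq⟩ | ⟨hq, W, hW, hWt, ho, hd, hnd, heq⟩ | ⟨W, hd, hnd, hplane, heq⟩ |
      ⟨W, hd, hnd, heq⟩ | ⟨W, hd, hnd, heq⟩ | ⟨hq, v, hv, heq⟩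
    · refine Or.inl (⟨W, hW, hs, ?_, heq⟩)
      have := singular_dim_ne hQ (by norm_num) hplus hH hs (heq ▸ inf_le_left)
      omega
    · exact Or.inr (Or.inl (⟨hq, W, hW, hWt, ho, hd, hnd, heq⟩))
    · by_cases hp : IsPlusTypeOn Q W
      · exact Or.inr (Or.inr (Or.inr (Or.inl (⟨hplane hp, W, hd, hnd, hp, heq⟩))))
      · exact Or.inr (Or.inr (Or.inl (⟨W, hd, hnd, hp, heq⟩)))
    · exact Or.inr (Or.inr (Or.inr (Or.inr (Or.inl (⟨W, hd, hnd, heq⟩)))))
    · exact Or.inr (Or.inr (Or.inr (Or.inr (Or.inr (Or.inr (Or.inr (Or.inr (Or.inr (Or.inr (Or.inr (Or.inl (half_blocks hQ hplus hH hd hnd heq))))))))))))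
    · exact Or.inr (Or.inr (Or.inr (Or.inr (Or.inr (Or.inl (⟨hq, v, hv, heq⟩))))))
  · have h1 := Fintype.one_lt_card (α := F)
    have hsmall : (k = 2 ∧ (Fintype.card F = 3 ∨ ((∀ i, IsPlusTypeOn Q (D i)) ∧
         (Fintype.card F = 2 ∨ Fintype.card F = 4 ∨ Fintype.card F = 5)))) ∨
       (k = 3 ∧ Fintype.card F = 3) ∨ (k = 4 ∧ Fintype.card F = 2 ∧ ∀ i, IsPlusTypeOn Q (D i)) → False :=
      fun hc => false_of_between hH (heq ▸ inf_le_left)
        (not_maximal_small (H98.coe_qOfFun hQ) (qf_nondeg hQ) (by simp) hD hc)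
    rcases shapes_twelve htk hD.decomp.decomp.two_le with ⟨rfl, rfl⟩ | ⟨rfl, rfl⟩ | ⟨rfl, rfl⟩ | ⟨rfl, rfl⟩ | ⟨rfl, rfl⟩
    · have h2 : (2 : F) ≠ 0 := two_ne_zero_of_odd_finrank hQ (hD.decomp.nondegenerate 0)
        (by rw [hD.decomp.decomp.finrank_eq]; exact odd_one)
      by_cases hp : (Fintype.card F).Prime
      · exact Or.inr (Or.inr (Or.inr (Or.inr (Or.inr (Or.inr (Or.inl (⟨⟨_, hp, odd_of_two_ne_zero h2, rfl⟩, D, hD, heq⟩)))))))
      · obtain ⟨F₀, r, P, ζ, hr, hc, hζ, hP, hle⟩ := line_subfield hQ hD htk hH.1.le (heq ▸ inf_le_left) hp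
        exact Or.inr (Or.inr (Or.inr (Or.inr (Or.inr (Or.inr (Or.inr (Or.inr (Or.inr (Or.inr (Or.inr (Or.inr (Or.inr (Or.inr (Or.inr (Or.inr (Or.inr (Or.inl (⟨F₀, r, P, ζ, hr, hc, hζ, hP,
          eq_inf_of_maximal hH hle (not_le_subfield hQ (by simp) hr.two_le hc P)⟩))))))))))))))))))
    · by_cases hp : IsPlusTypeOn Q (D 0)
      · have hb : ∀ i, IsPlusTypeOn Q (D i) := fun i =>
          (plus_iff_of_isometric_subspace (hD.isometric 0 i)).1 hp
        refine Or.inr (Or.inr (Or.inr (Or.inr (Or.inr (Or.inr (Or.inr (Or.inl (⟨?_, D, hD, hb, heq⟩))))))))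
        have h6 : Fintype.card F ≠ 6 := fun h => by
          obtain ⟨p, hp⟩ := CharP.exists F
          obtain ⟨e, hpp, he⟩ := FiniteField.card F p
          rw [h] at he
          have h2 := (Nat.prime_dvd_prime_iff_eq Nat.prime_two hpp).1
            (Nat.prime_two.dvd_of_dvd_pow (he ▸ by norm_num : 2 ∣ p ^ (e : ℕ)))
          have h3 := (Nat.prime_dvd_prime_iff_eq Nat.prime_three hpp).1
            (Nat.prime_three.dvd_of_dvd_pow (he ▸ by norm_num : 3 ∣ p ^ (e : ℕ)))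
          omega
        by_contra hc
        rcases (show Fintype.card F = 3 ∨ (Fintype.card F = 2 ∨ Fintype.card F = 4 ∨ Fintype.card F = 5) by omega)
          with h | h
        · exact hsmall (Or.inl ⟨rfl, Or.inl h⟩)
        · exact hsmall (Or.inl ⟨rfl, Or.inr ⟨hb, h⟩⟩)
      · exact Or.inr (Or.inr (Or.inr (Or.inr (Or.inr (Or.inr (Or.inr (Or.inr (Or.inl (⟨fun h3 => hsmall (Or.inl ⟨rfl, Or.inl h3⟩), D, hD,
          fun i hi => hp ((plus_iff_of_isometric_subspace (hD.isometric i 0)).1 hi), heq⟩)))))))))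
    · have h2 : (2 : F) ≠ 0 := two_ne_zero_of_odd_finrank hQ (hD.decomp.nondegenerate 0)
        (by rw [hD.decomp.decomp.finrank_eq]; exact ⟨1, rfl⟩)
      refine Or.inr (Or.inr (Or.inr (Or.inr (Or.inr (Or.inr (Or.inr (Or.inr (Or.inr (Or.inl (⟨odd_of_two_ne_zero h2, ?_, D, hD, heq⟩))))))))))
      obtain ⟨j, hj⟩ := odd_of_two_ne_zero h2
      have h3 : Fintype.card F ≠ 3 := fun h => hsmall (Or.inr (Or.inl ⟨rfl, h⟩))
      omega
    · refine Or.inr (Or.inr (Or.inr (Or.inr (Or.inr (Or.inr (Or.inr (Or.inr (Or.inr (Or.inr (Or.inl (⟨?_, D, hD, heq⟩)))))))))))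
      by_contra hc
      exact hsmall (Or.inr (Or.inr ⟨rfl, by omega, blocks_plus_of_odd hQ hD ⟨2, rfl⟩ ⟨1, rfl⟩ hplus⟩))
    · exact Or.inr (Or.inr (Or.inr (Or.inr (Or.inr (Or.inr (Or.inr (Or.inr (Or.inr (Or.inr (Or.inr (Or.inl (⟨D, hD, heq⟩))))))))))))

end Cfsg.Agent.S5871
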