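import Cfsg.Statements.S5873
import Cfsg.Agent.H5.StabNondegGL
import Cfsg.Agent.H5.OmegaGL
import Cfsg.Agent.H5.StabVector
import Cfsg.Agent.H5.DecGL
import Cfsg.Agent.H58.ExtField.OrthField
import Cfsg.Agent.H98.OrthSubMain
import Cfsg.Agent.H98.QuadFun
import Cfsg.Agent.H19.OrthTensor.Small.Maximal

set_option autoImplicit false
open Cfsg

namespace Cfsg.Agent.S5873

/-- Maximal subgroups of Ω_12^-(q) of geometric type (any q). Let F be a finite field with q elements (characteristic p), Q a non-degenerate quadratic form on F^12 (non-degenerate polar form) of minus type (Witt index 5: no totally singular 6-space), and Ω = Ω_12^-(q) the commutator subgroup of the isometry group of Q, inside GL_12(F). Each of the following, intersected with Ω, is a maximal subgroup of Ω: (1) the stabiliser of any non-zero subspace on which Q vanishes identically (totally singular subspaces, dimensions 1 to 5); (2) for q odd, the stabiliser of any subspace of odd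 dimension on which the polar form of Q is non-degenerate; (3) the stabiliser of any non-degenerate 2-space of minus type (containing no non-zero singular vector); (4) for q ≥ 4, the stabiliser of any non-degenerate 2-space of plus type (containing a non-zero singular vector); (5) the stabiliser of any non-degenerate 4-space (either type); (6) the stabiliser of any non-degenerate 6-space (either type); (7) for q even, the stabiliser of the 1-space spanned by any non-singular vector v (Q(v) ≠ 0); (8) the stabiliser of any decomposition of F^12 into 3 pairwise orthogonal, pairwise Q-isometric non-degenerate 4-spaces of minus type; (9) for q odd, the normaliser of any degree-2 subfield K of the matrix algebra whose elements are self-adjoint for the polar form of Q (Q is then the trace of a quadratic form over K); (10) for q odd, the normaliser of any degree-3 subfield K of the matrix algebra whose elements are self-adjoint for the polar form of Q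 (Q is then the trace of a quadratic form over K); (11) for q odd with q ≥ 5, the stabiliser of any tensor decomposition F^12 = F^3 ⊗ F^4 in which the polar form of Q is the product of non-degenerate symmetric bilinear forms, the second of minus type, up to a scalar; (12) every subfield group for a subfield F₀ with |F| = |F₀|^r, r an odd prime, whose F₀-structure carries a non-zero scalar multiple of Q. -/
theorem result {F : Type*} [Field F] [Fintype F] (Q : (Fin 12 → F) → F) (hQ : Cfsg.Geo.IsNondegenerateQuadraticForm Q) (hminus : ¬ Cfsg.Geo.IsPlusTypeOn Q ⊤) :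
    (∀ W : Submodule F (Fin 12 → F), W ≠ ⊥ → Cfsg.Geo.IsTotallySingularQuad Q W → Cfsg.Geo.IsMaximalIn (Cfsg.Geo.omegaGL Q) (Cfsg.Geo.subspaceStabilizer W ⊓ Cfsg.Geo.omegaGL Q)) ∧
    (Odd (Fintype.card F) → ∀ W : Submodule F (Fin 12 → F), W ≠ ⊥ → W ≠ ⊤ → Odd (Module.finrank F W) → 2 * Module.finrank F W ≠ 12 → Cfsg.Geo.IsNondegenerateOn (QuadraticMap.polar Q) W → Cfsg.Geo.IsMaximalIn (Cfsg.Geo.omegaGL Q) (Cfsg.Geo.subspaceStabilizer W ⊓ Cfsg.Geo.omegaGL Q)) ∧
    (∀ W : Submodule F (Fin 12 → F), Module.finrank F W = 2 → Cfsg.Geo.IsNondegenerateOn (QuadraticMap.polar Q) W → ¬ Cfsg.Geo.IsPlusTypeOn Q W → Cfsg.Geo.IsMaximalIn (Cfsg.Geo.omegaGL Q) (Cfsg.Geo.subspaceStabilizer W ⊓ Cfsg.Geo.omegaGL Q)) ∧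
    (4 ≤ Fintype.card F → ∀ W : Submodule F (Fin 12 → F), Module.finrank F W = 2 → Cfsg.Geo.IsNondegenerateOn (QuadraticMap.polar Q) W → Cfsg.Geo.IsPlusTypeOn Q W → Cfsg.Geo.IsMaximalIn (Cfsg.Geo.omegaGL Q) (Cfsg.Geo.subspaceStabilizer W ⊓ Cfsg.Geo.omegaGL Q)) ∧
    (∀ W : Submodule F (Fin 12 → F), Module.finrank F W = 4 → Cfsg.Geo.IsNondegenerateOn (QuadraticMap.polar Q) W → Cfsg.Geo.IsMaximalIn (Cfsg.Geo.omegaGL Q) (Cfsg.Geo.subspaceStabilizer W ⊓ Cfsg.Geo.omegaGL Q)) ∧
    (∀ W : Submodule F (Fin 12 → F), Module.finrank F W = 6 → Cfsg.Geo.IsNondegenerateOn (QuadraticMap.polar Q) W → Cfsg.Geo.IsMaximalIn (Cfsg.Geo.omegaGL Q) (Cfsg.Geo.subspaceStabilizer W ⊓ Cfsg.Geo.omegaGL Q)) ∧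
    (¬ Odd (Fintype.card F) → ∀ v : (Fin 12 → F), Q v ≠ 0 → Cfsg.Geo.IsMaximalIn (Cfsg.Geo.omegaGL Q) (Cfsg.Geo.subspaceStabilizer (Submodule.span F {v}) ⊓ Cfsg.Geo.omegaGL Q)) ∧
    (∀ D : Fin 3 → Submodule F (Fin 12 → F), Cfsg.Geo.IsOrthogonalMDecomposition Q 4 D → (∀ i, ¬ Cfsg.Geo.IsPlusTypeOn Q (D i)) → Cfsg.Geo.IsMaximalIn (Cfsg.Geo.omegaGL Q) (Cfsg.Geo.decompositionStabilizer D ⊓ Cfsg.Geo.omegaGL Q)) ∧
    (Odd (Fintype.card F) → ∀ K : Subalgebra F (Matrix (Fin 12) (Fin 12) F), Cfsg.Geo.IsFieldSubalgebra 2 K → Cfsg.Geo.IsSelfAdjointFor (QuadraticMap.polar Q) K → Cfsg.Geo.IsMaximalIn (Cfsg.Geo.omegaGL Q) (Cfsg.Geo.subalgebraNormalizer K ⊓ Cfsg.Geo.omegaGL Q)) ∧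
    (Odd (Fintype.card F) → ∀ K : Subalgebra F (Matrix (Fin 12) (Fin 12) F), Cfsg.Geo.IsFieldSubalgebra 3 K → Cfsg.Geo.IsSelfAdjointFor (QuadraticMap.polar Q) K → Cfsg.Geo.IsMaximalIn (Cfsg.Geo.omegaGL Q) (Cfsg.Geo.subalgebraNormalizer K ⊓ Cfsg.Geo.omegaGL Q)) ∧
    (Odd (Fintype.card F) ∧ 5 ≤ Fintype.card F → ∀ (e : Fin 12 ≃ Fin 3 × Fin 4) (P : Matrix.GeneralLinearGroup (Fin 12) F) (f₁ : (Fin 3 → F) → (Fin 3 → F) → F) (f₂ : (Fin 4 → F) → (Fin 4 → F) → F), Cfsg.Geo.IsSymmetricForm f₁ → Cfsg.Geo.IsSymmetricForm f₂ → ¬ Cfsg.Geo.IsPlusTypeOn (fun v : Fin 4 → F => f₂ v v) ⊤ → Cfsg.Geo.IsTensorFormStructure id (QuadraticMap.polar Q) f₁ f₂ e P → Cfsg.Geo.IsMaximalIn (Cfsg.Geo.omegaGL Q) (Cfsg.Geo.tensorProductSubgroup 3 4 e P ⊓ Cfsg.Geo.omegaGL Q)) ∧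
    (∀ (F₀ : Subfield F) (r : ℕ) (P : Matrix.GeneralLinearGroup (Fin 12) F) (ζ : F), r.Prime → Odd r → Fintype.card F = Nat.card F₀ ^ r → ζ ≠ 0 → Cfsg.Geo.IsQuadFormRationalStructure (fun v : Fin 12 → F => ζ * Q v) F₀ P → Cfsg.Geo.IsMaximalIn (Cfsg.Geo.omegaGL Q) (Cfsg.Geo.subfieldSubgroup F₀ P ⊓ Cfsg.Geo.omegaGL Q)) := by
  classical
  have hQ' := H98.qOfFun_nondeg hQ
  have hf := H98.coe_qOfFun hQ
  have hc12 : Fintype.card (Fin 12) = 12 := Fintype.card_fin 12
  haveI : Finite (Fin 12 → F) := Pi.finite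
  have htop : Module.finrank F (⊤ : Submodule F (Fin 12 → F)) = 12 := by
    rw [finrank_top, Module.finrank_fintype_fun_eq_card, hc12]
  have htwo : Odd (Fintype.card F) → (2 : F) ≠ 0 := fun h => Ring.two_ne_zero fun hc => by
    have := FiniteField.even_card_of_char_two hc
    obtain ⟨k, hk⟩ := h
    omega
  have nd : ∀ W : Submodule F (Fin 12 → F), W ≠ ⊥ → W ≠ ⊤ →
      Cfsg.Geo.IsNondegenerateOn (QuadraticMap.polar Q) W →
      (2 * Module.finrank F W = 12 → Even (Module.finrank F W)) →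
      (∀ P : Submodule F (Fin 12 → F), (P = W ∨ P = H5.perp (H98.qOfFun Q hQ) W) → Module.finrank F P = 2 →
        P = W ∧ (4 ≤ Fintype.card F ∨ ¬ Cfsg.Geo.IsPlusTypeOn Q W)) →
      Cfsg.Geo.IsMaximalIn (Cfsg.Geo.omegaGL Q) (Cfsg.Geo.subspaceStabilizer W ⊓ Cfsg.Geo.omegaGL Q) := by
    intro W hW0 hW1 hW hev hpl
    have hWU := H5.inf_perp_of_isNondegenerateOn (H98.qOfFun Q hQ) hf hW
    refine H5.isMaximalIn_stab_nondeg_five (H98.qOfFun Q hQ) hf hQ' W (by omega) hW0 hW1 hWU ?_ ?_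
    · intro h g hg
      rw [hc12] at h
      obtain ⟨j, hj⟩ := hev h
      obtain ⟨U, hU, hUd⟩ := H5.exists_singular_half_of_swap hWU (k := j) (by omega) g hg
      refine hminus ⟨U, le_top, hU, ?_⟩
      rw [htop]
      omega
    rintro P hP ⟨hq, hP2, x, hx, hx0, hqx⟩
    rw [Nat.card_eq_fintype_card] at hq
    obtain ⟨rfl, h4 | hm⟩ := hpl P hP hP2
    · omega
    · exact hm (H5.isPlusTypeOn_plane (H98.qOfFun Q hQ) hP2 hx hx0 hqx)
  have ne : ∀ (W : Submodule F (Fin 12 → F)) (k : ℕ), 1 ≤ k → k < 12 → Module.finrank F W = k → W ≠ ⊥ ∧ W ≠ ⊤ := by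
    refine fun W k h1 h2 hW => ⟨?_, ?_⟩
    · rintro rfl; rw [finrank_bot] at hW; omega
    · rintro rfl; rw [htop] at hW; omega
  have hperp : ∀ W : Submodule F (Fin 12 → F),
      Module.finrank F W + Module.finrank F (H5.perp (H98.qOfFun Q hQ) W) = 12 := fun W => by
    have := H5.finrank_perp_add hQ' W
    rw [Module.finrank_fintype_fun_eq_card, hc12] at this
    omega
  refine ⟨?_, ?_, ?_, ?_, ?_, ?_, ?_, ?_, ?_, ?_, ?_, ?_⟩
  · intro W hW0 hW
    refine H5.isMaximalIn_stab_singular (H98.qOfFun Q hQ) hf hQ' (by omega) W hW0 hW fun U _ hUs _ hn' => ?_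
    refine hminus ⟨U, le_top, hUs, ?_⟩
    rw [htop, hn', hc12]
  · intro hodd W hW0 hW1 ho h6 hW
    refine nd W hW0 hW1 hW (fun h => absurd h h6) fun P hP hP2 => ?_
    exfalso
    obtain ⟨k, hk⟩ := ho
    have := hperp W
    rcases hP with rfl | rfl <;> omega
  · intro W h2 hW hm
    refine nd W (ne W 2 (by omega) (by omega) h2).1 (ne W 2 (by omega) (by omega) h2).2 hW (fun _ => ⟨1, h2⟩) fun P hP hP2 => ?_
    rcases hP with rfl | rfl
    · exact ⟨rfl, Or.inr hm⟩
    · have := hperp W; omega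
  · intro hq W h2 hW _
    refine nd W (ne W 2 (by omega) (by omega) h2).1 (ne W 2 (by omega) (by omega) h2).2 hW (fun _ => ⟨1, h2⟩) fun P hP hP2 => ?_
    rcases hP with rfl | rfl
    · exact ⟨rfl, Or.inl hq⟩
    · have := hperp W; omega
  · intro W h4 hW
    refine nd W (ne W 4 (by omega) (by omega) h4).1 (ne W 4 (by omega) (by omega) h4).2 hW (fun _ => ⟨2, h4⟩) fun P hP hP2 => ?_
    exfalso
    have := hperp W
    rcases hP with rfl | rfl <;> omega
  · intro W h6 hW
    refine nd W (ne W 6 (by omega) (by omega) h6).1 (ne W 6 (by omega) (by omega) h6).2 hW (fun _ => ⟨3, h6⟩) fun P hP hP2 => ?_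
    exfalso
    have := hperp W
    rcases hP with rfl | rfl <;> omega
  · intro hchar v hv
    have h2 : (2 : F) = 0 := by
      by_contra h2
      apply hchar
      rw [Nat.odd_iff]
      refine FiniteField.odd_card_of_char_ne_two fun hc => h2 ?_
      haveI : CharP F 2 := (ringChar.eq_iff).1 hc
      exact CharTwo.two_eq_zero
    have hr : Module.finrank F (Fin 12 → F) = 12 := by simp
    refine H5.isMaximalIn_omegaGL (H98.qOfFun Q hQ) hf _ ?_ ?_
    · obtain ⟨g, hg, hgv⟩ := H5.exists_not_preserves_point (Q := H98.qOfFun Q hQ)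
        hQ' (by omega) (v := v) hv
      exact ⟨g, hg, fun h => hgv ((H5.toGLHom_mem_stab_iff _ _ _ g).1 h)⟩
    · intro M hM g hgM _ hgS
      exact H5.commutator_le_of_point hQ' h2 (by omega) (v := v) hv
        (fun k hk hkW => hM k hk ((H5.toGLHom_mem_stab_iff _ _ _ k).2 hkW)) hgM
        (fun h => hgS ((H5.toGLHom_mem_stab_iff _ _ _ g).2 h))
  · intro D hD hm
    exact H5.isMaximalIn_dec_five hf hQ' (by omega) hD (by omega) (fun h => absurd h (by omega))
      (fun _ _ => hm)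
  · intro hodd K hK hsa
    exact H58.ExtField.Orth.field_maximal_orth' (H98.qOfFun Q hQ) hf hQ' (htwo hodd) Nat.prime_two hK
      (by omega) (Or.inr (by omega)) hsa
  · intro hodd K hK hsa
    exact H58.ExtField.Orth.field_maximal_orth' (H98.qOfFun Q hQ) hf hQ' (htwo hodd) Nat.prime_three hK
      (by omega) (Or.inr (by omega)) hsa
  · rintro ⟨hodd, h5⟩ e P f₁ f₂ hf₁ hf₂ hm hT
    exact H19.OrthTensor.omega_tensor_small_maximal (H98.qOfFun Q hQ) hf (htwo hodd) hQ' h5 e P f₁ f₂ hf₁ hf₂ hm hT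
  · intro F₀ r P ζ hr _ hcard hζ hP
    exact H98.OSub.subfield_maximal (H98.qOfFun Q hQ) hf hQ' (by omega) F₀ hr
      (by rw [Nat.card_eq_fintype_card]; exact hcard) P hζ hP

end Cfsg.Agent.S5873
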