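import Cfsg.Statements.S5874
import Cfsg.Agent.H6.OEven.Twelve

set_option autoImplicit false
open Cfsg Cfsg.Geo Cfsg.Agent.H6.OEven

namespace Cfsg.Agent.S5874

/-- Every maximal subgroup of Ω_12^-(q) is of one of the listed geometric types or lies in the residual class. Let F be a finite field with q elements (characteristic p), Q a non-degenerate quadratic form on F^12 of minus type (Witt index 5: no totally singular 6-space), Ω the commutator subgroup of its isometry group, and H a maximal subgroup of Ω (inside GL_12(F)). Then H is the intersection with Ω of one of: the stabiliser of a non-zero totally singular subspace; for q odd, the stabiliser of a non-degenerate subspace of odd dimension; the stabiliser of a non-degenerate 2-space of minus type; for q ≥ 4, the stabiliser of a non-degenerate 2-space of plus type; the stabiliser of a non-degenerate 4-space; the stabiliser of a non-degenerate 6-space; for q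 even, the stabiliser of the span of a non-singular vector; the stabiliser of a decomposition into 3 pairwise orthogonal, pairwise isometric non-degenerate 4-spaces of minus type; the normaliser of a degree-2 subfield of the matrix algebra; the normaliser of a degree-3 subfield of the matrix algebra; for q odd with q ≥ 5, the stabiliser of a tensor decomposition of the polar form into symmetric forms on F^3 and F^4 (minus type); a subfield group (|F| = |F₀|^r, r odd prime) whose F₀-structure carries a non-zero multiple of Q — or else H lies in the residual class of the orthogonal case (modulo scalars H is almost simple, with absolutely irreducible perfect socle preimage realisable over no proper subfield and fixing no non-degenerate unitary form). -/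
theorem result {F : Type*} [Field F] [Fintype F] (Q : (Fin 12 → F) → F) (hQ : Cfsg.Geo.IsNondegenerateQuadraticForm Q) (hminus : ¬ Cfsg.Geo.IsPlusTypeOn Q ⊤) (H : Subgroup (Matrix.GeneralLinearGroup (Fin 12) F)) (hH : Cfsg.Geo.IsMaximalIn (Cfsg.Geo.omegaGL Q) H) :
    (∃ W : Submodule F (Fin 12 → F), W ≠ ⊥ ∧ Cfsg.Geo.IsTotallySingularQuad Q W ∧ H = Cfsg.Geo.subspaceStabilizer W ⊓ Cfsg.Geo.omegaGL Q) ∨
    (Odd (Fintype.card F) ∧ ∃ W : Submodule F (Fin 12 → F), W ≠ ⊥ ∧ W ≠ ⊤ ∧ Odd (Module.finrank F W) ∧ 2 * Module.finrank F W ≠ 12 ∧ Cfsg.Geo.IsNondegenerateOn (QuadraticMap.polar Q) W ∧ H = Cfsg.Geo.subspaceStabilizer W ⊓ Cfsg.Geo.omegaGL Q) ∨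
    (∃ W : Submodule F (Fin 12 → F), Module.finrank F W = 2 ∧ Cfsg.Geo.IsNondegenerateOn (QuadraticMap.polar Q) W ∧ ¬ Cfsg.Geo.IsPlusTypeOn Q W ∧ H = Cfsg.Geo.subspaceStabilizer W ⊓ Cfsg.Geo.omegaGL Q) ∨
    (4 ≤ Fintype.card F ∧ ∃ W : Submodule F (Fin 12 → F), Module.finrank F W = 2 ∧ Cfsg.Geo.IsNondegenerateOn (QuadraticMap.polar Q) W ∧ Cfsg.Geo.IsPlusTypeOn Q W ∧ H = Cfsg.Geo.subspaceStabilizer W ⊓ Cfsg.Geo.omegaGL Q) ∨
    (∃ W : Submodule F (Fin 12 → F), Module.finrank F W = 4 ∧ Cfsg.Geo.IsNondegenerateOn (QuadraticMap.polar Q) W ∧ H = Cfsg.Geo.subspaceStabilizer W ⊓ Cfsg.Geo.omegaGL Q) ∨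
    (∃ W : Submodule F (Fin 12 → F), Module.finrank F W = 6 ∧ Cfsg.Geo.IsNondegenerateOn (QuadraticMap.polar Q) W ∧ H = Cfsg.Geo.subspaceStabilizer W ⊓ Cfsg.Geo.omegaGL Q) ∨
    (¬ Odd (Fintype.card F) ∧ ∃ v : (Fin 12 → F), Q v ≠ 0 ∧ H = Cfsg.Geo.subspaceStabilizer (Submodule.span F {v}) ⊓ Cfsg.Geo.omegaGL Q) ∨
    (∃ D : Fin 3 → Submodule F (Fin 12 → F), Cfsg.Geo.IsOrthogonalMDecomposition Q 4 D ∧ (∀ i, ¬ Cfsg.Geo.IsPlusTypeOn Q (D i)) ∧ H = Cfsg.Geo.decompositionStabilizer D ⊓ Cfsg.Geo.omegaGL Q) ∨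
    (∃ K : Subalgebra F (Matrix (Fin 12) (Fin 12) F), Cfsg.Geo.IsFieldSubalgebra 2 K ∧ H = Cfsg.Geo.subalgebraNormalizer K ⊓ Cfsg.Geo.omegaGL Q) ∨
    (∃ K : Subalgebra F (Matrix (Fin 12) (Fin 12) F), Cfsg.Geo.IsFieldSubalgebra 3 K ∧ H = Cfsg.Geo.subalgebraNormalizer K ⊓ Cfsg.Geo.omegaGL Q) ∨
    (Odd (Fintype.card F) ∧ 5 ≤ Fintype.card F ∧ ∃ (e : Fin 12 ≃ Fin 3 × Fin 4) (P : Matrix.GeneralLinearGroup (Fin 12) F) (f₁ : (Fin 3 → F) → (Fin 3 → F) → F) (f₂ : (Fin 4 → F) → (Fin 4 → F) → F), Cfsg.Geo.IsSymmetricForm f₁ ∧ Cfsg.Geo.IsSymmetricForm f₂ ∧ ¬ Cfsg.Geo.IsPlusTypeOn (fun v : Fin 4 → F => f₂ v v) ⊤ ∧ Cfsg.Geo.IsTensorFormStructure id (QuadraticMap.polar Q) f₁ f₂ e P ∧ H = Cfsg.Geo.tensorProductSubgroup 3 4 e P ⊓ Cfsg.Geo.omegaGL Q) ∨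
    (∃ (F₀ : Subfield F) (r : ℕ) (P : Matrix.GeneralLinearGroup (Fin 12) F) (ζ : F), r.Prime ∧ Odd r ∧ Fintype.card F = Nat.card F₀ ^ r ∧ ζ ≠ 0 ∧ Cfsg.Geo.IsQuadFormRationalStructure (fun v : Fin 12 → F => ζ * Q v) F₀ P ∧ H = Cfsg.Geo.subfieldSubgroup F₀ P ⊓ Cfsg.Geo.omegaGL Q) ∨
    Cfsg.Geo.InOrthogonalResidualClass H := by
  classical
  rcases twelve_split hQ hH with h | ⟨t, k, D, hD, htk, heq⟩ | ⟨hirr, h⟩
  rotate_left 2
  · rcases h with h | ⟨N, -, -, h⟩ | h | h | h | h | h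
    · obtain ⟨k, V, hk, hV, hs, -⟩ := halves_singular hQ (by norm_num) hH.1.le hirr h
      exact absurd (plus_of_halves hk hV hs) hminus
    · rcases field_twelve hQ hH h with h | h
      · exact Or.inr (Or.inr (Or.inr (Or.inr (Or.inr (Or.inr (Or.inr (Or.inr (Or.inl (h)))))))))
      · exact Or.inr (Or.inr (Or.inr (Or.inr (Or.inr (Or.inr (Or.inr (Or.inr (Or.inr (Or.inl (h))))))))))
    · obtain ⟨s, t, e, P, G₁, G₂, hs, hst, hn, hgram, hle, hcase⟩ := tensor_cases hQ (by norm_num) hH.1.le hirr h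
      have hs4 : s < 4 := by
        by_contra hc
        have := Nat.mul_le_mul (not_lt.1 hc) ((not_lt.1 hc).trans hst)
        omega
      obtain ⟨rfl, rfl⟩ | ⟨rfl, rfl⟩ : (s = 2 ∧ t = 6) ∨ (s = 3 ∧ t = 4) := by interval_cases s <;> omega
      · exfalso
        apply hminus
        rcases hcase with ⟨-, -, h₁, h₂⟩ | ⟨hq, -, -⟩
        · exact plus_of_pure hQ e P
            (tensor_pure_singular hQ (by norm_num) hH.1.le hirr le_rfl (by norm_num) e P G₁ G₂ hgram h₁ h₂ hle)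
        · rw [plus_iff_det_gramAt hQ (H99.Asch.two_ne_zero_of_card_odd hq) (m := 6) rfl P, hgram, det_tens]
          exact ⟨(G₁ : Matrix (Fin 2) (Fin 2) F).det ^ 3 * (G₂ : Matrix (Fin 6) (Fin 6) F).det, by ring⟩
      rcases hcase with ⟨h3, -, -, -⟩ | ⟨hq, hG₁, hG₂⟩
      · exact absurd h3 (by decide)
      have h2 := H99.Asch.two_ne_zero_of_card_odd hq
      have hf₁ := H99.Asch.gramForm_symmetric (Units.isUnit G₁) hG₁
      have hf₂ := H99.Asch.gramForm_symmetric (Units.isUnit G₂) hG₂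
      have hT := tensor_structure hQ hgram
      have hm : ¬ IsPlusTypeOn (fun v : Fin 4 → F => H99.Asch.gramForm (RingHom.id F)
          (G₂ : Matrix (Fin 4) (Fin 4) F) v v) ⊤ := fun hp => by
        rw [plus_iff_det_sym h2 (m := 2) rfl (Units.isUnit G₂) hG₂, neg_one_sq, one_mul] at hp
        obtain ⟨y, hy⟩ := hp
        apply hminus
        rw [plus_iff_det_gramAt hQ h2 (m := 6) rfl P, hgram, det_tens, hy]
        exact ⟨(G₁ : Matrix (Fin 3) (Fin 3) F).det ^ 2 * y ^ 3, by ring⟩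
      refine Or.inr (Or.inr (Or.inr (Or.inr (Or.inr (Or.inr (Or.inr (Or.inr (Or.inr (Or.inr (Or.inl (⟨hq, ?_, e, P, _, _, hf₁, hf₂, hm, hT,
        eq_inf_of_maximal hH hle (not_le_tensor hQ (by simp) e P (by simp))⟩)))))))))))
      by_contra hc
      have h1 := Fintype.one_lt_card (α := F)
      obtain ⟨j, hj⟩ := hq
      exact false_of_between hH hle
        (not_maximal_tensor_three Q hQ (by omega) 4 le_rfl e P _ _ hf₁ hf₂ hT)
    · obtain ⟨F₀, r, P, ζ, hr, hc, hζ, hP, hle⟩ := subfield_cases hQ (by norm_num) hH.1.le hirr h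
      exact Or.inr (Or.inr (Or.inr (Or.inr (Or.inr (Or.inr (Or.inr (Or.inr (Or.inr (Or.inr (Or.inr (Or.inl (⟨F₀, r, P, ζ, hr, hr.eq_two_or_odd'.resolve_left fun e =>
          hminus (plus_of_index_two hQ (m := 6) rfl (e ▸ hc) hζ hP), hc, hζ, hP,
        eq_inf_of_maximal hH hle (not_le_subfield hQ (by simp) hr.two_le hc P)⟩))))))))))))
    · exact absurd (typeTwo_cases hQ (Or.inr (Or.inr rfl)) h).1 (by norm_num)
    · exact absurd (tensorPower_cases hQ (Or.inr (Or.inr rfl)) hH.1.le hirr h).1 (by norm_num)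
    · exact Or.inr (Or.inr (Or.inr (Or.inr (Or.inr (Or.inr (Or.inr (Or.inr (Or.inr (Or.inr (Or.inr (Or.inr (residual_class hQ (by norm_num) h))))))))))))
  · rcases h with ⟨W, hW, hs, heq⟩ | ⟨hq, W, hW, hWt, ho, hd, hnd, heq⟩ | ⟨W, hd, hnd, hplane, heq⟩ |
      ⟨W, hd, hnd, heq⟩ | ⟨W, hd, hnd, heq⟩ | ⟨hq, v, hv, heq⟩
    · exact Or.inl (⟨W, hW, hs, heq⟩)
    · exact Or.inr (Or.inl (⟨hq, W, hW, hWt, ho, hd, hnd, heq⟩))
    · by_cases hp : IsPlusTypeOn Q W
      · exact Or.inr (Or.inr (Or.inr (Or.inl (⟨hplane hp, W, hd, hnd, hp, heq⟩))))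
      · exact Or.inr (Or.inr (Or.inl (⟨W, hd, hnd, hp, heq⟩)))
    · exact Or.inr (Or.inr (Or.inr (Or.inr (Or.inl (⟨W, hd, hnd, heq⟩)))))
    · exact Or.inr (Or.inr (Or.inr (Or.inr (Or.inr (Or.inl (⟨W, hd, hnd, heq⟩))))))
    · exact Or.inr (Or.inr (Or.inr (Or.inr (Or.inr (Or.inr (Or.inl (⟨hq, v, hv, heq⟩)))))))
  · rcases shapes_twelve htk hD.decomp.decomp.two_le with ⟨rfl, rfl⟩ | ⟨rfl, rfl⟩ | ⟨rfl, rfl⟩ | ⟨rfl, rfl⟩ | ⟨rfl, rfl⟩
    · have h2 : (2 : F) ≠ 0 := two_ne_zero_of_odd_finrank hQ (hD.decomp.nondegenerate 0)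
        (by rw [hD.decomp.decomp.finrank_eq]; exact odd_one)
      exact absurd ((plus_iff_of_blocks hQ h2 hD ⟨6, rfl⟩ (m := 6) rfl).2 ⟨1, by ring⟩) hminus
    · exact absurd (plus_of_even_blocks hQ hD ⟨1, rfl⟩ ⟨3, rfl⟩) hminus
    · have h2 : (2 : F) ≠ 0 := two_ne_zero_of_odd_finrank hQ (hD.decomp.nondegenerate 0)
        (by rw [hD.decomp.decomp.finrank_eq]; exact ⟨1, rfl⟩)
      exact absurd ((plus_iff_of_blocks hQ h2 hD ⟨2, rfl⟩ (m := 6) rfl).2 ⟨1, by ring⟩) hminus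
    · exact Or.inr (Or.inr (Or.inr (Or.inr (Or.inr (Or.inr (Or.inr (Or.inl (⟨D, hD, fun i hi => hminus (plus_of_plus_blocks hQ hD.decomp fun j =>
        (plus_iff_of_isometric_subspace (hD.isometric i j)).1 hi), heq⟩))))))))
    · exact absurd (plus_of_even_blocks hQ hD ⟨3, rfl⟩ ⟨1, rfl⟩) hminus

end Cfsg.Agent.S5874
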